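import Cfsg.Agent.H7.Q4M1
import Cfsg.Agent.H8.M24Nse

set_option autoImplicit false
set_option linter.unusedSectionVars false

/-! The Steiner system `S(4,7,23)` and the Mathieu group `M₂₃`. -/

namespace CfsgH7.Q4M

open Cfsg CfsgH1.Q4 CfsgH9 CfsgH9.Golay CfsgWitt Matrix Equiv MulAction

theorem count (S : Finset (Fin 21)) (h7 : S.card = 7)
    (h2 : ∀ i : Fin 21, (S.filter fun j => ofMask (Lm i) (lab j) = 1).card ≠ 2) (i : Fin 21) :
    (S.filter fun j => ofMask (Lm i) (lab j) = 1).card ≠ 0 := by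
  let a : Fin 21 → Fin 21 → ℤ := fun i j => if ofMask (Lm i) (lab j) = 1 then 1 else 0
  have a1 : ∀ j, ∑ i, a i j = 5 := by decide +kernel
  have a2 : ∀ j j', ∑ i, a i j * a i j' = 1 + if j = j' then 4 else 0 := by decide +kernel
  have e : ∀ i : Fin 21, ((S.filter fun j => ofMask (Lm i) (lab j) = 1).card : ℤ) = ∑ j ∈ S, a i j :=
    fun i => by simp [a]
  have s1 : ∑ i, ∑ j ∈ S, a i j = 35 := by
    rw [Finset.sum_comm]; simp [a1, h7]
  have s2 : ∑ i, (∑ j ∈ S, a i j) * ∑ j ∈ S, a i j = 77 := by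
    simp only [Finset.sum_mul_sum]
    rw [Finset.sum_comm, Finset.sum_congr rfl (g := fun _ => 11) fun j hj => by
      rw [Finset.sum_comm]; simp [a2, Finset.sum_add_distrib, h7, hj]]
    simp [h7]
  have s3 : ∑ i, ((∑ j ∈ S, a i j) - 1) * ((∑ j ∈ S, a i j) - 3) = 0 := by
    rw [Finset.sum_congr rfl (g := fun i => (∑ j ∈ S, a i j) * (∑ j ∈ S, a i j) -
      4 * (∑ j ∈ S, a i j) + 3) fun i _ => by ring, Finset.sum_add_distrib, Finset.sum_sub_distrib,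
      ← Finset.mul_sum, s1, s2]
    simp
  have := (Finset.sum_eq_zero_iff_of_nonneg fun i _ => by
    have := h2 i
    rw [← e]
    rcases le_or_gt ((S.filter fun j => ofMask (Lm i) (lab j) = 1).card : ℤ) 1 with h | h
    · exact mul_nonneg_of_nonpos_of_nonpos (by omega) (by omega)
    · exact mul_nonneg (by omega) (by omega)).1 s3 i (Finset.mem_univ _)
  intro h0
  rw [← e, h0] at this
  norm_num at this

variable {Ω : Type*} [Finite Ω] {𝔅 : Set (Set Ω)} {β β' : Set Ω} {p p' : Ω}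
  {G : Type*} [Group G] [MulAction G Ω]

theorem Des.ne_two (h : Des Ω 𝔅) (h1 : β ∈ 𝔅) (h2 : β' ∈ 𝔅) : (β ∩ β').ncard ≠ 2 := fun e => by
  obtain ⟨x, y, ne, e⟩ := Set.ncard_eq_two.1 e
  obtain ⟨z, h3, h4, h5⟩ := h.meet h1 h2 ne (by simp [e]) (by simp [e])
  simp [e, h4, h5] at h3

theorem Des.odd (h : Des Ω 𝔅) (h4 : T4 (⊤ : Subgroup G) (Set.univ : Set Ω))
    (hG : ∀ g : G, ∀ β ∈ 𝔅, (g • ·) '' β ∈ 𝔅) (h1 : β ∈ 𝔅) (h2 : β' ∈ 𝔅) :
    Odd (β ∩ β').ncard := by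
  classical
  by_cases e : β = β'
  · rw [← e, Set.inter_self, h.h7 β h1]; decide
  have a1 := mt (h.uq' h1 h2) e
  have a2 := h.ne_two h1 h2
  suffices (β ∩ β').ncard ≠ 0 by rw [Nat.odd_iff]; omega
  intro a3
  rw [Set.ncard_eq_zero, Set.eq_empty_iff_forall_notMem] at a3
  obtain ⟨p, p1⟩ := Set.nonempty_of_ncard_ne_zero (s := β') (by rw [h.h7 _ h2]; norm_num)
  obtain ⟨p', p2, hp, -⟩ := h.other h2 p p p p
  obtain ⟨k, k1, k2, k3, k4⟩ := h.coord hp.symm h4 hG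
  choose l l1 l2 l3 l4 using k4
  have kx : ∀ x, x ≠ p → x ≠ p' → ∃ j, k j = x := fun x e e' =>
    ((k3 x).resolve_left e).resolve_left e'
  obtain ⟨x, x1, x2, x3, -⟩ := h.other h2 p p' p p
  obtain ⟨y, y1, y2, y3, y4, -⟩ := h.other h2 p p' x p
  obtain ⟨j, rfl⟩ := kx x x2 x3
  obtain ⟨j', rfl⟩ := kx y y2 y3
  obtain ⟨i, i1, i2⟩ := (by decide +kernel : ∀ j j' : Fin 21, ∃ i : Fin 21,
    ofMask (Lm i) (lab j) = 1 ∧ ofMask (Lm i) (lab j') = 1) j j'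
  have e1 : β' = l i := h.uq h2 (l1 i) (a := p) (b := p') (c := k j) (d := k j')
    ⟨hp.symm, x2.symm, y2.symm, x3.symm, y3.symm, y4.symm⟩ ⟨p1, l2 i⟩ ⟨p2, l3 i⟩
    ⟨x1, (l4 i j).2 i1⟩ ⟨y1, (l4 i j').2 i2⟩
  have kb : ∀ x ∈ β, ∃ j, k j = x := fun x hx =>
    kx x (fun e => a3 x ⟨hx, e ▸ p1⟩) fun e => a3 x ⟨hx, e ▸ p2⟩
  have c : ∀ X ⊆ β, X.ncard = (Finset.univ.filter fun j => k j ∈ X).card := fun X hX => by
    rw [← Set.ncard_coe_finset, ← Set.ncard_image_of_injective _ k1]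
    congr 1
    ext x
    constructor
    · intro hx
      obtain ⟨j, rfl⟩ := kb x (hX hx)
      exact ⟨j, by simpa using hx, rfl⟩
    · rintro ⟨j, hj, rfl⟩
      simpa using hj
  have c' : ∀ i, ((Finset.univ.filter fun j => k j ∈ β).filter fun j =>
      ofMask (Lm (i : Fin 21)) (lab j) = 1).card = (β ∩ l i).ncard := fun i => by
    rw [c _ Set.inter_subset_left, Finset.filter_filter]
    simp only [Set.mem_inter_iff, l4]
  refine count (Finset.univ.filter fun j => k j ∈ β) ((c β le_rfl).symm.trans (h.h7 β h1))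
    (fun i => c' i ▸ h.ne_two h1 (l1 i)) i ?_
  rw [c', ← e1, Set.ncard_eq_zero, Set.eq_empty_iff_forall_notMem]
  exact a3

/-- a block together with the extra point -/
noncomputable def hat1 (ι : Ω → GolayPt) (t : GolayPt) (B : Set Ω) : Wd := ind (ι '' B ∪ {t})

theorem hat1_dot {ι : Ω ↪ GolayPt} {t : GolayPt} (hι : ∀ y, ι y ≠ t) (h : Odd (β ∩ β').ncard) :
    hat1 ι t β ⬝ᵥ hat1 ι t β' = 0 := by
  rw [hat1, hat1, ind_dot, ← Set.inter_union_distrib_right, ← Set.image_inter ι.injective,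
    Set.ncard_union_eq (Set.disjoint_left.2 (by rintro _ ⟨y, -, rfl⟩; simp [hι y])),
    Set.ncard_image_of_injective _ ι.injective, Set.ncard_singleton, ZMod.natCast_eq_zero_iff_even]
  exact h.add_one

theorem to_M23 {ι : Ω ↪ GolayPt} {t : GolayPt} (hι : ∀ y, ι y ≠ t)
    (hod : ∀ β ∈ 𝔅, ∀ β' ∈ 𝔅, Odd (β ∩ β').ncard)
    (hsp : ∀ c ∈ golayCode, c ∈ Submodule.span (ZMod 2) (hat1 ι t '' 𝔅))
    (hf : ∀ g : G, (∀ x : Ω, g • x = x) → g = 1) (hG : ∀ g : G, ∀ B ∈ 𝔅, (g • ·) '' B ∈ 𝔅)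
    {ρ : Perm GolayPt} (hρ : ρ ∈ M24) (h1 : ρ t = none) :
    ∃ f : G →* Spor.M23, Function.Injective f := by
  let φ : G →* Perm GolayPt := (Perm.viaEmbeddingHom ι).comp (toPermHom G Ω)
  have a1 : ∀ g, φ g t = t := fun g =>
    Perm.viaEmbedding_apply_of_notMem _ _ _ fun ⟨y, e⟩ => hι y e
  have a3 : ∀ g y, φ g (ι y) = ι (g • y) := fun g y => Perm.viaEmbedding_apply _ _ _
  have a4 : ∀ g, φ g ∈ M24 := fun g => mem_M24_of_le fun c hc => by
    have := hsp c hc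
    clear hc
    induction this using Submodule.span_induction with
    | mem x hx =>
      obtain ⟨B, hB, rfl⟩ := hx
      have : act (φ g) (hat1 ι t B) = hat1 ι t ((g • ·) '' B) := by
        simp only [hat1, act_ind, Set.image_union, Set.image_image, a1, a3, Set.image_singleton]
      exact this ▸ mem_of_perp fun c hc => perp_span (by
        rintro _ ⟨B', hB', rfl⟩
        exact hat1_dot hι (hod _ hB' _ (hG g B hB))) (hsp c hc)
    | zero => exact zero_mem _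
    | add x y _ _ hx hy => exact add_mem hx hy
    | smul a x _ hx => exact Submodule.smul_mem _ a hx
  refine ⟨((MulAut.conj ρ).toMonoidHom.comp φ).codRestrict _
    fun g => ⟨M24.mul_mem (M24.mul_mem hρ (a4 g)) (M24.inv_mem hρ), ?_⟩, fun g h e => ?_⟩
  · change ρ (φ g (ρ⁻¹ none)) = none
    rw [← h1]; simp [a1]
  · have : φ g = φ h := (MulAut.conj ρ).injective (congrArg Subtype.val e)
    exact inv_mul_eq_one.1 (hf _ fun x => ι.injective (by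
      rw [← a3, map_mul, ← this, map_inv, inv_mul_cancel]; rfl))

/-- the part of a block in the plane -/
noncomputable def Wp (k : Fin 21 → Ω) (B : Set Ω) : Wd := ind (lab '' {j | k j ∈ B})

/-- three points -/
def T3 (a b c : GolayPt) : Prop := a ≠ b ∧ a ≠ c ∧ b ≠ c ∧
  ∀ r, r = a ∨ r = b ∨ r = c ↔ r = none ∨ r = some 0 ∨ r = some 1

instance decT3 (a b c : GolayPt) : Decidable (T3 a b c) := by unfold T3; infer_instance

section
variable {k : Fin 21 → Ω} (hp : p ≠ p') (k1 : Function.Injective k) (k2 : ∀ j, k j ≠ p ∧ k j ≠ p')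
  (k3 : ∀ x, x = p ∨ x = p' ∨ ∃ j, k j = x)
include hp k1 k2 k3

theorem exists_emb {t a b : GolayPt} (hT : T3 t a b) : ∃ ι : Ω ↪ GolayPt, (∀ y, ι y ≠ t) ∧
    ∀ B : Set Ω, hat1 ι t B t = 1 ∧ (p ∈ B → hat1 ι t B a = 1) ∧ (p ∉ B → hat1 ι t B a = 0) ∧
      (p' ∈ B → hat1 ι t B b = 1) ∧ (p' ∉ B → hat1 ι t B b = 0) ∧
      ∀ j, hat1 ι t B (lab j) = Wp k B (lab j) := by
  classical
  obtain ⟨t1, t2, t3, t4⟩ := hT
  have n : ∀ j, lab j ≠ t ∧ lab j ≠ a ∧ lab j ≠ b := fun j => by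
    simpa only [not_or] using mt (t4 _).1 (lab_ne j)
  let f : Ω → GolayPt := fun x =>
    if h : ∃ j, k j = x then lab h.choose else if x = p then a else b
  have f1 : ∀ j, f (k j) = lab j := fun j => by
    have h : ∃ i, k i = k j := ⟨j, rfl⟩
    simp only [f, dif_pos h, k1 h.choose_spec]
  have f2 : f p = a := by
    simp only [f, dif_neg (show ¬ ∃ j, k j = p from fun ⟨j, e⟩ => (k2 j).1 e), if_true]
  have f3 : f p' = b := by
    simp only [f, dif_neg (show ¬ ∃ j, k j = p' from fun ⟨j, e⟩ => (k2 j).2 e), if_neg hp.symm]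
  have fi : Function.Injective f := fun x y e => by
    rcases k3 x with rfl | rfl | ⟨i, rfl⟩ <;> rcases k3 y with rfl | rfl | ⟨j, rfl⟩ <;>
      simp only [f1, f2, f3] at e
    exacts [rfl, absurd e t3, absurd e.symm (n j).2.1, absurd e.symm t3, rfl,
      absurd e.symm (n j).2.2, absurd e (n i).2.1, absurd e (n i).2.2, congrArg k (lab_inj e)]
  have ft : ∀ y, f y ≠ t := fun y => by
    rcases k3 y with rfl | rfl | ⟨j, rfl⟩
    exacts [f2 ▸ t1.symm, f3 ▸ t2.symm, f1 j ▸ (n j).1]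
  have m : ∀ (B : Set Ω) y, f y ∈ f '' B ∪ {t} ↔ y ∈ B := fun B y => by
    simp [fi.mem_set_image, ft y]
  refine ⟨⟨f, fi⟩, ft, fun B => ⟨ind_mem (.inr rfl), fun h => f2 ▸ ind_mem ((m B p).2 h),
    fun h => f2 ▸ ind_not (mt (m B p).1 h), fun h => f3 ▸ ind_mem ((m B p').2 h),
    fun h => f3 ▸ ind_not (mt (m B p').1 h), fun j => ?_⟩⟩
  by_cases h : k j ∈ B
  · rw [Wp, ind_mem (X := lab '' _) ⟨j, h, rfl⟩, ← f1]
    exact ind_mem ((m B _).2 h)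
  · rw [Wp, ind_not (X := lab '' _) (mt lab_inj.mem_set_image.1 h), ← f1]
    exact ind_not (mt (m B _).1 h)

end

theorem Wp_T {k : Fin 21 → Ω} {t a b r : GolayPt} (hT : T3 t a b) (B : Set Ω)
    (h : r = t ∨ r = a ∨ r = b) : Wp k B r = 0 :=
  ind_not fun ⟨j, _, e⟩ => lab_ne j (e ▸ (hT.2.2.2 r).1 h)

theorem ext3 {t a b : GolayPt} (hT : T3 t a b) {u v : Wd} (h1 : u t = v t) (h2 : u a = v a)
    (h3 : u b = v b) (h4 : ∀ j, u (lab j) = v (lab j)) : u = v := funext fun r => by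
  rcases lab_sur r with h | ⟨j, rfl⟩
  · rcases (hT.2.2.2 r).2 h with rfl | rfl | rfl <;> assumption
  · exact h4 j

theorem two_lab {t a b x y : GolayPt} (hT : T3 t a b) (hx : x = t ∨ x = a ∨ x = b)
    (hy : y = t ∨ y = a ∨ y = b) (j : Fin 21) : two x y (lab j) = 0 := by
  have h1 : lab j ≠ x := fun e => lab_ne j (e ▸ (hT.2.2.2 x).1 hx)
  have h2 : lab j ≠ y := fun e => lab_ne j (e ▸ (hT.2.2.2 y).1 hy)
  simp [two, h1, h2]

/-- the even words on the three special points -/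
def E4 : Fin 4 → Wd := ![0, two none (some 0), two (some 0) (some 1), two none (some 1)]

theorem perpV {w : Wd}
    (h : ∀ c ∈ golayCode, c none = c (some 0) → c (some 0) = c (some 1) → c ⬝ᵥ w = 0) :
    ∃ i, w + E4 i ∈ golayCode := by
  rcases perp_ker (U := golayCode ⊓ LinearMap.eqLocus (.proj none) (.proj (some 0)))
    (s := two (some 0) (some 1)) (w := w) fun c hc a => h c hc.1 hc.2 (dot_two.1 a) with h1 | h1 <;>
    rcases mem_or (p := none) (p' := some 0) fun c a b => h1 c ⟨a, b⟩ with h2 | h2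
  exacts [⟨0, by simpa [E4] using h2⟩, ⟨1, h2⟩, ⟨2, h2⟩, ⟨3, by
    rwa [add_assoc, show two (some 0) (some 1) + two none (some 0) = E4 3 by decide +kernel] at h2⟩]

theorem E4_pair : ∀ i j, E4 i ⬝ᵥ E4 j = 1 → ∃ t a b : Fin 3,
    T3 (![none, some 0, some 1] t) (![none, some 0, some 1] a) (![none, some 0, some 1] b) ∧
    E4 i = two (![none, some 0, some 1] t) (![none, some 0, some 1] a) ∧
    E4 j = two (![none, some 0, some 1] t) (![none, some 0, some 1] b) := by decide +kernel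

theorem Wp_E4 (k : Fin 21 → Ω) (B : Set Ω) (i : Fin 4) : Wp k B ⬝ᵥ E4 i = 0 := by
  have hT : T3 none (some 0) (some 1) := by decide +kernel
  have h0 := Wp_T (k := k) hT B (Or.inl rfl)
  have h1 := Wp_T (k := k) hT B (Or.inr (Or.inl rfl))
  have h2 := Wp_T (k := k) hT B (Or.inr (Or.inr rfl))
  fin_cases i
  exacts [dotProduct_zero _, dot_two.2 (h0.trans h1.symm), dot_two.2 (h1.trans h2.symm),
    dot_two.2 (h0.trans h2.symm)]

section
variable {k : Fin 21 → Ω} (hp : p ≠ p') (k1 : Function.Injective k) (k2 : ∀ j, k j ≠ p ∧ k j ≠ p')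
  (k3 : ∀ x, x = p ∨ x = p' ∨ ∃ j, k j = x)
  (k4 : ∀ i : Fin 21, ∃ β ∈ 𝔅, p ∈ β ∧ p' ∈ β ∧ ∀ j, k j ∈ β ↔ ofMask (Lm i) (lab j) = 1)
  (hod : ∀ β ∈ 𝔅, ∀ β' ∈ 𝔅, Odd (β ∩ β').ncard)
include hp k1 k2 k3 k4 hod

theorem emb2 {t a b : GolayPt} (hT : T3 t a b) : ∃ ι : Ω ↪ GolayPt, (∀ y, ι y ≠ t) ∧
    (∀ c ∈ golayCode, c t = c a → c t = c b → c ∈ Submodule.span (ZMod 2) (hat1 ι t '' 𝔅)) ∧
    (∀ B : Set Ω, p ∈ B → p' ∉ B → hat1 ι t B = Wp k B + two t a) ∧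
    ∀ B : Set Ω, p ∉ B → p' ∈ B → hat1 ι t B = Wp k B + two t b := by
  obtain ⟨ι, h1, h2⟩ := exists_emb hp k1 k2 k3 hT
  obtain ⟨t1, t2, t3, t4⟩ := id hT
  refine ⟨ι, h1, fun c hc e1 e2 => ?_, fun B b1 b2 => ?_, fun B b1 b2 => ?_⟩
  · have e : ∀ r, r = none ∨ r = some 0 ∨ r = some 1 → c r = c t := fun r hr => by
      rcases (t4 r).2 hr with rfl | rfl | rfl
      exacts [rfl, e1.symm, e2.symm]
    refine mem_span_Lm (fun i => Submodule.subset_span ?_) hc (by simp [e]) (by simp [e])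
    obtain ⟨B, b1, b2, b3, b4⟩ := k4 i
    obtain ⟨c1, c2, -, c3, -, c4⟩ := h2 B
    refine ⟨B, b1, ext3 hT (c1.trans (Lm_one i _ ((t4 _).1 (by simp))).symm)
      ((c2 b2).trans (Lm_one i _ ((t4 _).1 (by simp))).symm)
      ((c3 b3).trans (Lm_one i _ ((t4 _).1 (by simp))).symm) fun j => (c4 j).trans ?_⟩
    by_cases h : k j ∈ B
    · rw [(b4 j).1 h]
      exact ind_mem ⟨j, h, rfl⟩
    · rw [((by decide : ∀ a : ZMod 2, a = 0 ∨ a = 1) _).resolve_right (mt (b4 j).2 h)]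
      exact ind_not (mt lab_inj.mem_set_image.1 h)
  · obtain ⟨c1, c2, -, -, c3, c4⟩ := h2 B
    refine ext3 hT ?_ ?_ ?_ fun j => ?_
    · rw [c1, Pi.add_apply, Wp_T hT B (by simp)]; simp [two, t1]
    · rw [c2 b1, Pi.add_apply, Wp_T hT B (by simp)]; simp [two, t1.symm]
    · rw [c3 b2, Pi.add_apply, Wp_T hT B (by simp)]; simp [two, t2.symm, t3.symm]
    · rw [c4, Pi.add_apply, two_lab hT (by simp) (by simp), add_zero]
  · obtain ⟨c1, -, c2, c3, -, c4⟩ := h2 B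
    refine ext3 hT ?_ ?_ ?_ fun j => ?_
    · rw [c1, Pi.add_apply, Wp_T hT B (by simp)]; simp [two, t2]
    · rw [c2 b1, Pi.add_apply, Wp_T hT B (by simp)]; simp [two, t1.symm, t3]
    · rw [c3 b2, Pi.add_apply, Wp_T hT B (by simp)]; simp [two, t2.symm]
    · rw [c4, Pi.add_apply, two_lab hT (by simp) (by simp), add_zero]

theorem fin_M23 {t a b : GolayPt} (hT : T3 t a b) (b1 : β ∈ 𝔅) (b2 : p ∈ β) (b3 : p' ∉ β)
    (c1 : β' ∈ 𝔅) (c2 : p ∉ β') (c3 : p' ∈ β') (h1 : Wp k β + two t a ∈ golayCode)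
    (h2 : Wp k β' + two t b ∈ golayCode) (hf : ∀ g : G, (∀ x : Ω, g • x = x) → g = 1)
    (hG : ∀ g : G, ∀ B ∈ 𝔅, (g • ·) '' B ∈ 𝔅) : ∃ f : G →* Spor.M23, Function.Injective f := by
  obtain ⟨ι, i1, i2, i3, i4⟩ := emb2 hp k1 k2 k3 k4 hod hT
  obtain ⟨t1, t2, t3, t4⟩ := id hT
  obtain ⟨ρ, r1, r2⟩ : ∃ ρ ∈ M24, ρ t = none := by
    rcases (t4 t).1 (by simp) with rfl | rfl | rfl
    exacts [⟨1, one_mem _, rfl⟩, ⟨rho * rho, mul_mem rho_mem rho_mem, by decide +kernel⟩,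
      ⟨rho, rho_mem, by decide +kernel⟩]
  refine to_M23 i1 hod (fun c hc => ?_) hf hG r1 r2
  have m1 : Wp k β + two t a ∈ Submodule.span (ZMod 2) (hat1 ι t '' 𝔅) :=
    Submodule.subset_span ⟨β, b1, i3 β b2 b3⟩
  have m2 : Wp k β' + two t b ∈ Submodule.span (ZMod 2) (hat1 ι t '' 𝔅) :=
    Submodule.subset_span ⟨β', c1, i4 β' c2 c3⟩
  have := i2 _ (add_mem (add_mem hc (Submodule.smul_mem _ (c t + c b) h1))
    (Submodule.smul_mem _ (c t + c a) h2)) (by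
      simp only [Pi.add_apply, Pi.smul_apply, Wp_T hT _ (Or.inl rfl),
        Wp_T hT _ (Or.inr (Or.inl rfl))]
      simp only [two, Pi.add_apply, Pi.single_apply, t1, t2, t3, t1.symm, if_true, if_false]
      exact (by decide : ∀ x y z : ZMod 2, x + (x + z) * (0 + (1 + 0)) + (x + y) * (0 + (1 + 0)) =
        y + (x + z) * (0 + (0 + 1)) + (x + y) * (0 + (0 + 0))) _ _ _) (by
      simp only [Pi.add_apply, Pi.smul_apply, Wp_T hT _ (Or.inl rfl),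
        Wp_T hT _ (Or.inr (Or.inr rfl))]
      simp only [two, Pi.add_apply, Pi.single_apply, t1, t2, t3.symm, t2.symm, if_true, if_false]
      exact (by decide : ∀ x y z : ZMod 2, x + (x + z) * (0 + (1 + 0)) + (x + y) * (0 + (1 + 0)) =
        z + (x + z) * (0 + (0 + 0)) + (x + y) * (0 + (0 + 1))) _ _ _)
  exact (Submodule.add_mem_iff_left _ (Submodule.smul_mem _ _ m1)).1
    ((Submodule.add_mem_iff_left _ (Submodule.smul_mem _ _ m2)).1 this)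

end

theorem Des.emb (h : Des Ω 𝔅) (h4 : T4 (⊤ : Subgroup G) (Set.univ : Set Ω))
    (hf : ∀ g : G, (∀ x : Ω, g • x = x) → g = 1) (hG : ∀ g : G, ∀ β ∈ 𝔅, (g • ·) '' β ∈ 𝔅) :
    ∃ f : G →* Spor.M23, Function.Injective f := by
  have : Nontrivial Ω := Finite.one_lt_card_iff_nontrivial.1 (by rw [h.h23]; norm_num)
  obtain ⟨p, p', hp⟩ := exists_pair_ne Ω
  obtain ⟨k, k1, k2, k3, k4⟩ := h.coord hp h4 hG
  have hod := fun β h1 β' h2 => h.odd h4 hG (β := β) (β' := β') h1 h2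
  obtain ⟨l, l1, l2, l3, -⟩ := k4 0
  obtain ⟨q, q1⟩ := h.off l1
  have ex : ∀ {p p'}, p ≠ p' → p ∈ l → p' ∈ l → ∃ β ∈ 𝔅, p ∈ β ∧ p' ∉ β := fun {p p'} hp l2 l3 => by
    obtain ⟨x, x1, x2, x3, -⟩ := h.other l1 p p' p p
    obtain ⟨y, y1, y2, y3, y4, -⟩ := h.other l1 p p' x p
    obtain ⟨β, b1, b2, b3, b4, b5⟩ := h.ex4 (a := p) (b := x) (c := y) (d := q) ⟨x2.symm, y2.symm,
      fun e => q1 (e ▸ l2), y4.symm, fun e => q1 (e ▸ x1), fun e => q1 (e ▸ y1)⟩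
    exact ⟨β, b1, b2, fun e => q1 (h.uq b1 l1 (a := p) (b := p') (c := x) (d := y)
      ⟨hp, x2.symm, y2.symm, x3.symm, y3.symm, y4.symm⟩ ⟨b2, l2⟩ ⟨e, l3⟩ ⟨b3, x1⟩ ⟨b4, y1⟩ ▸ b5)⟩
  obtain ⟨β, b1, b2, b3⟩ := ex hp l2 l3
  obtain ⟨β', c1, c3, c2⟩ := ex hp.symm l3 l2
  obtain ⟨ι, i1, i2, i3, i4⟩ := emb2 hp k1 k2 k3 k4 hod (t := none) (a := some 0) (b := some 1)
    (by decide +kernel)
  have pv : ∀ B ∈ 𝔅, ∀ i, hat1 ι none B = Wp k B + E4 i → ∃ i, Wp k B + E4 i ∈ golayCode :=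
    fun B hB i e => by
      obtain ⟨j, hj⟩ := perpV (w := hat1 ι none B) fun c hc a b => perp_span (by
        rintro _ ⟨B', hB', rfl⟩
        exact hat1_dot i1 (hod _ hB' _ hB)) (i2 c hc a (a.trans b))
      obtain ⟨j', e'⟩ := (by decide +kernel : ∀ i j, ∃ j', E4 i + E4 j = E4 j') i j
      exact ⟨j', by rwa [e, add_assoc, e'] at hj⟩
  obtain ⟨i, hi⟩ := pv β b1 1 (i3 β b2 b3)
  obtain ⟨j, hj⟩ := pv β' c1 3 (i4 β' c2 c3)
  have d : ∀ i j, (Wp k β + E4 i) ⬝ᵥ (Wp k β' + E4 j) = Wp k β ⬝ᵥ Wp k β' + E4 i ⬝ᵥ E4 j :=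
    fun i j => by
      rw [add_dotProduct, dotProduct_add, dotProduct_add, Wp_E4, dotProduct_comm (E4 i) (Wp k β'),
        Wp_E4, add_zero, zero_add]
  have d1 := hat1_dot i1 (hod _ b1 _ c1)
  have d2 := self_orth hi hj
  rw [i3 β b2 b3, i4 β' c2 c3] at d1
  replace d1 := (d 1 3).symm.trans d1
  rw [d, ← d1, add_right_inj] at d2
  obtain ⟨t, a, b, hT, e1, e2⟩ := E4_pair i j (d2.trans (by decide +kernel))
  exact fin_M23 hp k1 k2 k3 k4 hod hT b1 b2 b3 c1 c2 c3 (e1 ▸ hi) (e2 ▸ hj) hf hG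

end CfsgH7.Q4M

/-- a four-fold transitive group of automorphisms of `S(4,7,23)` of the full order is `M₂₃` -/
theorem CfsgH1.Q4.m23 {G Ω : Type*} [Group G] [Finite G] [MulAction G Ω] [Finite Ω]
    (hf : ∀ g : G, (∀ x : Ω, g • x = x) → g = 1) (h4 : T4 (⊤ : Subgroup G) (Set.univ : Set Ω))
    (h23 : Nat.card Ω = 23) (𝔅 : Set (Set Ω)) (h7 : ∀ β ∈ 𝔅, β.ncard = 7)
    (hS : ∀ B : Set Ω, B.ncard = 4 → ∃! β, β ∈ 𝔅 ∧ B ⊆ β)
    (hG : ∀ g : G, ∀ β ∈ 𝔅, (g • ·) '' β ∈ 𝔅) (hcard : 10200960 ≤ Nat.card G) :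
    Cfsg.Spor.IsoM23 G := by
  obtain ⟨f, hf⟩ := CfsgH7.Q4M.Des.emb ⟨h23, h7, hS⟩ h4 hf hG
  exact ⟨MulEquiv.ofBijective f ((Nat.bijective_iff_injective_and_card f).2
    ⟨hf, le_antisymm (Nat.card_le_card_of_injective f hf) (CfsgH8.M24.card23.le.trans hcard)⟩)⟩
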