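import Cfsg.Agent.SZ.ZS_fin

set_option autoImplicit false

/-! Two character lemmas on a conjugacy class (helpers for S3617). -/

namespace CfsgFS

open Finset Cfsg CfsgL CfsgH5 CfsgH6 CfsgFT CfsgSZ Subgroup ComplexConjugate
open scoped commutatorElement

universe u

variable {G : Type u} [Group G] [Finite G]

/-- principal `2`-block lemma. -/
theorem fb {j z : G} (hj : j * j = 1) (j1 : j ≠ 1)
    (hN : ∀ K : Subgroup G, K.Normal → z ∈ K → K = ⊤)
    (h : ∀ g : G, ∃ c : G, ∃ y ∈ Opc 2 (C1 j), j * (g * z * g⁻¹) = c * (j * y) * c⁻¹) : False := by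
  haveI : Fact (Nat.Prime 2) := ⟨Nat.prime_two⟩
  have := Fintype.ofFinite G
  have h1 := B0_orth (G := G) (p := 2) (g := j) (x := 1)
    (by rw [orderOf_eq_prime ((pow_two j).trans hj) j1]) (by simp)
  rw [sum_eq_single_of_mem _ triv_mem_B0] at h1
  · norm_num at h1
  intro χ hχ hne
  have key : ∀ g : G, χ.1 (j * (g * z * g⁻¹)) = χ.1 j := fun g => by
    obtain ⟨c, y, hy, e⟩ := h g
    rw [e, Irr_class χ]
    exact B0_mul_eq (k := 1) (by rw [pow_one, pow_two, hj]) hy hχ
  have h2 := irr_sum_conj χ.2 j z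
  simp only [key, sum_const, card_univ, ← Nat.card_eq_fintype_card, nsmul_eq_mul] at h2
  have e3 : χ.1 z - χ.1 1 ≠ 0 := fun h => hne (Subtype.ext (irr_eq_one_of_charKer_top χ.2
    (hN _ (charKer_normal (Irr_class χ)) ((mem_charKer_iff (irr_isChar χ.2)).mpr
      (sub_eq_zero.mp h)))))
  have : χ.1 j = 0 := by
    apply mul_left_cancel₀ e3
    apply mul_left_cancel₀ (card_ne_zero' (G := G))
    linear_combination -h2
  rw [this, zero_mul]

/-- if all products `z z'` of two conjugates are conjugate to `z²`, the class is a coset of `G'`. -/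
theorem ck {z : G} (hN : ∀ K : Subgroup G, K.Normal → z ∈ K → K = ⊤)
    (h : ∀ g : G, ∃ c : G, z * (g * z * g⁻¹) = c * (z * z) * c⁻¹) {x : G}
    (hx : x ∈ ⁅(⊤ : Subgroup G), (⊤ : Subgroup G)⁆) : ∃ g : G, g * z * g⁻¹ = z * x := by
  have := Fintype.ofFinite G
  have a : ∀ χ : IrrCharacter G, χ.1 1 * χ.1 (z * z) = χ.1 z * χ.1 z := fun χ => by
    have key : ∀ g : G, χ.1 (z * (g * z * g⁻¹)) = χ.1 (z * z) := fun g => by
      obtain ⟨c, e⟩ := h g
      rw [e, Irr_class χ]
    have h2 := irr_sum_conj χ.2 z z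
    simp only [key, sum_const, card_univ, ← Nat.card_eq_fintype_card, nsmul_eq_mul] at h2
    apply mul_left_cancel₀ (card_ne_zero' (G := G))
    linear_combination h2
  have n : ∀ χ : IrrCharacter G, ‖χ.1 1‖ * ‖χ.1 (z * z)‖ = ‖χ.1 z‖ * ‖χ.1 z‖ := fun χ => by
    rw [← norm_mul, ← norm_mul, a]
  have pos : ∀ χ : IrrCharacter G, 0 < ‖χ.1 1‖ := fun χ => norm_pos_iff.2 (irr_one_ne_zero χ.2)
  have le : ∀ χ : IrrCharacter G, ‖χ.1 (z * z)‖ ^ 2 ≤ ‖χ.1 z‖ ^ 2 := fun χ => by
    refine pow_le_pow_left₀ (norm_nonneg _) (le_of_mul_le_mul_left ?_ (pos χ)) 2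
    rw [n]
    exact mul_le_mul_of_nonneg_right (char_norm_le (irr_isChar χ.2) z) (norm_nonneg _)
  have hc : Nat.card (centralizer ({z} : Set G)) ≤ Nat.card (centralizer ({z * z} : Set G)) :=
    card_le_of_le fun g hg => mem_centralizer_singleton_iff.2 (by
      have := mem_centralizer_singleton_iff.1 hg
      rw [← mul_assoc, this, mul_assoc, this, mul_assoc])
  have eq := (sum_eq_sum_iff_of_le (s := univ) fun χ _ => le χ).1 (le_antisymm
    (sum_le_sum fun χ _ => le χ) (by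
      rw [second_orth_normSq, second_orth_normSq]; exact_mod_cast hc))
  have b : ∀ χ : IrrCharacter G, χ.1 z * conj (χ.1 (z * x)) = χ.1 z * conj (χ.1 z) := fun χ => by
    by_cases h0 : χ.1 z = 0
    · rw [h0, zero_mul, zero_mul]
    have e1 : ‖χ.1 (z * z)‖ = ‖χ.1 z‖ :=
      (pow_left_inj₀ (norm_nonneg _) (norm_nonneg _) two_ne_zero).1 (eq χ (mem_univ _))
    have e2 : ‖χ.1 z‖ = ‖χ.1 1‖ := by
      have := n χ
      rw [e1] at this
      exact (mul_right_cancel₀ (norm_ne_zero_iff.2 h0) this).symm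
    have e3 := hN _ (charCenter_normal (Irr_class χ)) ((mem_charCenter_iff χ.2).2 e2)
    have e4 : ⁅(⊤ : Subgroup G), (⊤ : Subgroup G)⁆ ≤ charKer χ.1 := commutator_le.2 fun g _ y _ =>
      commutator_mem_charKer (Irr_class χ) (e3.ge (mem_top g)) y
    rw [e4 hx z]
  by_contra! hn
  have := second_orth_ne (a := z) (b := z * x) fun e => by
    obtain ⟨c, hc⟩ := isConj_iff.1 e.symm
    exact hn c hc
  rw [sum_congr rfl fun χ _ => b χ, second_orth_self] at this
  exact (Nat.card_pos (α := centralizer ({z} : Set G))).ne' (by exact_mod_cast this)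

end CfsgFS
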