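import Cfsg.Agent.H7.W3Def

/-! S3422: arithmetic of the parameters. -/

set_option autoImplicit false

namespace CfsgW3

universe u

variable {q r d m e : ℕ}

namespace Par

variable (h : Par q r d m e)
include h

theorem d_cases : (d = 1 ∧ q % 3 ≠ 1) ∨ (d = 3 ∧ q % 3 = 1) := by
  have := h.q2
  rw [h.hd]
  rcases (Nat.dvd_prime Nat.prime_three).mp (Nat.gcd_dvd_left 3 (q - 1)) with f | f
  · refine .inl ⟨f, fun f' => ?_⟩
    have : 3 ∣ Nat.gcd 3 (q - 1) := Nat.dvd_gcd dvd_rfl (by omega)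
    omega
  · have := f ▸ Nat.gcd_dvd_right 3 (q - 1)
    exact .inr ⟨f, by omega⟩

theorem d_pos : 0 < d := by have := h.d_cases; omega

theorem d_le : d ≤ 3 := by have := h.d_cases; omega

theorem de : d * e = q - 1 := by have := h.he; omega

theorem e_pos : 0 < e := Nat.pos_of_ne_zero fun f => by
  have := h.he; have := h.q2; simp [f] at *; omega

theorem r_dvd : r ∣ q := by
  obtain ⟨k, rfl⟩ := h.pw
  have := h.q2
  exact dvd_pow_self r fun f => by simp [f] at this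

theorem r_ne (f : d = 3) : r ≠ 3 := fun f' => by
  have := f' ▸ h.r_dvd
  have := h.d_cases
  omega

theorem odd (hr : r ≠ 2) : Odd q := by
  obtain ⟨k, rfl⟩ := h.pw
  exact (h.pr.odd_of_ne_two hr).pow

theorem hz : (d : ℤ) * m = q ^ 2 + q + 1 := by exact_mod_cast h.hm

theorem hez : (d : ℤ) * e = q - 1 := by
  have := congrArg (Nat.cast : ℕ → ℤ) h.he
  push_cast at this
  linarith

theorem cast1 : ((q - 1 : ℕ) : ℤ) = q - 1 := by
  have := h.q2
  push_cast [Nat.cast_sub (by omega : 1 ≤ q)]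
  rfl

theorem cast_c0 : (((q - 1) ^ 2 * (q + 1) : ℕ) : ℤ) = (q - 1) ^ 2 * (q + 1) := by
  push_cast [h.cast1]
  rfl

theorem cast_ord : ((ord q m : ℕ) : ℤ) = q ^ 3 * m * ((q - 1) ^ 2 * (q + 1)) := by
  push_cast [ord, h.cast1]
  rfl

theorem seven : 7 ≤ m := by
  have f1 := h.hm
  have := h.q2
  rcases h.d_cases with ⟨rfl, -⟩ | ⟨rfl, f⟩
  · nlinarith
  · have : 4 ≤ q := by omega
    nlinarith

theorem not_three : ¬ 3 ∣ m := by
  rintro ⟨k, rfl⟩
  have f1 := h.hm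
  obtain ⟨t, ht⟩ : ∃ t, q = 3 * t ∨ q = 3 * t + 1 ∨ q = 3 * t + 2 := ⟨q / 3, by omega⟩
  rcases h.d_cases with ⟨rfl, f⟩ | ⟨rfl, f⟩ <;> rcases ht with rfl | rfl | rfl <;> ring_nf at f1 <;> omega

/-- `m` is prime to `q³ (q - 1)² (q + 1)` -/
theorem cop : m.Coprime (q ^ 3 * ((q - 1) ^ 2 * (q + 1))) := by
  refine Nat.coprime_of_dvd fun s hs h1 h2 => ?_
  have h3 : s ∣ q * (q + 1) + 1 := by
    rw [show q * (q + 1) + 1 = d * m by rw [h.hm]; ring]; exact h1.mul_left d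
  rcases (Nat.Prime.dvd_mul hs).mp h2 with f | f
  · exact hs.not_dvd_one ((Nat.dvd_add_right ((hs.dvd_of_dvd_pow f).mul_right _)).mp h3)
  rcases (Nat.Prime.dvd_mul hs).mp f with f | f
  · have f2 : s ∣ 3 := by
      have : (s : ℤ) ∣ 3 := by
        have a := Int.natCast_dvd_natCast.mpr h3
        have b := (Int.natCast_dvd_natCast.mpr (hs.dvd_of_dvd_pow f)).mul_right ((q : ℤ) + 2)
        rw [h.cast1] at b
        push_cast at a
        exact (dvd_sub a b).trans (dvd_of_eq (by ring))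
      exact_mod_cast this
    exact h.not_three ((Nat.prime_dvd_prime_iff_eq hs Nat.prime_three).mp f2 ▸ h1)
  · exact hs.not_dvd_one ((Nat.dvd_add_right (f.mul_left _)).mp h3)

theorem even_n : 2 ∣ q ^ 3 * ((q - 1) ^ 2 * (q + 1)) := by
  rcases Nat.even_or_odd q with f | f
  · exact (f.two_dvd.trans (dvd_pow_self q three_ne_zero)).mul_right _
  · exact (f.add_one.two_dvd.mul_left _).mul_left _

theorem m_odd : Odd m :=
  Nat.odd_iff.mpr (Nat.coprime_two_right.mp (h.cop.coprime_dvd_right h.even_n) |> Nat.odd_iff.mp)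

theorem dvd_sq : (m : ℤ) ∣ q ^ 2 + q + 1 := h.hz ▸ dvd_mul_left _ _

theorem dvd_cube : (m : ℤ) ∣ q ^ 3 - 1 :=
  (h.dvd_sq.mul_right (q - 1)).trans (dvd_of_eq (by ring))

theorem dvd_c0 : (m : ℤ) ∣ (q - 1) ^ 2 * (q + 1) - 3 :=
  (h.dvd_sq.mul_right (q - 2)).trans (dvd_of_eq (by ring))

theorem three : q ^ 3 * ((q - 1) ^ 2 * (q + 1)) ≡ 3 [MOD m] := by
  rw [Nat.modEq_iff_dvd, Nat.cast_mul, h.cast_c0]
  push_cast
  exact (dvd_add (h.dvd_cube.mul_right 3) (h.dvd_c0.mul_left (q ^ 3))).neg_right.trans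
    (dvd_of_eq (by ring))

/-- `|G| = |Y| q³ (q² + q + 1) (q - 1)` -/
theorem ord_eq : ord q m = (q + 1) * e * (q ^ 3 * (q ^ 2 + q + 1) * (q - 1)) := by
  rw [ord, ← h.hm, sq (q - 1)]
  nth_rewrite 1 [← h.de]
  ring

theorem not_dvd_pred : ¬ r ∣ q - 1 := fun f => h.pr.not_dvd_one
  ((Nat.dvd_add_right f).mp (by rw [Nat.sub_add_cancel (by have := h.q2; omega)]; exact h.r_dvd))

theorem not_dvd_succ : ¬ r ∣ q + 1 := fun f => h.pr.not_dvd_one ((Nat.dvd_add_right h.r_dvd).mp f)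

theorem not_dvd_e : ¬ r ∣ e := fun f => h.not_dvd_pred (h.de ▸ f.mul_left d)

theorem not_dvd_r : ¬ r ∣ m * ((q - 1) ^ 2 * (q + 1)) := fun f0 => by
  rcases (Nat.Prime.dvd_mul h.pr).mp f0 with f | f
  · exact h.pr.ne_one (Nat.eq_one_of_dvd_coprimes h.cop f
      ((h.r_dvd.trans (dvd_pow_self q three_ne_zero)).mul_right _))
  rcases (Nat.Prime.dvd_mul h.pr).mp f with f | f
  · exact h.not_dvd_pred (h.pr.dvd_of_dvd_pow f)
  · exact h.not_dvd_succ f

end Par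

theorem exists_par {q r k : ℕ} (hr : r.Prime) (f0 : q = r ^ k) (h2 : 2 ≤ q) :
    ∃ d m e, Par q r d m e := by
  obtain ⟨e, he⟩ := Nat.gcd_dvd_right 3 (q - 1)
  have : Nat.gcd 3 (q - 1) ∣ q ^ 2 + q + 1 := by
    rcases (Nat.dvd_prime Nat.prime_three).mp (Nat.gcd_dvd_left 3 (q - 1)) with f | f
    · rw [f]; exact one_dvd _
    · rw [f] at he ⊢
      obtain rfl : q = 3 * e + 1 := by omega
      exact ⟨3 * e ^ 2 + 3 * e + 1, by ring⟩
  obtain ⟨m, hm⟩ := this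
  exact ⟨_, m, e, hr, ⟨k, f0⟩, h2, rfl, hm.symm, by omega⟩

theorem Sp.cc' {G : Type u} [Group G] (h : Sp G q r d m e) :
    CfsgV3.CC G m (q ^ 3 * ((q - 1) ^ 2 * (q + 1))) :=
  ⟨by rw [h.card, ord]; ring, h.par.cop, h.exm, h.cc, h.par.three, h.par.seven, h.par.even_n⟩

/-- `Sp` only depends on order and spectrum -/
theorem Sp.transfer {G K : Type*} [Group G] [Group K] (h : Sp K q r d m e)
    (f : Set.range (orderOf : G → ℕ) = Set.range (orderOf : K → ℕ)) (c : Nat.card G = Nat.card K) :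
    Sp G q r d m e := by
  refine ⟨h.par, c.trans h.card, f.ge h.exm, fun g => ?_, f.ge h.exy, f.ge h.exr, fun g => ?_⟩ <;>
    obtain ⟨k, hk⟩ := f.le ⟨g, rfl⟩ <;>
    rw [← orderOf_dvd_iff_pow_eq_one, ← hk, orderOf_dvd_iff_pow_eq_one]
  exacts [h.cc k, h.mix k]

end CfsgW3
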