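import Cfsg.Agent.H7.T3E1
import Cfsg.Agent.H2.T3Def

/-! The centralizer of `e` normalizes `J` in the 3-local frame of `Ω⁺₈(2).3`. -/

set_option autoImplicit false

namespace CfsgH2.T3

open Subgroup CfsgH5 CfsgH6 CfsgFT CfsgH7 CfsgH9 Matrix
open CfsgH7.W9 (W J0 RR RK RY Pj a0 a1 a2 c0 σ0 r0 s0 z0 mkL lin six HC HE)

universe u

namespace E7

def ev : V4 := ![0, -1, 1, 0]
def lv3 (a b c : ZMod 3) : V4 := ![-b - c, a, a, b - c]
noncomputable def L (m : W) : V4 := lv3 m.x0.a m.x1.a m.x2.a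

theorem L_mul {m n : W} (a : m ∈ J0) (b : n ∈ J0) : L (m * n) = L m + L n := by
  rw [W9.eq_jv m a, W9.eq_jv n b]
  exact (by decide +kernel : ∀ a b c a' b' c', L (W9.jv a b c * W9.jv a' b' c') =
    L (W9.jv a b c) + L (W9.jv a' b' c')) _ _ _ _ _ _

theorem L_dec : ∀ v : V4, ∃ a b c, ∃ k : ZMod 3, v = k • ev + L (W9.jv a b c) := by decide +kernel

theorem L_inj : ∀ m ∈ J0, L m = 0 ∨ L m = ev ∨ L m = -ev → m = 1 := by decide +kernel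

theorem six_of : ∀ v : V4, v ⬝ᵥ ev = 0 → v ⬝ᵥ v = 2 → ∃ i, v = L (six i) := by decide +kernel

theorem sgn_of : ∀ i j k : Fin 6, L (six i) ⬝ᵥ L (six j) = 0 → L (six i) ⬝ᵥ L (six k) = 0 →
    L (six j) ⬝ᵥ L (six k) = 0 → ∃ s t r p, ∀ a b c : ZMod 3,
      a • L (six i) + b • L (six j) + c • L (six k) =
        L (mkL s t r p * W9.jv a b c * (mkL s t r p)⁻¹) := by decide +kernel

theorem dot_iso {A : M4} (h : Aᵀ * A = 1) (v w : V4) : (A *ᵥ v) ⬝ᵥ (A *ᵥ w) = v ⬝ᵥ w := by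
  rw [dotProduct_mulVec, vecMul_mulVec, h, vecMul_one]

def Lk (A : M4) (m : W) : Prop :=
  ∀ a b c : ZMod 3, A *ᵥ L (W9.jv a b c) = L (m * W9.jv a b c * m⁻¹)
noncomputable instance (A : M4) (m : W) : Decidable (Lk A m) := by unfold Lk; infer_instance

theorem exists_lk {A : M4} (h : Aᵀ * A = 1) (he : A *ᵥ ev = ev) : ∃ m, Lk A m := by
  have k : ∀ x, L x ⬝ᵥ ev = 0 ∧ L x ⬝ᵥ L x = 2 → ∃ i, A *ᵥ L x = L (six i) := fun x e =>
    six_of _ (by rw [← e.1, ← dot_iso h (L x), he]) (by rw [dot_iso h, e.2])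
  obtain ⟨i, e0⟩ := k a0 (by decide +kernel)
  obtain ⟨j, e1⟩ := k a1 (by decide +kernel)
  obtain ⟨l, e2⟩ := k a2 (by decide +kernel)
  obtain ⟨s, t, r, p, e⟩ := sgn_of i j l (by rw [← e0, ← e1, dot_iso h]; decide +kernel)
    (by rw [← e0, ← e2, dot_iso h]; decide +kernel) (by rw [← e1, ← e2, dot_iso h]; decide +kernel)
  refine ⟨mkL s t r p, fun a b c => ?_⟩
  rw [← e, ← e0, ← e1, ← e2, ← mulVec_smul, ← mulVec_smul, ← mulVec_smul, ← mulVec_add,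
    ← mulVec_add]
  exact congrArg _ ((by decide +kernel : ∀ a b c : ZMod 3, L (W9.jv a b c) =
    a • L a0 + b • L a1 + c • L a2) a b c)

variable {G : Type u} [Group G]

theorem rr {f : FD G} {g : G} {A : M4} {m : W} (a : f.Act g A) (b : Lk A m) :
    RR (fun m => f.jv (L m)) g m := fun j hj => by
  rw [W9.eq_jv j hj]; exact (a _).trans (congrArg f.jv (b _ _ _))

/-- elements of the model realised inside `X`. -/
def RX (ψ : W → G) (X : Subgroup G) : Subgroup W where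
  carrier := {m | ∃ g ∈ X, RR ψ g m}
  one_mem' := ⟨1, one_mem _, fun j _ => by simp⟩
  mul_mem' := fun ⟨_, a, b⟩ ⟨_, c, d⟩ => ⟨_, mul_mem a c, b.mul d⟩
  inv_mem' := fun ⟨_, a, b⟩ => ⟨_, inv_mem a, b.inv⟩

end E7

open E7

variable {G : Type u} [Group G] [Finite G] {f : FD G}

theorem FrN.exists_rr (h : FrN f) {g : G} (hg : g ∈ C1 f.e) (hn : g ∈ N f.J) :
    ∃ m, RR (fun m => f.jv (L m)) g m := by
  obtain ⟨A, a⟩ := h.exists_act hn
  obtain ⟨m, b⟩ := exists_lk (h.iso g A a) ((h.fix_iff a).1 (h.jv_e.symm ▸ hg))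
  exact ⟨m, rr a b⟩

omit [Finite G] in
theorem FrN.HC_le (h : FrN f) : HC ≤ RX (fun m => f.jv (L m)) (C1 f.e) := fun m a => by
  have k0 : s0 ∈ RX (fun m => f.jv (L m)) (C1 f.e) :=
    ⟨_, h.jv_e ▸ (h.fix_iff (h.at'.mul h.au)).2 (by decide +kernel),
      rr (h.at'.mul h.au) (by decide +kernel)⟩
  have k1 : σ0 ∈ RX (fun m => f.jv (L m)) (C1 f.e) :=
    ⟨_, h.jv_e ▸ (h.fix_iff h.aτ).2 (by decide +kernel), rr h.aτ (by decide +kernel)⟩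
  have k2 : m * (lin m)⁻¹ ∈ RX (fun m => f.jv (L m)) (C1 f.e) := ⟨1, one_mem _, fun j hj => by
    rw [W9.J0_comm (W9.lin_J m) hj, mul_inv_cancel_right]; simp⟩
  obtain ⟨i, j, k, l, e⟩ := (by decide +kernel : ∀ s t r p, mkL s t r p ∈ HC → ∃ i j k : Fin 2,
    ∃ l : Fin 3, mkL s t r p = s0 ^ i.val * (σ0 * s0 * σ0⁻¹) ^ j.val * (σ0⁻¹ * s0 * σ0) ^ k.val *
      σ0 ^ l.val) _ _ _ _ ((by decide +kernel : ∀ m ∈ HC, lin m ∈ HC) m a)
  have k3 : lin m ∈ RX (fun m => f.jv (L m)) (C1 f.e) := by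
    rw [show lin m = _ from e]
    exact mul_mem (mul_mem (mul_mem (pow_mem k0 _) (pow_mem (mul_mem (mul_mem k1 k0) (inv_mem k1)) _))
      (pow_mem (mul_mem (mul_mem (inv_mem k1) k0) k1) _)) (pow_mem k1 _)
  simpa using mul_mem k2 k3

theorem Fr.cent_e (h : Fr f) : C1 f.e ≤ N f.J := by
  have hJ : f.J ≤ C1 f.e := le_C1_iff.2 (h.ab (h.jv_e ▸ f.jv_mem _))
  have hZ : zpowers f.e ≤ f.J := zpowers_le.2 (h.jv_e ▸ f.jv_mem _)
  have e3 : f.e ^ 3 = 1 := h.jv_e ▸ h.cube _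
  have e1 : f.e ≠ 1 := h.jv_e ▸ h.ne (by decide)
  obtain ⟨Q, _, _, π, hπ⟩ := exists_sec (hZ.trans hJ) (nrm_of_le_C (C_zpowers _).ge)
  have mZ : ∀ {v}, f.jv v ∈ zpowers f.e ↔ v = 0 ∨ v = ev ∨ v = -ev := h.jv_e ▸ h.mem_zp
  let φ : W → Q := fun m => π ⟨f.jv (L m), hJ (f.jv_mem _)⟩
  have hR : ∀ {g m} (a : g ∈ C1 f.e), RR (fun m => f.jv (L m)) g m → RR φ (π ⟨g, a⟩) m :=
    fun a b j hj => by
      rw [← map_inv, ← map_mul, ← map_mul]; exact congrArg π (Subtype.ext (b j hj))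
  have ph : W9.PH J0 φ := ⟨fun a b => by
    rw [← map_mul]; exact congrArg π (Subtype.ext ((congrArg f.jv (L_mul a b)).trans (h.add _ _))),
    fun {m} a e => L_inj m a (mZ.1 ((hπ.ker _).1 e))⟩
  have hN : ∀ q ∈ N (img π f.J), ∃ g, ∃ a : g ∈ C1 f.e, π ⟨g, a⟩ = q ∧
      ∃ m, RR (fun m => f.jv (L m)) g m := fun q hq => by
    obtain ⟨⟨g, a⟩, rfl⟩ := hπ.surj q
    exact ⟨g, a, rfl, h.exists_rr a ((hπ.mem_N hZ hJ).1 hq)⟩
  have mJ : ∀ {q}, q ∈ img π f.J ↔ ∃ m ∈ J0, φ m = q := ⟨fun hq => by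
    obtain ⟨g, a, b, rfl⟩ := mem_img'.1 hq
    obtain ⟨v, rfl⟩ := h.surj a
    obtain ⟨x, y, z, k, rfl⟩ := L_dec v
    refine ⟨_, W9.jv_mem x y z, (hπ.eq_iff.2 ?_).symm⟩
    change f.jv _ * (f.jv _)⁻¹ ∈ _
    rw [h.add, mul_inv_cancel_right, h.smul]
    exact pow_mem (mZ.2 (Or.inr (Or.inl rfl))) _,
    fun ⟨m, _, e⟩ => e ▸ mem_img_of_mem π _ (f.jv_mem _)⟩
  have pj : Pj φ (img π f.J) := ⟨ph, mJ, fun q hq => by
    obtain ⟨g, a, rfl, m, b⟩ := hN q (C_le_N _ hq)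
    refine mem_img_of_mem π a (h.cJ (mem_C.2 fun j hj => ?_))
    obtain ⟨v, rfl⟩ := h.surj hj
    obtain ⟨x, y, z, k, rfl⟩ := L_dec v
    have c := W9.jv_mem x y z
    have d := hR a b _ c
    rw [← mem_C.1 hq _ (mJ.2 ⟨_, c, rfl⟩), mul_inv_cancel_right] at d
    have d' := b _ c
    rw [← ph.inj c (W9.J0_nrm m c) d, mul_inv_eq_iff_eq_mul] at d'
    rw [h.add, h.smul]
    exact (comm_mul_of ((show Commute g _ from h.jv_e.symm ▸ mem_C1.1 a).pow_right _) d').symm⟩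
  have hs : Sig3 (img π f.J) := fun K h3 hn => by
    have hK : zpowers f.e ≤ pre π K := fun z hz => mem_pre.mpr ⟨hπ.le hz, by
      rw [(hπ.ker _).2 hz]; exact one_mem _⟩
    have c := hπ.card_img hK (pre_le _ _)
    rw [img_pre_of_le (by rw [MonoidHom.range_eq_top.2 hπ.surj]; exact le_top)] at c
    have k := le_of_opc_central e3 (hK (mem_zpowers _)) le_rfl (Nrm.self _) (pre_le π K)
      (h.sig.opc fun j hj m hm => by
        obtain ⟨a, b⟩ := mem_pre.mp hm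
        have := hn _ (mem_img_of_mem π (hJ hj) hj) _ b
        rw [← map_inv, ← map_mul, ← map_mul] at this
        exact mem_pre.mpr ⟨_, this⟩) (by rwa [relIndex_eq_of_mul hK c])
    refine eq_bot_iff.2 fun q hq => ?_
    obtain ⟨g, rfl⟩ := hπ.surj q
    exact (hπ.ker g).2 (k (coe_mem_pre.2 hq))
  have key : ∀ H0 F, W9.Fr H0 F (img π f.J) → (∀ j ∈ J0, F j = φ j) →
      C1 (F c0) ≤ N (img π f.J) ∧ ∀ g, ∀ j ∈ J0, g * F σ0 * g⁻¹ ≠ F j := fun H0 F hF e => by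
    refine ⟨fun q hq => ?_, fun q j hj e' => ?_⟩
    · obtain ⟨⟨g, a⟩, rfl⟩ := hπ.surj q
      rw [e _ (by decide), mem_C1_iff_conj, ← map_inv, ← map_mul, ← map_mul, hπ.eq_iff] at hq
      obtain ⟨v, e1⟩ := h.surj (hZ hq)
      have e2 : g * f.jv (L c0) * g⁻¹ = f.jv (v + L c0) := by
        rw [h.add, e1]; exact (inv_mul_cancel_right _ _).symm
      obtain ⟨n, A, b, c⟩ := h.fus _ _ _ e2
      obtain rfl := (by decide +kernel : ∀ v : V4, v = 0 ∨ v = ev ∨ v = -ev →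
        (v + L c0) ⬝ᵥ (v + L c0) = L c0 ⬝ᵥ L c0 → v = 0) v (mZ.1 (e1 ▸ hq))
        (by rw [← c, dot_iso (h.iso n A b)])
      rw [zero_add, show L c0 = ![1, 1, 1, 0] by decide +kernel, f.jv_z] at e2
      exact (hπ.mem_N hZ hJ).2 (h.cze ⟨mem_C1_iff_conj.2 e2, a⟩)
    · have a : f.τ ∈ C1 f.e := h.jv_e ▸ (h.fix_iff h.aτ).2 (by decide +kernel)
      have b := hR a (rr (m := σ0) h.aτ (by decide +kernel))
      obtain ⟨m, c, e1⟩ := hF.memN.1 (pj.mN b)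
      have k : ∀ x ∈ J0, m * x * m⁻¹ = σ0 * x * σ0⁻¹ := fun x hx =>
        hF.conj_inj c (hF.jle hx) (hF.jle (W9.J0_nrm _ hx)) (by
          rw [e1, e x hx, e _ (W9.J0_nrm _ hx)]; exact b x hx)
      have τ3 : f.τ ^ 3 = 1 := h.eq_of_act ((h.aτ.pow 3).cast (by decide +kernel)) FD.Act.one
        (pow_mem h.ντ _) (one_mem _)
      obtain ⟨n, d, e2⟩ := (by decide +kernel : ∀ m : W, m * a0 * m⁻¹ = σ0 * a0 * σ0⁻¹ →
        m * a1 * m⁻¹ = σ0 * a1 * σ0⁻¹ → m ^ 3 = 1 → ∃ k ∈ J0, k * m * k⁻¹ = σ0) m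
        (k _ (by decide)) (k _ (by decide)) (hF.pow_eq' c (by
          rw [e1, ← map_pow, ← map_one π]; exact congrArg π (Subtype.ext τ3)))
      obtain ⟨⟨g, a'⟩, e4⟩ := hπ.surj (q * F n)
      have e5 : π ⟨g, a'⟩ * π ⟨f.τ, a⟩ * (π ⟨g, a'⟩)⁻¹ ∈ img π f.J := by
        rw [e4, ← e1]
        convert hF.mJ hj using 1
        rw [← e', ← hF.conj (hF.jle d) c e2]; group
      rw [← map_inv, ← map_mul, ← map_mul, hπ.mem_img hZ] at e5
      obtain ⟨v, e6⟩ := h.surj e5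
      exact h.nτ g 0 v 0 rfl (by simpa [f.jv_zero] using e6.symm)
  have hb : ∀ H0 : Subgroup W, (∀ m ∈ RX (fun m => f.jv (L m)) (C1 f.e), m ∈ H0) →
      N (img π f.J) ≤ RY φ H0 := fun H0 k q hq => by
    obtain ⟨g, a, rfl, m, b⟩ := hN q hq
    exact ⟨m, k m ⟨g, a, b⟩, hR a b⟩
  have ha : RX (fun m => f.jv (L m)) (C1 f.e) ≤ RK φ := fun m ⟨g, a, b⟩ => ⟨_, hR a b⟩
  have k0 : ∀ m, m ∈ HC ∨ m * r0 ∈ HC := by decide +kernel
  have top : N (img π f.J) = ⊤ := by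
    by_cases hr : r0 ∈ RX (fun m => f.jv (L m)) (C1 f.e)
    · obtain ⟨F, a, b⟩ := pj.mkFr' (H0 := HE true) (fun _ _ => W9.mT _) (fun m _ => ha (by
        rcases k0 m with e | e
        exacts [h.HC_le e, (mul_mem_cancel_right hr).1 (h.HC_le e)]))
        (hb _ fun _ _ => W9.mT _) (W9.mT _)
      exact a.caseE hs (key _ _ a b).1 (key _ _ a b).2
    · obtain ⟨F, a, b⟩ := pj.mkFr' (H0 := HC) (by decide +kernel : ∀ m ∈ W9.S0, m ∈ HC)
        (h.HC_le.trans ha) (hb _ fun m a => (k0 m).resolve_right fun e =>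
          hr ((mul_mem_cancel_left a).1 (h.HC_le e))) (by decide)
      exact a.caseC hs (key _ _ a b).1 (key _ _ a b).2
  exact fun g hg => (hπ.mem_N hZ hJ (g := ⟨g, hg⟩)).1 (top.ge (mem_top _))

end CfsgH2.T3
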