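import Cfsg.Agent.H7.Loc9
import Cfsg.Prelude.Def_Local

/-! The 3-local characterization of `S₈`: the exceptional case, conclusion. -/

set_option autoImplicit false

namespace CfsgH7
open Subgroup CfsgH5 CfsgH6 CfsgFT CfsgH8 CfsgH9 Equiv F5 F6
open scoped commutatorElement

universe u
variable {G : Type u} [Group G]

theorem transfer2 [Finite G] {X S Y : Subgroup G} (hS : SylIn 2 S X) {t : G} (ht : t ∈ S)
    (t2 : t * t = 1) (hY : ∀ g ∈ S, g * t ∈ Y ∨ g ∈ Y) (h : ∀ g ∈ X, g * t * g⁻¹ ∈ S → g * t * g⁻¹ ∉ Y) :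
    ∃ X1 ≤ X, X1.relIndex X = 2 ∧ t ∉ X1 := by
  refine thompson_in hS (inf_le_left (b := Y)) ?_ (hS.le ht) (fun g _ => by rw [t2]; simp)
    fun g hg e => h g hg e.1 e.2
  rw [inf_relIndex_left]
  exact relIndex_eq_two_iff_exists_notMem_and.mpr ⟨t, ht, by simpa using h 1 (one_mem _) (by simpa), hY⟩

theorem fstar_eq [Finite G] {ν : A5 × A5 →* G} (hν : Function.Injective ν) [hN : ν.range.Normal]
    (hsq : ∀ g, g ^ 2 ∈ ν.range) (hC : C ν.range = ⊥) {σ : G}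
    (hσ : ∀ a b, σ * ν (a, b) * σ⁻¹ = ν (b, a)) :
    (∀ K : Subgroup G, K.Normal → K ≤ ν.range → K = ⊥ ∨ K = ν.range) ∧
      Cfsg.generalizedFittingSubgroup G = ν.range := by
  have := alternatingGroup.isSimpleGroup (α := Fin 5) (by simp)
  have hz : center A5 = ⊥ := alternatingGroup.center_eq_bot (by simp)
  have hsp : ∀ a b, ν (a, b) = ν (a, 1) * ν (1, b) := fun a b => by rw [← map_mul]; simp
  have hmin : ∀ K : Subgroup G, K.Normal → K ≤ ν.range → K = ⊥ ∨ K = ν.range := by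
    intro K hK hle
    refine K.bot_or_exists_ne_one.imp_right fun ⟨m, hm, m1⟩ => le_antisymm hle ?_
    obtain ⟨a, b, a1, hab⟩ : ∃ a b, a ≠ 1 ∧ ν (a, b) ∈ K := by
      obtain ⟨⟨a, b⟩, rfl⟩ := hle hm
      by_cases ha : a = 1
      · exact ⟨b, a, fun e => m1 (by rw [ha, e]; exact map_one ν), hσ a b ▸ hK.conj_mem _ hm σ⟩
      · exact ⟨a, b, ha, hm⟩
    obtain ⟨k, hk⟩ : ∃ k, k * a * k⁻¹ * a⁻¹ ≠ 1 := by
      by_contra hc
      push Not at hc
      exact a1 (mem_bot.mp (hz.le (mem_center_iff.mpr fun k =>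
        mul_inv_eq_iff_eq_mul.mp (mul_inv_eq_one.mp (hc k)))))
    have h1 : ∀ c, ν (c, 1) ∈ K := AA.le_of_normal (f := ν.comp (MonoidHom.inl A5 A5))
      (fun c k hk => hK.conj_mem k hk _) hk (by
        have := mul_mem (hK.conj_mem _ hab (ν (k, 1))) (inv_mem hab)
        simp only [← map_inv, ← map_mul] at this
        convert this using 1
        exact congrArg ν (by simp))
    rintro _ ⟨⟨c, d⟩, rfl⟩
    rw [hsp]
    exact mul_mem (h1 c) (hσ d 1 ▸ hK.conj_mem _ (h1 d) σ)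
  have hp : commutator A5 = ⊤ := by
    refine ((inferInstance : (commutator A5).Normal).eq_bot_or_eq_top).resolve_left fun e => ?_
    have := commutator_mem_commutator (mem_top AA.ρ) (mem_top AA.γ)
    rw [← commutator_def, e, mem_bot] at this
    exact absurd this (by decide +kernel)
  have hF : Cfsg.fittingSubgroup G = ⊥ := by
    rw [Cfsg.fittingSubgroup, sSup_eq_bot]
    rintro M ⟨hM, hnil⟩
    rcases hmin (M ⊓ ν.range) inferInstance inf_le_right with e | e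
    · exact le_bot_iff.mp (hC ▸ le_C_of_inf_eq_bot (Nrm.of_normal _ _) (Nrm.of_normal _ _) e)
    · have h1 : Group.IsNilpotent A5 := nilpotent_of_mulEquiv (G := (ν.comp (MonoidHom.inl A5 A5)).range)
        (_h := nilpotent_of_le hnil (by rintro _ ⟨a, rfl⟩; exact (e.ge ⟨_, rfl⟩).1))
        (MonoidHom.ofInjective (f := ν.comp (MonoidHom.inl A5 A5))
          (hν.comp (Prod.mk_left_injective 1))).symm
      exact absurd hz (Group.IsNilpotent.center_ne_bot A5)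
  have hc : ∀ f : A5 →* A5 × A5, Function.Injective f → f.range.Normal →
      (ν.comp f).range ≤ Cfsg.layer G := fun f hf hn => by
    have e := MonoidHom.ofInjective (f := ν.comp f) (hν.comp hf)
    refine le_sSup ⟨IsSubnormal.step _ ν.range ?_ hN.isSubnormal ⟨?_⟩, ⟨?_⟩, ?_⟩
    · rintro _ ⟨a, rfl⟩; exact ⟨_, rfl⟩
    · rintro ⟨_, x, rfl⟩ ⟨a, ha⟩ ⟨_, y, rfl⟩
      obtain ⟨b, hb⟩ := hn.conj_mem _ ⟨a, rfl⟩ y
      refine ⟨b, ?_⟩
      change ν (f b) = ν y * ν x * (ν y)⁻¹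
      rw [hb, map_mul, map_mul, map_inv]
      exact congrArg (ν y * · * _) ha
    · rw [_root_.commutator_def, ← map_equiv_top e, ← map_commutator, ← _root_.commutator_def, hp]
    · have : center (ν.comp f).range = ⊥ := by
        rw [eq_bot_iff]
        intro x hx
        obtain ⟨x, rfl⟩ := e.surjective x
        rw [show x = 1 from mem_bot.mp (hz.le (mem_center_iff.mpr fun g => e.injective (by
          rw [map_mul, map_mul]; exact mem_center_iff.mp hx _))), map_one]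
        exact one_mem _
      have := e.symm.isSimpleGroup
      exact ((QuotientGroup.quotientMulEquivOfEq ‹_›).trans QuotientGroup.quotientBot).isSimpleGroup
  refine ⟨hmin, ?_⟩
  rw [Cfsg.generalizedFittingSubgroup, hF, sup_bot_eq]
  refine le_antisymm (sSup_le ?_) ?_
  · rintro K ⟨-, hK, -⟩ x hx
    have h1 : commutator G ≤ ν.range := commutator_le.mpr fun a _ b _ => by
      rw [show ⁅a, b⁆ = a ^ 2 * (a⁻¹ * b) ^ 2 * b⁻¹ ^ 2 by
        simp only [commutatorElement_def, pow_two]; group]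
      exact mul_mem (mul_mem (hsq _) (hsq _)) (hsq _)
    have h2 := mem_map_of_mem K.subtype (hK.commutator_eq_top.ge (mem_top ⟨x, hx⟩))
    rw [_root_.commutator_def, map_commutator] at h2
    exact h1 (commutator_mono le_top le_top h2)
  · rintro _ ⟨⟨a, b⟩, rfl⟩
    rw [hsp]
    refine mul_mem (hc (MonoidHom.inl _ _) (Prod.mk_left_injective 1) ⟨?_⟩ ⟨a, rfl⟩)
      (hc (MonoidHom.inr _ _) (Prod.mk_right_injective 1) ⟨?_⟩ ⟨b, rfl⟩)
    · rintro _ ⟨c, rfl⟩ g; exact ⟨g.1 * c * g.1⁻¹, by ext <;> simp⟩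
    · rintro _ ⟨c, rfl⟩ g; exact ⟨g.2 * c * g.2⁻¹, by ext <;> simp⟩

namespace S8c

def κ : A5 →* S3 × S5 := (MonoidHom.inr S3 S5).comp A5.subtype
def ω5 : A5 := sw2 2 3 3 4
def cs (a : A5) : A5 := ⟨swap 0 1 * a.1 * (swap 0 1)⁻¹, by
  rw [Perm.mem_alternatingGroup, sign_conj']; exact a.2⟩

theorem odd_cent : ∀ a : A5, a * cs a = 1 → ∃ k : A5, k ≠ 1 ∧ k ^ 3 = 1 ∧ a * cs k * a⁻¹ = k := by
  decide +kernel

namespace Cfg
variable [Finite G] {l : S3 × S5 →* G} {σ : G} (h : Cfg l σ 1)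
include h

theorem comm_g : l g0 * (σ * l g0 * σ⁻¹) = σ * l g0 * σ⁻¹ * l g0 := by
  have cj : ∀ {a b : S3 × S5} {x y : G}, g0 * a * g0⁻¹ = b → σ * l a * σ⁻¹ = x → σ * l b * σ⁻¹ = y →
      σ * l g0 * σ⁻¹ * x * (σ * l g0 * σ⁻¹)⁻¹ = y := fun e1 e2 e3 => by
    rw [← e2, ← e3, ← rel_conj l e1]; group
  have gr := cj (by decide +kernel) h.σr' h.σr'
  have gr' := cj (by decide +kernel) h.σr h.σr
  have gw := cj (by decide +kernel) h.σz h.σz
  have gs : σ * l g0 * σ⁻¹ * l s0 * (σ * l g0 * σ⁻¹)⁻¹ = l r0 * l s0 :=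
    cj (b := r1 1 * s0) (by decide +kernel) h.σs (by rw [map_mul, ← conj_mul, h.σr', h.σs])
  have a2 : l g0 * l g0 = 1 := rel_sq l (by decide +kernel)
  have b2 := conj_mul_self a2 σ
  have σg := conj_invol (x := l g0) h.σ2
  generalize hg : σ * l g0 * σ⁻¹ = g2 at gr gr' gw gs b2 σg
  have hc : ∀ x x1 x2 x3 x4 : S3 × S5, g2 * l x * g2⁻¹ = l x1 → g0 * x1 * g0⁻¹ = x2 →
      g2 * l x2 * g2⁻¹ = l x3 → g0 * x3 * g0⁻¹ = x →
      l g0 * g2 * (l g0 * g2) * l x = l x * (l g0 * g2 * (l g0 * g2)) := by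
    intro x x1 x2 x3 _ e1 e2 e3 e4
    calc _ = l g0 * (g2 * (l g0 * (g2 * l x * g2⁻¹) * (l g0)⁻¹) * g2⁻¹) * (l g0)⁻¹ *
          (l g0 * g2 * (l g0 * g2)) := by group
      _ = _ := by rw [e1, rel_conj l e2, e3, rel_conj l e4]
  have cr := hc r0 _ _ _ 1 gr (by decide +kernel) gr (by decide +kernel)
  have cr' := hc (r1 1) _ _ _ 1 gr' (by decide +kernel) gr' (by decide +kernel)
  have cs := hc s0 (r0 * s0) (r0 * r1 1 * s0) (r1 1 * s0) 1 (gs.trans (map_mul _ _ _).symm)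
    (by decide +kernel) (by
      rw [map_mul, map_mul, ← conj_mul, ← conj_mul, gr, gr', gs]
      simp only [← map_mul]
      exact congrArg l (by decide +kernel)) (by decide +kernel)
  have e1 : g2 * l g0 * g2⁻¹ = l g0 * (l g0 * g2 * (l g0 * g2)) := by
    rw [inv_eq_self b2, ← mul_assoc, ← mul_assoc, ← mul_assoc, a2, one_mul]
  have e2 : g2 * l g0 * (g2 * l g0) = (l g0 * g2 * (l g0 * g2))⁻¹ := by
    simp only [mul_inv_rev, inv_eq_self a2, inv_eq_self b2, mul_assoc]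
  have e3 : ∀ k : G, k * l w0 * k⁻¹ = l w0 → k * l g0 * k⁻¹ ≠ l g0 * l r0 := fun k f1 f2 => by
    have f3 : (k * (l g0 * l w0) * k⁻¹) ^ 5 = 1 := by
      rw [conj_pow, ← map_mul, rel_pow l (by decide +kernel)]; simp
    rw [← conj_mul, f1, f2, ← map_mul, ← map_mul, ← map_pow, map_eq_one_iff l h.inj] at f3
    exact absurd f3 (by decide +kernel)
  obtain ⟨⟨p, q⟩, e⟩ : ∃ x, l x = l g0 * g2 * (l g0 * g2) := by
    refine h.of_N ((h.conj_mem (conj_mem_of_mem_N (h.csE (mem_C1.mpr cs))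
      (left_mem_D9 _ _))).resolve_right fun e => ?_)
    have f1 : zpowers (l w0) ≤ C1 (l r0) := zpowers_le.mpr (mem_C1.mpr (rel_mul l (by decide +kernel)))
    have f2 := mem_C1.mp (f1 e)
    rw [← mem_C1_iff_conj.mp (mem_C1.mpr cr), conj_mul, conj_mul, ← map_mul, ← map_mul] at f2
    exact absurd (h.inj (mul_left_cancel (mul_right_cancel f2))) (by decide +kernel)
  rw [← e, ← map_mul, ← map_mul] at cr cr' cs
  obtain ⟨f1, f2⟩ := centA p (congrArg Prod.fst (h.inj cr)) q (congrArg Prod.snd (h.inj cs))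
    (congrArg Prod.snd (h.inj cr'))
  have f3 := inv_eq_self (rel_sq l f1)
  rw [← e] at e1 e2
  rw [f3] at e2
  have f4 : l ((p, q) * g0) = l (g0 * (p, q)) := by
    rw [map_mul, map_mul, ← e1, ← e2, inv_eq_self b2, mul_assoc, mul_assoc g2 (l g0) (l g0), a2,
      mul_one]
  rcases f2 (congrArg Prod.snd (h.inj f4)) with f | f | f | f <;> rw [f] at e e1 e2
  · rw [map_one, mul_one] at e1
    exact (mul_inv_eq_iff_eq_mul.mp e1).symm
  · exact absurd e1 (e3 _ gw)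
  · have := h.σr'
    rw [e, ← conj_mul, ← conj_mul, hg, σg, e2] at this
    exact absurd (h.inj this) (by decide +kernel)
  · refine absurd ?_ (e3 (g2 * l s0) (by
      calc _ = g2 * (l s0 * l w0 * (l s0)⁻¹) * g2⁻¹ := by group
        _ = _ := by rw [rel_conj l (show _ = w0 by decide +kernel), gw]))
    calc _ = g2 * (l s0 * l g0 * (l s0)⁻¹) * g2⁻¹ := by group
      _ = _ := by
        rw [rel_conj l (show _ = g0 * r1 1 by decide +kernel), map_mul, ← conj_mul, e1, gr']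
        simp only [← map_mul]
        exact congrArg l (by decide +kernel)

theorem comm (a b : A5) : Commute ((l.comp κ) a)
    (((MulAut.conj σ).toMonoidHom.comp (l.comp κ)) b) := by
  have gen : ∀ {f : A5 →* G} {H : Subgroup G}, f AA.g1 ∈ H → f ω5 ∈ H → ∀ x, f x ∈ H :=
    fun ha hb => A5_le ha hb (c := AA.g1 * ω5) (by rw [map_mul]; exact mul_mem ha hb)
      (by decide +kernel)
      (by decide +kernel) (by decide +kernel) (by decide +kernel) (by decide +kernel)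
      (by decide +kernel)
  have h1 : (l.comp κ) a ∈ C1 (σ * l g0 * σ⁻¹) := gen (mem_C1.mpr h.comm_g) (mem_C1.mpr (by
    change l w0 * _ = _ * l w0
    rw [← h.σz]; exact comm_conj_both (rel_mul l (by decide +kernel)))) a
  exact (mem_C1.mp (gen (H := C1 ((l.comp κ) a)) (mem_C1_comm.mp h1) (mem_C1.mpr (by
    change σ * l w0 * σ⁻¹ * _ = _ * (σ * l w0 * σ⁻¹)
    rw [h.σw]; exact rel_mul l (Prod.ext (by simp [z0, κ]) (by simp [z0, κ])))) b)).symm

theorem exists_nu : ∃ ν : A5 × A5 →* G, Function.Injective ν ∧ (∀ a, ν (a, 1) = l (1, a)) ∧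
    (∀ a b, σ * ν (a, b) * σ⁻¹ = ν (b, a)) ∧
    ∀ a b, l s0 * ν (a, b) * (l s0)⁻¹ = ν (cs a, cs b) := by
  let ν := MonoidHom.noncommCoprod _ _ h.comm
  have e : ∀ a b, ν (a, b) = l (1, a) * (σ * l (1, b) * σ⁻¹) := fun _ _ => rfl
  have e1 : ∀ a : A5, l s0 * l (1, a) * (l s0)⁻¹ = l (1, cs a) := fun a =>
    rel_conj l (Prod.ext (by simp [s0]) rfl)
  refine ⟨ν, (injective_iff_map_eq_one ν).mpr fun ⟨a, b⟩ hab => ?_,
    fun a => by rw [e, show l (1, (1 : A5)) = 1 from map_one l]; simp, fun a b => ?_, fun a b => ?_⟩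
  · rw [e, mul_eq_one_iff_eq_inv] at hab
    have h1 : ∀ k : A5, a.1 * k = k * a.1 := fun k => congrArg Prod.snd (h.inj (by
      rw [map_mul, map_mul, hab]; exact (h.comm k b).inv_right.symm.eq) :
        ((1 : S3), a.1) * (1, k.1) = (1, k.1) * (1, a.1))
    have h2 := centK a (h1 AA.g1) (h1 ω5)
    rw [h2, show l (1, 1) = 1 from map_one l, eq_comm, inv_eq_one, conj_eq_one_iff,
      map_eq_one_iff l h.inj] at hab
    exact Prod.ext (Subtype.ext h2) (Subtype.ext (congrArg Prod.snd hab))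
  · rw [e, e, ← conj_mul, conj_invol h.σ2]
    exact (h.comm b a).symm.eq
  · rw [e, e, ← conj_mul, e1, ← e1 b]
    congr 1
    have e2 : σ⁻¹ * l s0 * σ = l s0 := by
      rw [mul_assoc, ← mul_inv_eq_iff_eq_mul.mp h.σs]; group
    calc _ = σ * (σ⁻¹ * l s0 * σ) * l (1, b) * (σ⁻¹ * l s0 * σ)⁻¹ * σ⁻¹ := by group
      _ = _ := by rw [e2]; group

theorem caseE : ∃ N : Subgroup G, N.Normal ∧ Cfsg.generalizedFittingSubgroup G = N ∧
    Nonempty (N ≃* A5 × A5) ∧ (∀ K : Subgroup G, K.Normal → K ≤ N → K = ⊥ ∨ K = N) ∧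
    N.index = 4 ∧ ∀ g : G, g ^ 2 ∈ N := by
  obtain ⟨ν, νi, ν1, νσ, νs⟩ := h.exists_nu
  have ν2 : ∀ b, ν (1, b) = σ * l (1, b) * σ⁻¹ := fun b => by rw [← νσ, ν1]
  have ν0 : ν (1, 1) = 1 := map_one ν
  have νc : ∀ x a b, ν x * ν (a, b) * (ν x)⁻¹ = ν (x.1 * a * x.1⁻¹, x.2 * b * x.2⁻¹) :=
    fun x a b => rel_conj ν rfl
  have νm : ∀ a b, ν (a, b) = ν (a, 1) * ν (1, b) := fun a b => by rw [← map_mul]; simp
  have ez : ν (1, ω5) = l z0 := (ν2 _).trans h.σw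
  have er : ν (1, AA.ρ) = l r0 := (ν2 _).trans ((congrArg (σ * l · * σ⁻¹) (by decide +kernel)).trans
    h.σr')
  have er' : ν (AA.ρ, 1) = l (r1 1) := (ν1 _).trans (congrArg l (by decide +kernel))
  have sσ : σ * l s0 = l s0 * σ := mul_inv_eq_iff_eq_mul.mp h.σs
  have s2 := h.s2
  have σ2 := h.σ2
  have t2 : l s0 * σ * (l s0 * σ) = 1 := by
    rw [← pow_two, (Commute.mul_pow sσ.symm 2), pow_two, pow_two, s2, σ2, one_mul]
  obtain ⟨E, sE, σE, Ec⟩ : ∃ E : Subgroup G, l s0 ∈ E ∧ σ ∈ E ∧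
      ∀ e ∈ E, e = 1 ∨ e = l s0 ∨ e = σ ∨ e = l s0 * σ := by
    refine ⟨zpowers (l s0) ⊔ zpowers σ, mem_sup_left (mem_zpowers _), mem_sup_right (mem_zpowers _),
      fun e he => ?_⟩
    obtain ⟨a, ha, b, hb, rfl⟩ := (mem_sup_nrm (nrm_of_le_C (by
      rw [C_zpowers, zpowers_le, mem_C1, sσ]))).mp he
    rcases mem_zpowers_order_two' s2 ha with rfl | rfl <;>
      rcases mem_zpowers_order_two' σ2 hb with rfl | rfl <;> simp
  have E2 : ∀ e ∈ E, e * e = 1 := fun e he => by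
    rcases Ec e he with rfl | rfl | rfl | rfl
    exacts [one_mul _, s2, σ2, t2]
  have Eab : ∀ e ∈ E, ∀ e' ∈ E, e * e' * e⁻¹ = e' := fun e he e' he' => by
    have := E2 _ (mul_mem he he')
    rw [← mul_assoc, mul_eq_one_iff_eq_inv, inv_eq_self (E2 e' he')] at this
    rw [inv_eq_self (E2 e he), this]
  have νt : ∀ a b, l s0 * σ * ν (a, b) * (l s0 * σ)⁻¹ = ν (cs b, cs a) := fun a b => by
    rw [← νs, ← νσ a b]; group
  have cs1 : cs 1 = 1 := by decide +kernel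
  have Econj : ∀ e ∈ E, ∀ a b, ∃ a' b', e * ν (a, b) * e⁻¹ = ν (a', b') ∧
      (a = 1 ∨ b = 1 → a' = 1 ∨ b' = 1) := fun e he a b => by
    rcases Ec e he with rfl | rfl | rfl | rfl
    · exact ⟨a, b, by simp, id⟩
    · exact ⟨_, _, νs a b, Or.imp (fun e => e ▸ cs1) fun e => e ▸ cs1⟩
    · exact ⟨_, _, νσ a b, Or.symm⟩
    · exact ⟨_, _, νt a b, fun e => e.symm.imp (fun e => by rw [e, cs1]) fun e => by rw [e, cs1]⟩
  have nE : Nrm E ν.range := by
    rintro e he _ ⟨⟨a, b⟩, rfl⟩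
    obtain ⟨a', b', e', -⟩ := Econj e he a b
    exact ⟨_, e'.symm⟩
  obtain ⟨H, NH, EH, Hc⟩ : ∃ H : Subgroup G, ν.range ≤ H ∧ E ≤ H ∧
      ∀ g ∈ H, ∃ x, ∃ e ∈ E, g = ν x * e := ⟨ν.range ⊔ E, le_sup_left, le_sup_right, fun g hg => by
    obtain ⟨_, ⟨x, rfl⟩, e, he, rfl⟩ := (mem_sup_nrm' nE).mp hg
    exact ⟨x, e, he, rfl⟩⟩
  have mN : ∀ x, ν x ∈ ν.range := fun x => ⟨x, rfl⟩
  have Hconj : ∀ g ∈ H, ∀ a b, ∃ a' b', g * ν (a, b) * g⁻¹ = ν (a', b') ∧
      (a = 1 ∨ b = 1 → a' = 1 ∨ b' = 1) := fun g hg a b => by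
    obtain ⟨x, e, he, rfl⟩ := Hc g hg
    obtain ⟨a', b', e1, e2⟩ := Econj e he a b
    refine ⟨_, _, Eq.trans ?_ (νc x a' b'), fun f => (e2 f).imp ?_ ?_⟩
    · rw [← e1]; group
    all_goals rintro rfl; simp
  have nH : Nrm H ν.range := by
    rintro e he _ ⟨⟨a, b⟩, rfl⟩
    obtain ⟨a', b', e', -⟩ := Hconj e he a b
    exact ⟨_, e'.symm⟩
  have hl : ∀ x, l x ∈ H := fun x => by
    rw [show x = (x.1, 1) * (1, x.2) from Prod.ext (mul_one _).symm (one_mul _).symm, map_mul]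
    refine mul_mem (sym_le (f := l.comp (MonoidHom.inl S3 S5)) (fun i hi => ?_) x.1) ?_
    · interval_cases i
      · exact er ▸ NH (mN _)
      · change l _ ∈ H
        rw [show MonoidHom.inl S3 S5 _ = r0 * z0 by decide +kernel, map_mul, ← er, ← ez]
        exact NH (mul_mem (mN _) (mN _))
    · rcases Int.units_eq_one_or (Perm.sign x.2) with e | e
      · exact ν1 ⟨_, e⟩ ▸ NH (mN _)
      · refine (mul_mem_cancel_right (EH sE)).mp ?_
        rw [← map_mul]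
        have := NH (mN (⟨x.2 * swap 0 1, by
          rw [Perm.mem_alternatingGroup, map_mul, e]; decide⟩, 1))
        rwa [ν1] at this
  have hSE := h.se hl (EH σE)
  have n0 : ∀ g a b, g * ν (ω5, 1) * g⁻¹ = ν (a, b) → b ≠ 1 → g ∉ ν.range := by
    rintro _ a b e hb ⟨x, rfl⟩
    rw [νc] at e
    exact hb (by simpa using (congrArg Prod.snd (νi e)).symm)
  have n1 : l s0 ∉ ν.range := fun ⟨x, e⟩ => by
    have e1 := νc x AA.g1 1
    have e2 := νc x ω5 1
    rw [e, νs] at e1 e2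
    exact (by decide +kernel : ∀ a : A5, cs AA.g1 = a * AA.g1 * a⁻¹ → cs ω5 ≠ a * ω5 * a⁻¹) _
      (congrArg Prod.fst (νi e1)) (congrArg Prod.fst (νi e2))
  have n2 := n0 σ _ _ (νσ _ _) (by decide +kernel)
  have n3 := n0 _ _ _ (νt _ _) (by decide +kernel)
  obtain ⟨S, ES, hS⟩ := exists_sylIn_ge (p := 2) EH fun e => ⟨1, Subtype.ext (by
    simpa [pow_two] using E2 e e.2)⟩
  have hS0 := hS.inf_nrm NH nH
  have cN : Nat.card ν.range = 3600 := by rw [card_range_inj νi, Nat.card_prod, card_A5]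
  obtain ⟨_, ⟨-, ⟨a0, b0⟩, rfl⟩, c1, c2, cc⟩ := exists_pow_central Nat.prime_two hS0.isPGroup
    hS.isPGroup ((Nrm.self S).inf (nH.mono hS.le)) (hS0.ne_bot Nat.prime_two (by rw [cN]; norm_num))
  obtain rfl : a0 = b0 := congrArg Prod.snd (νi ((νσ a0 b0).symm.trans
    (mul_inv_eq_iff_eq_mul.mpr (cc σ (ES σE)))))
  have a1 : a0 ≠ 1 := fun e => c1 (e ▸ ν0)
  obtain ⟨k0, hk0⟩ := AA.inv_conj a0 (congrArg Prod.fst (νi (by rwa [map_mul, map_one, ← pow_two]) :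
    (a0, a0) * (a0, a0) = 1)) a1
  have uc : ∀ (g e : G) a b, e * e = 1 → a ≠ 1 → b ≠ 1 → g * e * g⁻¹ = ν (a, b) →
      ∃ k, k * e * k⁻¹ = ν (a0, a0) := fun g e a b e2 ha hb f => by
    have f1 : (a, b) * (a, b) = 1 := νi (by rw [map_mul, map_one, ← f, conj_mul_self e2])
    obtain ⟨k1, rfl⟩ := AA.inv_conj a (congrArg Prod.fst f1) ha
    obtain ⟨k2, rfl⟩ := AA.inv_conj b (congrArg Prod.snd f1) hb
    refine ⟨ν (k0 * k1⁻¹, k0 * k2⁻¹) * g, ?_⟩
    calc _ = ν (k0 * k1⁻¹, k0 * k2⁻¹) * (g * e * g⁻¹) * (ν (k0 * k1⁻¹, k0 * k2⁻¹))⁻¹ := by group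
      _ = _ := by rw [f, νc, ← hk0]; congr 2 <;> group
  have γ1 : ∀ d, ν (AA.γ, d) ≠ 1 := fun d => rel_ne νi fun e =>
    absurd (congrArg Prod.fst e) (show AA.γ ≠ 1 by decide +kernel)
  have γ3 : ν (AA.γ, 1) ^ 3 = 1 := rel_pow ν (by decide +kernel)
  have c3 : ∀ a b : A5, a = 1 ∨ b = 1 → ∃ y ∈ H, y ≠ 1 ∧ y ^ 3 = 1 ∧ y * ν (a, b) = ν (a, b) * y := by
    rintro a b (rfl | rfl)
    · exact ⟨_, NH (mN _), γ1 1, γ3, rel_mul ν (by simp)⟩
    · exact ⟨ν (1, AA.γ), NH (mN _), rel_ne νi (by decide +kernel), rel_pow ν (by decide +kernel),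
        rel_mul ν (by simp)⟩
  have hfs : ∀ g, g * l s0 * g⁻¹ ∈ H → g ∈ H := fun g hg => by
    obtain ⟨y, hy, y1, y3, e⟩ : ∃ y ∈ H, y ≠ 1 ∧ y ^ 3 = 1 ∧
        y * (g * l s0 * g⁻¹) = g * l s0 * g⁻¹ * y := by
      have x2 := conj_mul_self s2 g
      have swp : ∀ d, g * l s0 * g⁻¹ * ν (AA.γ, 1) * (g * l s0 * g⁻¹)⁻¹ = ν (1, d) →
          ∃ y ∈ H, y ≠ 1 ∧ y ^ 3 = 1 ∧ y * (g * l s0 * g⁻¹) = g * l s0 * g⁻¹ * y := fun d e => by
        have e1 : Commute (ν (AA.γ, 1)) (ν (1, d)) := rel_mul ν (by simp)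
        refine ⟨_, NH (mN _), γ1 d, ?_, (mul_inv_eq_iff_eq_mul.mp ?_).symm⟩
        · rw [νm, e1.mul_pow, ← e, conj_pow, γ3]; simp
        · rw [νm, ← conj_mul, e, e1.eq, ← e, conj_invol x2]
      obtain ⟨⟨a, b⟩, e, he, f⟩ := Hc _ hg
      rcases Ec e he with f' | f' | f' | f' <;> rw [f'] at f
      · rw [mul_one] at f
        by_cases hab : a = 1 ∨ b = 1
        · exact f ▸ c3 a b hab
        push Not at hab
        obtain ⟨k, hk⟩ := uc g _ a b s2 hab.1 hab.2 f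
        have f1 := card_dvd_of_le (H := S) (K := C1 (ν (a0, a0))) fun g hg => mem_C1.mpr (cc g hg)
        rw [← hk, card_C1_conj] at f1
        have f2 := f1.trans (card_dvd_of_le h.csE)
        obtain ⟨Q, hQ, f3⟩ := exists_le_card_eq_pow Nat.prime_two (r := 4) (M := ν.range)
          (by rw [cN]; norm_num)
        have f4 := hS0.card_le hQ (isPGroup_of_card_eq f3)
        obtain ⟨j, f5⟩ := exists_card_eq_pow Nat.prime_two hS.isPGroup
        rw [h.card_N, f5] at f2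
        have f6 : j ≤ 4 := by
          by_contra hj
          exact absurd ((pow_dvd_pow 2 (show 5 ≤ j by omega)).trans f2) (by norm_num)
        exact absurd ((eq_of_le_of_card_le inf_le_left (by
          rw [f5]; exact (Nat.pow_le_pow_right (by norm_num) f6).trans (f3 ▸ f4))).ge (ES sE)).2 n1
      · have f1 : ν ((a, b) * (cs a, cs b)) = ν 1 := by
          rw [map_mul, ← νs, map_one, ← x2, f, inv_eq_self s2]; group
        obtain ⟨k, k1, k3, f2⟩ := odd_cent a (congrArg Prod.fst (νi f1))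
        refine ⟨ν (k, 1), NH (mN _), rel_ne νi fun e => k1 (congrArg Prod.fst e),
          rel_pow ν (by simp [k3]), (mul_inv_eq_iff_eq_mul.mp ?_).symm⟩
        calc _ = ν (a, b) * (l s0 * ν (k, 1) * (l s0)⁻¹) * (ν (a, b))⁻¹ := by rw [f]; group
          _ = _ := by rw [νs, νc, f2, cs1]; simp
      · refine swp (b * AA.γ * b⁻¹) ?_
        calc _ = ν (a, b) * (σ * ν (AA.γ, 1) * σ⁻¹) * (ν (a, b))⁻¹ := by rw [f]; group
          _ = _ := by rw [νσ, νc]; simp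
      · refine swp (b * cs AA.γ * b⁻¹) ?_
        calc _ = ν (a, b) * (l s0 * σ * ν (AA.γ, 1) * (l s0 * σ)⁻¹) * (ν (a, b))⁻¹ := by
              rw [f]; group
          _ = _ := by rw [νt, νc, cs1]; simp
    obtain ⟨k, hk, e'⟩ := hSE.fusion Nat.prime_three (u := l s0) (hl z0) h.b9.a1 h.b9.a3
      (rel_mul l (by decide +kernel)) hy y1 y3 e
    refine (mul_mem_cancel_left (inv_mem hk)).mp (h.of_w hl (EH σE) (conj_mem_of_mem_N
      (h.csE (mem_C1_iff_conj.mpr ?_)) (left_mem_D9 _ _)))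
    calc k⁻¹ * g * l s0 * (k⁻¹ * g)⁻¹ = k⁻¹ * (g * l s0 * g⁻¹) * k := by group
      _ = _ := by rw [← e']; group
  have hS' : SylIn 2 S ⊤ := sylIn_of_sylIn_N Nat.prime_two (hS.of_le (le_inf le_top (le_N _))
    fun g hg => hfs g (hS.le (conj_mem_of_mem_N hg.2 (ES sE))))
  have ufus : ∀ (g e : G) a b, e * l s0 = l s0 * e → e * e = 1 → a ≠ 1 → b ≠ 1 →
      g * e * g⁻¹ = ν (a, b) → ∃ k ∈ H, k * e * k⁻¹ = ν (a0, a0) := fun g e a b es e2 ha hb f => by
    obtain ⟨k, hk⟩ := uc g e a b e2 ha hb f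
    obtain ⟨m, hm, hle⟩ := (hS'.of_le (K := C1 (ν (a0, a0))) (fun g hg => mem_C1.mpr (cc g hg))
      le_top).exists_le_cj (X := zpowers (k * l s0 * k⁻¹))
      (zpowers_le.mpr (mem_C1.mpr (hk ▸ comm_conj_both es.symm)))
      (CfsgFT.isPGroup_zpowers (k := 1) (by rw [pow_one, pow_two, conj_mul_self s2]))
    refine ⟨m⁻¹ * k, hfs _ (by convert hS.le (mem_cj.mp (hle (mem_zpowers _))) using 1; group), ?_⟩
    calc _ = m⁻¹ * (k * e * k⁻¹) * m⁻¹⁻¹ := by group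
      _ = _ := by rw [hk, mem_C1_iff_conj.mp (inv_mem hm)]
  obtain ⟨G1, -, i1, s1⟩ := transfer2 (Y := ν.range ⊔ zpowers σ) hS' (ES sE) s2 (fun g hg => by
      obtain ⟨x, e, he, rfl⟩ := Hc g (hS.le hg)
      have f1 : ν x ∈ ν.range ⊔ zpowers σ := mem_sup_left (mN x)
      have f2 : ν x * σ ∈ ν.range ⊔ zpowers σ := mul_mem f1 (mem_sup_right (mem_zpowers σ))
      rcases Ec e he with f' | f' | f' | f' <;> rw [f']
      · exact Or.inr (by rwa [mul_one])
      · exact Or.inl (by rwa [mul_assoc, s2, mul_one])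
      · exact Or.inr f2
      · exact Or.inl (by rwa [← sσ, mul_assoc, mul_assoc, s2, mul_one]))
    fun g _ hg f => by
      obtain ⟨x, e, he, rfl⟩ := Hc g (hfs g (hS.le hg))
      rw [show ν x * e * l s0 * (ν x * e)⁻¹ = ν x * (e * l s0 * e⁻¹) * (ν x)⁻¹ by group,
        Eab e he _ sE, mul_mem_cancel_right (inv_mem (mem_sup_left (mN x))),
        mul_mem_cancel_left (mem_sup_left (mN x))] at f
      obtain ⟨n, hn, y, hy, f'⟩ := (mem_sup_nrm' (nE.mono (zpowers_le.mpr σE))).mp f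
      rcases mem_zpowers_order_two' σ2 hy with f | f <;> rw [f] at f'
      · exact n1 (by rwa [f', mul_one])
      · exact n3 (by rwa [f', mul_assoc, σ2, mul_one])
  have Nle : ∀ X Y : Subgroup G, Y ≤ X → Y.relIndex X = 2 → ν.range ≤ X → ν.range ≤ Y := by
    rintro X Y hY hi hX _ ⟨⟨a, b⟩, rfl⟩
    rw [νm]
    exact mul_mem (le_of_idx2_alt le_rfl (ν.comp (MonoidHom.inl _ _)) hY hi (fun _ => hX (mN _)) a)
      (le_of_idx2_alt le_rfl (ν.comp (MonoidHom.inr _ _)) hY hi (fun _ => hX (mN _)) b)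
  have N1 := Nle _ _ le_top i1 le_top
  obtain ⟨t, tE, tG, tN, tz, ht⟩ : ∃ t ∈ E, t ∈ G1 ∧ t ∉ ν.range ∧
      l z0 * l w0 * t = t * (l z0 * l w0) ∧ ∀ e ∈ E, e ∈ G1 → e = 1 ∨ e = t := by
    have f1 : l z0 * l w0 * σ = σ * (l z0 * l w0) := (mul_inv_eq_iff_eq_mul.mp (by
      rw [← conj_mul, h.σz, h.σw, h.b9.comm])).symm
    have f2 := idx2_mul le_top i1 (mem_top (l s0)) (mem_top σ)
    by_cases hσ : σ ∈ G1
    · refine ⟨σ, σE, hσ, n2, f1, fun e he f => ?_⟩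
      rcases Ec e he with rfl | rfl | rfl | rfl <;> tauto
    · refine ⟨_, mul_mem sE σE, by tauto, n3, comm_mul_of (mem_C.mp h.sC _
        (mul_mem (left_mem_D9 _ _) (right_mem_D9 _ _))) f1, fun e he f => ?_⟩
      rcases Ec e he with rfl | rfl | rfl | rfl <;> tauto
  have ht' : ∀ g ∈ H, g ∈ G1 → g * t ∈ ν.range ∨ g ∈ ν.range := fun g hg f => by
    obtain ⟨x, e, he, rfl⟩ := Hc g hg
    rcases ht e he ((mul_mem_cancel_left (N1 (mN x))).mp f) with rfl | rfl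
    · exact Or.inr (by simp)
    · exact Or.inl (by rw [mul_assoc, E2 e he]; simp)
  have hS1 := hS'.inf_nrm le_top (idx2_nrm le_top i1)
  obtain ⟨G2, le2, i2, s2'⟩ := transfer2 (Y := ν.range) hS1 ⟨ES tE, tG⟩ (E2 t tE)
    (fun g hg => ht' g (hS.le hg.1) hg.2) (by
      rintro g - - ⟨⟨a, b⟩, f⟩
      obtain ⟨k, hk, f'⟩ : ∃ k ∈ H, k * t * k⁻¹ ∈ ν.range := by
        by_cases hab : a = 1 ∨ b = 1
        · obtain ⟨y, hy, y1, y3, e⟩ := c3 a b hab
          obtain ⟨k, hk, e'⟩ := hSE.fusion Nat.prime_three (mul_mem (hl z0) (hl w0))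
            h.b9.mul_ne_one h.b9.mul_cube tz hy y1 y3 (f ▸ e)
          exact ⟨k, hk, _, f.trans e'.symm⟩
        · push Not at hab
          obtain ⟨k, hk, e⟩ := ufus g t a b (mul_inv_eq_iff_eq_mul.mp (Eab t tE _ sE)) (E2 t tE)
            hab.1 hab.2 f.symm
          exact ⟨k, hk, _, e.symm⟩
      exact tN (by simpa [mul_assoc] using nH _ (inv_mem hk) _ f'))
  have N2 := Nle _ _ le2 i2 N1
  have HG : ∀ g ∈ H, g ∈ G2 → g ∈ ν.range := fun g hg f => (ht' g hg (le2 f)).resolve_left fun e =>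
    s2' ((mul_mem_cancel_left f).mp (N2 e))
  have hr : (ν.codRestrict G2 fun x => N2 (mN x)).range = ν.range.subgroupOf G2 :=
    le_antisymm (fun _ ⟨x, e⟩ => ⟨x, congrArg Subtype.val e⟩) fun _ ⟨x, e⟩ => ⟨x, Subtype.ext e⟩
  have hu : ∀ g a b a' b', a' = 1 ∨ b' = 1 → ν (a', b') * l s0 = l s0 * ν (a', b') →
      (a', b') * (a', b') = 1 → a ≠ 1 → b ≠ 1 → g * ν (a', b') * g⁻¹ ≠ ν (a, b) := by
    intro g a b a' b' f1 f2 f3 ha hb e
    obtain ⟨k, hk, e'⟩ := ufus g _ a b f2 (rel_sq ν f3) ha hb e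
    obtain ⟨c, d, f4, f5⟩ := Hconj k hk a' b'
    have := νi (f4.symm.trans e')
    exact (f5 f1).elim (fun e => a1 ((congrArg Prod.fst this).symm.trans e))
      fun e => a1 ((congrArg Prod.snd this).symm.trans e)
  have hA : AA.Hyp (ν.codRestrict G2 fun x => N2 (mN x)) := ⟨fun _ _ e => νi (congrArg Subtype.val e),
    by
      rw [hr]
      exact fun x hx x1 x3 g hg => HG g (hSE x (NH hx) (fun e => x1 (Subtype.ext e))
        (congrArg Subtype.val x3) g (NH hg)) g.2,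
    by
      rw [hr]
      have f := hS1.inf_nrm le2 (idx2_nrm le2 i2)
      exact fun e => f.not_dvd_relIndex (e.trans (relIndex_dvd_of_le_left _
        fun g hg => HG g (hS.le hg.1.1) hg.2)),
    fun g a b ha hb => ⟨fun e => hu g a b AA.ρ 1 (Or.inr rfl)
      (by rw [er']; exact rel_mul l (by decide +kernel)) (by decide +kernel) ha hb
      (congrArg Subtype.val e), fun e => hu g a b 1 AA.ρ (Or.inl rfl)
      (by rw [er]; exact rel_mul l (by decide +kernel)) (by decide +kernel) ha hb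
      (congrArg Subtype.val e)⟩⟩
  have e2 : ν.range = G2 := le_antisymm N2 fun g hg => by
    obtain ⟨x, e⟩ := hA.main ⟨g, hg⟩
    exact ⟨x, congrArg Subtype.val e⟩
  have top : ∀ g, g ∈ H := by
    have f : ∀ g ∈ G1, g ∈ H := fun g hg => by
      by_cases f : g ∈ G2
      · exact NH (e2.ge f)
      · exact (mul_mem_cancel_right (EH tE)).mp (NH (e2.ge ((idx2_mul le2 i2 hg tG).mpr
          (iff_of_false f s2'))))
    intro g
    by_cases f' : g ∈ G1
    · exact f g f'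
    · exact (mul_mem_cancel_right (EH sE)).mp (f _ ((idx2_mul le_top i1 (mem_top _) (mem_top _)).mpr
        (iff_of_false f' s1)))
  have hN : ν.range.Normal := ⟨fun n hn g => nH g (top g) n hn⟩
  have hsq : ∀ g, g ^ 2 ∈ ν.range := fun g => by
    obtain ⟨x, e, he, rfl⟩ := Hc g (top g)
    rw [show (ν x * e) ^ 2 = ν x * (e * ν x * e⁻¹) * (e * e) by rw [pow_two]; group, E2 e he, mul_one]
    exact mul_mem (mN x) (nE e he _ (mN x))
  obtain ⟨f1, f2⟩ := fstar_eq νi hsq (eq_bot_iff.mpr fun g hg => by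
    have f1 := fun x => (mem_C.mp hg _ (mN x)).symm
    obtain ⟨p, q, rfl, p3⟩ := h.of_C (ez ▸ f1 _)
    have f2 := f1 (AA.g1, 1)
    have f3 := f1 (ω5, 1)
    have f4 := f1 (1, AA.ρ)
    rw [ν1, ← map_mul, ← map_mul] at f2 f3
    rw [er, ← map_mul, ← map_mul] at f4
    rw [centK q (congrArg Prod.snd (h.inj f2)) (congrArg Prod.snd (h.inj f3)),
      (by decide +kernel : ∀ p : S3, p ^ 3 = 1 → p * τ = τ * p → p = 1) p p3
        (congrArg Prod.fst (h.inj f4))]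
    exact map_one l) νσ
  refine ⟨_, hN, f2, ⟨(MonoidHom.ofInjective νi).symm⟩, f1, ?_, hsq⟩
  rw [e2, ← relIndex_mul_index le2, i2, ← relIndex_top_right, i1]

end Cfg
end S8c
end CfsgH7
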