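import Cfsg.Agent.H7.Loc11
import Cfsg.Agent.H7.Loc10
import Cfsg.Agent.H9.Loc3D
import Cfsg.Agent.H6.ST3

/-! Generic local lemmas for the recognition of `A₉` and `S₉`. -/

set_option autoImplicit false

namespace CfsgH7
open Subgroup CfsgH5 CfsgH6 CfsgFT CfsgH8 CfsgH9 Equiv
open scoped commutatorElement

universe u
variable {G : Type u} [Group G] [Finite G]

theorem class_cover {S Φ : Subgroup G} (h2 : Φ ≤ S) (h6 : Φ.relIndex S = 4) (h7 : D S ≤ Φ) {t : G}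
    (ht : t ∈ S) (h4 : Nat.card ↥(S ⊓ C1 t) ≤ 4) : ∀ u ∈ Φ, ∃ g ∈ S, g * t * g⁻¹ = u * t := by
  classical
  have := Fintype.ofFinite G
  have h9 : (Finset.univ.filter (· ∈ S)).image (fun g => 1 * (g * t * g⁻¹) * t⁻¹) =
      Finset.univ.filter (· ∈ Φ) := by
    refine Finset.eq_of_subset_of_card_le (fun u hu => ?_) ?_
    · simp only [Finset.mem_image, Finset.mem_filter, Finset.mem_univ, true_and] at hu ⊢
      obtain ⟨g, hg, rfl⟩ := hu
      rw [one_mul]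
      exact h7 (commutator_mem_commutator hg ht)
    · have := Finset.card_le_mul_card_image (f := fun g => 1 * (g * t * g⁻¹) * t⁻¹)
        (Finset.univ.filter (· ∈ S)) 4 (fun c _ => (card_fiber_conj_le t 1 t⁻¹ c _
          (fun g hg => (Finset.mem_filter.mp hg).2)).trans h4)
      rw [card_filter_mem, ← card_mul_relIndex h2, h6] at this
      rw [card_filter_mem]
      omega
  intro u hu
  have : u ∈ Finset.univ.filter (· ∈ Φ) := by simpa using hu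
  rw [← h9] at this
  simp only [Finset.mem_image, Finset.mem_filter, Finset.mem_univ, true_and] at this
  obtain ⟨g, hg, e⟩ := this
  exact ⟨g, hg, by rw [← e]; group⟩

/-- transfer for an involution whose centralizer has a four-group as Sylow subgroup. -/
theorem tf4 {s r : G} (s2 : s * s = 1) (r2 : r * r = 1) (hc : s * r = r * s) (s1 : s ≠ 1)
    (r1 : r ≠ 1) (rs : r ≠ s) (h8 : ¬ 8 ∣ Nat.card (C1 s)) (hsq : ∀ g : G, g * g ≠ s)
    (hn : ∀ g : G, g * s * g⁻¹ ≠ s * r) : ∃ Y : Subgroup G, Y.relIndex ⊤ = 2 ∧ s ∉ Y := by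
  have := Fact.mk Nat.prime_two
  have hi : zpowers s ⊓ zpowers r = ⊥ := eq_bot_iff.mpr fun u hu => by
    rcases mem_zpowers_order_two' s2 hu.1 with rfl | rfl
    · exact one_mem _
    · rcases mem_zpowers_order_two' r2 hu.2 with e | e
      exacts [absurd e s1, absurd e.symm rs]
  have hN : Nrm (zpowers s) (zpowers r) := nrm_of_le_C (by rw [C_zpowers]; exact zpowers_le.mpr (mem_C1.mpr hc))
  have hV : Nat.card ↥(zpowers s ⊔ zpowers r) = 4 := by
    rw [card_sup_of_inf_eq_bot (Or.inl hN) hi, Nat.card_zpowers, Nat.card_zpowers,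
      orderOf_eq_two s2 s1, orderOf_eq_two r2 r1]
  obtain ⟨S, hVS, hS⟩ := exists_sylIn_ge le_top (isPGroup_of_card_eq (p := 2) (k := 2) hV)
  have ms : s ∈ S := hVS (mem_sup_left (mem_zpowers s))
  have mr : r ∈ S := hVS (mem_sup_right (mem_zpowers r))
  have h4 : ∀ g : G, Nat.card ↥(S ⊓ C1 (g * s * g⁻¹)) ≤ 4 := fun g => by
    obtain ⟨k, hk⟩ := exists_card_eq_pow Nat.prime_two (hS.isPGroup.to_le
      (inf_le_left : S ⊓ C1 (g * s * g⁻¹) ≤ S))
    have h1 := card_dvd_of_le (inf_le_right : S ⊓ C1 (g * s * g⁻¹) ≤ _)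
    rw [card_C1_conj, hk] at h1
    rw [hk]
    by_contra h2
    have : 3 ≤ k := by
      by_contra h3
      have : k ≤ 2 := by omega
      interval_cases k <;> omega
    exact h8 ((pow_dvd_pow 2 this).trans h1)
  have h5 : Nat.card ↥(S ⊓ C1 s) = 4 := le_antisymm (by simpa using h4 1) (hV ▸ card_le_of_le
    (le_inf hVS (sup_le (zpowers_le.mpr (self_mem_C1 s)) (zpowers_le.mpr (mem_C1.mpr hc.symm)))))
  obtain ⟨Φ, S₀, b1, b2, b3, b4, b5, b6, b7, b8, b9⟩ :=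
    exists_idx2_of_cent_four hS.isPGroup ms s1 s2 h5
  have h7 : D S ≤ Φ := (ab_quo_iff b5).mp
    (ab_of_card_dvd_sq Nat.prime_two (by rw [card_quo b5, b4]; rfl))
  have cov : ∀ x ∈ S, (∃ g, g * s * g⁻¹ = x) → ∀ u ∈ Φ, ∃ g, g * s * g⁻¹ = u * x := by
    rintro _ hx ⟨g, rfl⟩ u hu
    obtain ⟨k, -, e⟩ := class_cover (b1.trans b2) b4 h7 hx (h4 g) u hu
    exact ⟨k * g, by rw [← e]; group⟩
  have hΦ : ∀ g : G, g * s * g⁻¹ ∉ Φ := fun g hg => by
    obtain ⟨k, e⟩ := cov _ (b2 (b1 hg)) ⟨g, rfl⟩ _ (inv_mem hg)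
    exact conj_ne_one s1 k (e.trans (inv_mul_cancel _))
  obtain ⟨u, hu, hu0⟩ : ∃ u ∈ S, u ∉ S₀ := by
    by_contra hc
    push Not at hc
    rw [relIndex_eq_one.mpr hc] at b3
    omega
  have key : ∀ u ∈ S, u ∉ S₀ → (∃ Y : Subgroup G, Y.relIndex ⊤ = 2 ∧ s ∉ Y) ∨
      ∀ φ ∈ Φ, ∃ g, g * s * g⁻¹ = φ * u := fun u hu hu0 => by
    have uu : u * u ∈ Φ := (b9 _ (idx2_sq b2 b3 hu)).resolve_right fun e => by
      obtain ⟨g, -, e'⟩ := b8 _ e
      rw [mul_assoc (u * u), s2, mul_one] at e'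
      exact hsq (g⁻¹ * u * g) (by
        calc _ = g⁻¹ * (u * u) * g := by group
          _ = s := by rw [← e']; group)
    let Y : Subgroup G :=
      { carrier := {x | x ∈ Φ ∨ x * u ∈ Φ}
        one_mem' := Or.inl (one_mem _)
        mul_mem' := by
          rintro x y (hx | hx) (hy | hy)
          · exact Or.inl (mul_mem hx hy)
          · exact Or.inr (by simpa [mul_assoc] using mul_mem hx hy)
          · exact Or.inr (by simpa [mul_assoc] using mul_mem hx (b5.conj' hu hy))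
          · exact Or.inl (by
              simpa [mul_assoc] using mul_mem hx (b5.conj' hu (mul_mem hy (inv_mem uu) |>
                b5 u hu _ |> b5.conj' hu)))
        inv_mem' := by
          rintro x (hx | hx)
          · exact Or.inl (inv_mem hx)
          · exact Or.inr (by simpa [mul_assoc] using mul_mem (b5 u hu _ (inv_mem hx)) uu) }
    by_cases hY : ∀ g ∈ (⊤ : Subgroup G), g * s * g⁻¹ ∈ S → g * s * g⁻¹ ∉ Y
    · obtain ⟨X1, -, e1, e2⟩ := transfer2 hS ms s2 (Y := Y) (fun g hg => by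
        by_cases h0 : g ∈ S₀
        · exact (b9 g h0).symm.imp Or.inl Or.inl
        · have h1 := (idx2_mul b2 b3 hg hu).mpr (iff_of_false h0 hu0)
          refine (b9 _ h1).symm.imp (fun e => Or.inr ?_) Or.inr
          have := mul_mem e (h7 (commutator_mem_commutator (inv_mem ms) (inv_mem hu)))
          simpa [commutatorElement_def, mul_assoc] using this) hY
      exact Or.inl ⟨X1, e1, e2⟩
    · push Not at hY
      obtain ⟨g, -, h1, h2 | h2⟩ := hY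
      · exact absurd h2 (hΦ g)
      · refine Or.inr fun φ hφ => ?_
        obtain ⟨k, e⟩ := cov _ h1 ⟨g, rfl⟩ _ (mul_mem (mul_mem hφ uu) (inv_mem h2))
        exact ⟨k, by rw [e]; group⟩
  have hus : u * s ∉ S₀ := fun e => hu0 (by simpa [mul_assoc, s2] using mul_mem e b6)
  refine (key u hu hu0).elim id fun k1 => (key _ (mul_mem hu ms) hus).elim id fun k2 => ?_
  exfalso
  have all : ∀ x ∈ S, x ∉ Φ → ∃ g, g * s * g⁻¹ = x := fun x hx hx' => by
    by_cases h0 : x ∈ S₀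
    · obtain ⟨g, -, e⟩ := b8 _ ((b9 x h0).resolve_left hx')
      exact ⟨g, by rw [e, mul_assoc, s2, mul_one]⟩
    · have h1 := (idx2_mul b2 b3 hx (inv_mem hu)).mpr (iff_of_false h0 (by simpa using hu0))
      rcases b9 _ h1 with e | e
      · simpa using k1 _ e
      · obtain ⟨g, e'⟩ := k2 _ (mul_mem e (h7 (commutator_mem_commutator (inv_mem ms) hu)))
        exact ⟨g, by simp [e', commutatorElement_def, mul_assoc, s2]⟩
  have sq : ∀ x ∈ S, x ∉ Φ → x * x = 1 := fun x hx hx' => by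
    obtain ⟨g, rfl⟩ := all x hx hx'
    exact conj_mul_self s2 g
  have hz : s * r ∈ Φ := by_contra fun e => let ⟨g, e'⟩ := all _ (mul_mem ms mr) e; hn g e'
  have inv : ∀ w ∈ S, w ∉ Φ → ∀ φ ∈ Φ, w * φ = φ⁻¹ * w := fun w hw hw' φ hφ => by
    have := sq _ (mul_mem (b2 (b1 hφ)) hw) fun e => hw' (by simpa using mul_mem (inv_mem hφ) e)
    calc w * φ = φ⁻¹ * (φ * w * (φ * w)) * w⁻¹ := by group
      _ = _ := by rw [this, mul_one, inv_eq_self (sq w hw hw')]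
  have hu' : u ∉ Φ := fun e => hu0 (b1 e)
  have hus' : u * s ∉ Φ := fun e => hus (b1 e)
  have cs : ∀ x ∈ S, x ∉ S₀ → x * s = s * x := fun x hx hx' => by
    have e := sq _ (mul_mem hx ms) fun e => hx' (by simpa [mul_assoc, s2] using mul_mem (b1 e) b6)
    rw [← inv_eq_self e, mul_inv_rev, inv_eq_self s2, inv_eq_self (sq x hx fun e => hx' (b1 e))]
  have h10 : S ≤ S ⊓ C1 s := fun x hx => ⟨hx, mem_C1.mpr (by
    by_cases h0 : x ∈ S₀
    · have := cs _ (mul_mem hx hu) fun e => hu0 (by simpa using mul_mem (inv_mem h0) e)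
      rw [mul_assoc, cs u hu hu0, ← mul_assoc, ← mul_assoc] at this
      exact mul_right_cancel this
    · exact cs x hx h0)⟩
  have h11 := card_le_of_le h10
  rw [h5, ← card_mul_relIndex (b1.trans b2), b4] at h11
  have h12 : Φ = ⊥ := eq_bot_of_card_le Φ (by omega)
  rw [h12, mem_bot, mul_eq_one_iff_eq_inv, inv_eq_self r2] at hz
  exact rs hz.symm

/-- the section version of `tf4`. -/
theorem tf4_sec {X V : Subgroup G} (hV : V ≤ X) (hn : Nrm X V) {s r : G} (ms : s ∈ X) (mr : r ∈ X)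
    (s2 : s * s = 1) (r2 : r * r = 1) (hc : s * r = r * s) (s1 : s ∉ V) (r1 : r ∉ V)
    (rs : r * s ∉ V) (h1 : ∀ g ∈ X, g * s * g⁻¹ * s ∈ V → g * s = s * g)
    (h8 : ¬ 8 * Nat.card V ∣ Nat.card ↥(X ⊓ C1 s)) (hVs : V ≤ C1 s)
    (hsq : ∀ g ∈ X, g * g * s ∉ V) (hnc : ∀ g ∈ X, g * s * g⁻¹ * (r * s) ∉ V) :
    ∃ Y, V ≤ Y ∧ Y ≤ X ∧ Y.relIndex X = 2 ∧ s ∉ Y := by
  obtain ⟨Q, _, _, π, hπ⟩ := exists_sec hV hn
  have si := inv_eq_self s2
  obtain ⟨Y, e1, e2⟩ := tf4 (s := π ⟨s, ms⟩) (r := π ⟨r, mr⟩)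
    (by rw [← map_mul, hπ.ker]; exact show s * s ∈ V from s2 ▸ one_mem _)
    (by rw [← map_mul, hπ.ker]; exact show r * r ∈ V from r2 ▸ one_mem _)
    (by rw [← map_mul, ← map_mul]; exact congrArg π (Subtype.ext hc))
    (fun e => s1 ((hπ.ker _).1 e)) (fun e => r1 ((hπ.ker _).1 e))
    (fun e => rs (by simpa [si] using hπ.eq_iff.1 e)) (fun e => h8 (by
      have h2 : img π (X ⊓ C1 s) = C1 (π ⟨s, ms⟩) := by
        ext y
        obtain ⟨g, rfl⟩ := hπ.surj y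
        rw [hπ.mem_img (le_inf hV hVs), mem_C1_iff_conj, ← map_inv, ← map_mul, ← map_mul, hπ.eq_iff]
        exact ⟨fun e => by simp [mem_C1.1 e.2], fun e => ⟨g.2, mem_C1.mpr (h1 g g.2 (by simpa [si] using e))⟩⟩
      rw [← hπ.card_img (le_inf hV hVs) inf_le_left, h2, mul_comm]
      exact mul_dvd_mul_left _ e))
    (fun g e => by
      obtain ⟨g, rfl⟩ := hπ.surj g
      rw [← map_mul, hπ.eq_iff] at e
      exact hsq g g.2 (by simpa [si] using e))
    (fun g e => by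
      obtain ⟨g, rfl⟩ := hπ.surj g
      rw [← map_inv, ← map_mul, ← map_mul, ← map_mul, hπ.eq_iff] at e
      exact hnc g g.2 (by simpa [si, inv_eq_self r2] using e))
  refine ⟨(Y.comap π).map X.subtype, fun v hv => ⟨⟨v, hV hv⟩, ?_, rfl⟩, map_subtype_le _, ?_,
    fun ⟨g, hg, e⟩ => e2 (by rwa [show (⟨s, ms⟩ : X) = g from Subtype.ext e.symm])⟩
  · change π _ ∈ Y
    rw [(hπ.ker _).2 hv]; exact one_mem _
  · rw [relIndex, subgroupOf, comap_map_eq_self_of_injective (subtype_injective X),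
      index_comap_of_surjective _ hπ.surj, ← relIndex_top_right, e1]

set_option synthInstance.maxSize 2048 in
theorem A5_two : ∀ a y : A5, a ^ 3 = 1 → a ≠ 1 → y * a * y⁻¹ = a⁻¹ → ∃ g : A5,
    (g * g = 1 ∧ (a * g) ^ 5 = 1 ∧ a * g ≠ 1 ∧ g * y = y * g) ∧ ∀ k : A5,
      (k * k = 1 ∧ (a * k) ^ 5 = 1 ∧ a * k ≠ 1 ∧ k * y = y * k) → k = g ∨ k = g * y := by
  decide +kernel

/-- a section with a self-centralizing element of order three, normalized by a group of order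
nine. -/
theorem ft3B {X Z : Subgroup G} {a b : G} (hab : B9 a b) (ha : a ∈ X) (hb : b ∈ N X) (hZ : Z ≤ X)
    (hc : ∀ g ∈ X, ∀ z ∈ Z, g * z = z * g) (hZ2 : IsPGroup 2 Z)
    (hC : ∀ g ∈ X, g * a = a * g → g ∈ Z ∨ g * a⁻¹ ∈ Z ∨ g * a ∈ Z)
    (h7 : ∀ y ∈ D9 a b, y ≠ 1 → ∀ z ∈ X, z * y = y * z → orderOf z ≠ 7) :
    (∀ g ∈ X, ∃ m ∈ Opc 3 X, NX a (m⁻¹ * g)) ∨
      ((∃ y ∈ D9 a b, y ≠ 1 ∧ ∃ z ∈ X, orderOf z = 5 ∧ z * y = y * z) ∧
        ∀ y ∈ X, y * a * y⁻¹ = a⁻¹ → y * b = b * y → ∃ g ∈ X, g * b = b * g ∧ g * g ∈ Opc 3 X ∧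
          (a * g) ^ 5 ∈ Opc 3 X ∧ a * g ∉ Opc 3 X ∧ g * y * g⁻¹ * y⁻¹ ∈ Opc 3 X) := by
  haveI : Fact (Nat.Prime 2) := ⟨Nat.prime_two⟩
  haveI : Fact (Nat.Prime 3) := ⟨Nat.prime_three⟩
  obtain ⟨k, hk⟩ := IsPGroup.iff_card.1 hZ2
  have h3 : ¬ 3 ∣ Nat.card Z := by
    rw [hk]; exact fun h => absurd (Nat.prime_three.dvd_of_dvd_pow h) (by norm_num)
  have hbn : Nrm (zpowers b) X := nrm_of_le_N (zpowers_le.mpr hb)
  have hX : NormalIn X (X ⊔ zpowers b) := ⟨le_sup_left, (Nrm.self X).sup_left hbn⟩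
  have hi : X.relIndex (X ⊔ zpowers b) ∣ 3 := by
    rw [relIndex_sup (Or.inr hbn), ← hab.orderOf_b, ← Nat.card_zpowers]
    exact relIndex_dvd_card' _ _
  have hD : D9 a b ≤ X ⊔ zpowers b := D9_le (mem_sup_left ha) (mem_sup_right (mem_zpowers b))
  have key : ¬ 9 ∣ Nat.card X → ∀ q : ℕ, q.Prime → q ≠ 3 → ∀ P, SylIn q P X → Nat.card P = q →
      ¬ 9 ∣ (q - 1) * (N P).relIndex X → ∃ y ∈ D9 a b, y ≠ 1 ∧ ∃ z ∈ X, orderOf z = q ∧
        z * y = y * z := fun h9 q hq q3 P hP cP h => by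
    obtain ⟨y, hy, y1, z, hz, ho, e⟩ := exists_cent_in hq hX hP cP (sylIn_of_not_dvd hD hab.isPGroup
      fun e => h9 (by
        have h1 := card_mul_relIndex hD
        have h2 := card_mul_relIndex hX.le
        rw [hab.card] at h1
        obtain ⟨c, e⟩ := e
        rcases (Nat.dvd_prime Nat.prime_three).mp hi with e' | e' <;> rw [e'] at h2 <;>
          rw [e] at h1 <;> omega)) hab.card h
    refine ⟨y, hy, y1, z, mem_of_pow_mem_of_coprime' (n := 3) (by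
      rw [ho]; exact (Nat.coprime_primes hq Nat.prime_three).mpr q3) ?_, ho, e⟩
    obtain ⟨c, e'⟩ := hi
    rw [e', pow_mul]
    exact pow_mem (pow_relIndex_mem' hz hX.nrm) c
  obtain ⟨M, hM, h1 | ⟨h1, f, hf, hfk⟩ | h1⟩ := ft3_section hZ hc h3 ha hab.a1 hab.a3 hC
  · exact Or.inl fun g hg => let ⟨m, hm, e⟩ := h1 g hg
      ⟨m, le_Opc_of Nat.prime_three hM.le2 hM.nrm hM.not3 hm, e⟩
  · right
    have hM2 : IsPGroup 2 M := fun n => by
      obtain ⟨j, hj⟩ := hZ2 ⟨_, h1 n n.2⟩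
      exact ⟨j + 1, Subtype.ext (by
        rw [coe_pow, pow_succ', pow_mul]; exact congrArg Subtype.val hj)⟩
    obtain ⟨l, hl⟩ := IsPGroup.iff_card.1 hM2
    have h2 : M.relIndex X = 60 := by
      have : M.subgroupOf X = f.ker := by ext g; exact (hfk g).symm
      rw [relIndex, this, index_ker, MonoidHom.range_eq_top.2 hf, card_top, card_alt5]
    have h4 := card_mul_relIndex hM.le2
    rw [hl, h2] at h4
    obtain ⟨P, hP⟩ := exists_sylIn 5 X
    refine ⟨key hM.not9 5 Nat.prime_five (by norm_num) P hP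
      (card_syl_of (m := 12) Nat.prime_five (by norm_num) (by norm_num) hP h4.symm)
      fun h => hM.not9 (((Nat.Coprime.dvd_mul_left (by norm_num)).1 h).trans (relIndex_dvd_card' _ _)),
      fun y hy e1 e2 => ?_⟩
    have hO : Opc 3 X = M := by
      refine le_antisymm (fun g hg => ?_) (le_Opc_of Nat.prime_three hM.le2 hM.nrm hM.not3)
      have := alternatingGroup.isSimpleGroup (α := Fin 5) (by simp)
      have hn : (((Opc 3 X).subgroupOf X).map f).Normal :=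
        ((normalIn_Opi _ _).nrm.normal_subgroupOf).map f hf
      rcases hn.eq_bot_or_eq_top with e | e
      · exact (hfk ⟨g, Opc_le 3 X hg⟩).1 (mem_bot.1 (e.le ⟨_, hg, rfl⟩))
      · have h5 := card_map_dvd ((Opc 3 X).subgroupOf X) f
        rw [e, card_top, card_alt5, Nat.card_congr (subgroupOfEquivOfLe (Opc_le 3 X)).toEquiv] at h5
        exact absurd (dvd_trans (by norm_num) h5) (CfsgFT.not_dvd_card_Opc Nat.prime_three X)
    have hbM : Nrm (zpowers b) M := hO ▸ hbn.Opi _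
    rw [hO]
    have eqi : ∀ u v : X, f u = f v ↔ (u : G) * (v : G)⁻¹ ∈ M := fun u v => by
      rw [← mul_inv_eq_one, ← map_inv, ← map_mul, hfk]; rfl
    have hP : ∀ g : X, (f g * f g = 1 ∧ (f ⟨a, ha⟩ * f g) ^ 5 = 1 ∧ f ⟨a, ha⟩ * f g ≠ 1 ∧
        f g * f ⟨y, hy⟩ = f ⟨y, hy⟩ * f g) ↔ ((g : G) * g ∈ M ∧ (a * g) ^ 5 ∈ M ∧ a * g ∉ M ∧
          g * y * (g : G)⁻¹ * y⁻¹ ∈ M) := fun g => by
      rw [← map_mul, ← map_mul, ← map_pow, ← map_mul, ← map_mul, ne_eq, hfk, hfk, hfk, eqi]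
      simp [mul_assoc]
    obtain ⟨g, hg, hu⟩ := A5_two (f ⟨a, ha⟩) (f ⟨y, hy⟩) (rel_pow f (Subtype.ext hab.a3))
      (fun e => hab.a1 (eq_one_of_pow_of_not_dvd Nat.prime_three ((hfk _).1 e) hab.a3 hM.not3))
      (by rw [← map_inv f ⟨a, ha⟩]; exact rel_conj f (Subtype.ext e1))
    obtain ⟨g, rfl⟩ := hf g
    have hβ : ∀ g : X, ∃ g' : X, (g' : G) = b * g * b⁻¹ := fun g => ⟨⟨_, hbn b (mem_zpowers b) g g.2⟩, rfl⟩
    choose β hβ using hβ
    have hM' : ∀ x, b * x * b⁻¹ ∈ M ↔ x ∈ M := fun x =>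
      ⟨fun e => by simpa [mul_assoc] using hbM.conj' (mem_zpowers b) e, hbM b (mem_zpowers b) x⟩
    have ba : b * a * b⁻¹ = a := by rw [← hab.comm]; group
    have by' : b * y * b⁻¹ = y := by rw [← e2]; group
    have hβP : ∀ g : X, ((g : G) * g ∈ M ∧ (a * g) ^ 5 ∈ M ∧ a * g ∉ M ∧
        g * y * (g : G)⁻¹ * y⁻¹ ∈ M) → ((β g : G) * β g ∈ M ∧ (a * β g) ^ 5 ∈ M ∧ a * β g ∉ M ∧
        β g * y * (β g : G)⁻¹ * y⁻¹ ∈ M) := fun g e => by
      rw [hβ, ← ba, ← by']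
      simpa only [conj_mul, conj_pow, conj_inv, hM'] using e
    have hβe : ∀ u v : X, f (β u) = f (β v) ↔ f u = f v := fun u v => by
      rw [eqi, eqi, hβ, hβ, conj_inv, conj_mul, hM']
    have h5 : β (β (β g)) = g := Subtype.ext (by 
      rw [hβ, hβ, hβ]
      calc _ = b ^ 3 * g * (b ^ 3)⁻¹ := by simp only [pow_three', mul_inv_rev, mul_assoc]
        _ = _ := by rw [hab.b3]; group)
    have h6 : f (β g) = f g := by
      rcases hu _ ((hP _).2 (hβP _ ((hP g).1 hg))) with e | e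
      · exact e
      rcases hu _ ((hP _).2 (hβP _ (hβP _ ((hP g).1 hg)))) with e' | e'
      · rw [← hβe, h5] at e'; exact e'.symm
      · rw [← hβe, e', e]
    obtain ⟨m, hm, e⟩ := exists_cent_of_comm_mem hbM (by
      rw [hl, Nat.card_zpowers, hab.orderOf_b]; exact Nat.Coprime.pow_left _ (by norm_num))
      (Or.inl (solvable_of_isPGroup Nat.prime_two hM2)) (x := g) fun c hc => by
        rcases mem_zpowers_three hab.b3 hc with rfl | rfl | rfl
        · simp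
        · have := (eqi _ _).1 h6.symm
          simpa [hβ, commutatorElement_def, mul_assoc] using this
        · refine (hM' _).1 ?_
          simpa [hβ, commutatorElement_def, mul_assoc] using (eqi _ _).1 h6
    have h7 : f (⟨m, hM.le2 hm⟩⁻¹ * g) = f g := by rw [map_mul, map_inv, (hfk _).2 hm]; simp
    rw [← h7] at hg
    exact ⟨_, mul_mem (inv_mem (hM.le2 hm)) g.2, by rw [C_zpowers] at e; exact mem_C1.1 e, (hP _).1 hg⟩
  · exfalso
    have h7' : Nat.Prime 7 := by norm_num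
    haveI : Fact (Nat.Prime 7) := ⟨h7'⟩
    have h4 := card_mul_relIndex hZ
    rw [hk, h1] at h4
    obtain ⟨P, hP⟩ := exists_sylIn 7 X
    have h5 : (N P).relIndex X ∣ 168 := by
      rw [← h1]
      exact relIndex_dvd_of_le_left _ (fun z hz => C_le_N P
        (mem_C.2 fun p hp => hc p (hP.le hp) z hz))
    have h6 := card_sylow_modEq_one 7 X
    rw [hP.toSylow.card_eq_index_normalizer,
      show normalizer ((hP.toSylow : Sylow 7 X) : Set X) = (N P).subgroupOf X by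
        rw [subgroupOf_normalizer_eq hP.le]; rfl] at h6
    change (N P).relIndex X ≡ 1 [MOD 7] at h6
    obtain ⟨y, hy, y1, z, hz, ho, e⟩ := key hM.not9 7 h7' (by norm_num) P hP
      (card_syl_of (m := 24) h7' (by norm_num) (by norm_num) hP h4.symm) (by
        generalize (N P).relIndex X = n at h5 h6
        have := Nat.le_of_dvd (by norm_num) h5
        unfold Nat.ModEq at h6
        intro h9
        obtain ⟨j, rfl⟩ : 3 ∣ n := by omega
        have : j ≤ 56 := by omega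
        interval_cases j <;> omega)
    exact h7 y hy y1 z hz e ho

theorem le_of_opc_central {X K : Subgroup G} {b : G} (b3 : b ^ 3 = 1) (hb : b ∈ K) (hK : K ≤ X)
    (hn : Nrm X K) (hX : X ≤ C1 b) (hO : Opc 3 X = ⊥) (h3 : ¬ 3 ∣ (zpowers b).relIndex K) :
    K ≤ zpowers b := by
  have := Fact.mk Nat.prime_three
  have hp : IsPGroup 3 (zpowers b) := fun g => ⟨1, Subtype.ext (by
    obtain ⟨g, n, rfl⟩ := g
    simp only [pow_one, coe_pow]
    rw [← zpow_natCast, ← zpow_mul, mul_comm, zpow_mul, zpow_natCast, b3, one_zpow]; rfl)⟩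
  have hS := sylIn_of_not_dvd (zpowers_le.mpr hb) hp h3
  have hP := hS.pNil_of_le_C Nat.prime_three fun g hg => by rw [C_zpowers]; exact hX (hK hg.1)
  have h1 : hP.compl ≤ ⊥ := hO ▸ le_Opc_of Nat.prime_three (hP.compl_le.trans hK) (hP.nrm_compl hn)
    ((Nat.Prime.coprime_iff_not_dvd Nat.prime_three).mp (hP.coprime_card_compl Nat.prime_three).symm)
  exact (hS.2.2 K le_rfl (fun g => let ⟨k, e⟩ := hP.pow_mem_compl Nat.prime_three g g.2
    ⟨k, Subtype.ext (h1 e)⟩) hS.le).le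

/-- Smith-Tyrer in a section. -/
theorem st_sec {X Z E : Subgroup G} {t : G} (hZ : Z ≤ E) (hE : E ≤ X) (hn : Nrm X Z)
    (h9 : Z.relIndex E = 9) (h3 : ∀ x ∈ E, x ^ 3 ∈ Z) (ht : t ∈ X)
    (hi : ∀ x ∈ E, t * x * t⁻¹ * x ∈ Z) (hab : ∀ x ∈ E, ∀ y ∈ E, x * y * x⁻¹ * y⁻¹ ∈ Z)
    (hN : ∀ g ∈ X, g ∈ N E → g ∈ E ∨ g * t ∈ E)
    (hO : ∀ K, Z ≤ K → K ≤ X → Nrm X K → ¬ 3 ∣ Z.relIndex K → K ≤ E) : X ≤ N E := by
  have := Fact.mk Nat.prime_three
  obtain ⟨Q, _, _, π, h⟩ := exists_sec (hZ.trans hE) hn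
  have c9 : Nat.card (img π E) = 9 := by
    have h1 := h.card_img hZ hE
    rw [← card_mul_relIndex hZ, h9] at h1
    exact Nat.eq_of_mul_eq_mul_left Nat.card_pos h1
  have e3 : ∀ y ∈ img π E, y ^ 3 = 1 := fun y hy => by
    obtain ⟨y, rfl⟩ := h.surj y
    rw [← map_pow, h.ker]
    exact h3 _ ((h.mem_img hZ).1 hy)
  have ab : Ab (img π E) := ab_iff.mpr fun x hx y hy => by
    obtain ⟨x, rfl⟩ := h.surj x
    obtain ⟨y, rfl⟩ := h.surj y
    rw [← map_mul, ← map_mul, h.eq_iff]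
    simpa [mul_assoc] using hab _ ((h.mem_img hZ).1 hx) _ ((h.mem_img hZ).1 hy)
  have i1 : ∀ x ∈ img π E, π ⟨t, ht⟩ * x * (π ⟨t, ht⟩)⁻¹ = x⁻¹ := fun x hx => by
    obtain ⟨x, rfl⟩ := h.surj x
    rw [← map_inv, ← map_mul, ← map_mul, ← map_inv, h.eq_iff]
    simpa using hi _ ((h.mem_img hZ).1 hx)
  have hN' : ∀ g ∈ N (img π E), g ∈ img π E ∨ g * π ⟨t, ht⟩ ∈ img π E := fun g hg => by
    obtain ⟨g, rfl⟩ := h.surj g
    rw [← map_mul, h.mem_img hZ, h.mem_img hZ]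
    exact hN g g.2 ((h.mem_N hZ hE).1 hg)
  have i2 : ∀ g, g * π ⟨t, ht⟩ ∈ img π E → ∀ x ∈ img π E, g * x * g⁻¹ = x⁻¹ := fun g hg x hx => by
    have e := ab.comm hg (inv_mem hx)
    calc g * x * g⁻¹ = g * (π ⟨t, ht⟩ * x⁻¹ * (π ⟨t, ht⟩)⁻¹) * g⁻¹ := by
          rw [i1 _ (inv_mem hx), inv_inv]
      _ = g * π ⟨t, ht⟩ * x⁻¹ * (g * π ⟨t, ht⟩)⁻¹ := by group
      _ = _ := by rw [e]; group
  have hI : CfsgSZ.Inv2 3 (img π E) := ⟨by norm_num, sylIn_of_sq (isPGroup_of_card_eq (k := 2) c9) le_top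
    fun g _ hg => Or.inl (by
      rcases hN' g hg with e | e
      · exact pow_mem e 2
      · have e1 := mul_mem e (conj_mem_of_mem_N hg e)
        have e2 := i2 g e _ e
        rcases hN' _ (mul_mem hg hg) with e' | e'
        · rwa [pow_two]
        · exfalso
          obtain ⟨x, hx, x1⟩ := (img π E).bot_or_exists_ne_one.resolve_left fun e => by
            rw [e, card_bot] at c9; omega
          have e4 := i2 (g * g) e' x hx
          rw [show g * g * x * (g * g)⁻¹ = g * (g * x * g⁻¹) * g⁻¹ by group, i2 g e x hx,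
            i2 g e _ (inv_mem hx), inv_inv] at e4
          exact x1 (eq_one_of_sq_cube (mul_eq_one_iff_eq_inv.mpr e4) (e3 x hx))), ab,
    fun n hn => (hN' n hn).imp (fun e x hx => by rw [ab.comm e hx]; group) (i2 n), _, i1⟩
  have h1 := hI.normal_sup fun e => by
    obtain ⟨⟨x, hx⟩, e⟩ := e.exists_ofOrder_eq_natCard
    rw [c9, ← orderOf_coe] at e
    have := orderOf_dvd_of_pow_eq_one (e3 x hx)
    change orderOf x = 9 at e
    rw [e] at this
    omega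
  have h2 : Opc 3 (⊤ : Subgroup Q) ≤ img π E := by
    have h4 : Z ≤ pre π (Opc 3 ⊤) := fun z hz => ⟨⟨z, hE (hZ hz)⟩, by
      change π _ ∈ Opc 3 ⊤
      rw [(h.ker _).2 hz]; exact one_mem _, rfl⟩
    have h5 : pre π (Opc 3 (⊤ : Subgroup Q)) ≤ X := map_subtype_le _
    have h6 : img π (pre π (Opc 3 ⊤)) = Opc 3 ⊤ :=
      img_pre_of_le (by rw [MonoidHom.range_eq_top.2 h.surj]; exact le_top)
    rw [← h6]
    refine img_mono π (hO _ h4 h5 (nrm_pre_of_img le_rfl ((normalIn_Opi _ _).nrm.mono le_top))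
      fun e => CfsgFT.not_dvd_card_Opc Nat.prime_three (⊤ : Subgroup Q) ?_)
    have h7 := h.card_img h4 h5
    rw [h6, ← card_mul_relIndex h4] at h7
    rwa [Nat.eq_of_mul_eq_mul_left Nat.card_pos h7]
  rw [sup_eq_left.mpr h2] at h1
  exact fun g hg => (h.mem_N hZ hE (g := ⟨g, hg⟩)).1 (by
    change _ ∈ normalizer _
    rw [normalizer_eq_top]; trivial)

open E7 in
/-- a section isomorphic to `S₆` by a non-central subgroup of order three. -/
theorem d8_nsec {p q s t τ a : G} (h : Tup p q s t) {X : Subgroup G} (a3 : a ^ 3 = 1) (a1 : a ≠ 1)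
    (ma : a ∈ X) (hc : X ≤ N (zpowers a)) (mp : p ∈ X) (ms : s ∈ X)
    (mτ : τ ∈ X) (h1 : τ * τ = 1) (h2 : τ * p * τ⁻¹ = q) (h3 : τ * s * τ⁻¹ = t)
    (hi : D9 p q ⊓ zpowers a = ⊥) (sa : s * a * s⁻¹ = a⁻¹) (pa : p * a = a * p)
    (hN : ∀ g ∈ X, g ∈ N (D9 p q ⊔ zpowers a) →
      ∃ w ∈ [1, s, t, s * t, τ, s * τ, t * τ, s * t * τ], g * w⁻¹ ∈ D9 p q ⊔ zpowers a)
    (hC : ∀ y ∈ D9 p q, y ≠ 1 → ∀ g ∈ X, g * y * g⁻¹ * y⁻¹ ∈ zpowers a →
      g ∈ N (D9 p q ⊔ zpowers a))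
    (hL : ∀ g ∈ X, g * a = a * g → g ^ 3 ∈ zpowers a → g ^ 3 = 1) :
    X ≤ N (D9 p q ⊔ zpowers a) ∨ ∃ z, E7.S6 s (s * p) z (t * q) t ∧ z * a * z⁻¹ = a⁻¹ ∧
      ∀ g ∈ X, ∃ ζ ∈ zpowers a, ∃ k ∈ K6 s (s * p) z (t * q) t, g = ζ * k := by
  have hZ : zpowers a ≤ X := zpowers_le.mpr ma
  generalize hZ' : zpowers a = Z at hZ hc hi hN hC hL ⊢
  obtain ⟨Q, _, _, π, hπ⟩ := exists_sec hZ (nrm_of_le_N hc)
  have mq : q ∈ X := h2 ▸ mul_mem (mul_mem mτ mp) (inv_mem mτ)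
  have mt : t ∈ X := h3 ▸ mul_mem (mul_mem mτ ms) (inv_mem mτ)
  have hE : D9 p q ⊔ Z ≤ X := sup_le (D9_le mp mq) hZ
  let P : X := ⟨p, mp⟩
  let R : X := ⟨q, mq⟩
  let S : X := ⟨s, ms⟩
  let T : X := ⟨t, mt⟩
  let U : X := ⟨τ, mτ⟩
  have hb : ∀ y ∈ D9 p q, y ∈ Z → y = 1 := fun y e1 e2 => mem_bot.1 (hi ▸ mem_inf.2 ⟨e1, e2⟩)
  have hT : Tup (π P) (π R) (π S) (π T) := by
    refine ⟨?_, ?_, ?_, fun e => h.p1 (hb _ (left_mem_D9 p q) ((hπ.ker P).1 e)), fun e => ?_, ?_, ?_,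
      ?_, ?_, ?_, ?_, ?_⟩
    on_goal 4 =>
      obtain ⟨n, e⟩ := mem_zpowers_iff.1 e
      rw [← map_zpow, hπ.eq_iff] at e
      exact h.ind (mul_inv_eq_one.1 (hb _ (mul_mem (zpow_mem (left_mem_D9 p q) n)
        (inv_mem (right_mem_D9 p q))) e) ▸ zpow_mem (mem_zpowers p) n)
    all_goals simp only [← map_mul, ← map_pow]
    all_goals first
      | exact congrArg π (Subtype.ext (by first | exact h.pq | exact h.st | exact h.sq | exact h.tp))
      | exact (congrArg π (Subtype.ext (by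
          first | exact h.p3 | exact h.q3 | exact h.ss | exact h.tt | exact h.sp |
            exact h.tq))).trans (map_one π)
  have hD0 : img π (D9 p q ⊔ Z) = img π (D9 p q) := by
    rw [img_sup π (D9_le mp mq) hZ, sup_eq_left]
    intro y hy
    obtain ⟨g, hg, hg', e⟩ := mem_img'.1 hy
    rw [← e, (hπ.ker _).2 hg]; exact one_mem _
  have hD : img π (D9 p q ⊔ Z) = D9 (π P) (π R) := by
    rw [hD0, D9, D9, img_sup π (zpowers_le.2 mp) (zpowers_le.2 mq),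
      img_zpowers π mp, img_zpowers π mq]
  rcases hT.d8_core (τ := π U) (by rw [← map_mul, hπ.ker]; exact show τ * τ ∈ _ from h1 ▸ one_mem _)
    (by rw [← map_inv, ← map_mul, ← map_mul]; exact congrArg π (Subtype.ext h2))
    (by rw [← map_inv, ← map_mul, ← map_mul]; exact congrArg π (Subtype.ext h3)) (fun g hg => by
      obtain ⟨g, rfl⟩ := hπ.surj g
      rw [← hD, hπ.mem_N le_sup_right hE] at hg
      obtain ⟨w, hw, e⟩ := hN g g.2 hg
      obtain ⟨w, hw', rfl⟩ : ∃ w' ∈ [1, S, T, S * T, U, S * U, T * U, S * T * U], (w' : G) = w :=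
        List.mem_map.1 hw
      refine ⟨π w, by simpa using List.mem_map_of_mem (f := π) hw', ?_⟩
      rwa [← hD, ← map_inv, ← map_mul, hπ.mem_img le_sup_right]) (fun y hy y1 g hg => by
      obtain ⟨g, rfl⟩ := hπ.surj g
      rw [← hD, hπ.mem_N le_sup_right hE]
      rw [← hD, hD0] at hy
      obtain ⟨y', hy1, hy', e⟩ := mem_img'.1 hy
      subst e
      rw [mem_C1_iff_conj, ← map_inv, ← map_mul, ← map_mul, hπ.eq_iff] at hg
      exact hC y' hy1 (fun e => y1 (by simp only [e]; exact map_one π)) g g.2 hg) with h4 | ⟨⟨φ⟩⟩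
  · exact Or.inl fun g hg => (hπ.mem_N le_sup_right hE (g := ⟨g, hg⟩)).1 (by
      rw [hD]
      change _ ∈ normalizer _
      rw [normalizer_eq_top]; trivial)
  right
  obtain ⟨z, hz, hK⟩ := exists_z_of_perm φ hT
  have nx : ∀ g ∈ X, g * a * g⁻¹ = a ∨ g * a * g⁻¹ = a⁻¹ := fun g hg =>
    (mem_zpowers_three a3 (hZ' ▸ conj_mem_of_mem_N (hc hg) (hZ' ▸ mem_zpowers a))).resolve_left
      (conj_ne_one a1 g)
  have cji : ∀ g x y : G, g * x * g⁻¹ = a⁻¹ ∨ x = a⁻¹ → (g * a * g⁻¹ = a ∨ g * a * g⁻¹ = a⁻¹) →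
      y * a * y⁻¹ = a⁻¹ → g * y * g⁻¹ * a * (g * y * g⁻¹)⁻¹ = a⁻¹ := fun g _ y _ e1 e2 => by
    have e3 : y * a⁻¹ * y⁻¹ = a := by rw [← conj_inv, e2, inv_inv]
    rcases e1 with e1 | e1
    · calc _ = g * (y * (g⁻¹ * (g * a * g⁻¹) * g) * y⁻¹) * g⁻¹ := by rw [e1]; group
        _ = (g * a * g⁻¹)⁻¹ := by rw [show g⁻¹ * (g * a * g⁻¹) * g = a by group, e2]; group
        _ = _ := by rw [e1]
    · calc _ = g * (y * (g⁻¹ * (g * a * g⁻¹)⁻¹ * g) * y⁻¹) * g⁻¹ := by rw [e1]; group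
        _ = g * a * g⁻¹ := by rw [show g⁻¹ * (g * a * g⁻¹)⁻¹ * g = a⁻¹ by group, e3]
        _ = _ := e1
  obtain ⟨w, hw⟩ := hπ.surj (π S * π P * z)
  have e4 : π (w * (S * P) * w⁻¹) = z := by
    rw [map_mul, map_mul, map_inv, hw, map_mul, _root_.mul_inv_rev, inv_eq_of_mul_eq_one_right hz.cc,
      inv_eq_of_mul_eq_one_right hz.bb, ← mul_left_inj z, hz.cc, ← hz.bc, pow_three']
    simp only [mul_assoc]
  have e5 : S * P * (S * P) = 1 := Subtype.ext h.sp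
  have e6 : w * (S * P) * w⁻¹ * (w * (S * P) * w⁻¹) = 1 := by rw [conj_mul, e5]; simp
  have spa : s * p * a * (s * p)⁻¹ = a⁻¹ := by rw [mul_assoc s p, pa, ← sa]; group
  have e7 : ((w * (S * P) * w⁻¹ : X) : G) * a * ((w * (S * P) * w⁻¹ : X) : G)⁻¹ = a⁻¹ :=
    cji _ a⁻¹ _ (Or.inr rfl) (nx w w.2) spa
  generalize w * (S * P) * w⁻¹ = y at e4 e6 e7
  have mZ : ∀ u v : X, π u * π v = π v * π u → (u : G) * v * (u : G)⁻¹ * (v : G)⁻¹ ∈ zpowers a :=
    fun u v e => by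
      rw [← map_mul, ← map_mul, hπ.eq_iff, ← hZ'] at e
      simpa [mul_assoc] using e
  have ai : ∀ g : G, g * a * g⁻¹ = a⁻¹ → ∀ ζ ∈ zpowers a, g * ζ * g⁻¹ = ζ⁻¹ := fun g e ζ hζ => by
    rcases mem_zpowers_three a3 hζ with rfl | rfl | rfl
    · simp
    · exact e
    · rw [← conj_inv, e]
  have z3 : ∀ ζ ∈ zpowers a, ζ * ζ = ζ⁻¹ := fun ζ hζ => by
    have : ζ ^ 3 = 1 := by rcases mem_zpowers_three a3 hζ with rfl | rfl | rfl <;> simp [a3]
    exact eq_inv_of_mul_eq_one_left (by rw [← this, pow_three'])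
  -- correct `y` to commute with `s`
  obtain ⟨y, e4, e6, e7, e8⟩ : ∃ y : X, π y = z ∧ (y : G) * y = 1 ∧ y * a * (y : G)⁻¹ = a⁻¹ ∧
      s * y = y * s := by
    have k1 := mZ S y (e4 ▸ hz.ac)
    have k2 : (y : G) * y = 1 := congrArg Subtype.val e6
    obtain ⟨ζ, hζ⟩ : ∃ ζ, ζ = s * y * s⁻¹ * (y : G)⁻¹ := ⟨_, rfl⟩
    change s * y * s⁻¹ * (y : G)⁻¹ ∈ _ at k1
    rw [← hζ] at k1
    have k3 := ai _ e7 _ k1
    have k4 := ai _ sa _ k1
    have k5 := z3 _ k1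
    have k6 : s * y = ζ * y * s := by rw [hζ]; group
    refine ⟨⟨ζ⁻¹, hZ (hZ' ▸ inv_mem k1)⟩ * y, by
      rw [map_mul, (hπ.ker _).2 (hZ' ▸ inv_mem k1), one_mul, e4], ?_, ?_, ?_⟩
    · change ζ⁻¹ * y * (ζ⁻¹ * y) = 1
      calc _ = ζ⁻¹ * (y * ζ * (y : G)⁻¹)⁻¹ * (y * y) := by group
        _ = 1 := by rw [k3, k2]; group
    · change ζ⁻¹ * y * a * (ζ⁻¹ * y)⁻¹ = a⁻¹
      calc _ = ζ⁻¹ * (y * a * (y : G)⁻¹) * ζ := by group
        _ = _ := by
          rw [e7]; rcases mem_zpowers_three a3 k1 with rfl | rfl | rfl <;> group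
    · change s * (ζ⁻¹ * y) = ζ⁻¹ * y * s
      calc _ = (s * ζ * s⁻¹)⁻¹ * (s * y) := by group
        _ = _ := by rw [k4, k6, inv_inv, ← k5]; group
  subst e4
  have ta : t * a * t⁻¹ = a⁻¹ := h3 ▸ cji _ a⁻¹ _ (Or.inr rfl) (nx τ mτ) sa
  have qa : q * a = a * q := by
    rcases nx τ mτ with e | e
    · rw [← h2, ← e]; exact comm_conj_both pa
    · rw [← h2, ← inv_inv a, ← e, conj_inv]; exact comm_conj_both (Commute.inv_right pa)
  have e9 : (y : G) * t = t * y := by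
    have k1 := mZ T y hz.ce.symm
    obtain ⟨ζ, hζ⟩ : ∃ ζ, ζ = t * y * t⁻¹ * (y : G)⁻¹ := ⟨_, rfl⟩
    change t * y * t⁻¹ * (y : G)⁻¹ ∈ _ at k1
    rw [← hζ] at k1
    have k3 := ai _ sa _ k1
    have k4 : s * ζ * s⁻¹ = ζ := by
      rw [hζ]
      calc _ = s * t * y * (s * t)⁻¹ * (s * y * s⁻¹)⁻¹ := by group
        _ = _ := by rw [h.st, e8, mul_assoc t, e8]; group
    have k5 : ζ = 1 := by
      have := z3 _ k1
      rw [← k3, k4] at this
      simpa using this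
    rw [k5, eq_comm, mul_inv_eq_one, mul_inv_eq_iff_eq_mul] at hζ
    exact hζ.symm
  have cub : ∀ u v : X, (u : G) * a * (u : G)⁻¹ = a⁻¹ → (v : G) * a * (v : G)⁻¹ = a⁻¹ →
      (π u * π v) ^ 3 = 1 → ((u : G) * v) ^ 3 = 1 := fun u v k1 k2 k3 => by
    rw [← map_mul, ← map_pow, hπ.ker] at k3
    refine hL _ (mul_mem u.2 v.2) (mul_inv_eq_iff_eq_mul.mp ?_) k3
    calc _ = u * (v * a * (v : G)⁻¹) * (u : G)⁻¹ := by group
      _ = _ := by rw [k2, ← conj_inv, k1, inv_inv]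
  have m6 := mem_K6 s (s * p) y (t * q) t
  refine ⟨y, h.s6 e6 e8 e9 (cub (S * P) y spa e7 (by rw [map_mul]; exact hz.bc))
    (cub y (T * R) e7 (by
      change t * q * a * (t * q)⁻¹ = a⁻¹
      rw [mul_assoc t q, qa, ← ta]; group) (by rw [map_mul]; exact hz.cd)), e7, fun g hg => ?_⟩
  obtain ⟨k, hk, hk', e⟩ := mem_img'.1 (K6_le (K := img π (K6 s (s * p) y (t * q) t))
    (mem_img_of_mem π ms m6.1) (by rw [← map_mul]; exact mem_img_of_mem π (S * P).2 m6.2.1)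
    (mem_img_of_mem π y.2 m6.2.2.1) (by rw [← map_mul]; exact mem_img_of_mem π (T * R).2 m6.2.2.2.1)
    (mem_img_of_mem π mt m6.2.2.2.2) (hK.ge (mem_top (π ⟨g, hg⟩))))
  exact ⟨_, hπ.eq_iff.1 e.symm, k, hk, by simp⟩

end CfsgH7
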