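import Cfsg.Agent.H7.V3Def

/-! S3424: arithmetic of the parameters. -/

set_option autoImplicit false

namespace CfsgV3

open CfsgU3

universe u

variable {q r d m : ℕ}

namespace Par

variable (h : Par q r d m)
include h

theorem d_cases : (d = 1 ∧ q % 3 ≠ 2) ∨ (d = 3 ∧ q % 3 = 2) := by
  rw [h.hd]
  rcases (Nat.dvd_prime Nat.prime_three).mp (Nat.gcd_dvd_left 3 (q + 1)) with e | e
  · refine .inl ⟨e, fun f => ?_⟩
    have : 3 ∣ Nat.gcd 3 (q + 1) := Nat.dvd_gcd dvd_rfl (by omega)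
    omega
  · have := e ▸ Nat.gcd_dvd_right 3 (q + 1)
    exact .inr ⟨e, by omega⟩

theorem d_pos : 0 < d := by have := h.d_cases; omega

theorem d_le : d ≤ 3 := by have := h.d_cases; omega

theorem d_dvd : d ∣ q + 1 := h.hd ▸ Nat.gcd_dvd_right 3 (q + 1)

theorem r_dvd : r ∣ q := by
  obtain ⟨k, rfl⟩ := h.pw
  have := h.q3
  exact dvd_pow_self r fun e => by simp [e] at this

theorem r_ne (e : d = 3) : r ≠ 3 := fun f => by
  have := f ▸ h.r_dvd
  have := h.d_cases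
  omega

theorem odd (hr : r ≠ 2) : Odd q := by
  obtain ⟨k, rfl⟩ := h.pw
  exact (h.pr.odd_of_ne_two hr).pow

/-- the defining equation over `ℤ` -/
theorem hz : (d : ℤ) * m = q ^ 2 - q + 1 := by
  have := congrArg (Nat.cast : ℕ → ℤ) h.hm
  push_cast at this
  linarith

theorem cube : d * m * (q + 1) = q ^ 3 + 1 := by
  zify
  rw [h.hz]
  ring

theorem seven : 7 ≤ m := by
  have e := h.hm
  have := h.q3
  rcases h.d_cases with ⟨rfl, -⟩ | ⟨rfl, f⟩
  · nlinarith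
  · have : 5 ≤ q := by omega
    nlinarith

theorem not_three : ¬ 3 ∣ m := by
  rintro ⟨k, rfl⟩
  have e := h.hm
  obtain ⟨t, ht⟩ : ∃ t, q = 3 * t ∨ q = 3 * t + 1 ∨ q = 3 * t + 2 := ⟨q / 3, by omega⟩
  rcases h.d_cases with ⟨rfl, f⟩ | ⟨rfl, f⟩ <;> rcases ht with rfl | rfl | rfl <;> ring_nf at e <;> omega

/-- `m` is prime to `q³ (q - 1) (q + 1)²` -/
theorem cop : m.Coprime (q ^ 3 * ((q - 1) * (q + 1) ^ 2)) := by
  obtain ⟨p, rfl⟩ : ∃ p, q = p + 1 := ⟨q - 1, by have := h.q3; omega⟩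
  refine Nat.coprime_of_dvd fun s hs h1 h2 => ?_
  have e : d * m = p * (p + 1) + 1 := by have := h.hm; nlinarith
  have h3 : s ∣ p * (p + 1) + 1 := e ▸ h1.mul_left d
  rw [Nat.add_sub_cancel] at h2
  rcases (Nat.Prime.dvd_mul hs).mp h2 with f | f
  · exact hs.not_dvd_one ((Nat.dvd_add_right ((hs.dvd_of_dvd_pow f).mul_left p)).mp h3)
  rcases (Nat.Prime.dvd_mul hs).mp f with f | f
  · exact hs.not_dvd_one ((Nat.dvd_add_right (f.mul_right _)).mp h3)
  · have f1 := hs.dvd_of_dvd_pow f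
    have f2 : s ∣ 3 := by
      have : (s : ℤ) ∣ 3 := by
        have a := Int.natCast_dvd_natCast.mpr h3
        have b := (Int.natCast_dvd_natCast.mpr f1).mul_right ((p : ℤ) - 1)
        push_cast at a b
        exact (dvd_sub a b).trans (dvd_of_eq (by ring))
      exact_mod_cast this
    exact h.not_three ((Nat.prime_dvd_prime_iff_eq hs Nat.prime_three).mp f2 ▸ h1)

theorem m_odd : Odd m := by
  have e : 2 ∣ q ^ 3 * ((q - 1) * (q + 1) ^ 2) := by
    rcases Nat.even_or_odd q with f | f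
    · exact (f.two_dvd.trans (dvd_pow_self q three_ne_zero)).mul_right _
    · exact ((f.add_one.two_dvd.trans (dvd_pow_self _ two_ne_zero)).mul_left _).mul_left _
  exact Nat.odd_iff.mpr (Nat.coprime_two_right.mp (h.cop.coprime_dvd_right e) |> Nat.odd_iff.mp)

/-- casts of the two subtractions -/
theorem cast_c0 : (((q - 1) * (q + 1) ^ 2 : ℕ) : ℤ) = (q - 1) * (q + 1) ^ 2 := by
  have := h.q3
  push_cast [Nat.cast_sub (by omega : 1 ≤ q)]
  rfl

theorem dvd_sq : (m : ℤ) ∣ q ^ 2 - q + 1 := h.hz ▸ dvd_mul_left _ _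

theorem dvd_cube : (m : ℤ) ∣ q ^ 3 + 1 :=
  (h.dvd_sq.mul_right (q + 1)).trans (dvd_of_eq (by ring))

theorem dvd_c0 : (m : ℤ) ∣ (q - 1) * (q + 1) ^ 2 + 3 :=
  (h.dvd_sq.mul_right (q + 2)).trans (dvd_of_eq (by ring))

theorem three : q ^ 3 * ((q - 1) * (q + 1) ^ 2) ≡ 3 [MOD m] := by
  rw [Nat.modEq_iff_dvd, Nat.cast_mul, h.cast_c0]
  push_cast
  exact (dvd_sub (h.dvd_cube.mul_right 3) (h.dvd_c0.mul_left (q ^ 3))).trans (dvd_of_eq (by ring))

/-- `d |G| = q³ (q³ + 1) (q² - 1)` -/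
theorem d_ord : d * ord q m = q ^ 3 * (q ^ 3 + 1) * (q ^ 2 - 1) := by
  have := h.q3
  rw [← h.cube, ord, show q ^ 2 - 1 = (q + 1) * (q - 1) from Nat.sq_sub_sq q 1]
  ring

theorem not_dvd_r : ¬ r ∣ m * ((q - 1) * (q + 1) ^ 2) := fun e => by
  have h1 := h.r_dvd
  have h3 := h.q3
  rcases (Nat.Prime.dvd_mul h.pr).mp e with f | f
  · exact h.pr.ne_one (Nat.eq_one_of_dvd_coprimes h.cop f
      ((h1.trans (dvd_pow_self q three_ne_zero)).mul_right _))
  rcases (Nat.Prime.dvd_mul h.pr).mp f with f | f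
  · exact h.pr.not_dvd_one ((Nat.dvd_add_right f).mp (by rwa [Nat.sub_add_cancel (by omega)]))
  · exact h.pr.not_dvd_one ((Nat.dvd_add_right h1).mp (h.pr.dvd_of_dvd_pow f))

end Par

theorem exists_par {q r k : ℕ} (hr : r.Prime) (e : q = r ^ k) (h3 : 3 ≤ q) : ∃ d m, Par q r d m := by
  have : Nat.gcd 3 (q + 1) ∣ q ^ 2 + 1 - q := by
    rcases (Nat.dvd_prime Nat.prime_three).mp (Nat.gcd_dvd_left 3 (q + 1)) with f | f
    · rw [f]; exact one_dvd _
    · obtain ⟨t, ht⟩ := f ▸ Nat.gcd_dvd_right 3 (q + 1)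
      obtain ⟨s, rfl⟩ : ∃ s, t = s + 1 := ⟨t - 1, by omega⟩
      obtain rfl : q = 3 * s + 2 := by omega
      rw [f]
      exact ⟨3 * s ^ 2 + 3 * s + 1, Nat.sub_eq_of_eq_add (by ring)⟩
  obtain ⟨m, hm⟩ := this
  exact ⟨_, m, hr, ⟨k, e⟩, h3, rfl, by rw [← hm]; have : q ≤ q ^ 2 := Nat.le_self_pow two_ne_zero q; omega⟩

theorem Sp.cc' {G : Type u} [Group G] (h : Sp G q r d m) :
    CC G m (q ^ 3 * ((q - 1) * (q + 1) ^ 2)) :=
  ⟨by rw [h.card, ord]; ring, h.par.cop, h.exm, h.cc, h.par.three, h.par.seven, by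
    rcases Nat.even_or_odd q with f | f
    · exact (f.two_dvd.trans (dvd_pow_self q three_ne_zero)).mul_right _
    · exact ((f.add_one.two_dvd.trans (dvd_pow_self _ two_ne_zero)).mul_left _).mul_left _⟩

/-- `Sp` only depends on order and spectrum -/
theorem Sp.transfer {G K : Type*} [Group G] [Group K] (h : Sp K q r d m)
    (e : Set.range (orderOf : G → ℕ) = Set.range (orderOf : K → ℕ)) (c : Nat.card G = Nat.card K) :
    Sp G q r d m := by
  refine ⟨h.par, c.trans h.card, ?_, fun g => ?_, ?_⟩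
  · obtain ⟨x, hx⟩ := h.exm
    exact e.ge ⟨x, hx⟩
  · obtain ⟨k, hk⟩ := e.le ⟨g, rfl⟩
    rw [← orderOf_dvd_iff_pow_eq_one, ← hk, orderOf_dvd_iff_pow_eq_one]
    exact h.cc k
  · obtain ⟨x, hx⟩ := h.exh
    obtain ⟨g, hg⟩ := e.ge ⟨x, rfl⟩
    exact ⟨g, hg ▸ hx⟩

end CfsgV3
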