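import Cfsg.Agent.H3.U3Def

/-! The point stabiliser in the recognition of `PSU₃(q)`, `q` odd (S3645, piece B). -/

set_option autoImplicit false
set_option linter.unusedSectionVars false

namespace CfsgU3

open Cfsg CfsgL CfsgH5 CfsgH6 CfsgFT CfsgH8 CfsgB0 Subgroup MulAction

universe u

variable {G Ω : Type u} [Group G] [Finite G] [MulAction G Ω] {q r d p : ℕ} {Q : Ω → Subgroup G}
  {Zs : Set G}

namespace TI3

variable (h : TI3 G Ω q r d p Q Zs)
include h

theorem finite : Finite Ω := Nat.finite_of_card_ne_zero (by rw [h.cardΩ]; omega)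

theorem tr {i o : Ω} (ne : o ≠ i) (w : Ω) (hw : w ≠ i) : ∃ x ∈ Q i, x • o = w := by
  have := h.finite
  let f : Q i → {w // w ≠ i} := fun x => ⟨x.1 • o, fun e => ne
    (smul_left_cancel _ (e.trans (h.fix i _ x.2).symm))⟩
  have : Function.Bijective f := (Nat.bijective_iff_injective_and_card f).mpr ⟨fun x y e => by
    have := h.reg i _ (y⁻¹ * x).2 o ne (by
      rw [coe_mul, mul_smul, show x.1 • o = y.1 • o from congrArg Subtype.val e]; simp)
    exact (inv_mul_eq_one.mp (Subtype.ext this)).symm, by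
    have := Fintype.ofFinite Ω
    classical
    have e := h.cardΩ
    rw [h.cardQ, Nat.card_eq_fintype_card, Fintype.card_subtype_compl, ← Nat.card_eq_fintype_card, e]
    simp⟩
  obtain ⟨x, e⟩ := this.2 ⟨w, hw⟩
  exact ⟨x, x.2, congrArg Subtype.val e⟩

theorem nrm (i : Ω) : Nrm (stabilizer G i) (Q i) := fun g hg x hx => by
  have := h.conj g i x hx
  rwa [show g • i = i from hg] at this

theorem Q_le (i : Ω) : Q i ≤ stabilizer G i := h.fix i

theorem sup_eq {i o : Ω} (ne : o ≠ i) :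
    Q i ⊔ stabilizer G i ⊓ stabilizer G o = stabilizer G i := by
  refine le_antisymm (sup_le (h.Q_le i) inf_le_left) fun g hg => ?_
  obtain ⟨x, hx, e⟩ := h.tr ne (g • o) fun e => ne (by
    rw [← show g • i = i from hg] at e; exact smul_left_cancel _ e)
  rw [← mul_inv_cancel_left x g]
  exact mul_mem_sup hx (mem_inf.mpr ⟨mul_mem (inv_mem (h.Q_le i hx)) hg, by
    rw [mem_stabilizer_iff, mul_smul, ← e, inv_smul_smul]⟩)

theorem inf_eq {i o : Ω} (ne : o ≠ i) {X : Subgroup G} (hX : X ≤ stabilizer G o) : Q i ⊓ X = ⊥ :=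
  eq_bot_iff.mpr fun x hx => h.reg i x hx.1 o ne (hX hx.2)

theorem C1_le {i : Ω} {x : G} (hx : x ∈ Q i) (x1 : x ≠ 1) : C1 x ≤ stabilizer G i := fun g hg => by
  by_contra c
  exact x1 (h.reg i x hx _ c (by rw [← mul_smul, ← mem_C1.mp hg, mul_smul, h.fix i x hx]))

theorem two_trans {i o a b : Ω} (ne : o ≠ i) (ab : b ≠ a) : ∃ g : G, g • i = a ∧ g • o = b := by
  obtain ⟨g, rfl⟩ := h.trans i a
  obtain ⟨x, hx, e⟩ := h.tr ne (g⁻¹ • b) fun e => ab (by rw [← e, smul_inv_smul])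
  exact ⟨g * x, by rw [mul_smul, h.fix i x hx], by rw [mul_smul, e, smul_inv_smul]⟩

theorem card_H {i o : Ω} (ne : o ≠ i) :
    (q ^ 3 + 1) * (q ^ 3 * Nat.card ↥(stabilizer G i ⊓ stabilizer G o)) = ord q p := by
  have : IsPretransitive G Ω := ⟨h.trans⟩
  rw [← h.card, ← (stabilizer G i).index_mul_card, index_stabilizer_of_transitive, h.cardΩ,
    ← h.cardQ i, ← card_sup_of_inf_eq_bot (.inr ((h.nrm i).mono inf_le_left)) (h.inf_eq ne inf_le_right),
    h.sup_eq ne]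

theorem base (hr : r ≠ 2) : ∃ i o Z H j, U3B G Ω q r i o (Q i) Z H j := by
  have := h.finite
  have par : (q, r) ∈ [(7, 7), (9, 3)] ∧ d = 1 ∧ ord q p = (q ^ 3 + 1) * (q ^ 3 * (q ^ 2 - 1)) ∧
      (q ^ 3).Coprime (q ^ 2 - 1) ∧ 2 ∣ q + 1 ∧ 7 ≤ q ∧ q ^ 3 ∣ r ^ 6 ∧ r.Prime ∧ Odd q := by
    have := h.par
    simp only [Par, List.mem_cons, Prod.mk.injEq, List.not_mem_nil, or_false] at this
    rcases this with ⟨rfl, rfl, rfl, rfl⟩ | ⟨rfl, rfl, rfl, rfl⟩ | ⟨rfl, rfl, rfl, rfl⟩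
    · norm_num [ord]
    · exact absurd rfl hr
    · norm_num [ord]
  obtain ⟨p1, rfl, p2, p3, p4, p5, p6, p7, p8⟩ := par
  have : Nontrivial Ω := Finite.one_lt_card_iff_nontrivial.mp (by
    rw [h.cardΩ]; exact Nat.lt_add_of_pos_left (by positivity))
  obtain ⟨o, i, ne⟩ := exists_pair_ne Ω
  obtain ⟨H, eH⟩ : ∃ H, H = stabilizer G i ⊓ stabilizer G o := ⟨_, rfl⟩
  have memH : ∀ g : G, g ∈ H ↔ g • i = i ∧ g • o = o := fun g => by rw [eH]; rfl
  have q0 : 0 < q ^ 3 := by positivity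
  have cH : Nat.card H = q ^ 2 - 1 := by
    have := h.card_H ne
    rw [p2, ← eH] at this
    exact Nat.eq_of_mul_eq_mul_left q0 (Nat.eq_of_mul_eq_mul_left (by omega) this)
  have HB : H ≤ stabilizer G i := eH ▸ inf_le_left
  have nH : Nrm H (Q i) := (h.nrm i).mono HB
  have iH : ∀ X ≤ H, Q i ⊓ X = ⊥ := fun X hX => h.inf_eq ne (hX.trans (eH ▸ inf_le_right))
  have zc : ∀ z ∈ Zs, z ∈ Q i → Q i ≤ C1 z ∧ Nat.card ↥(H ⊓ C1 z) = q + 1 := fun z hz hz' => by
    have le := h.C1_le hz' fun e => h.Z1 (e ▸ hz)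
    have a1 := relIndex_dvd_of_nrm' le (h.nrm i)
    rw [← h.sup_eq ne, ← eH, relIndex_sup (.inr nH), relIndex_of_inf_eq_bot (iH _ le_rfl), cH] at a1
    have a2 := card_inf_mul_relIndex (Q i) (C1 z)
    have a3 := h.Zc z hz
    rw [one_mul] at a3
    have a4 : Q i ≤ C1 z := inf_eq_left.mp (eq_of_le_of_card_dvd inf_le_left (by
      rw [h.cardQ]
      exact (p3.coprime_dvd_right a1).dvd_of_dvd_mul_right (by rw [a2, a3]; exact Dvd.intro _ rfl)))
    refine ⟨a4, Nat.eq_of_mul_eq_mul_left q0 ?_⟩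
    rw [← a3, ← h.cardQ i, ← card_sup_of_inf_eq_bot (.inr (nH.mono inf_le_left)) (iH _ inf_le_left),
      ← modular_left (.inr nH) a4, eH, h.sup_eq ne, inf_eq_right.mpr le]
  have cop : ∀ g ∈ H, ∀ n, n ∣ q ^ 3 → n.Coprime (orderOf g) := fun g hg n hn =>
    (p3.coprime_dvd_left hn).coprime_dvd_right (cH ▸ orderOf_dvd_card' hg)
  have cen : ∀ g ∈ H, g ≠ 1 → ∀ x ∈ Q i, g * x = x * g → x = 1 ∨ x ∈ Zs := fun g hg g1 x hx e => by
    by_contra! c
    have := (orderOf_dvd_card' (mem_C1.mpr e)).trans ((h.cen i x hx c.1 c.2).trans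
      (pow_dvd_pow q (by omega : 2 ≤ 3)))
    exact g1 (orderOf_eq_one_iff.mp ((cop g hg _ this).eq_one_of_dvd dvd_rfl))
  have cZ : ∀ t ∈ H, orderOf t = 2 → Nat.card ↥(Q i ⊓ C1 t) = q := fun t ht t2 => by
    have e := h.inv hr t t2
    have e' : {w : Ω | t • w = w} = insert i ((fun x : G => x • o) '' (Q i ⊓ C1 t : Subgroup G)) := by
      ext w
      constructor
      · intro hw
        by_cases c : w = i
        · exact .inl c
        obtain ⟨x, hx, rfl⟩ := h.tr ne w c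
        refine .inr ⟨x, ⟨hx, mem_C1_iff_conj'.mpr ?_⟩, rfl⟩
        refine (inv_mul_eq_one.mp (h.reg i _ (mul_mem (inv_mem hx) (nH t ht x hx)) o ne ?_)).symm
        rw [mul_smul, mul_smul, mul_smul, ((memH _).mp (inv_mem ht)).2, show t • x • o = x • o from hw,
          inv_smul_smul]
      · rintro (rfl | ⟨x, hx, rfl⟩)
        · exact HB ht
        · change t • x • o = x • o
          rw [← mul_smul, ← mem_C1.mp hx.2, mul_smul, ((memH _).mp ht).2]
    rw [e', Set.ncard_insert_of_notMem (by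
      rintro ⟨x, hx, e⟩
      exact ne (smul_left_cancel x (e.trans (h.fix i x hx.1).symm))),
      Set.ncard_image_of_injOn (fun x hx y hy e => (inv_mul_eq_one.mp (h.reg i _
        (mul_mem (inv_mem hy.1) hx.1) o ne (by
          rw [mul_smul, show x • o = y • o from e, inv_smul_smul]))).symm)] at e
    exact Nat.add_right_cancel e
  obtain ⟨z0, z1, z2⟩ : (Zs ∩ Q i).Nonempty := Set.nonempty_of_ncard_ne_zero (by rw [h.Zq]; omega)
  obtain ⟨j, hj, j2⟩ := exists_mem_orderOf_eq Nat.prime_two ((zc z0 z1 z2).2 ▸ p4)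
  have j1 : j ≠ 1 := fun e => by simp [e] at j2
  have jj : j * j = 1 := by rw [← sq, ← j2, pow_orderOf_eq_one]
  obtain ⟨Z, eZ⟩ : ∃ Z, Z = Q i ⊓ C1 j := ⟨_, rfl⟩
  have cardZ : Nat.card Z = q := eZ ▸ cZ j hj.1 j2
  have ZQ : Z ≤ Q i := eZ ▸ inf_le_left
  have mZ : ∀ x, x ∈ Z ↔ x = 1 ∨ x ∈ Zs ∧ x ∈ Q i := fun x => by
    have : (Z : Set G) = insert 1 (Zs ∩ Q i) := Set.eq_of_subset_of_ncard_le (fun x hx =>
      (cen j hj.1 j1 x (ZQ hx) (mem_C1.mp (eZ ▸ hx : x ∈ Q i ⊓ C1 j).2).symm).imp_right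
        fun a => ⟨a, ZQ hx⟩) (by
      rw [Set.ncard_insert_of_notMem fun e => h.Z1 e.1, h.Zq, ← Nat.card_coe_set_eq]
      change _ ≤ Nat.card Z
      omega)
    exact Set.ext_iff.mp this x
  have Zn : Nrm H Z := fun g hg z hz => by
    rcases (mZ z).mp hz with rfl | ⟨a, b⟩
    · simp
    · exact (mZ _).mpr (.inr ⟨(h.Zcj z a _).mpr (isConj_iff.mpr ⟨g, rfl⟩), nH g hg z b⟩)
  have Zc : ∀ z ∈ Z, ∀ x ∈ Q i, x * z = z * x := fun z hz x hx => by
    rcases (mZ z).mp hz with rfl | ⟨a, b⟩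
    · simp
    · exact mem_C1.mp ((zc z a b).1 hx)
  have ZC : Z ≤ C (Q i) := fun z hz x hx => Zc z hz x hx
  have nQ : Nrm (Q i) Z := nrm_of_le_C (le_C_symm ZC)
  have free : ∀ g ∈ H, ∀ x ∈ Q i, x ∉ Z → g * x * g⁻¹ * x⁻¹ ∈ Z → g = 1 := by
    intro g hg x hx x1 e
    by_contra g1
    obtain ⟨k, hk, e'⟩ := exists_cent_of_comm_mem (A := zpowers g) (x := x)
      (Zn.mono (zpowers_le.mpr hg)) (by
        rw [cardZ, Nat.card_zpowers]; exact cop g hg q (dvd_pow_self q (by omega)))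
      (.inr inferInstance) fun a ha => by
        obtain ⟨n, rfl⟩ := mem_powers_iff_mem_zpowers.mpr ha
        rw [← commutatorElement_inv, inv_mem_iff, commutatorElement_def]
        induction n with
        | zero => simp
        | succ n ih =>
          have := mul_mem (Zn g hg _ (ih (pow_mem (mem_zpowers g) n))) e
          rwa [show g * (g ^ n * x * (g ^ n)⁻¹ * x⁻¹) * g⁻¹ * (g * x * g⁻¹ * x⁻¹) =
            g ^ (n + 1) * x * (g ^ (n + 1))⁻¹ * x⁻¹ by rw [pow_succ']; group] at this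
    have m := mul_mem (inv_mem (ZQ hk)) hx
    exact x1 ((mul_mem_cancel_left (inv_mem hk)).mp ((mZ _).mpr
      ((cen g hg g1 _ m (e' g (mem_zpowers g))).imp_right fun a => ⟨a, m⟩)))
  have reg : ∀ a ∈ Q i, a ∉ Z → ∀ x ∈ Q i, x ∉ Z → ∃ z ∈ Z, ∃ g ∈ H, x = z * (g * a * g⁻¹) := by
    intro a ha a1 x hx x1
    let f : Z × H → ((Q i : Set G) \ Z : Set G) := fun y => ⟨y.1 * (y.2 * a * y.2⁻¹),
      mul_mem (ZQ y.1.2) (nH _ y.2.2 a ha), fun e => a1 (by
        simpa [mul_assoc] using Zn _ y.2⁻¹.2 _ ((mul_mem_cancel_left y.1.2).mp e))⟩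
    have : Function.Bijective f := (Nat.bijective_iff_injective_and_card f).mpr ⟨fun y y' e => by
      replace e : (y.1 : G) * (y.2 * a * y.2⁻¹) = y'.1 * (y'.2 * a * y'.2⁻¹) := congrArg Subtype.val e
      have e2 := free _ (y'.2⁻¹ * y.2).2 a ha a1 (by
        have := Zn _ y'.2⁻¹.2 _ (y.1⁻¹ * y'.1).2
        convert this using 1
        simp only [coe_mul, coe_inv] at e ⊢
        rw [eq_mul_inv_of_mul_eq e.symm]; group)
      have e3 : y'.2 = y.2 := inv_mul_eq_one.mp (Subtype.ext e2)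
      rw [e3] at e
      exact Prod.ext (Subtype.ext (mul_right_cancel e)) e3.symm, by
      rw [Nat.card_prod, cardZ, cH, Nat.card_coe_set_eq, Set.ncard_diff ZQ, ← Nat.card_coe_set_eq,
        ← Nat.card_coe_set_eq]
      change _ = Nat.card (Q i) - Nat.card Z
      rw [cardZ, h.cardQ, Nat.mul_sub_one]; ring_nf⟩
    obtain ⟨y, e⟩ := this.2 ⟨x, hx, x1⟩
    exact ⟨_, y.1.2, _, y.2.2, (congrArg Subtype.val e).symm⟩
  have := Fact.mk p7
  have pQ : IsPGroup r (Q i) := fun x => ⟨6, orderOf_dvd_iff_pow_eq_one.mp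
    ((orderOf_dvd_natCard x).trans (h.cardQ i ▸ p6))⟩
  have comm : ∀ x ∈ Q i, ∀ y ∈ Q i, x * y * x⁻¹ * y⁻¹ ∈ Z := by
    suffices D (Q i) ≤ Z from fun x hx y hy => this (commutator_mem_commutator hx hy)
    intro a ha
    by_contra a1
    have e : D (Q i) ⊔ Z = Q i := le_antisymm (sup_le (D_le _) ZQ) fun x hx => by
      by_cases c : x ∈ Z
      · exact mem_sup_right c
      obtain ⟨z, hz, g, hg, rfl⟩ := reg a (D_le _ ha) a1 x hx c
      exact mul_mem (mem_sup_right hz) (mem_sup_left (nH.D g hg a ha))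
    have e2 := D_sup_of_le_C (ZC.trans (C_anti (D_le (Q i))))
    rw [e, D_eq_bot.mpr (ZC.trans (C_anti ZQ)), sup_bot_eq] at e2
    refine (D_lt_of_nilpotent (pQ.to_le (D_le _)).isNilpotent fun c => a1 ?_).ne' e2
    rw [c, mem_bot] at ha
    exact ha ▸ one_mem _
  have tinv : ∀ t ∈ H, t * t = 1 → t ≠ 1 → ∀ x ∈ Q i, x * (t * x * t⁻¹) ∈ Z := fun t ht tt t1 x hx => by
    by_contra c
    have m := nH t ht x hx
    refine t1 (free t ht _ (mul_mem hx m) c ?_)
    convert comm _ m _ hx using 1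
    rw [show t * (x * (t * x * t⁻¹)) * t⁻¹ = t * x * t⁻¹ * (t * t * x * (t * t)⁻¹) by group, tt]
    group
  obtain ⟨x0, x1, x2⟩ : ∃ x ∈ Q i, x ∉ Z := SetLike.not_le_iff_exists.mp fun c => by
    have := card_le_of_le c
    rw [cardZ, h.cardQ] at this
    nlinarith
  have juniq : ∀ t ∈ H, t * t = 1 → t = 1 ∨ t = j := fun t ht tt => by
    refine or_iff_not_imp_left.mpr fun t1 => inv_mul_eq_one.mp (free _ (mul_mem (inv_mem ht) hj.1) x0 x1 x2 ?_)
    have := nQ _ x1 _ (Zn _ (inv_mem ht) _ (mul_mem (inv_mem (tinv t ht tt t1 x0 x1)) (tinv j hj.1 jj j1 x0 x1)))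
    convert this using 1
    group
  refine ⟨i, o, Z, H, j, p1, ne, h.cardΩ, h.cardQ i, cardZ, cH, h.fix i, fun x hx => h.reg i x hx o ne,
    h.tr ne, h.trans i o, fun g hg => h.nrm i g hg, memH, ZQ, Zn, Zc, comm, fun x hx => ?_, ?_, free,
    fun z hz z1 => ?_, hj.1, j2, juniq, fun x hx => ?_, tinv j hj.1 jj j1, h.inv hr, ?_⟩
  · by_contra c
    have : ∀ n, x ^ r ^ n ∉ Z := fun n => by
      induction n with
      | zero => exact fun e => c (pow_mem (by simpa using e) r)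
      | succ n ih =>
        intro e
        obtain ⟨z, hz, g, hg, e'⟩ := reg _ (pow_mem hx _) ih x hx fun e => c (pow_mem e r)
        rw [e', Commute.mul_pow (Zc z hz _ (nH g hg _ (pow_mem hx _))).symm, conj_pow, ← pow_mul,
          ← pow_succ] at c
        exact c (mul_mem (pow_mem hz r) (Zn g hg _ e))
    obtain ⟨n, e⟩ := pQ ⟨x, hx⟩
    exact this n (by rw [show x ^ r ^ n = 1 from congrArg Subtype.val e]; exact one_mem _)
  · by_contra! c
    let R : Subgroup G :=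
      { carrier := {x | x ∈ Q i ∧ j * x * j⁻¹ = x⁻¹}
        one_mem' := ⟨one_mem _, by simp⟩
        mul_mem' := fun {a b} ha hb => ⟨mul_mem ha.1 hb.1, by
          rw [← conj_mul, ha.2, hb.2, c a ha.1 b hb.1, mul_inv_rev]⟩
        inv_mem' := fun {a} ha => ⟨inv_mem ha.1, by rw [← conj_inv, ha.2]⟩ }
    have od : ∀ x ∈ Q i, (orderOf x).Coprime 2 := fun x hx => Nat.Coprime.coprime_dvd_left
      (h.cardQ i ▸ orderOf_dvd_card' hx) (Nat.coprime_two_right.mpr p8.pow)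
    have e : R ⊔ Z = Q i := le_antisymm (sup_le (fun _ a => a.1) ZQ) fun x hx => by
      have m := nH j hj.1 x hx
      refine mem_of_pow_mem_of_coprime' (od x hx) ?_
      rw [show x ^ 2 = x * (j * x * j⁻¹)⁻¹ * (j * x * j⁻¹ * x) by rw [sq]; group, c _ m x hx]
      refine mul_mem_sup ⟨mul_mem hx (inv_mem m), ?_⟩ (tinv j hj.1 jj j1 x hx)
      rw [show j * (x * (j * x * j⁻¹)⁻¹) * j⁻¹ = j * x * j⁻¹ * (j * j * x⁻¹ * (j * j)⁻¹) by group, jj]
      group
    have e2 := Nat.le_of_dvd (Nat.mul_pos (card_pos _) (card_pos _))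
      (card_sup_dvd (X := R) (.inl (nQ.mono fun _ a => a.1)))
    rw [e, h.cardQ, cardZ] at e2
    have := (h.big i R (fun _ a => a.1) (by
      have : q * (q - 1) < q * q := Nat.mul_lt_mul_of_pos_left (by omega) (by omega)
      nlinarith) ⟨z1, z2⟩).2
    rw [mem_C1_iff_conj.mp hj.2] at this
    refine h.Z1 ((mem_bot.mp (mem_of_pow_mem_of_coprime' (od z0 z2) ?_)) ▸ z1)
    rw [mem_bot, sq]
    exact mul_eq_one_iff_eq_inv.mpr this
  · obtain ⟨a, b⟩ := ((mZ z).mp hz).resolve_left z1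
    exact (zc z a b).2
  · rw [eZ]
    exact ⟨fun e => ⟨hx, mem_C1.mpr e.symm⟩, fun e => (mem_C1.mp e.2).symm⟩
  · suffices ∀ s : G, orderOf s = 2 → IsConj s j from fun s t hs ht => (this s hs).trans (this t ht).symm
    intro s hs
    obtain ⟨a, ha, b, hb, ab⟩ := (Set.one_lt_ncard (Set.toFinite _)).mp (by
      rw [h.inv hr s hs]; omega)
    obtain ⟨g, g1, g2⟩ := h.two_trans ne ab
    have ss : s * s = 1 := by rw [← sq, ← hs, pow_orderOf_eq_one]
    rcases juniq (g⁻¹ * s * g) ((memH _).mpr ⟨by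
      rw [mul_smul, mul_smul, g1, show s • b = b from hb, ← g1, inv_smul_smul], by
      rw [mul_smul, mul_smul, g2, show s • a = a from ha, ← g2, inv_smul_smul]⟩) (by
      rw [show g⁻¹ * s * g * (g⁻¹ * s * g) = g⁻¹ * (s * s) * g by group, ss]; simp) with e | e
    · have : s = 1 := by simpa [mul_assoc, inv_mul_eq_one] using e
      simp [this] at hs
    · exact isConj_iff.mpr ⟨g⁻¹, by rwa [inv_inv]⟩

end TI3

end CfsgU3
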