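import Cfsg.Agent.H7.Loc3

/-! Tools for groups with Sylow 3-subgroup `3²` and facts about `S₅`. -/

set_option autoImplicit false

namespace CfsgH7
open Subgroup CfsgH5 CfsgH6 CfsgFT CfsgH8 CfsgH9 Equiv

universe u
variable {G : Type u} [Group G]

abbrev A5 := alternatingGroup (Fin 5)
abbrev S5 := Perm (Fin 5)
abbrev S3 := Perm (Fin 3)

/-- linear action on `(Fin 3)²`. -/
def lin (a b c d : Fin 3) (v : Fin 3 × Fin 3) : Fin 3 × Fin 3 :=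
  (a * v.1 + c * v.2, b * v.1 + d * v.2)

/-- `g` acts on `⟨z, w⟩` as `f`. -/
def Acts (z w g : G) (f : Fin 3 × Fin 3 → Fin 3 × Fin 3) : Prop :=
  ∀ v : Fin 3 × Fin 3, g * el z w v.1 v.2 * g⁻¹ = el z w (f v).1 (f v).2

theorem Acts.mul {z w g h : G} {f f' : Fin 3 × Fin 3 → Fin 3 × Fin 3} (h1 : Acts z w g f)
    (h2 : Acts z w h f') : Acts z w (g * h) (f ∘ f') := fun v => by
  rw [Function.comp_apply, ← h1, ← h2]; group

namespace B9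
variable {z w : G} (h : B9 z w)
include h

theorem el_pow (a b x : Fin 3) : el z w a b ^ x.val = el z w (a * x) (b * x) := by
  fin_cases x
  · simp [CfsgH8.el_zero]
  · simp
  · have : ∀ a : Fin 3, a * 2 = a + a := by decide
    simp only [Fin.reduceFinMk, this]
    rw [el_add h.a3 h.b3 h.comm]; exact pow_two _

theorem acts {g : G} {a b c d : Fin 3} (h1 : g * z * g⁻¹ = el z w a b)
    (h2 : g * w * g⁻¹ = el z w c d) : Acts z w g (lin a b c d) := fun v => by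
  rw [el_conj, h1, h2, lin, el_add h.a3 h.b3 h.comm, ← h.el_pow, ← h.el_pow]; rfl

theorem el_two_zero : el z w 2 0 = z⁻¹ := by
  have := el_neg h.a3 h.b3 h.comm 1 0
  rwa [el_one_zero] at this

theorem el_zero_two : el z w 0 2 = w⁻¹ := by
  have := el_neg h.a3 h.b3 h.comm 0 1
  rwa [el_zero_one] at this

theorem acts_id {g : G} {f : Fin 3 × Fin 3 → Fin 3 × Fin 3} (h1 : Acts z w g f) :
    (g * z = z * g ∧ g * w = w * g) ↔ f (1, 0) = (1, 0) ∧ f (0, 1) = (0, 1) := by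
  have e1 := h1 (1, 0)
  have e2 := h1 (0, 1)
  rw [el_one_zero] at e1
  rw [el_zero_one] at e2
  rw [← mul_inv_eq_iff_eq_mul, ← mul_inv_eq_iff_eq_mul, e1, e2]
  refine and_congr ⟨fun e => ?_, fun e => by rw [e, el_one_zero]⟩
    ⟨fun e => ?_, fun e => by rw [e, el_zero_one]⟩
  · exact Prod.ext_iff.mpr (el_inj h.a3 h.b3 h.comm h.a1 h.ind (e.trans (el_one_zero z w).symm))
  · exact Prod.ext_iff.mpr (el_inj h.a3 h.b3 h.comm h.a1 h.ind (e.trans (el_zero_one z w).symm))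

theorem mem_C_iff {g : G} : g ∈ C (D9 z w) ↔ g * z = z * g ∧ g * w = w * g := by
  rw [D9, C_sup, C_zpowers, C_zpowers, mem_inf, mem_C1, mem_C1]

omit h in
theorem swap_aux : ∀ a b c d : Fin 3,
    ¬ ((lin a b c d ∘ lin a b c d) (1, 0) = (1, 0) ∧ (lin a b c d ∘ lin a b c d) (0, 1) = (0, 1)) →
    ((((lin a b c d ∘ lin a b c d) ∘ lin a b c d) ∘ lin a b c d) (1, 0) = (1, 0) ∧
      (((lin a b c d ∘ lin a b c d) ∘ lin a b c d) ∘ lin a b c d) (0, 1) = (0, 1)) →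
    (((((lin a b c d ∘ lin 1 0 0 2) ∘ (lin a b c d ∘ lin 1 0 0 2)) ∘ (lin a b c d ∘ lin 1 0 0 2)) ∘
      (lin a b c d ∘ lin 1 0 0 2)) (1, 0) = (1, 0) ∧
      ((((lin a b c d ∘ lin 1 0 0 2) ∘ (lin a b c d ∘ lin 1 0 0 2)) ∘ (lin a b c d ∘ lin 1 0 0 2)) ∘
      (lin a b c d ∘ lin 1 0 0 2)) (0, 1) = (0, 1)) →
    ((lin a b c d ∘ lin 1 0 0 2) (1, 0) = (0, 1) ∧ (lin a b c d ∘ lin 1 0 0 2) (0, 1) = (1, 0)) ∨
    ((lin 1 0 0 2 ∘ lin a b c d) (1, 0) = (0, 1) ∧ (lin 1 0 0 2 ∘ lin a b c d) (0, 1) = (1, 0)) := by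
  decide +kernel

theorem exists_swap [Finite G] {l : G} (l1 : l * z * l⁻¹ = z) (l2 : l * w * l⁻¹ = w⁻¹)
    (hn : ∃ n ∈ N (D9 z w), n * n ∉ C (D9 z w))
    (h4 : ∀ g ∈ N (D9 z w), g * g * g * g ∈ C (D9 z w)) :
    ∃ σ, σ * z * σ⁻¹ = w ∧ σ * w * σ⁻¹ = z := by
  obtain ⟨n, hn, hn2⟩ := hn
  obtain ⟨a, b, e1⟩ := h.mem (conj_mem_of_mem_N hn (left_mem_D9 z w))
  obtain ⟨c, d, e2⟩ := h.mem (conj_mem_of_mem_N hn (right_mem_D9 z w))
  have hA := h.acts e1 e2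
  have hL := h.acts (l1.trans (el_one_zero z w).symm) (l2.trans h.el_zero_two.symm)
  have hl : l ∈ N (D9 z w) := mem_N_of_cj_le (by
    rw [D9, CfsgFT.cj_sup, cj_zpowers, cj_zpowers, l1, l2, zpowers_inv])
  have hB := hA.mul hL
  have := swap_aux a b c d (fun e => hn2 (h.mem_C_iff.mpr ((h.acts_id (hA.mul hA)).mpr e)))
    ((h.acts_id (((hA.mul hA).mul hA).mul hA)).mp (h.mem_C_iff.mp (h4 n hn)))
    ((h.acts_id (((hB.mul hB).mul hB).mul hB)).mp (h.mem_C_iff.mp (h4 _ (mul_mem hn hl))))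
  rcases this with ⟨f1, f2⟩ | ⟨f1, f2⟩
  · have e3 := hB (1, 0)
    have e4 := hB (0, 1)
    rw [f1, el_one_zero, el_zero_one] at e3
    rw [f2, el_one_zero, el_zero_one] at e4
    exact ⟨_, e3, e4⟩
  · have e3 := (hL.mul hA) (1, 0)
    have e4 := (hL.mul hA) (0, 1)
    rw [f1, el_one_zero, el_zero_one] at e3
    rw [f2, el_one_zero, el_zero_one] at e4
    exact ⟨_, e3, e4⟩

omit h in
theorem cj_D9 (g : G) : cj g (D9 z w) = D9 (g * z * g⁻¹) (g * w * g⁻¹) := by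
  rw [D9, CfsgFT.cj_sup, cj_zpowers, cj_zpowers, D9]

/-- two elements of order 3 centralizing `u`. -/
theorem conj_or_cent [Finite G] (hS : SylIn 3 (D9 z w) ⊤) {X : Subgroup G} {u x y : G}
    (hx : x ∈ X) (hy : y ∈ X) (x3 : x ^ 3 = 1) (y3 : y ^ 3 = 1) (y1 : y ≠ 1)
    (xu : x * u = u * x) (yu : y * u = u * y) :
    (∃ c ∈ X, c * u = u * c ∧ c * x * c⁻¹ ∈ zpowers y) ∨
      ∃ g, y ∈ cj g (D9 z w) ∧ u ∈ C (cj g (D9 z w)) := by
  have := Fact.mk Nat.prime_three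
  obtain ⟨c, hc, S, hS', h1, h2⟩ := exists_conj_common Nat.prime_three (X := X ⊓ C1 u)
    ⟨hx, mem_C1.mpr xu⟩ ⟨hy, mem_C1.mpr yu⟩ x3 y3
  by_cases h3 : c * x * c⁻¹ ∈ zpowers y
  · exact Or.inl ⟨c, hc.1, mem_C1.mp hc.2, h3⟩
  obtain ⟨g, -, h4⟩ := hS.exists_le_cj le_top hS'.isPGroup
  have hB : B9 y (c * x * c⁻¹) := ⟨y3, by rw [conj_pow, x3]; simp,
    (h.ab.cjj g).comm (h4 h1) (h4 h2), y1, h3⟩
  have h5 : D9 y (c * x * c⁻¹) = cj g (D9 z w) :=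
    eq_of_le_of_card_eq (D9_le (h4 h1) (h4 h2)) (by rw [card_cj, hB.card, h.card])
  refine Or.inr ⟨g, h4 h1, ?_⟩
  rw [← h5, hB.mem_C_iff]
  exact ⟨yu.symm, (mem_C1.mp (hS'.le h2).2).symm⟩

end B9

theorem card_C1_conj (g x : G) : Nat.card (C1 (g * x * g⁻¹)) = Nat.card (C1 x) := by
  rw [← cj_C1, card_cj]

theorem card_C1_of_zpowers {x y : G} (h3 : y ^ 3 = 1) (h1 : x ≠ 1) (h : x ∈ zpowers y) :
    Nat.card (C1 x) = Nat.card (C1 y) := by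
  rcases mem_zpowers_three h3 h with rfl | rfl | rfl
  · exact absurd rfl h1
  · rfl
  · rw [C1_inv]

theorem mem_N_zpowers [Finite G] {g x : G} (h : g * x * g⁻¹ ∈ zpowers x) : g ∈ N (zpowers x) :=
  mem_N_of_cj_le (by rw [cj_zpowers]; exact zpowers_le.mpr h)

theorem coprime_three_iff {x : G} : (orderOf x).Coprime 3 ↔ ¬ 3 ∣ orderOf x := by
  rw [Nat.coprime_comm, Nat.Prime.coprime_iff_not_dvd Nat.prime_three]

theorem coprime_three_of_sq {x : G} (h : x * x = 1) : (orderOf x).Coprime 3 :=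
  Nat.Coprime.coprime_dvd_left (orderOf_dvd_of_pow_eq_one (n := 2) (by rw [pow_two, h]))
    (by norm_num)

theorem eq_one_of_coprime_three {x : G} (h : (orderOf x).Coprime 3) (h3 : x ^ 3 = 1) : x = 1 :=
  eq_one_of_coprime_of_pow (k := 1) h (by rw [pow_one, h3])

theorem eq_one_of_sq_cube {x : G} (h : x * x = 1) (h3 : x ^ 3 = 1) : x = 1 := by
  rwa [pow_three', h, one_mul] at h3

theorem conj_invol {i x : G} (hi : i * i = 1) : i * (i * x * i⁻¹) * i⁻¹ = x := by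
  rw [inv_eq_self hi]
  calc i * (i * x * i) * i = (i * i) * x * (i * i) := by group
    _ = x := by rw [hi]; simp

theorem card_A5 : Nat.card A5 = 60 := by rw [nat_card_alternatingGroup]; simp [Nat.factorial]

theorem A5_top {Y : Subgroup A5} (h : 30 ∣ Nat.card Y) : Y = ⊤ := by
  have h1 := card_mul_relIndex (X := Y) (Y := ⊤) le_top
  rw [card_top, card_A5] at h1
  obtain ⟨k, hk⟩ := h
  have h2 : k * Y.relIndex ⊤ = 2 := by rw [hk] at h1; nlinarith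
  rcases (Nat.dvd_prime Nat.prime_two).mp (Dvd.intro_left _ h2) with e | e
  · exact top_le_iff.mp (relIndex_eq_one.mp e)
  · exact top_le_iff.mp fun x _ =>
      le_of_idx2_alt le_rfl (MonoidHom.id A5) le_top e (fun _ => mem_top _) x

theorem A5_le {κ : A5 →* G} {H : Subgroup G} {a b c : A5} (ha : κ a ∈ H) (hb : κ b ∈ H)
    (hc : κ c ∈ H) (a1 : a ≠ 1) (a2 : a ^ 2 = 1) (b1 : b ≠ 1) (b3 : b ^ 3 = 1) (c1 : c ≠ 1)
    (c5 : c ^ 5 = 1) (x : A5) : κ x ∈ H := by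
  have := Fact.mk Nat.prime_three
  have := Fact.mk Nat.prime_five
  have h : H.comap κ = ⊤ := A5_top (Nat.Coprime.mul_dvd_of_dvd_of_dvd (m := 6) (n := 5)
    (by norm_num) (Nat.Coprime.mul_dvd_of_dvd_of_dvd (m := 2) (n := 3) (by norm_num)
      (orderOf_eq_prime a2 a1 ▸ orderOf_dvd_card' (X := H.comap κ) ha)
      (orderOf_eq_prime b3 b1 ▸ orderOf_dvd_card' (X := H.comap κ) hb))
    ((orderOf_eq_prime c5 c1).symm.dvd.trans (orderOf_dvd_card' (X := H.comap κ) hc)))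
  exact (h.ge (mem_top x) : x ∈ H.comap κ)

theorem alt_injective {n : ℕ} (hn : 5 ≤ n) {ψ : alternatingGroup (Fin n) →* G}
    {x : alternatingGroup (Fin n)} (hx : ψ x ≠ 1) : Function.Injective ψ := by
  have := alternatingGroup.isSimpleGroup (α := Fin n) (by simpa using hn)
  rcases ψ.normal_ker.eq_bot_or_eq_top with e | e
  · exact (MonoidHom.ker_eq_bot_iff ψ).mp e
  · exact absurd (e.ge (mem_top x) : x ∈ ψ.ker) hx

namespace F5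
def ζ : S3 := swap 0 1 * swap 1 2
def τ : S3 := swap 0 1
def ω : S5 := swap 2 3 * swap 3 4
def v1 : S5 := swap 1 2 * swap 3 4
def v2 : S5 := swap 1 3 * swap 2 4
def V4 : Fin 4 → S5 := ![1, v1, v2, v1 * v2]
def V6 : Fin 6 → S5 := ![v1, v2, v1 * v2, swap 0 2 * swap 3 4, swap 0 3 * swap 2 4,
  swap 0 4 * swap 2 3]
def f1 (q : S5) : S5 := q * (ω * q * ω⁻¹)
def f2 (q : S5) : S5 := q * (ω * q * ω⁻¹)⁻¹
def R6 (j : Fin 3) (ε : Fin 2) : S5 := ω ^ j.val * swap 2 3 * swap 0 1 ^ ε.val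

theorem cent_V : ∀ q : S5, q * v1 = v1 * q → q * v2 = v2 * q → ∃ t, q = V4 t := by decide +kernel

theorem cent_ζ : ∀ p : S3, p * ζ = ζ * p → p ^ 3 = 1 := by decide +kernel

theorem even_S3 : ∀ p : S3, Perm.sign p = 1 → p = 1 ∨ p = ζ ∨ p = ζ⁻¹ := by decide +kernel

theorem cube_S3 : ∀ p : S3, p ^ 3 = 1 → p = 1 ∨ p = ζ ∨ p = ζ⁻¹ := by decide +kernel

theorem norm_ζ : ∀ p : S3, p * ζ * p⁻¹ = ζ ∨ p * ζ * p⁻¹ = ζ⁻¹ := by decide +kernel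

set_option synthInstance.maxSize 2048 in
theorem inv_sub : ∀ q : S5, Perm.sign q = 1 → q = 1 ∨ (∃ t, q = V6 t) ∨ (q ≠ 1 ∧ q ^ 3 = 1) ∨
    (f1 q ≠ 1 ∧ f1 q ^ 3 = 1) ∨ (f2 q ≠ 1 ∧ f2 q ^ 3 = 1) ∨ (f1 (f1 q) ≠ 1 ∧ f1 (f1 q) ^ 3 = 1) ∨
    (f2 (f1 q) ≠ 1 ∧ f2 (f1 q) ^ 3 = 1) := by decide +kernel

theorem inverts_ω : ∀ q : S5, q * ω * q⁻¹ = ω⁻¹ → ∃ j ε, q = R6 j ε := by decide +kernel

set_option synthInstance.maxSize 2048 in
theorem moore_aux : ∀ j j' : Fin 3, R6 j 0 * R6 j' 1 = R6 j' 1 * R6 j 0 → ∀ t, ∃ k : Fin 3,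
    (ω ^ k.val * V6 t * (ω ^ k.val)⁻¹) * (ω ^ k.val * V6 t * (ω ^ k.val)⁻¹) = 1 ∧
    (ω ^ k.val * V6 t * (ω ^ k.val)⁻¹) * R6 j 0 = R6 j 0 * (ω ^ k.val * V6 t * (ω ^ k.val)⁻¹) ∧
    ((ω ^ k.val * V6 t * (ω ^ k.val)⁻¹) * R6 j' 1) ^ 3 = 1 ∧
    (ω * (ω ^ k.val * V6 t * (ω ^ k.val)⁻¹)) ^ 3 = 1 ∧
    (ω⁻¹ * (ω ^ k.val * V6 t * (ω ^ k.val)⁻¹)) ^ 3 = 1 := by decide +kernel

theorem sign_R6 : ∀ j, Perm.sign (R6 j 0) = -1 ∧ Perm.sign (R6 j 1) = 1 := by decide +kernel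

theorem norm_five : ∀ q : S5, q ^ 3 = 1 → (finRotate 5 * q * (finRotate 5)⁻¹ = 1 ∨
    finRotate 5 * q * (finRotate 5)⁻¹ = q ∨ finRotate 5 * q * (finRotate 5)⁻¹ = q⁻¹) → q = 1 := by
  decide +kernel

end F5
end CfsgH7
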