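import Cfsg.Agent.H7.Loc7
import Cfsg.Agent.H9.Loc3G

/-! The model `S₃ ≀ S₃` of the normalizer of `3³` in `S₉`, and frames. -/

set_option autoImplicit false

namespace CfsgH7
open Subgroup CfsgH5 CfsgH6 CfsgFT CfsgH8 CfsgH9 Equiv

universe u

namespace W9

/-- affine maps `t ↦ ± t + a` of `Z/3`. -/
inductive A3 | e0 | e1 | e2 | o0 | o1 | o2
  deriving DecidableEq

instance : Fintype A3 := ⟨{.e0, .e1, .e2, .o0, .o1, .o2}, fun x => by cases x <;> simp⟩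

instance instDecA3 {P : A3 → Prop} [DecidablePred P] : Decidable (∀ m, P m) :=
  decidable_of_iff (P .e0 ∧ P .e1 ∧ P .e2 ∧ P .o0 ∧ P .o1 ∧ P .o2)
    ⟨fun h m => by cases m <;> tauto, fun h => ⟨h _, h _, h _, h _, h _, h _⟩⟩

instance instDecA3' {P : A3 → Prop} [DecidablePred P] : Decidable (∃ m, P m) :=
  decidable_of_iff (P .e0 ∨ P .e1 ∨ P .e2 ∨ P .o0 ∨ P .o1 ∨ P .o2)
    ⟨fun h => by rcases h with h | h | h | h | h | h <;> exact ⟨_, h⟩,
      fun ⟨m, h⟩ => by cases m <;> tauto⟩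

namespace A3
noncomputable def mul (x y : A3) : A3 :=
  A3.rec y (A3.rec e1 e2 e0 o1 o2 o0 y) (A3.rec e2 e0 e1 o2 o0 o1 y)
    (A3.rec o0 o2 o1 e0 e2 e1 y) (A3.rec o1 o0 o2 e1 e0 e2 y) (A3.rec o2 o1 o0 e2 e1 e0 y) x
noncomputable def inv (x : A3) : A3 := A3.rec e0 e2 e1 o0 o1 o2 x
noncomputable def s (x : A3) : Bool := A3.rec false false false true true true x
noncomputable def a (x : A3) : Fin 3 := A3.rec 0 1 2 0 1 2 x
def ev (a : Fin 3) : A3 := ![e0, e1, e2] a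
def sg (s : Bool) : A3 := cond s o0 e0
noncomputable def act (x : A3) : Fin 3 → Fin 3 :=
  A3.rec ![0, 1, 2] ![1, 2, 0] ![2, 0, 1] ![0, 2, 1] ![1, 0, 2] ![2, 1, 0] x

noncomputable instance : Group A3 where
  mul := A3.mul
  one := .e0
  inv := A3.inv
  mul_assoc := by decide +kernel
  one_mul := by decide +kernel
  mul_one := by decide +kernel
  inv_mul_cancel := by decide +kernel

theorem s_mul : ∀ x y : A3, (x.mul y).s = xor x.s y.s := by decide +kernel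
theorem sg_xor : ∀ s t, sg (xor s t) = (sg s).mul (sg t) := by decide +kernel
theorem act_mul : ∀ (x y : A3) (t : Fin 3), (x.mul y).act t = x.act (y.act t) := by decide +kernel
theorem s_sg : ∀ b, (sg b).s = b := by decide +kernel
end A3

/-- `S₃ ≀ S₃`. -/
@[ext] structure W where
  x0 : A3
  x1 : A3
  x2 : A3
  p : A3
  deriving DecidableEq

noncomputable def W.mul (m n : W) : W :=
  A3.rec ⟨m.x0.mul n.x0, m.x1.mul n.x1, m.x2.mul n.x2, n.p⟩
    ⟨m.x0.mul n.x2, m.x1.mul n.x0, m.x2.mul n.x1, A3.e1.mul n.p⟩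
    ⟨m.x0.mul n.x1, m.x1.mul n.x2, m.x2.mul n.x0, A3.e2.mul n.p⟩
    ⟨m.x0.mul n.x0, m.x1.mul n.x2, m.x2.mul n.x1, A3.o0.mul n.p⟩
    ⟨m.x0.mul n.x1, m.x1.mul n.x0, m.x2.mul n.x2, A3.o1.mul n.p⟩
    ⟨m.x0.mul n.x2, m.x1.mul n.x1, m.x2.mul n.x0, A3.o2.mul n.p⟩ m.p

noncomputable def W.inv (m : W) : W :=
  A3.rec ⟨m.x0.inv, m.x1.inv, m.x2.inv, .e0⟩ ⟨m.x1.inv, m.x2.inv, m.x0.inv, .e2⟩
    ⟨m.x2.inv, m.x0.inv, m.x1.inv, .e1⟩ ⟨m.x0.inv, m.x2.inv, m.x1.inv, .o0⟩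
    ⟨m.x1.inv, m.x0.inv, m.x2.inv, .o1⟩ ⟨m.x2.inv, m.x1.inv, m.x0.inv, .o2⟩ m.p

instance instDecW {P : W → Prop} [DecidablePred P] : Decidable (∀ m, P m) :=
  decidable_of_iff (∀ p x0 x1 x2, P ⟨x0, x1, x2, p⟩)
    ⟨fun h m => h m.p m.x0 m.x1 m.x2, fun h _ _ _ _ => h _⟩

instance instDecW' {P : W → Prop} [DecidablePred P] : Decidable (∃ m, P m) :=
  decidable_of_iff (∃ p x0 x1 x2, P ⟨x0, x1, x2, p⟩)
    ⟨fun ⟨_, _, _, _, h⟩ => ⟨_, h⟩, fun ⟨m, h⟩ => ⟨m.p, m.x0, m.x1, m.x2, h⟩⟩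

noncomputable instance : Group W where
  mul := W.mul
  one := ⟨.e0, .e0, .e0, .e0⟩
  inv := W.inv
  mul_assoc := by
    rintro ⟨a, b, c, p⟩ ⟨a', b', c', q⟩ ⟨a'', b'', c'', r⟩
    cases p <;> cases q <;>
      exact W.ext (mul_assoc (G := A3) _ _ _) (mul_assoc (G := A3) _ _ _)
        (mul_assoc (G := A3) _ _ _) (by cases r <;> rfl)
  one_mul := by decide +kernel
  mul_one := by decide +kernel
  inv_mul_cancel := by decide +kernel

instance : Fintype W := Fintype.ofEquiv (A3 × A3 × A3 × A3)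
  ⟨fun x => ⟨x.1, x.2.1, x.2.2.1, x.2.2.2⟩, fun m => (m.x0, m.x1, m.x2, m.p), fun _ => rfl,
    fun _ => rfl⟩

/-- signed permutations. -/
def mkL (s0 s1 s2 : Bool) (p : A3) : W := ⟨.sg s0, .sg s1, .sg s2, p⟩
noncomputable def lin (m : W) : W := mkL m.x0.s m.x1.s m.x2.s m.p

theorem lin_mul (m n : W) : lin (m * n) = lin m * lin n := by
  obtain ⟨a, b, c, p⟩ := m
  cases p <;> exact W.ext ((congrArg A3.sg (A3.s_mul _ _)).trans (A3.sg_xor _ _))
    ((congrArg A3.sg (A3.s_mul _ _)).trans (A3.sg_xor _ _))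
    ((congrArg A3.sg (A3.s_mul _ _)).trans (A3.sg_xor _ _)) rfl

noncomputable def linH : W →* W := MonoidHom.mk' lin lin_mul

/-- evaluation of a predicate on signs and permutation. -/
noncomputable def ap (P : Bool → Bool → Bool → A3 → Bool) (m : W) : Bool := P m.x0.s m.x1.s m.x2.s m.p

theorem ap_lin (P : Bool → Bool → Bool → A3 → Bool) (m : W) : ap P (lin m) = ap P m := by
  simp only [ap, lin, mkL, A3.s_sg]

/-- subgroups containing the translations. -/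
def sub (P : Bool → Bool → Bool → A3 → Bool) (h1 : P false false false .e0 = true)
    (hm : ∀ s0 s1 s2 p, P s0 s1 s2 p = true → ap P (mkL s0 s1 s2 p)⁻¹ = true ∧ ∀ t0 t1 t2 q,
      P t0 t1 t2 q = true → ap P (mkL s0 s1 s2 p * mkL t0 t1 t2 q) = true) : Subgroup W where
  carrier := {m | ap P m = true}
  one_mem' := h1
  mul_mem' {m n} a b := by
    change ap P (m * n) = true
    rw [← ap_lin, lin_mul]; exact (hm _ _ _ _ a).2 _ _ _ _ b
  inv_mem' {m} a := by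
    change ap P m⁻¹ = true
    rw [← ap_lin, show lin m⁻¹ = (lin m)⁻¹ from map_inv linH m]; exact (hm _ _ _ _ a).1

noncomputable def PJ0 (s0 s1 s2 : Bool) (p : A3) : Bool := !s0 && !s1 && !s2 && decide (p = .e0)
noncomputable def J0 : Subgroup W := sub PJ0 rfl (by decide +kernel)
noncomputable instance (m : W) : Decidable (m ∈ J0) :=
  inferInstanceAs (Decidable (ap PJ0 m = true))
noncomputable def PS0 (s0 s1 s2 : Bool) (p : A3) : Bool := !s0 && !s1 && !s2 && !p.s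
noncomputable def S0 : Subgroup W := sub PS0 rfl (by decide +kernel)
noncomputable instance (m : W) : Decidable (m ∈ S0) :=
  inferInstanceAs (Decidable (ap PS0 m = true))
noncomputable def PHS3 (s0 s1 s2 : Bool) (_p : A3) : Bool := !s0 && !s1 && !s2
noncomputable def HS3 : Subgroup W := sub PHS3 rfl (by decide +kernel)
noncomputable instance (m : W) : Decidable (m ∈ HS3) :=
  inferInstanceAs (Decidable (ap PHS3 m = true))
noncomputable def PHD12 (s0 s1 s2 : Bool) (_p : A3) : Bool := !xor s0 s1 && !xor s0 s2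
noncomputable def HD12 : Subgroup W := sub PHD12 rfl (by decide +kernel)
noncomputable instance (m : W) : Decidable (m ∈ HD12) :=
  inferInstanceAs (Decidable (ap PHD12 m = true))
noncomputable def PHD3 (s0 s1 s2 : Bool) (_p : A3) : Bool := !xor (xor s0 s1) s2
noncomputable def HD3 : Subgroup W := sub PHD3 rfl (by decide +kernel)
noncomputable instance (m : W) : Decidable (m ∈ HD3) :=
  inferInstanceAs (Decidable (ap PHD3 m = true))
noncomputable def PHA (s0 s1 s2 : Bool) (p : A3) : Bool := !xor (xor (xor s0 s1) s2) p.s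
noncomputable def HA : Subgroup W := sub PHA rfl (by decide +kernel)
noncomputable instance (m : W) : Decidable (m ∈ HA) :=
  inferInstanceAs (Decidable (ap PHA m = true))
noncomputable def PJV (s0 s1 s2 : Bool) (p : A3) : Bool := !xor (xor s0 s1) s2 && decide (p = .e0)
noncomputable def JV : Subgroup W := sub PJV rfl (by decide +kernel)
noncomputable instance (m : W) : Decidable (m ∈ JV) :=
  inferInstanceAs (Decidable (ap PJV m = true))
noncomputable def PSt0 (_s0 _s1 _s2 : Bool) (p : A3) : Bool := decide (p = .e0) || decide (p = .o0)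
noncomputable def St0 : Subgroup W := sub PSt0 rfl (by decide +kernel)
noncomputable instance (m : W) : Decidable (m ∈ St0) :=
  inferInstanceAs (Decidable (ap PSt0 m = true))
noncomputable def PHB3 (_s0 _s1 _s2 : Bool) (_p : A3) : Bool := true
noncomputable def HB3 : Subgroup W := sub PHB3 rfl (by decide +kernel)
noncomputable instance (m : W) : Decidable (m ∈ HB3) :=
  inferInstanceAs (Decidable (ap PHB3 m = true))

theorem mem_HB3 (m : W) : m ∈ HB3 := rfl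

def jv (a b c : Fin 3) : W := ⟨.ev a, .ev b, .ev c, .e0⟩
def a0 : W := ⟨.e1, .e0, .e0, .e0⟩
def a1 : W := ⟨.e0, .e1, .e0, .e0⟩
def a2 : W := ⟨.e0, .e0, .e1, .e0⟩
def c0 : W := ⟨.e1, .e1, .e1, .e0⟩
def b0 : W := ⟨.e0, .e1, .e2, .e0⟩
def σ0 : W := ⟨.e0, .e0, .e0, .e1⟩
def r0 : W := ⟨.e0, .e0, .e0, .o0⟩
def s0 : W := ⟨.o0, .e0, .e0, .e0⟩
def s1 : W := ⟨.e0, .o0, .e0, .e0⟩
def s2 : W := ⟨.e0, .e0, .o0, .e0⟩
def z0 : W := ⟨.o0, .o0, .o0, .e0⟩
def d0 : W := ⟨.e0, .o0, .o0, .e0⟩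
def t0 : W := ⟨.o0, .o0, .o0, .o0⟩
def n0 : W := ⟨.e0, .o0, .e0, .o2⟩

theorem jv_mem : ∀ a b c, jv a b c ∈ J0 := by decide +kernel
theorem eq_jv : ∀ m ∈ J0, m = jv m.x0.a m.x1.a m.x2.a := by decide +kernel
theorem jv_eq : ∀ a b c : Fin 3, jv a b c = a0 ^ a.val * a1 ^ b.val * a2 ^ c.val := by
  decide +kernel
theorem jv_inj : ∀ a b c a' b' c', jv a b c = jv a' b' c' → a = a' ∧ b = b' ∧ c = c' := by
  decide +kernel
theorem J0_comm {m n : W} (hm : m ∈ J0) (hn : n ∈ J0) : m * n = n * m := by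
  have : ∀ a b c a' b' c', jv a b c * jv a' b' c' = jv a' b' c' * jv a b c := by decide +kernel
  rw [eq_jv m hm, eq_jv n hn, this]
theorem J0_cube : ∀ m ∈ J0, m ^ 3 = 1 := by decide +kernel
theorem J0_nrm (g : W) {m : W} (hm : m ∈ J0) : g * m * g⁻¹ ∈ J0 := by
  have h1 : ∀ m, m ∈ J0 ↔ linH m = 1 := by decide +kernel
  rw [h1] at hm ⊢
  rw [map_mul, map_mul, hm, map_inv, mul_one, mul_inv_cancel]
theorem J0_le_S0 : J0 ≤ S0 := by
  have : ∀ m, m ∈ J0 → m ∈ S0 := by decide +kernel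
  exact this
theorem cent_J0 : ∀ m : W, m * a0 = a0 * m → m * a1 = a1 * m → m * a2 = a2 * m → m ∈ J0 := by
  decide +kernel
theorem card_J0 : Nat.card J0 = 27 := by rw [Nat.card_eq_fintype_card]; decide +kernel
theorem card_S0 : Nat.card S0 = 81 := by rw [Nat.card_eq_fintype_card]; decide +kernel

theorem cube_out : ∀ x : W, x ^ 3 = 1 → x ∉ J0 → ∀ y : W, y ^ 3 = 1 → x * y = y * x →
    ∃ i j : Fin 3, y = x ^ i.val * (a0 * (x * a0 * x⁻¹) * (x⁻¹ * a0 * x)) ^ j.val := by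
  decide +kernel

theorem nrm_S0 : ∀ m : W, m * σ0 * m⁻¹ ∈ S0 → m ^ 2 ∈ S0 ∨ m ^ 4 ∈ S0 := by decide +kernel

/-! ### the action on nine points -/

def W.get (m : W) (i : Fin 3) : A3 := ![m.x0, m.x1, m.x2] i

noncomputable instance instActW : MulAction W (Fin 3 × Fin 3) where
  smul m q := (m.p.act q.1, (m.get (m.p.act q.1)).act q.2)
  one_smul := by decide +kernel
  mul_smul := by
    rintro ⟨a, b, c, p⟩ ⟨a', b', c', q⟩ ⟨i, t⟩
    cases p <;> cases q <;> fin_cases i <;> exact Prod.ext rfl (A3.act_mul _ _ _)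

noncomputable def toP : W →* Perm (Fin 9) :=
  ((finProdFinEquiv (m := 3) (n := 3)).permCongrHom).toMonoidHom.comp
    (MulAction.toPermHom W (Fin 3 × Fin 3))

theorem toP_inj : Function.Injective toP := by
  refine ((finProdFinEquiv (m := 3) (n := 3)).permCongrHom.injective).comp
    ((injective_iff_map_eq_one _).mpr fun m hm => ?_)
  have h : ∀ m : W, (∀ p : Fin 3 × Fin 3, m • p = p) → m = 1 := by decide +kernel
  exact h m fun p => DFunLike.congr_fun hm p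

theorem toP_a0 : toP a0 = swap 0 1 * swap 1 2 := by decide +kernel
theorem toP_a1 : toP a1 = swap 3 4 * swap 4 5 := by decide +kernel
theorem toP_a2 : toP a2 = swap 6 7 * swap 7 8 := by decide +kernel
theorem toP_c0 : toP c0 = swap 0 1 * swap 1 2 * swap 3 4 * swap 4 5 * swap 6 7 * swap 7 8 := by
  decide +kernel

theorem sign_toP (m : W) : Perm.sign (toP m) = 1 ↔ m ∈ HA := by
  have h1 : ∀ m, m * (lin m)⁻¹ ∈ J0 := by decide +kernel
  have h2 : ∀ s0 s1 s2 p, Perm.sign (toP (mkL s0 s1 s2 p)) = 1 ↔ mkL s0 s1 s2 p ∈ HA := by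
    decide +kernel
  have h3 : Perm.sign (toP (m * (lin m)⁻¹)) = 1 :=
    sign_of_cube (k := 1) (by rw [← map_pow, J0_cube _ (h1 m), map_one])
  rw [map_mul, map_mul, map_inv, map_inv, mul_inv_eq_one] at h3
  rw [h3]
  exact (h2 _ _ _ _).trans (by change ap _ (lin m) = true ↔ ap _ m = true; rw [ap_lin])

/-- the element of `HS3` with given images of `0, 3, 6`. -/
def mk3 (x y z : Fin 9) : W :=
  let f : Fin 3 → A3 := fun i => .ev (Fin.ofNat 3 (if x.val / 3 = i.val then x.val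
    else if y.val / 3 = i.val then y.val else z.val))
  ⟨f 0, f 1, f 2, if y.val / 3 = (x.val / 3 + 1) % 3 then .ev (Fin.ofNat 3 (x.val / 3))
    else ![.o0, .o1, .o2] (Fin.ofNat 3 (x.val / 3))⟩

theorem mk3_spec : ∀ x y z : Fin 9, x.val / 3 ≠ y.val / 3 → x.val / 3 ≠ z.val / 3 →
    y.val / 3 ≠ z.val / 3 → mk3 x y z ∈ HS3 ∧ toP (mk3 x y z) 0 = x ∧ toP (mk3 x y z) 3 = y ∧
      toP (mk3 x y z) 6 = z := by decide +kernel

theorem HS3_comm : ∀ m, m ∈ HS3 ↔ m * c0 = c0 * m := by decide +kernel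

theorem exists_of_comm {π : Perm (Fin 9)} (h : π * toP c0 = toP c0 * π) :
    ∃ m ∈ HS3, toP m = π := by
  have h1 : ∀ x y : Fin 9, x.val / 3 = y.val / 3 → y = x ∨ y = toP c0 x ∨
    y = toP c0 (toP c0 x) := by decide +kernel
  have h2 : ∀ x y : Fin 9, x.val / 3 ≠ y.val / 3 → (π x).val / 3 ≠ (π y).val / 3 := by
    intro x y hxy e
    have h3 : ∀ x : Fin 9, (toP c0 x).val / 3 = x.val / 3 := by decide +kernel
    rcases h1 _ _ e with e | e | e <;> simp only [← apply_comm h, EmbeddingLike.apply_eq_iff_eq] at e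
      <;> simp only [e, h3, ne_eq, not_true_eq_false] at hxy
  obtain ⟨hm, e0, e3, e6⟩ := mk3_spec (π 0) (π 3) (π 6) (h2 _ _ (by decide)) (h2 _ _ (by decide))
    (h2 _ _ (by decide))
  refine ⟨_, hm, ?_⟩
  have h4 : toP (mk3 (π 0) (π 3) (π 6)) * toP c0 = toP c0 * toP (mk3 (π 0) (π 3) (π 6)) :=
    rel_mul toP ((HS3_comm _).mp hm)
  generalize toP (mk3 (π 0) (π 3) (π 6)) = ρ at e0 e3 e6 h4
  have h5 : ∀ x, ρ x = π x → ρ (toP c0 x) = π (toP c0 x) := fun x e => by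
    rw [apply_comm h4, apply_comm h, e]
  have h6 : ∀ x : Fin 9, ∃ y, (y = 0 ∨ y = 3 ∨ y = 6) ∧ (x = y ∨ x = toP c0 y ∨
    x = toP c0 (toP c0 y)) := by decide +kernel
  ext1 x
  obtain ⟨y, hy, hx⟩ := h6 x
  have h7 : ρ y = π y := by rcases hy with rfl | rfl | rfl <;> assumption
  rcases hx with rfl | rfl | rfl
  exacts [h7, h5 _ h7, h5 _ (h5 _ h7)]

def six : Fin 6 → W := ![a0, a1, a2, jv 2 0 0, jv 0 2 0, jv 0 0 2]

theorem exists_of_nrm {π : Perm (Fin 9)} (h : ∀ m ∈ J0, ∃ n ∈ J0, π * toP m * π⁻¹ = toP n) :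
    ∃ m, toP m = π := by
  have h1 : ∀ a b c, (toP (jv a b c)).support.card = 3 → ∃ i, jv a b c = six i := by decide +kernel
  have h2 : ∀ i, ∃ j, π * toP (six i) * π⁻¹ = toP (six j) := fun i => by
    have h3 : ∀ i, six i ∈ J0 ∧ (toP (six i)).support.card = 3 := by decide +kernel
    obtain ⟨n, hn, e⟩ := h _ (h3 i).1
    obtain ⟨j, e'⟩ := h1 n.x0.a n.x1.a n.x2.a (by
      rw [← eq_jv n hn, ← e, Perm.card_support_conj, (h3 i).2])
    exact ⟨j, by rw [e, eq_jv n hn, e']⟩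
  obtain ⟨i, hi⟩ := h2 0
  obtain ⟨j, hj⟩ := h2 1
  obtain ⟨k, hk⟩ := h2 2
  have h4 : ∀ x y : Fin 6, ∀ i j, π * toP (six x) * π⁻¹ = toP (six i) →
      π * toP (six y) * π⁻¹ = toP (six j) → six x ≠ six y → six x * six y ≠ 1 →
      six i ≠ six j ∧ six i * six j ≠ 1 := fun x y i j e1 e2 n1 n2 =>
    ⟨fun e => n1 (toP_inj (by rw [e, ← e2] at e1; simpa using e1)), fun e => n2 (toP_inj (by
      have := congrArg toP e
      rw [map_mul, ← e1, ← e2, conj_mul, map_one] at this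
      simpa using this))⟩
  have h5 : ∀ i j k, (six i ≠ six j ∧ six i * six j ≠ 1) → (six i ≠ six k ∧ six i * six k ≠ 1) →
      (six j ≠ six k ∧ six j * six k ≠ 1) → ∃ s0 s1 s2 p,
      mkL s0 s1 s2 p * c0 * (mkL s0 s1 s2 p)⁻¹ = six i * six j * six k := by decide +kernel
  obtain ⟨s0, s1, s2, p, e⟩ := h5 i j k (h4 _ _ _ _ hi hj (by decide +kernel) (by decide +kernel))
    (h4 _ _ _ _ hi hk (by decide +kernel) (by decide +kernel))
    (h4 _ _ _ _ hj hk (by decide +kernel) (by decide +kernel))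
  generalize mkL s0 s1 s2 p = l at e
  have h6 : π * toP c0 * π⁻¹ = toP l * toP c0 * (toP l)⁻¹ := by
    rw [rel_conj toP e, map_mul, map_mul, ← hi, ← hj, ← hk, conj_mul, conj_mul, ← map_mul,
      ← map_mul]
    rfl
  obtain ⟨m, -, hm⟩ := exists_of_comm (π := (toP l)⁻¹ * π) (by
    calc _ = (toP l)⁻¹ * (π * toP c0 * π⁻¹) * π := by group
      _ = _ := by rw [h6]; group)
  exact ⟨l * m, by rw [map_mul, hm]; group⟩

/-! ### frames -/

variable {G : Type u} [Group G]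

/-- an injective homomorphism defined on a subgroup. -/
structure PH {M : Type} [Group M] (H0 : Subgroup M) (F : M → G) : Prop where
  mul : ∀ {m n}, m ∈ H0 → n ∈ H0 → F (m * n) = F m * F n
  inj1 : ∀ {m}, m ∈ H0 → F m = 1 → m = 1

namespace PH
variable {M : Type} [Group M] {H0 : Subgroup M} {F : M → G} (h : PH H0 F)
include h

noncomputable def hom : H0 →* G := MonoidHom.mk' (fun m => F m) fun m n => h.mul m.2 n.2

theorem hom_inj : Function.Injective h.hom :=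
  (injective_iff_map_eq_one _).mpr fun m e => Subtype.ext (h.inj1 m.2 e)

theorem one : F 1 = 1 := map_one h.hom
theorem inv {m : M} (hm : m ∈ H0) : F m⁻¹ = (F m)⁻¹ := map_inv h.hom ⟨m, hm⟩
theorem pow {m : M} (hm : m ∈ H0) (n : ℕ) : F (m ^ n) = F m ^ n := map_pow h.hom ⟨m, hm⟩ n
theorem inj {m n : M} (hm : m ∈ H0) (hn : n ∈ H0) (e : F m = F n) : m = n :=
  congrArg Subtype.val (h.hom_inj (a₁ := ⟨m, hm⟩) (a₂ := ⟨n, hn⟩) e)
theorem conj' {g x : M} (hg : g ∈ H0) (hx : x ∈ H0) : F (g * x * g⁻¹) = F g * F x * (F g)⁻¹ := by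
  rw [h.mul (mul_mem hg hx) (inv_mem hg), h.mul hg hx, h.inv hg]
theorem conj {g x y : M} (hg : g ∈ H0) (hx : x ∈ H0) (e : g * x * g⁻¹ = y) :
    F g * F x * (F g)⁻¹ = F y := by rw [← e, h.conj' hg hx]
theorem conj_inv {g x : M} (hg : g ∈ H0) (hx : x ∈ H0) (e : g * x * g⁻¹ = x⁻¹) :
    F g * F x * (F g)⁻¹ = (F x)⁻¹ := by rw [h.conj hg hx e, h.inv hx]
theorem mul' {x y w : M} (hx : x ∈ H0) (hy : y ∈ H0) (e : x * y = w) : F x * F y = F w := by
  rw [← e, h.mul hx hy]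
theorem comm {x y : M} (hx : x ∈ H0) (hy : y ∈ H0) (e : x * y = y * x) :
    F x * F y = F y * F x := by rw [← h.mul hx hy, e, h.mul hy hx]
theorem comm' {x y : M} (hx : x ∈ H0) (hy : y ∈ H0) (e : F x * F y = F y * F x) :
    x * y = y * x := h.inj (mul_mem hx hy) (mul_mem hy hx) (by rwa [h.mul hx hy, h.mul hy hx])
theorem conj_inj {g x y : M} (hg : g ∈ H0) (hx : x ∈ H0) (hy : y ∈ H0)
    (e : F g * F x * (F g)⁻¹ = F y) : g * x * g⁻¹ = y :=
  h.inj (mul_mem (mul_mem hg hx) (inv_mem hg)) hy (by rwa [h.conj' hg hx])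
theorem pow_eq {x : M} {n : ℕ} (hx : x ∈ H0) (e : x ^ n = 1) : F x ^ n = 1 := by
  rw [← h.pow hx, e, h.one]
theorem pow_eq' {x : M} {n : ℕ} (hx : x ∈ H0) (e : F x ^ n = 1) : x ^ n = 1 :=
  h.inj1 (pow_mem hx n) (by rwa [h.pow hx])
theorem sq {x : M} (hx : x ∈ H0) (e : x * x = 1) : F x * F x = 1 := by rw [← h.mul hx hx, e, h.one]
theorem sq' {x : M} (hx : x ∈ H0) (e : F x * F x = 1) : x * x = 1 :=
  h.inj1 (mul_mem hx hx) (by rwa [h.mul hx hx])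
theorem ne {x : M} (hx : x ∈ H0) (e : x ≠ 1) : F x ≠ 1 := fun e' => e (h.inj1 hx e')
theorem orderOf_eq {x : M} (hx : x ∈ H0) : orderOf (F x) = orderOf x :=
  (orderOf_injective h.hom h.hom_inj ⟨x, hx⟩).trans (orderOf_coe (⟨x, hx⟩ : H0)).symm

theorem b9 {x y : M} (hx : x ∈ H0) (hy : y ∈ H0)
    (e : x ^ 3 = 1 ∧ y ^ 3 = 1 ∧ x * y = y * x ∧ x ≠ 1 ∧ y ≠ 1 ∧ y ≠ x ∧ y ≠ x⁻¹) :
    B9 (F x) (F y) :=
  b9_map h.hom_inj (x := ⟨x, hx⟩) (y := ⟨y, hy⟩) (Subtype.ext e.1) (Subtype.ext e.2.1)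
    (Subtype.ext e.2.2.1) (fun a => e.2.2.2.1 (congrArg Subtype.val a))
    (fun a => e.2.2.2.2.1 (congrArg Subtype.val a)) (fun a => e.2.2.2.2.2.1 (congrArg Subtype.val a))
    fun a => e.2.2.2.2.2.2 (congrArg Subtype.val a)

/-- image of a subgroup of the model. -/
noncomputable def im (X : Subgroup M) : Subgroup G := (X.subgroupOf H0).map h.hom

theorem mem_im {X : Subgroup M} {g : G} : g ∈ h.im X ↔ ∃ m ∈ X, m ∈ H0 ∧ F m = g :=
  ⟨fun ⟨m, a, b⟩ => ⟨m, a, m.2, b⟩, fun ⟨m, a, b, c⟩ => ⟨⟨m, b⟩, a, c⟩⟩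

theorem mem_im' {X : Subgroup M} {m : M} (hm : m ∈ H0) : F m ∈ h.im X ↔ m ∈ X :=
  ⟨fun e => by
    obtain ⟨n, a, b, c⟩ := h.mem_im.mp e
    rwa [← h.inj b hm c], fun e => h.mem_im.mpr ⟨m, e, hm, rfl⟩⟩

theorem card_im (X : Subgroup M) : Nat.card (h.im X) = Nat.card ↥(X ⊓ H0) := by
  rw [im, card_map_of_injective h.hom_inj, ← inf_subgroupOf_right]
  exact Nat.card_congr (subgroupOfEquivOfLe inf_le_right).toEquiv

theorem isP_im {X : Subgroup M} {p k : ℕ} (e : ∀ x ∈ X, x ^ p ^ k = 1) : IsPGroup p (h.im X) :=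
  fun g => ⟨k, Subtype.ext (by
    obtain ⟨g, hg⟩ := g
    obtain ⟨m, a, b, rfl⟩ := h.mem_im.mp hg
    exact h.pow_eq b (e m a))⟩

/-- preimage of a subgroup. -/
noncomputable def bk (K : Subgroup G) : Subgroup M := (K.comap h.hom).map H0.subtype

theorem mem_bk {K : Subgroup G} {m : M} : m ∈ h.bk K ↔ m ∈ H0 ∧ F m ∈ K :=
  ⟨fun ⟨n, a, b⟩ => b ▸ ⟨n.2, a⟩, fun ⟨a, b⟩ => ⟨⟨m, a⟩, b, rfl⟩⟩

theorem cj (g : G) : PH H0 (fun m => g * F m * g⁻¹) where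
  mul a b := by simp only [h.mul a b, conj_mul]
  inj1 a e := h.inj1 a (by simpa using e)

end PH

/-- a subgroup given by a list. -/
def ofL {M : Type} [Group M] (l : List M) (h : 1 ∈ l ∧ ∀ x ∈ l, ∀ y ∈ l, x * y⁻¹ ∈ l) : Subgroup M :=
  Subgroup.ofDiv {x | x ∈ l} ⟨1, h.1⟩ h.2

theorem mem_ofL {M : Type} [Group M] {l : List M} {h} {x : M} : x ∈ ofL l h ↔ x ∈ l := Iff.rfl

/-- `F` identifies `H0` with the normalizer of `J`. -/
structure Fr (H0 : Subgroup W) (F : W → G) (J : Subgroup G) : Prop extends PH H0 F where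
  le : S0 ≤ H0
  memJ : ∀ {g}, g ∈ J ↔ ∃ m ∈ J0, F m = g
  memN : ∀ {g}, g ∈ N J ↔ ∃ m ∈ H0, F m = g

namespace Fr
variable {H0 : Subgroup W} {F : W → G} {J : Subgroup G} (h : Fr H0 F J)
include h

theorem jle {m : W} (hm : m ∈ J0) : m ∈ H0 := h.le (J0_le_S0 hm)
theorem mN {x : W} (hx : x ∈ H0) : F x ∈ N J := h.memN.mpr ⟨x, hx, rfl⟩
theorem mJ {x : W} (hx : x ∈ J0) : F x ∈ J := h.memJ.mpr ⟨x, hx, rfl⟩
theorem mJ' {x : W} (hx : x ∈ H0) (e : F x ∈ J) : x ∈ J0 := by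
  obtain ⟨m, hm, e⟩ := h.memJ.mp e
  rwa [← h.inj (h.jle hm) hx e]

theorem im_le (X : Subgroup W) : h.im X ≤ N J := fun g hg => by
  obtain ⟨m, -, a, rfl⟩ := h.mem_im.mp hg
  exact h.mN a

theorem im_J : h.im J0 = J := by
  ext g
  rw [h.mem_im, h.memJ]
  exact ⟨fun ⟨m, a, _, b⟩ => ⟨m, a, b⟩, fun ⟨m, a, b⟩ => ⟨m, a, h.jle a, b⟩⟩

theorem card_J : Nat.card J = 27 := by
  rw [← h.im_J, h.card_im, inf_eq_left.mpr (J0_le_S0.trans h.le), card_J0]

theorem ab : Ab J := ab_iff.mpr fun x hx y hy => by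
  obtain ⟨m, a, rfl⟩ := h.memJ.mp hx
  obtain ⟨n, b, rfl⟩ := h.memJ.mp hy
  exact h.comm (h.jle a) (h.jle b) (J0_comm a b)

theorem exp (j : G) (hj : j ∈ J) : j ^ 3 = 1 := by
  obtain ⟨m, a, rfl⟩ := h.memJ.mp hj
  exact h.pow_eq (h.jle a) (J0_cube m a)

theorem isP : IsPGroup 3 J := fun g => ⟨1, Subtype.ext (h.exp g g.2)⟩

theorem J_le {K : Subgroup G} (k0 : F a0 ∈ K) (k1 : F a1 ∈ K) (k2 : F a2 ∈ K) : J ≤ K := by
  intro g hg
  obtain ⟨m, a, rfl⟩ := h.memJ.mp hg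
  have b0 := h.jle (show a0 ∈ J0 by decide)
  have b1 := h.jle (show a1 ∈ J0 by decide)
  have b2 := h.jle (show a2 ∈ J0 by decide)
  rw [eq_jv m a, jv_eq, h.mul (mul_mem (pow_mem b0 _) (pow_mem b1 _)) (pow_mem b2 _),
    h.mul (pow_mem b0 _) (pow_mem b1 _), h.pow b0, h.pow b1, h.pow b2]
  exact mul_mem (mul_mem (pow_mem k0 _) (pow_mem k1 _)) (pow_mem k2 _)

theorem C_J : C J ≤ J := fun g hg => by
  obtain ⟨m, a, rfl⟩ := h.memN.mp (C_le_N J hg)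
  have : ∀ x ∈ J0, m * x = x * m := fun x hx =>
    h.comm' a (h.jle hx) (mem_C.mp hg _ (h.mJ hx)).symm
  exact h.mJ (cent_J0 m (this _ (by decide)) (this _ (by decide)) (this _ (by decide)))

/-- conjugating a frame by an element of the normalizer. -/
theorem cjFr {k : W} (hk : k ∈ H0) : Fr H0 (fun m => F k * F m * (F k)⁻¹) J where
  toPH := h.cj _
  le := h.le
  memJ := ⟨fun hg => by
    obtain ⟨m, a, e⟩ := h.memJ.mp (conj_mem_of_mem_N (inv_mem (h.mN hk)) hg)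
    exact ⟨m, a, by rw [e]; group⟩, fun ⟨m, a, e⟩ => e ▸ conj_mem_of_mem_N (h.mN hk) (h.mJ a)⟩
  memN := ⟨fun hg => by
    obtain ⟨m, a, e⟩ := h.memN.mp (mul_mem (mul_mem (inv_mem (h.mN hk)) hg) (h.mN hk))
    exact ⟨m, a, by rw [e]; group⟩,
    fun ⟨m, a, e⟩ => e ▸ mul_mem (mul_mem (h.mN hk) (h.mN a)) (inv_mem (h.mN hk))⟩

variable [Finite G]

/-- `J` is weakly closed in its normalizer. -/
theorem weak {g : G} (hg : cj g J ≤ N J) : g ∈ N J := by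
  have h1 : ∀ m ∈ J0, ∃ n ∈ H0, F n = g * F m * g⁻¹ := fun m hm =>
    h.memN.mp (hg (conj_mem_cj.mpr (h.mJ hm)))
  choose! φ hφ hφ' using h1
  have h2 : ∀ m ∈ J0, φ m ^ 3 = 1 := fun m hm =>
    h.pow_eq' (hφ m hm) (by rw [hφ' m hm, conj_pow, h.exp _ (h.mJ hm)]; group)
  refine mem_N_of_conj fun x hx => ?_
  obtain ⟨m, hm, rfl⟩ := h.memJ.mp hx
  rw [← hφ' m hm]
  refine h.mJ (by_contra fun hc => ?_)
  have h3 : ∀ v : Fin 3 × Fin 3 × Fin 3, ∃ w : Fin 3 × Fin 3, φ (jv v.1 v.2.1 v.2.2) =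
      φ m ^ w.1.val * (a0 * (φ m * a0 * (φ m)⁻¹) * ((φ m)⁻¹ * a0 * φ m)) ^ w.2.val := fun v => by
    have hv := jv_mem v.1 v.2.1 v.2.2
    obtain ⟨i, j, e⟩ := cube_out _ (h2 m hm) hc _ (h2 _ hv) (h.comm' (hφ _ hm) (hφ _ hv) (by
      rw [hφ' _ hm, hφ' _ hv]; exact comm_conj_both (h.ab.comm (h.mJ hm) (h.mJ hv))))
    exact ⟨(i, j), e⟩
  choose ψ hψ using h3
  have := Fintype.card_le_of_injective ψ fun v w e => by
    have h4 := hψ v
    rw [e, ← hψ w] at h4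
    have h5 := hφ' _ (jv_mem v.1 v.2.1 v.2.2)
    rw [h4, hφ' _ (jv_mem _ _ _)] at h5
    obtain ⟨e1, e2, e3⟩ := jv_inj _ _ _ _ _ _ (h.inj (h.jle (jv_mem _ _ _)) (h.jle (jv_mem _ _ _))
      (mul_left_cancel (mul_right_cancel h5)))
    exact Prod.ext e1.symm (Prod.ext e2.symm e3.symm)
  simp at this

theorem J_le_S : J ≤ h.im S0 := fun g hg => by
  obtain ⟨m, a, rfl⟩ := h.memJ.mp hg
  exact (h.mem_im' (h.jle a)).mpr (J0_le_S0 a)

theorem card_S : Nat.card (h.im S0) = 81 := by rw [h.card_im, inf_eq_left.mpr h.le, card_S0]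

theorem N_S {g : G} (hg : g ∈ N (h.im S0)) : g ∈ N J :=
  h.weak ((cj_mono h.J_le_S).trans ((mem_N.mp hg).le.trans (h.im_le _)))

theorem sylS : SylIn 3 (h.im S0) ⊤ := by
  refine sylIn_of_sq (isPGroup_of_card_eq (k := 4) h.card_S) le_top fun g _ hg => ?_
  obtain ⟨m, a, rfl⟩ := h.memN.mp (h.N_S hg)
  have b : σ0 ∈ H0 := h.le (by decide)
  have c := conj_mem_of_mem_N hg ((h.mem_im' b).mpr (by decide))
  rw [← h.conj' a b, h.mem_im' (mul_mem (mul_mem a b) (inv_mem a))] at c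
  rw [← h.pow a, ← h.pow a, h.mem_im' (pow_mem a _), h.mem_im' (pow_mem a _)]
  exact nrm_S0 m c

/-- the normalizer of `J` controls fusion in `J` -/
theorem fusJ {y g : G} (hy : y ∈ J) (hg : g * y * g⁻¹ ∈ J) :
    ∃ n ∈ N J, n * y * n⁻¹ = g * y * g⁻¹ := by
  haveI : Fact (Nat.Prime 3) := ⟨Nat.prime_three⟩
  have h1 : J ≤ C1 (g * y * g⁻¹) := le_C1_iff.2 (h.ab hg)
  have h2 : cj g J ≤ C1 (g * y * g⁻¹) := cj_C1 g y ▸ cj_mono (le_C1_iff.2 (h.ab hy))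
  obtain ⟨R, hR, hS⟩ := exists_sylIn_ge h1 h.isP
  obtain ⟨c, hc, h3⟩ := hS.exists_le_cj h2 (isPGroup_cj h.isP g)
  obtain ⟨m, -, h4⟩ := h.sylS.exists_le_cj le_top hS.isPGroup
  rw [le_cj_iff] at h3 h4
  have h5 := h.weak ((cj_mono hR).trans (h4.trans (h.im_le _)))
  have h6 := h.weak (g := m⁻¹ * (c⁻¹ * g)) (by
    rw [← cj_cj, ← cj_cj]; exact (cj_mono h3).trans (h4.trans (h.im_le _)))
  refine ⟨c⁻¹ * g, by simpa using mul_mem (inv_mem h5) h6, ?_⟩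
  calc _ = c⁻¹ * (g * y * g⁻¹) * c⁻¹⁻¹ := by group
    _ = _ := mem_C1_iff_conj.1 (inv_mem hc)

theorem fus {x y : W} (hx : x ∈ J0) (hy : y ∈ J0) {g : G} (e : g * F x * g⁻¹ = F y) :
    ∃ k ∈ H0, k * x * k⁻¹ = y ∧ (F k)⁻¹ * g ∈ C1 (F x) := by
  obtain ⟨n, hn, e'⟩ := h.fusJ (h.mJ hx) (e ▸ h.mJ hy)
  obtain ⟨k, hk, rfl⟩ := h.memN.mp hn
  refine ⟨k, hk, h.conj_inj hk (h.jle hx) (h.jle hy) (e'.trans e), mem_C1_iff_conj.mpr ?_⟩
  calc _ = (F k)⁻¹ * (g * F x * g⁻¹) * F k := by group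
    _ = _ := by rw [← e']; group

/-- an element conjugating `y ∈ J` into `J` normalizes `J` if `C(y)` does. -/
theorem ti {y g : G} (hy : y ∈ J) (hg : g * y * g⁻¹ ∈ J) (hc : C1 y ≤ N J) : g ∈ N J := by
  obtain ⟨n, hn, e⟩ := h.fusJ hy hg
  refine (mul_mem_cancel_left (inv_mem hn)).mp (hc (mem_C1_iff_conj.mpr ?_))
  calc _ = n⁻¹ * (g * y * g⁻¹) * n := by group
    _ = _ := by rw [← e]; group

end Fr
end W9
end CfsgH7
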