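import Cfsg.Agent.H7.Loc12

/-! A fast model of `S₆`, and the model `S₃ × S₆`. -/

set_option autoImplicit false

namespace CfsgH7
open Subgroup CfsgH5 CfsgH6 CfsgFT CfsgH8 CfsgH9 Equiv

universe u

namespace W9

inductive E6 | p0 | p1 | p2 | p3 | p4 | p5
  deriving DecidableEq

open E6

instance instDecE6 {P : E6 → Prop} [DecidablePred P] : Decidable (∀ m, P m) :=
  decidable_of_iff (P p0 ∧ P p1 ∧ P p2 ∧ P p3 ∧ P p4 ∧ P p5)
    ⟨fun h m => by cases m <;> tauto, fun h => ⟨h _, h _, h _, h _, h _, h _⟩⟩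

instance instDecE6' {P : E6 → Prop} [DecidablePred P] : Decidable (∃ m, P m) :=
  decidable_of_iff (P p0 ∨ P p1 ∨ P p2 ∨ P p3 ∨ P p4 ∨ P p5)
    ⟨fun h => by rcases h with h | h | h | h | h | h <;> exact ⟨_, h⟩,
      fun ⟨m, h⟩ => by cases m <;> tauto⟩

noncomputable def eqE : E6 ≃ Fin 6 :=
  ⟨fun x => E6.rec 0 1 2 3 4 5 x, ![p0, p1, p2, p3, p4, p5], fun x => by cases x <;> rfl,
    fun x => by fin_cases x <;> rfl⟩

@[ext] structure T6 where
  x0 : E6
  x1 : E6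
  x2 : E6
  x3 : E6
  x4 : E6
  x5 : E6
  deriving DecidableEq

noncomputable def T6.ap (t : T6) (i : E6) : E6 := E6.rec t.x0 t.x1 t.x2 t.x3 t.x4 t.x5 i

def T6.of (f : E6 → E6) : T6 := ⟨f p0, f p1, f p2, f p3, f p4, f p5⟩

theorem T6.ap_of (f : E6 → E6) (i : E6) : (T6.of f).ap i = f i := by cases i <;> rfl

noncomputable instance : Monoid T6 where
  mul s t := ⟨s.ap t.x0, s.ap t.x1, s.ap t.x2, s.ap t.x3, s.ap t.x4, s.ap t.x5⟩
  one := ⟨p0, p1, p2, p3, p4, p5⟩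
  mul_assoc s t r := T6.ext (T6.ap_of (fun i => s.ap (t.ap i)) _) (T6.ap_of (fun i => s.ap (t.ap i)) _)
    (T6.ap_of (fun i => s.ap (t.ap i)) _) (T6.ap_of (fun i => s.ap (t.ap i)) _)
    (T6.ap_of (fun i => s.ap (t.ap i)) _) (T6.ap_of (fun i => s.ap (t.ap i)) _)
  one_mul t := T6.ext (T6.ap_of id _) (T6.ap_of id _) (T6.ap_of id _) (T6.ap_of id _)
    (T6.ap_of id _) (T6.ap_of id _)
  mul_one t := rfl

theorem T6.ap_mul (s t : T6) (i : E6) : (s * t).ap i = s.ap (t.ap i) :=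
  T6.ap_of (fun i => s.ap (t.ap i)) i

theorem T6.ap_one (i : E6) : (1 : T6).ap i = i := T6.ap_of id i

abbrev Q6 := T6ˣ

def T6.inv (t : T6) : T6 := T6.of fun j => if t.x0 = j then p0 else if t.x1 = j then p1 else
  if t.x2 = j then p2 else if t.x3 = j then p3 else if t.x4 = j then p4 else p5

set_option synthInstance.maxSize 4096 in
theorem inv_ok : ∀ a b, a ≠ b → ∀ c, a ≠ c → b ≠ c → ∀ d, a ≠ d → b ≠ d → c ≠ d → ∀ e, a ≠ e →
    b ≠ e → c ≠ e → d ≠ e → ∀ f, a ≠ f → b ≠ f → c ≠ f → d ≠ f → e ≠ f →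
    (⟨a, b, c, d, e, f⟩ : T6) * T6.inv ⟨a, b, c, d, e, f⟩ = 1 ∧
      T6.inv ⟨a, b, c, d, e, f⟩ * ⟨a, b, c, d, e, f⟩ = 1 := by decide +kernel

theorem Q6.inj (q : Q6) {i j : E6} (h : i ≠ j) : q.1.ap i ≠ q.1.ap j := fun e => h (by
  have := congrArg q.2.ap e
  rwa [← T6.ap_mul, ← T6.ap_mul, q.4, T6.ap_one, T6.ap_one] at this)

theorem Q6.all {P : Q6 → Prop} : (∀ a b (h1 : a ≠ b) c (h2 : a ≠ c) (h3 : b ≠ c) d (h4 : a ≠ d)
    (h5 : b ≠ d) (h6 : c ≠ d) e (h7 : a ≠ e) (h8 : b ≠ e) (h9 : c ≠ e) (h10 : d ≠ e) f (h11 : a ≠ f)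
    (h12 : b ≠ f) (h13 : c ≠ f) (h14 : d ≠ f) (h15 : e ≠ f),
    P ⟨⟨a, b, c, d, e, f⟩, T6.inv ⟨a, b, c, d, e, f⟩,
      (inv_ok a b h1 c h2 h3 d h4 h5 h6 e h7 h8 h9 h10 f h11 h12 h13 h14 h15).1,
      (inv_ok a b h1 c h2 h3 d h4 h5 h6 e h7 h8 h9 h10 f h11 h12 h13 h14 h15).2⟩) ↔ ∀ q, P q :=
  ⟨fun h q => by
    have := h q.1.x0 q.1.x1 (q.inj (i := p0) (j := p1) (by decide)) q.1.x2
      (q.inj (i := p0) (j := p2) (by decide)) (q.inj (i := p1) (j := p2) (by decide)) q.1.x3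
      (q.inj (i := p0) (j := p3) (by decide)) (q.inj (i := p1) (j := p3) (by decide))
      (q.inj (i := p2) (j := p3) (by decide)) q.1.x4
      (q.inj (i := p0) (j := p4) (by decide)) (q.inj (i := p1) (j := p4) (by decide))
      (q.inj (i := p2) (j := p4) (by decide)) (q.inj (i := p3) (j := p4) (by decide)) q.1.x5
      (q.inj (i := p0) (j := p5) (by decide)) (q.inj (i := p1) (j := p5) (by decide))
      (q.inj (i := p2) (j := p5) (by decide)) (q.inj (i := p3) (j := p5) (by decide))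
      (q.inj (i := p4) (j := p5) (by decide))
    convert this using 1
    exact Units.ext rfl, fun h _ _ _ _ _ _ _ _ _ _ _ _ _ _ _ _ _ _ _ _ _ => h _⟩

noncomputable instance (priority := high) instDecQ6 {P : Q6 → Prop} [DecidablePred P] :
    Decidable (∀ q, P q) := decidable_of_iff _ Q6.all

noncomputable instance (priority := high) instDecQ6' {P : Q6 → Prop} [DecidablePred P] :
    Decidable (∃ q, P q) := decidable_of_iff (¬ ∀ q, ¬ P q) (by simp)

def swT (i j : E6) : T6 := T6.of fun k => if k = i then j else if k = j then i else k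
theorem swT_sq : ∀ i j, swT i j * swT i j = 1 := by decide +kernel
def sw (i j : E6) : Q6 := ⟨swT i j, swT i j, swT_sq i j, swT_sq i j⟩

noncomputable def ofS0 : S6 →* T6 where
  toFun σ := T6.of fun i => eqE.symm (σ (eqE i))
  map_one' := by simp; rfl
  map_mul' σ τ := by
    change _ = T6.of fun i => (T6.of fun i => eqE.symm (σ (eqE i))).ap (eqE.symm (τ (eqE i)))
    simp [T6.ap_of]

noncomputable def ofS : S6 →* Q6 := ofS0.toHomUnits

theorem ofS_bij : Function.Bijective ofS := by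
  refine ⟨(injective_iff_map_eq_one _).mpr fun σ e => Equiv.ext fun i => ?_, fun q => ?_⟩
  · have := congrArg (fun q : Q6 => eqE (q.1.ap (eqE.symm i))) e
    simpa [ofS, ofS0, T6.ap_of, T6.ap_one] using this
  · refine ⟨eqE.permCongr ⟨q.1.ap, q.2.ap, fun i => ?_, fun i => ?_⟩, Units.ext ?_⟩
    · rw [← T6.ap_mul, q.4, T6.ap_one]
    · rw [← T6.ap_mul, q.3, T6.ap_one]
    · simp [ofS, ofS0]; rfl

noncomputable def eqS : S6 ≃* Q6 := MulEquiv.ofBijective ofS ofS_bij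

instance : Finite Q6 := Finite.of_equiv _ eqS.toEquiv

instance (priority := high) instBAll {β : Type} {p : β → Prop} [DecidablePred p] (l : List β) :
    Decidable (∀ a ∈ l, p a) := List.decidableBAll p l

instance (priority := high) instBEx {β : Type} {p : β → Prop} [DecidablePred p] (l : List β) :
    Decidable (∃ a ∈ l, p a) := List.decidableBEx p l

theorem card_Q6 : Nat.card Q6 = 720 := by
  rw [← Nat.card_congr eqS.toEquiv, Nat.card_perm]; simp [Nat.factorial]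

def adj : Fin 5 → Q6 := ![sw p0 p1, sw p1 p2, sw p2 p3, sw p3 p4, sw p4 p5]

theorem eqS_adj : ∀ i : Fin 5, eqS (adjSwap 5 i) = adj i := by decide +kernel

theorem Q6_le {K : Subgroup Q6} (h : ∀ i, adj i ∈ K) (q : Q6) : q ∈ K := by
  obtain ⟨σ, rfl⟩ := eqS.surjective q
  exact sym_le (k := 5) (f := eqS.toMonoidHom) (fun i hi => (eqS_adj ⟨i, hi⟩).symm ▸ h ⟨i, hi⟩) σ

noncomputable def E6.lt (a b : E6) : Bool :=
  E6.rec (E6.rec false true true true true true b) (E6.rec false false true true true true b)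
    (E6.rec false false false true true true b) (E6.rec false false false false true true b)
    (E6.rec false false false false false true b) false a

noncomputable def sgn (q : Q6) : Bool :=
  xor (xor (xor (xor (q.1.x1.lt q.1.x0) (q.1.x2.lt q.1.x0)) (xor (q.1.x3.lt q.1.x0) (q.1.x4.lt q.1.x0)))
    (xor (xor (q.1.x5.lt q.1.x0) (q.1.x2.lt q.1.x1)) (xor (q.1.x3.lt q.1.x1) (q.1.x4.lt q.1.x1))))
    (xor (xor (xor (q.1.x5.lt q.1.x1) (q.1.x3.lt q.1.x2)) (xor (q.1.x4.lt q.1.x2) (q.1.x5.lt q.1.x2)))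
    (xor (xor (q.1.x4.lt q.1.x3) (q.1.x5.lt q.1.x3)) (q.1.x5.lt q.1.x4)))

theorem sgn_mul (p q : Q6) : sgn (p * q) = xor (sgn p) (sgn q) := by
  have h : ∀ q : Q6, ∀ i, sgn (q * adj i) = !sgn q := by decide +kernel
  refine E8.closure_ind (Set.range adj) (fun q => ∀ p, sgn (p * q) = xor (sgn p) (sgn q))
    (fun p => by rw [mul_one, show sgn 1 = false from rfl, Bool.xor_false]) ?_ q
    (Q6_le (fun i => Subgroup.subset_closure (Set.mem_range_self i)) q) p
  rintro _ ⟨i, rfl⟩ x hx p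
  rw [← mul_assoc, hx, hx, h, ← one_mul (adj i), h, show sgn 1 = false from rfl]
  cases sgn p <;> cases sgn x <;> rfl

theorem sgn_inv (p : Q6) : sgn p⁻¹ = sgn p := by
  have := sgn_mul p p⁻¹
  rw [mul_inv_cancel, show sgn 1 = false from rfl] at this
  revert this
  cases sgn p <;> cases sgn p⁻¹ <;> decide

/-- number of moved points. -/
def sup6 (q : Q6) : ℕ := (if q.1.x0 = p0 then 0 else 1) + (if q.1.x1 = p1 then 0 else 1) +
  (if q.1.x2 = p2 then 0 else 1) + (if q.1.x3 = p3 then 0 else 1) + (if q.1.x4 = p4 then 0 else 1) +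
  (if q.1.x5 = p5 then 0 else 1)

abbrev LM := A3 × Q6

noncomputable def PHE (ε s0 s1 s2 : Bool) (p : A3) : Bool := ε || PHA s0 s1 s2 p
noncomputable def HE (ε : Bool) : Subgroup W :=
  sub (PHE ε) (by cases ε <;> rfl) (by cases ε <;> decide +kernel)
noncomputable instance (ε : Bool) (m : W) : Decidable (m ∈ HE ε) :=
  inferInstanceAs (Decidable (ap (PHE ε) m = true))

noncomputable def LE (ε : Bool) : Subgroup LM where
  carrier := {x | (ε || !xor x.1.s (sgn x.2)) = true}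
  one_mem' := by cases ε <;> rfl
  mul_mem' {x y} a b := by
    change (ε || !xor (x.1.mul y.1).s (sgn (x.2 * y.2))) = true
    change (ε || _) = true at a b
    rw [A3.s_mul, sgn_mul]
    revert a b
    cases ε <;> cases x.1.s <;> cases y.1.s <;> cases sgn x.2 <;> cases sgn y.2 <;> decide
  inv_mem' {x} a := by
    change (ε || !xor (x.1⁻¹).s (sgn x.2⁻¹)) = true
    rwa [sgn_inv, (by decide +kernel : ∀ p : A3, (p⁻¹).s = p.s)]
noncomputable instance (ε : Bool) (x : LM) : Decidable (x ∈ LE ε) :=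
  inferInstanceAs (Decidable ((ε || !xor x.1.s (sgn x.2)) = true))

theorem mA {ε : Bool} {m : W} (h : m ∈ HE false) : m ∈ HE ε := by cases ε; exacts [h, rfl]
theorem mL {ε : Bool} {x : LM} (h : x ∈ LE false) : x ∈ LE ε := by cases ε; exacts [h, rfl]
theorem mT (m : W) : m ∈ HE true := rfl
theorem mT' (x : LM) : x ∈ LE true := rfl
theorem sg_mem (ε : Bool) (q : Q6) : (A3.sg (sgn q), q) ∈ LE ε := mL (by
  change (false || !xor (A3.sg (sgn q)).s (sgn q)) = true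
  rw [A3.s_sg]; cases sgn q <;> rfl)

noncomputable def pA (x : A3) : Q6 :=
  A3.rec 1 (sw p0 p1 * sw p1 p2) (sw p1 p2 * sw p0 p1) (sw p0 p1) (sw p0 p2) (sw p1 p2) x
noncomputable def pB (x : A3) : Q6 :=
  A3.rec 1 (sw p3 p5 * sw p5 p4) (sw p5 p4 * sw p3 p5) (sw p4 p5) (sw p3 p5) (sw p3 p4) x
noncomputable def τ6 : Q6 := sw p2 p3 * sw p0 p5 * sw p1 p4
noncomputable def io (m : W) : LM := (m.x0, pA m.x1 * pB m.x2 * cond m.p.s τ6 1)

theorem ioL : ∀ ε, ∀ m ∈ St0, m ∈ HE ε ↔ io m ∈ LE ε := by decide +kernel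

/-- elements of `J` not of type `a`. -/
def na (j : W) : Prop := j ∈ J0 ∧ j ≠ 1 ∧ ∀ i, j ≠ six i
noncomputable instance (j : W) : Decidable (na j) := by unfold na; infer_instance

noncomputable def α : LM := (.e1, 1)
noncomputable def ω6 : Q6 := sw p3 p5 * sw p5 p4
noncomputable def y6 : Q6 := sw p0 p1 * sw p4 p5
noncomputable def u6 : Q6 := sw p2 p3 * sw p4 p5
noncomputable def u6' : Q6 := sw p2 p4 * sw p3 p5
noncomputable instance {M : Type} [Group M] [DecidableEq M] (l : List M) (h) (x : M) :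
    Decidable (x ∈ ofL l h) := inferInstanceAs (Decidable (x ∈ l))
noncomputable def Vl : List LM := [1, (.e0, u6), (.e0, u6'), (.e0, u6 * u6')]
noncomputable def VV : Subgroup LM := ofL Vl (by decide +kernel)
noncomputable def E8l : List LM := [1, (.e0, sw p2 p3), (.e0, sw p0 p5), (.e0, sw p1 p4),
  (.e0, sw p2 p3 * sw p0 p5), (.e0, sw p2 p3 * sw p1 p4), (.e0, sw p0 p5 * sw p1 p4), (.e0, τ6)]
noncomputable def E8s : Subgroup LM := ofL E8l (by decide +kernel)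

theorem E8_cent : ∀ q : Q6, q * (sw p2 p3 * sw p0 p5) = sw p2 p3 * sw p0 p5 * q →
    q * (sw p2 p3 * sw p1 p4) = sw p2 p3 * sw p1 p4 * q → ∀ p : A3, p.s = false →
      (p, q) ∈ E8l ∨ (p, q) * α⁻¹ ∈ E8l ∨ (p, q) * α ∈ E8l := by decide +kernel

theorem E8_gen : ∀ ε, ∀ x ∈ E8l, x ∈ LE ε → ∃ i j k : Fin 2,
    x = (.e0, sw p2 p3 * sw p0 p5) ^ i.val * (.e0, sw p2 p3 * sw p1 p4) ^ j.val *
      (.e0, sw p2 p3) ^ k.val ∧ (k = 0 ∨ ε = true) := by decide +kernel

noncomputable def f6 (c q : Q6) : Q6 := q * (c * q * c⁻¹)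
noncomputable def g6 (c q : Q6) : Q6 := q * (c * q * c⁻¹)⁻¹
def TT (x : Q6) : Prop := (x ≠ 1 ∧ x ≠ sw p0 p1 ∧ (x ^ 3 = 1 ∨ x * ω6 = ω6 * x)) ∨ x = u6
noncomputable instance (x : Q6) : Decidable (TT x) := by unfold TT; infer_instance

theorem gen6 : ∀ q : Q6, (q = 1 ∨ q = sw p0 p1) ∨ TT (f6 ω6 (f6 ω6⁻¹ (g6 ω6 q))) ∨
    TT (f6 ω6⁻¹ (f6 ω6⁻¹ (f6 ω6 q))) ∨ TT (f6 ω6 (f6 ω6 (f6 ω6 q))) ∨
    TT (g6 ω6 (g6 ω6 (f6 y6 q))) ∨ TT (f6 y6 q) := by decide +kernel

noncomputable def rep (b : Bool) (n : ℕ) : W :=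
  cond b s0 1 * (if n = 2 then s1 else if n = 4 then d0 else if n = 6 then r0 else 1)

noncomputable def rq (n : ℕ) : Q6 :=
  if n = 2 then sw p0 p1 else if n = 4 then y6 else if n = 6 then τ6 else 1

theorem inv_conj : ∀ q : Q6, q * q = 1 → ∃ k : Q6, k * q = rq (sup6 q) * k := by decide +kernel

theorem rep_spec (b : Bool) (n : ℕ) : rep b n ∈ St0 ∧ io (rep b n) = (.sg b, rq n) := by
  unfold rep rq
  split_ifs <;> revert b <;> decide +kernel

theorem card_W : Nat.card W = 1296 := by rw [Nat.card_eq_fintype_card]; decide +kernel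
theorem card_LM : Nat.card LM = 4320 := by
  rw [Nat.card_prod, card_Q6, Nat.card_eq_fintype_card]; decide +kernel

end W9
end CfsgH7
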