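import Cfsg.Agent.H7.Loc13

/-! The configuration `N(⟨a⟩) ≤ S₃ × S₆`, `N(J) ≤ S₃ ≀ S₃`: local analysis. -/

set_option autoImplicit false

namespace CfsgH7
open Subgroup CfsgH5 CfsgH6 CfsgFT CfsgH8 CfsgH9 Equiv

universe u

namespace W9
open E6

variable {G : Type u} [Group G]

theorem nx_mem {a g : G} (h : NX a g) : g * a * g⁻¹ ∈ zpowers a := by
  rcases h with e | e <;> rw [e]
  exacts [mem_zpowers a, inv_mem (mem_zpowers a)]

theorem PH.orderOf_dvd {M : Type} [Group M] {H0 : Subgroup M} {F : M → G} (h : PH H0 F)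
    {x : M} (hx : x ∈ H0) : orderOf (F x) ∣ Nat.card M := by
  rw [h.orderOf_eq hx]; exact orderOf_dvd_natCard x

variable [Finite G]

theorem le_N_of_opc {X : Subgroup G} {a : G} (h1 : Opc 3 X ≤ C1 a)
    (h2 : ∀ g ∈ X, ∃ m ∈ Opc 3 X, NX a (m⁻¹ * g)) : X ≤ N (zpowers a) := fun g hg => by
  obtain ⟨m, hm, e⟩ := h2 g hg
  have := mul_mem (C_le_N _ (C_zpowers a ▸ h1 hm)) (CfsgH7.mem_N_zpowers (nx_mem e))
  rwa [mul_inv_cancel_left] at this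

theorem nc_of_syl {E : Subgroup G} {i i' y : G} (hE : SylIn 3 E (C1 i)) (hy : y * i' = i' * y)
    (y3 : y ^ 3 = 1) (h : ∀ g, g * y * g⁻¹ ∉ E) (k : G) : k * i' * k⁻¹ ≠ i := fun e => by
  have := Fact.mk Nat.prime_three
  obtain ⟨g, -, e'⟩ := hE.exists_le_cj (X := zpowers (k * y * k⁻¹))
    (zpowers_le.mpr (mem_C1.mpr (e ▸ comm_conj_both hy))) fun x => ⟨1, Subtype.ext (by
      have h3 : (k * y * k⁻¹) ^ 3 = 1 := by rw [conj_pow, y3]; group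
      rcases mem_zpowers_three h3 x.2 with e | e | e <;>
        simp only [pow_one, coe_pow, e, h3, inv_pow, one_pow, inv_one, coe_one])⟩
  exact h (g⁻¹ * k) (by simpa [mul_assoc] using mem_cj.mp (e' (mem_zpowers _)))

theorem Fr.comm_of_N {H0 : Subgroup W} {F : W → G} {J M : Subgroup G} (h : Fr H0 F J) {a m : G}
    (ha : a ∈ J) (hn : ∀ m ∈ M, a * m * a⁻¹ ∈ M) (h3 : ¬ 3 ∣ Nat.card M) (hm : m ∈ M)
    (e : m ∈ N J) : m * a = a * m := by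
  have k1 : a * m * a⁻¹ * m⁻¹ = 1 := eq_one_of_pow_of_not_dvd Nat.prime_three
    (mul_mem (hn m hm) (inv_mem hm)) (h.exp _ (by
      simpa [mul_assoc] using mul_mem ha (conj_mem_of_mem_N e (inv_mem ha)))) h3
  rw [mul_inv_eq_one, mul_inv_eq_iff_eq_mul] at k1
  exact k1.symm

theorem Fr.sylH {H0 : Subgroup W} {F : W → G} {J : Subgroup G} (h : Fr H0 F J) {X : Subgroup W}
    (hX : ∀ x ∈ X, x ∈ J0) {j i : W} (hj : j ∈ X) (hc : C1 (F j) ≤ N J) (hi : i ∈ H0)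
    (h1 : ∀ x ∈ X, x * i = i * x) (h2 : ∀ m, m * i = i * m → m ^ 4 ∈ X) :
    SylIn 3 (h.im X) (C1 (F i)) := by
  have hle : h.im X ≤ J := fun g hg => by
    obtain ⟨x, a, -, rfl⟩ := h.mem_im.mp hg
    exact h.mJ (hX x a)
  refine sylIn_of_sq (h.isP.to_le hle) (fun g hg => ?_) fun g hg hn => Or.inr ?_
  · obtain ⟨x, a, b, rfl⟩ := h.mem_im.mp hg
    exact mem_C1.mpr (h.comm b hi (h1 x a))
  · have hj' := (h.mem_im' (h.jle (hX j hj))).mpr hj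
    obtain ⟨m, a, rfl⟩ := h.memN.mp (h.ti (hle hj') (hle (conj_mem_of_mem_N hn hj')) hc)
    rw [← h.pow a, h.mem_im' (pow_mem a _)]
    exact h2 m (h.comm' a hi (mem_C1.mp hg))

theorem Fr.not_conj {H0 : Subgroup W} {F : W → G} {J : Subgroup G} (h : Fr H0 F J) {X : Subgroup W}
    (hX : ∀ x ∈ X, x ∈ J0) {j : W} (hj : j ∈ J0) (h1 : ∀ k ∈ H0, k * j * k⁻¹ ∉ X) (g : G) :
    g * F j * g⁻¹ ∉ h.im X := fun e => by
  obtain ⟨x, a, -, e'⟩ := h.mem_im.mp e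
  obtain ⟨k, hk, e1, -⟩ := h.fus hj (hX x a) e'.symm
  exact h1 k hk (e1 ▸ a)

theorem Fr.sylJ {H0 : Subgroup W} {F : W → G} {J X : Subgroup G} (h : Fr H0 F J) (hX : J ≤ X)
    {j : W} (hj : j ∈ H0) (hc : X ≤ C1 (F j)) (h1 : ∀ m, m * j = j * m → m ^ 4 ∈ J0) :
    SylIn 3 J X := sylIn_of_sq h.isP hX fun g hg hn => Or.inr (by
  obtain ⟨m, a, rfl⟩ := h.memN.mp hn
  rw [← h.pow a]
  exact h.mJ (h1 m (h.comm' a hj (mem_C1.mp (hc hg)))))

/-- elements of order three outside `J` are not conjugate to `a`. -/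
theorem Fr.nσ {H0 : Subgroup W} {F : W → G} {J : Subgroup G} (h : Fr H0 F J)
    (hc : C1 (F c0) ≤ N J) {j : W} (hj : j ∈ J0) (h1 : ∀ m, m * j = j * m → m ^ 4 ∈ J0) (g : G) :
    g * F σ0 * g⁻¹ ≠ F j := fun e => by
  have := Fact.mk Nat.prime_three
  have mσ : σ0 ∈ H0 := h.le (by decide)
  have mc : c0 ∈ J0 := by decide
  obtain ⟨k, hk, e'⟩ := (h.sylJ (le_C1_iff.2 (h.ab (h.mJ hj))) (h.jle hj) le_rfl h1).exists_le_cj
    (X := cj g (zpowers (F c0))) (by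
      rw [← e, ← cj_C1]
      exact cj_mono (zpowers_le.mpr (mem_C1.mpr (h.comm (h.jle mc) mσ (by decide)))))
    (isPGroup_cj (h.isP.to_le (zpowers_le.mpr (h.mJ mc))) g)
  have h2 := h.ti (g := k⁻¹ * g) (h.mJ mc)
    (by simpa [mul_assoc] using mem_cj.mp (e' (conj_mem_cj.mpr (mem_zpowers _)))) hc
  have h3 := conj_mem_of_mem_N (inv_mem h2) (h.mJ hj)
  rw [← mem_C1_iff_conj.mp (inv_mem hk), ← e] at h3
  exact absurd (h.mJ' mσ (by simpa [mul_assoc] using h3)) (by decide)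

structure Cfg (ε : Bool) (F : W → G) (J : Subgroup G) (l : LM → G) : Prop where
  fr : Fr (HE ε) F J
  ph : PH (LE ε) l
  rng : ∀ {g}, g ∈ N (zpowers (F a0)) ↔ ∃ x ∈ LE ε, l x = g
  cmp : ∀ m ∈ St0, m ∈ HE ε → l (io m) = F m
  cbc : ∀ j, na j → C1 (F j) ≤ N J

noncomputable def X0 : Subgroup W := ofL [1, a0, a0⁻¹] (by decide +kernel)
noncomputable def X02 : Subgroup W := ofL [1, a0, a0⁻¹, a2, a2⁻¹, a0 * a2, a0⁻¹ * a2, a0 * a2⁻¹,
  a0⁻¹ * a2⁻¹] (by decide +kernel)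
noncomputable def X12 : Subgroup W := ofL [1, a1 * a2, (a1 * a2)⁻¹] (by decide +kernel)

namespace Cfg
variable {ε : Bool} {F : W → G} {J : Subgroup G} {l : LM → G} (h : Cfg ε F J l)
include h

theorem cj {k : W} (hk : k ∈ HE ε) :
    Cfg ε (fun m => F k * F m * (F k)⁻¹) J (fun x => F k * l x * (F k)⁻¹) where
  fr := h.fr.cjFr hk
  ph := h.ph.cj _
  rng {g} := by
    rw [← cj_zpowers, ← cj_N, mem_cj, h.rng]
    exact ⟨fun ⟨x, a, e⟩ => ⟨x, a, by rw [e]; group⟩, fun ⟨x, a, e⟩ => ⟨x, a, by rw [← e]; group⟩⟩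
  cmp m a b := by simp only [h.cmp m a b]
  cbc j hj := by rw [← cj_C1]; exact cj_le_of_le (h.cbc j hj) (h.fr.mN hk)

theorem lF {m : W} {x : LM} (e : m ∈ St0 ∧ m ∈ HE false ∧ io m = x) : l x = F m :=
  e.2.2 ▸ h.cmp m e.1 (mA e.2.1)

theorem lα : l α = F a0 := h.lF (by decide +kernel)
theorem a3 : F a0 ^ 3 = 1 := h.fr.exp _ (h.fr.mJ (by decide))
theorem a1' : F a0 ≠ 1 := h.fr.ne (mA (by decide)) (by decide)
theorem mN {x : LM} (hx : x ∈ LE ε) : l x ∈ N (zpowers (F a0)) := h.rng.mpr ⟨x, hx, rfl⟩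

theorem of_C {g : G} (hg : g * F a0 = F a0 * g) : ∃ x ∈ LE ε, l x = g ∧ x.1.s = false := by
  obtain ⟨x, a, rfl⟩ := h.rng.mp (C_le_N _ (C_zpowers (F a0) ▸ mem_C1.mpr hg))
  refine ⟨x, a, rfl, (by decide +kernel : ∀ p : A3, p * .e1 = .e1 * p → p.s = false) _ ?_⟩
  rw [← h.lα] at hg
  exact congrArg Prod.fst (h.ph.comm' a (mL (by decide +kernel)) hg)

theorem of_C' {g : G} (hg : g * F a0 = F a0 * g) (ho : (orderOf g).Coprime 3) :
    ∃ q, (.e0, q) ∈ LE ε ∧ l (.e0, q) = g := by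
  obtain ⟨⟨p, q⟩, a, rfl, b⟩ := h.of_C hg
  rw [h.ph.orderOf_eq a] at ho
  obtain rfl : p = 1 := eq_one_of_coprime_three (coprime_map (MonoidHom.fst A3 Q6) ho)
    ((by decide +kernel : ∀ p : A3, p.s = false → p ^ 3 = 1) p b)
  exact ⟨q, a, rfl⟩

theorem ne7 {j : W} (hj : j ∈ J0) (j1 : j ≠ 1) {z : G} (e : z * F j = F j * z) : orderOf z ≠ 7 := by
  intro h7
  by_cases hn : na j
  · obtain ⟨m, a, rfl⟩ := h.fr.memN.mp (h.cbc j hn (mem_C1.mpr e))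
    have := h.fr.orderOf_dvd a
    rw [h7, card_W] at this
    omega
  · obtain ⟨k, hk, e'⟩ := (by decide +kernel : ∀ j ∈ J0, j ≠ 1 → ¬ na j → ∃ k ∈ HE false,
      k * a0 * k⁻¹ = j) j hj j1 hn
    obtain ⟨x, a, e1, -⟩ := (h.cj (mA hk)).of_C (g := z) (by
      rwa [h.fr.conj (mA hk) (mA (by decide)) e'])
    have := (h.cj (mA hk)).ph.orderOf_dvd a
    rw [e1, h7, card_LM] at this
    omega

theorem ne5 {j : W} (hj : na j) {z : G} (e : z * F j = F j * z) : orderOf z ≠ 5 := by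
  intro h7
  obtain ⟨m, a, rfl⟩ := h.fr.memN.mp (h.cbc j hj (mem_C1.mpr e))
  have := h.fr.orderOf_dvd a
  rw [h7, card_W] at this
  omega

theorem memD {x y : W} (hx : x ∈ J0) (hy : y ∈ J0) (hb : B9 (F x) (F y)) {g : G}
    (hg : g ∈ D9 (F x) (F y)) : ∃ i j : Fin 3, g = F (x ^ i.val * y ^ j.val) := by
  obtain ⟨i, j, rfl⟩ := hb.mem hg
  refine ⟨i, j, ?_⟩
  rw [h.fr.mul (pow_mem (h.fr.jle hx) _) (pow_mem (h.fr.jle hy) _), h.fr.pow (h.fr.jle hx),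
    h.fr.pow (h.fr.jle hy)]
  rfl

/-- the generic step: a section of `C(Z)` with `a₀` self-centralizing -/
theorem ft {X Z : Subgroup G} {b : W} (hb : b ∈ J0) (hab : B9 (F a0) (F b)) (ha : F a0 ∈ X)
    (hbN : F b ∈ N X) (hZ : Z ≤ X) (hc : X ≤ C Z) (hZ2 : IsPGroup 2 Z)
    (hC : ∀ g ∈ X, g * F a0 = F a0 * g → g ∈ Z ∨ g * (F a0)⁻¹ ∈ Z ∨ g * F a0 ∈ Z)
    (hna : na (a0 * b) ∧ na (a0 * b⁻¹))
    (hO : ∀ m ∈ Opc 3 X, m * F b = F b * m → m * F a0 = F a0 * m) :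
    X ≤ N (zpowers (F a0)) ∨
      ((∃ i j : Fin 3, a0 ^ i.val * b ^ j.val ≠ 1 ∧ ∃ z ∈ X, orderOf z = 5 ∧
        z * F (a0 ^ i.val * b ^ j.val) = F (a0 ^ i.val * b ^ j.val) * z) ∧
        ∀ y ∈ X, y * F a0 * y⁻¹ = (F a0)⁻¹ → y * F b = F b * y → ∃ g ∈ X, g * F b = F b * g ∧
          g * g ∈ Opc 3 X ∧ (F a0 * g) ^ 5 ∈ Opc 3 X ∧ F a0 * g ∉ Opc 3 X ∧
          g * y * g⁻¹ * y⁻¹ ∈ Opc 3 X) := by
  have m0 : a0 ∈ J0 := by decide
  refine (ft3B hab ha hbN hZ (fun g hg z hz => (mem_C.1 (hc hg) z hz).symm) hZ2 hC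
    fun y hy y1 z _ e => ?_).imp (fun h1 => le_N_of_opc ?_ h1) fun ⟨⟨y, hy, y1, h1⟩, h2⟩ => ⟨?_, h2⟩
  · obtain ⟨i, j, rfl⟩ := h.memD m0 hb hab hy
    exact h.ne7 (mul_mem (pow_mem m0 _) (pow_mem hb _)) (fun e => y1 (by rw [e, h.fr.one])) e
  · have o3 := CfsgFT.not_dvd_card_Opc Nat.prime_three X
    have n1 : ∀ m ∈ Opc 3 X, F a0 * m * (F a0)⁻¹ ∈ Opc 3 X := (normalIn_Opi _ X).nrm _ ha
    refine hab.gen n1 ((nrm_N X).Opi _ _ hbN) o3 (fun m _ e => mem_C1.mpr e)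
      (fun m hm e => mem_C1.mpr (hO m hm e)) (fun m hm e => ?_) fun m hm e => ?_
    · rw [← h.fr.mul (h.fr.jle m0) (h.fr.jle hb)] at e
      exact mem_C1.mpr (h.fr.comm_of_N (h.fr.mJ m0) n1 o3 hm (h.cbc _ hna.1 (mem_C1.mpr e)))
    · rw [← h.fr.inv (h.fr.jle hb), ← h.fr.mul (h.fr.jle m0) (h.fr.jle (inv_mem hb))] at e
      exact mem_C1.mpr (h.fr.comm_of_N (h.fr.mJ m0) n1 o3 hm (h.cbc _ hna.2 (mem_C1.mpr e)))
  · obtain ⟨i, j, rfl⟩ := h.memD m0 hb hab hy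
    exact ⟨i, j, fun e => y1 (by rw [e, h.fr.one]), h1⟩

omit h in
theorem not5 {Z : Subgroup G} {a z : G} (hZ : IsPGroup 2 Z) (a3 : a ^ 3 = 1) (e : z * a = a * z)
    (hC : z ∈ Z ∨ z * a⁻¹ ∈ Z ∨ z * a ∈ Z) : orderOf z ≠ 5 := fun h5 => by
  have h1 : z ^ 3 ∈ Z := by
    have c : Commute z a := e
    rcases hC with e' | e' | e'
    · exact pow_mem e' 3
    · simpa [c.inv_right.mul_pow, a3] using pow_mem e' 3
    · simpa [c.mul_pow, a3] using pow_mem e' 3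
  obtain ⟨k, hk⟩ := hZ ⟨_, h1⟩
  have h2 : z ^ (3 * 2 ^ k) = 1 := by rw [pow_mul]; exact congrArg Subtype.val hk
  have h3 := orderOf_dvd_of_pow_eq_one h2
  rw [h5] at h3
  rcases (Nat.Prime.dvd_mul Nat.prime_five).mp h3 with h4 | h4
  · omega
  · exact absurd (Nat.prime_five.dvd_of_dvd_pow h4) (by norm_num)

theorem CFs : C (h.ph.im E8s) ≤ N (zpowers (F a0)) := by
  have hb : a1 * a2 ∈ J0 := by decide
  have lb : l (io (a1 * a2)) = F (a1 * a2) := h.lF (by decide +kernel)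
  have mb : io (a1 * a2) ∈ LE ε := mL (by decide +kernel)
  have mα : α ∈ LE ε := mL (by decide +kernel)
  have hm : ∀ {g}, g ∈ C (h.ph.im E8s) ↔ ∀ x ∈ E8l, x ∈ LE ε → l x * g = g * l x :=
    ⟨fun e x a b => mem_C.mp e _ ((h.ph.mem_im' b).mpr a), fun e => mem_C.mpr fun y hy => by
      obtain ⟨x, a, b, rfl⟩ := h.ph.mem_im.mp hy
      exact e x a b⟩
  have hC : ∀ g ∈ C (h.ph.im E8s), g * F a0 = F a0 * g → g ∈ h.ph.im E8s ∨
      g * (F a0)⁻¹ ∈ h.ph.im E8s ∨ g * F a0 ∈ h.ph.im E8s := fun g hg e => by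
    obtain ⟨⟨p, q⟩, a, rfl, b⟩ := h.of_C e
    rw [← h.lα, ← h.ph.inv mα, ← h.ph.mul a (inv_mem mα), ← h.ph.mul a mα, h.ph.mem_im' a,
      h.ph.mem_im' (mul_mem a (inv_mem mα)), h.ph.mem_im' (mul_mem a mα)]
    exact E8_cent q (congrArg Prod.snd (h.ph.comm' a (mL (by decide +kernel)) (hm.mp hg
      (.e0, sw p2 p3 * sw p0 p5) (by decide +kernel) (mL (by decide +kernel))).symm))
      (congrArg Prod.snd (h.ph.comm' a (mL (by decide +kernel)) (hm.mp hg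
      (.e0, sw p2 p3 * sw p1 p4) (by decide +kernel) (mL (by decide +kernel))).symm)) p b
  have hZ2 : IsPGroup 2 (h.ph.im E8s) :=
    h.ph.isP_im (k := 1) (by change ∀ x ∈ E8l, _; decide +kernel)
  refine (h.ft hb (h.fr.b9 (mA (by decide)) (mA (by decide)) (by decide +kernel))
    (hm.mpr fun x a b => h.lα ▸ h.ph.comm b mα
      ((by decide +kernel : ∀ x ∈ E8l, x * α = α * x) x a))
    ((nrm_N _).C.le_N (mem_N_of_conj fun y hy => ?_)) (fun y hy => hm.mpr fun x a b => ?_) le_rfl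
    hZ2 hC (by decide +kernel) fun m hm' e => ?_).resolve_right ?_
  · obtain ⟨x, a, b, rfl⟩ := h.ph.mem_im.mp hy
    rw [← lb, ← h.ph.conj' mb b, h.ph.mem_im' (mul_mem (mul_mem mb b) (inv_mem mb))]
    exact (by decide +kernel : ∀ x ∈ E8l, io (a1 * a2) * x * (io (a1 * a2))⁻¹ ∈ E8l) x a
  · obtain ⟨y, a', b', rfl⟩ := h.ph.mem_im.mp hy
    exact h.ph.comm b b' ((by decide +kernel : ∀ x ∈ E8l, ∀ y ∈ E8l, x * y = y * x) x a y a')
  · exact h.fr.comm_of_N (h.fr.mJ (by decide)) ((normalIn_Opi _ _).nrm _ (hm.mpr fun x a b =>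
      h.lα ▸ h.ph.comm b mα ((by decide +kernel : ∀ x ∈ E8l, x * α = α * x) x a)))
      (CfsgFT.not_dvd_card_Opc Nat.prime_three _) hm' (h.cbc _ (by decide +kernel) (mem_C1.mpr e))
  · rintro ⟨⟨i, j, h1, z, hz, h5, e⟩, -⟩
    rcases (by decide +kernel : ∀ i j : Fin 3, a0 ^ i.val * (a1 * a2) ^ j.val ≠ 1 →
      na (a0 ^ i.val * (a1 * a2) ^ j.val) ∨ a0 ^ i.val * (a1 * a2) ^ j.val = a0 ∨
        a0 ^ i.val * (a1 * a2) ^ j.val = a0⁻¹) i j h1 with e' | e' | e'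
    · exact h.ne5 e' e h5
    · rw [e'] at e
      exact not5 hZ2 h.a3 e (hC z hz e) h5
    · rw [e', h.fr.inv (mA (by decide))] at e
      have e1 : z * F a0 = F a0 * z := by simpa using (show Commute z _ from e).inv_right.eq
      exact not5 hZ2 h.a3 e1 (hC z hz e1) h5

theorem CF {u : G} (h1 : u * l (.e0, u6) = l (.e0, u6) * u) (h2 : u * F d0 = F d0 * u)
    (h3 : ε = true → u * F s2 = F s2 * u) : u ∈ N (zpowers (F a0)) := by
  have mk : ((.e0, sw p1 p5 * sw p2 p3) : LM) ∈ LE ε := mL (by decide +kernel)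
  generalize hk : ((.e0, sw p1 p5 * sw p2 p3) : LM) = k at mk
  refine (mul_mem_cancel_left (inv_mem (h.mN mk))).mp ((mul_mem_cancel_right (h.mN mk)).mp
    (h.CFs (mem_C.mpr fun y hy => ?_)))
  obtain ⟨x, a, b, rfl⟩ := h.ph.mem_im.mp hy
  have key : ∀ x ∈ LE ε, u * l (k * x * k⁻¹) = l (k * x * k⁻¹) * u →
      x ∈ h.ph.bk (C1 ((l k)⁻¹ * u * l k)) := fun x a e => h.ph.mem_bk.mpr ⟨a, mem_C1.mpr (by
    rw [h.ph.conj' mk a] at e
    calc _ = (l k)⁻¹ * (l k * l x * (l k)⁻¹ * u) * l k := by group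
      _ = _ := by rw [← e]; group)⟩
  have ld : l (.e0, y6) = F d0 := h.lF (by decide +kernel)
  have k1 := key (.e0, sw p2 p3 * sw p1 p4) (mL (by decide +kernel))
    (by rwa [← hk, show _ * _ * _ = ((.e0, u6) : LM) by decide +kernel])
  have k2 := key (.e0, sw p2 p3 * sw p0 p5) (mL (by decide +kernel)) (by
    rw [← hk, show _ * _ * _ = ((.e0, u6) : LM) * (.e0, y6) by decide +kernel,
      h.ph.mul (mL (by decide +kernel)) (mL (by decide +kernel)), ld]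
    exact comm_mul_of h1 h2)
  obtain ⟨i, j, k', e, e'⟩ := E8_gen ε x a b
  refine mem_C1.mp (h.ph.mem_bk.mp (e ▸ mul_mem (mul_mem (pow_mem k2 _) (pow_mem k1 _)) ?_)).2
  rcases e' with rfl | rfl
  · exact one_mem _
  · refine pow_mem (key _ (mT' _) ?_) _
    rw [← hk, show _ * _ * _ = ((.e0, u6) : LM) * io s2 by decide +kernel,
      h.ph.mul (mT' _) (mT' _), h.cmp s2 (by decide) (mT _)]
    exact comm_mul_of h1 (h3 rfl)

theorem conj_rep {b : Bool} {q : Q6} (hq : (A3.sg b, q) ∈ LE ε) (q2 : q * q = 1) :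
    rep b (sup6 q) ∈ HE ε ∧ ∃ k, k * l (.sg b, q) * k⁻¹ = F (rep b (sup6 q)) := by
  obtain ⟨k, e⟩ := inv_conj q q2
  obtain ⟨h1, h2⟩ := rep_spec b (sup6 q)
  have h3 : (A3.sg (sgn k), k) * (A3.sg b, q) * (A3.sg (sgn k), k)⁻¹ = io (rep b (sup6 q)) := by
    rw [h2]
    exact Prod.ext ((by decide +kernel : ∀ a b, A3.sg a * A3.sg b * (A3.sg a)⁻¹ = A3.sg b) _ _)
      (mul_inv_eq_iff_eq_mul.mpr e)
  have h4 := (ioL ε _ h1).mpr (h3 ▸ mul_mem (mul_mem (sg_mem ε k) hq) (inv_mem (sg_mem ε k)))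
  exact ⟨h4, _, (h.ph.conj (sg_mem ε k) hq h3).trans (h.cmp _ h1 h4)⟩

theorem memX0 {g : G} : g ∈ h.fr.im X0 ↔ g ∈ zpowers (F a0) := by
  have m0 : a0 ∈ HE ε := mA (by decide)
  refine ⟨fun e => ?_, fun e => zpowers_le.mpr ((h.fr.mem_im' (X := X0) m0).mpr
    (show a0 ∈ [1, a0, a0⁻¹] by simp)) e⟩
  obtain ⟨x, a, -, rfl⟩ := h.fr.mem_im.mp e
  rcases (by simpa using mem_ofL.mp a : x = 1 ∨ x = a0 ∨ x = a0⁻¹) with rfl | rfl | rfl
  · rw [h.fr.one]; exact one_mem _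
  · exact mem_zpowers _
  · rw [h.fr.inv m0]; exact inv_mem (mem_zpowers _)

theorem lp {p : A3} (hp : p.s = false) : l (p, 1) ∈ zpowers (F a0) := by
  have mα : α ∈ LE ε := mL (by decide +kernel)
  rcases (by decide +kernel : ∀ p : A3, p.s = false → ((p, 1) : LM) = 1 ∨ (p, 1) = α ∨
    (p, 1) = α⁻¹) p hp with e | e | e <;> rw [e]
  · rw [h.ph.one]; exact one_mem _
  · rw [h.lα]; exact mem_zpowers _
  · rw [h.ph.inv mα, h.lα]; exact inv_mem (mem_zpowers _)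

theorem syl_d : SylIn 3 (zpowers (F a0)) (C1 (F d0)) := by
  refine sylIn_of_sq (h.fr.isP.to_le (zpowers_le.mpr (h.fr.mJ (by decide))))
    (zpowers_le.mpr (mem_C1.mpr (h.fr.comm (mA (by decide)) (mA (by decide)) (by decide))))
    fun g hg hn => Or.inr ?_
  obtain ⟨⟨p, q⟩, a, rfl⟩ := h.rng.mp hn
  rw [← h.lF (x := (.e0, y6)) (by decide +kernel)] at hg
  have e := (by decide +kernel : ∀ q : Q6, q * y6 = y6 * q → q ^ 4 = 1) q
    (congrArg Prod.snd (h.ph.comm' a (mL (by decide +kernel)) (mem_C1.mp hg)))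
  rw [← h.ph.pow a, Prod.pow_mk, e]
  exact h.lp ((by decide +kernel : ∀ p : A3, (p ^ 4).s = false) p)

theorem nj {j : W} (hj : na j) (g : G) : g * F j * g⁻¹ ∉ zpowers (F a0) := by
  rw [← h.memX0]
  refine h.fr.not_conj (by change ∀ x ∈ [1, a0, a0⁻¹], _; decide +kernel) hj.1 (fun k _ e => ?_) g
  exact (by decide +kernel : ∀ x ∈ [1, a0, a0⁻¹], ∀ k : W, ¬ na (k⁻¹ * x * k)) _ e k
    (by simpa [mul_assoc] using hj)

theorem nσ (g : G) : g * F σ0 * g⁻¹ ∉ zpowers (F a0) := fun e => by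
  have hc := h.cbc c0 (by decide +kernel)
  rcases mem_zpowers_three h.a3 e with e | e | e
  · exact conj_ne_one (h.fr.ne (mA (by decide)) (by decide)) g e
  · exact h.fr.nσ hc (by decide) (by decide +kernel) g e
  · exact h.fr.nσ hc (j := a0⁻¹) (by decide +kernel) (by decide +kernel) g
      (by rwa [h.fr.inv (mA (by decide))])

/-- the involutions of `L` conjugate to `d`. -/
theorem typeE {b : Bool} {q : Q6} (hq : (A3.sg b, q) ∈ LE ε) (q2 : q * q = 1) :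
    IsConj (F d0) (l (.sg b, q)) ↔ sup6 q = cond b 2 4 := by
  obtain ⟨h1, k, e⟩ := h.conj_rep hq q2
  have h2 : IsConj (F d0) (l (.sg b, q)) ↔ IsConj (F d0) (F (rep b (sup6 q))) :=
    ⟨fun a => a.trans (isConj_iff.2 ⟨k, e⟩), fun a => a.trans (isConj_iff.2 ⟨k, e⟩).symm⟩
  rw [h2]
  refine ⟨fun a => by_contra fun hn => ?_, fun a => ?_⟩
  · obtain ⟨g, e'⟩ := isConj_iff.1 a.symm
    have key : ∀ y ∈ HE false, y ^ 3 = 1 → (na y ∨ y = σ0) → y * rep b (sup6 q) = rep b (sup6 q) * y →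
        False := fun y hy y3 hy' c => nc_of_syl h.syl_d (h.fr.comm (mA hy) h1 c)
      (h.fr.pow_eq (mA hy) y3) (fun g => by
        rcases hy' with e | rfl
        exacts [h.nj e g, h.nσ g]) g e'
    generalize sup6 q = n at hn key
    unfold rep at key
    split_ifs at key with n2 n4 n6 <;> cases b
    · exact key (a0 * a2) (by decide) (by decide) (by decide +kernel) (by decide)
    · exact hn n2
    · exact hn n4
    · exact key σ0 (by decide) (by decide) (by decide +kernel) (by decide)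
    all_goals exact key (a1 * a2) (by decide) (by decide) (by decide +kernel) (by decide)
  · rw [a]
    cases b
    · exact IsConj.refl _
    · exact isConj_iff.2 ⟨_, h.fr.conj (g := σ0⁻¹) (mA (by decide)) (mA (by decide)) (by decide)⟩

theorem memV {g : G} : g ∈ C (h.ph.im VV) ↔ g * l (.e0, u6) = l (.e0, u6) * g ∧
    g * l (.e0, u6') = l (.e0, u6') * g := by
  have m1 : ((.e0, u6) : LM) ∈ LE ε := mL (by decide +kernel)
  have m2 : ((.e0, u6') : LM) ∈ LE ε := mL (by decide +kernel)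
  refine ⟨fun e => ⟨(mem_C.mp e _ ((h.ph.mem_im' m1).mpr (show _ ∈ Vl by simp [Vl]))).symm,
    (mem_C.mp e _ ((h.ph.mem_im' m2).mpr (show _ ∈ Vl by simp [Vl]))).symm⟩,
    fun e => mem_C.mpr fun y hy => ?_⟩
  obtain ⟨x, a, -, rfl⟩ := h.ph.mem_im.mp hy
  rcases (by simpa [Vl] using mem_ofL.mp a : x = 1 ∨ x = (.e0, u6) ∨ x = (.e0, u6') ∨
    x = (.e0, u6 * u6')) with rfl | rfl | rfl | rfl
  · simp [h.ph.one]
  · exact e.1.symm
  · exact e.2.symm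
  · rw [← h.ph.mul' m1 m2 (w := (.e0, u6 * u6')) rfl]; exact (comm_mul_of e.1 e.2).symm

theorem mV {m : W} (e : m ∈ St0 ∧ m ∈ HE ε ∧ ∀ x ∈ Vl, io m * x = x * io m) :
    F m ∈ C (h.ph.im VV) := by
  rw [← h.cmp m e.1 e.2.1, h.memV]
  have := (ioL ε m e.1).mp e.2.1
  exact ⟨h.ph.comm this (mL (by decide +kernel)) (e.2.2 _ (by decide +kernel)),
    h.ph.comm this (mL (by decide +kernel)) (e.2.2 _ (by decide +kernel))⟩

theorem a2V : F a2 ∈ N (h.ph.im VV) := mem_N_of_conj fun y hy => by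
  have mb : io a2 ∈ LE ε := mL (by decide +kernel)
  obtain ⟨x, a, b, rfl⟩ := h.ph.mem_im.mp hy
  rw [← h.lF (x := io a2) (by decide +kernel), ← h.ph.conj' mb b,
    h.ph.mem_im' (mul_mem (mul_mem mb b) (inv_mem mb))]
  exact (by decide +kernel : ∀ x ∈ Vl, io a2 * x * (io a2)⁻¹ ∈ Vl) x a

theorem isPV : IsPGroup 2 (h.ph.im VV) := h.ph.isP_im (k := 1) (by change ∀ x ∈ Vl, _; decide +kernel)

theorem abV : h.ph.im VV ≤ C (h.ph.im VV) := fun y hy => mem_C.mpr fun x hx => by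
  obtain ⟨y, a', b', rfl⟩ := h.ph.mem_im.mp hy
  obtain ⟨x, a, b, rfl⟩ := h.ph.mem_im.mp hx
  exact h.ph.comm b b' ((by decide +kernel : ∀ x ∈ Vl, ∀ y ∈ Vl, x * y = y * x) x a y a')

/-- elements of `L` centralizing `V`. -/
theorem of_V {x : LM} (a : x ∈ LE ε) (hx : l x ∈ C (h.ph.im VV)) :
    (A3.e0, x.2) ∈ Vl ∨ (A3.e0, x.2 * sw p0 p1) ∈ Vl :=
  (by decide +kernel : ∀ q : Q6, q * u6 = u6 * q → q * u6' = u6' * q → (A3.e0, q) ∈ Vl ∨
    (A3.e0, q * sw p0 p1) ∈ Vl) _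
    (congrArg Prod.snd (h.ph.comm' a (mL (by decide +kernel)) (h.memV.mp hx).1))
    (congrArg Prod.snd (h.ph.comm' a (mL (by decide +kernel)) (h.memV.mp hx).2))

theorem l' {m : W} {x : LM} (e : m ∈ St0 ∧ m ∈ HE ε ∧ io m = x) :
    F n0 * l x * (F n0)⁻¹ = F (n0 * m * n0⁻¹) := by
  rw [← e.2.2, h.cmp m e.1 e.2.1, h.fr.conj' (mA (by decide)) e.2.1]

theorem l'' {m m' : W} {x : LM} (e : (m ∈ St0 ∧ m ∈ HE false ∧ io m = x) ∧ n0 * m * n0⁻¹ = m') :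
    F n0 * l x * (F n0)⁻¹ = F m' := e.2 ▸ h.l' ⟨e.1.1, mA e.1.2.1, e.1.2.2⟩

theorem Fa2 : F n0 * F a0 * (F n0)⁻¹ = F a2 := h.fr.conj (mA (by decide)) (mA (by decide)) (by decide)

/-- `3'`-subgroups of `C(V)` normalized by `a₀` and `s₀ s₁`. -/
theorem mlem {M : Subgroup G} (h3 : ¬ 3 ∣ Nat.card M) (hM : M ≤ C (h.ph.im VV))
    (n1 : ∀ m ∈ M, F a0 * m * (F a0)⁻¹ ∈ M) (n2 : ∀ m ∈ M, F (s0 * s1) * m * (F (s0 * s1))⁻¹ ∈ M)
    {m : G} (hm : m ∈ M) (e : m * F a2 = F a2 * m) : m = 1 ∨ (ε = true ∧ m = F s1) := by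
  have h' := h.cj (k := n0) (mA (by decide))
  have co : ∀ m ∈ M, (orderOf m).Coprime 3 := fun m hm =>
    coprime_of_mem ((Nat.prime_three.coprime_iff_not_dvd.2 h3).symm) hm
  obtain ⟨q, a, rfl⟩ := h'.of_C' (g := m) (by rwa [h.Fa2]) (co m hm)
  let K := (h'.ph.bk M).comap (MonoidHom.inr A3 Q6)
  have hK : ∀ {q}, q ∈ K ↔ (A3.e0, q) ∈ LE ε ∧ F n0 * l (.e0, q) * (F n0)⁻¹ ∈ M := h'.ph.mem_bk
  have lω : F n0 * l (.e0, ω6) * (F n0)⁻¹ = F a0 := h.l'' (m := a2) (by decide +kernel)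
  have ly : F n0 * l (.e0, y6) * (F n0)⁻¹ = F (s0 * s1) := h.l'' (m := d0) (by decide +kernel)
  have c1 : ∀ c : Q6, (A3.e0, c) ∈ LE false → (∀ m ∈ M, F n0 * l (.e0, c) * (F n0)⁻¹ * m *
      (F n0 * l (.e0, c) * (F n0)⁻¹)⁻¹ ∈ M) → ∀ q ∈ K, c * q * c⁻¹ ∈ K := fun c hc hn q hq => by
    have := hn _ (hK.mp hq).2
    rw [← h'.ph.conj' (mL hc) (hK.mp hq).1] at this
    exact hK.mpr ⟨mul_mem (mul_mem (mL hc) (hK.mp hq).1) (inv_mem (mL hc)), this⟩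
  have k1 := c1 ω6 (by decide +kernel) (lω ▸ n1)
  have k2 := c1 y6 (by decide +kernel) (ly ▸ n2)
  have k3 : ∀ q ∈ K, ω6⁻¹ * q * ω6⁻¹⁻¹ ∈ K := fun q hq => by
    have := k1 _ (k1 _ hq)
    rwa [← mul_assoc, ← mul_assoc, mul_assoc _ ω6⁻¹, show ω6 * ω6 = ω6⁻¹ by decide +kernel,
      show ω6⁻¹ * ω6⁻¹ = ω6⁻¹⁻¹ by decide +kernel] at this
  have f1 : ∀ q ∈ K, f6 ω6 q ∈ K := fun q hq => mul_mem hq (k1 q hq)
  have f2 : ∀ q ∈ K, f6 y6 q ∈ K := fun q hq => mul_mem hq (k2 q hq)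
  have f3 : ∀ q ∈ K, f6 ω6⁻¹ q ∈ K := fun q hq => mul_mem hq (k3 q hq)
  have f4 : ∀ q ∈ K, g6 ω6 q ∈ K := fun q hq => mul_mem hq (inv_mem (k1 q hq))
  have hT : ∀ q ∈ K, ¬ TT q := by
    rintro q hq (⟨q1, q2, e | e⟩ | rfl)
    · exact q1 (congrArg Prod.snd (h'.ph.inj1 (hK.mp hq).1 (eq_one_of_pow_of_not_dvd Nat.prime_three
        (hK.mp hq).2 (h'.ph.pow_eq (hK.mp hq).1 (Prod.ext rfl e)) h3)))
    · obtain ⟨b1, b2⟩ := hK.mp hq
      have e1 := h'.ph.comm (x := (.e0, q)) (y := (.e0, ω6)) b1 (mL (by decide +kernel)) (Prod.ext rfl e)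
      have e2 := h'.ph.comm (x := (.e0, q)) (y := α) b1 (mL (by decide +kernel))
        (Prod.ext rfl ((mul_one q).trans (one_mul q).symm))
      rw [lω] at e1
      rw [h'.lα, h.Fa2] at e2
      obtain ⟨r, c, e3⟩ := h.of_C' e1 (co _ b2)
      rw [← e3, ← h.lF (x := (.e0, ω6)) (by decide +kernel)] at e2
      have e4 := (by decide +kernel : ∀ r : Q6, r * ω6 = ω6 * r → ((A3.e0, r) ∈ Vl ∨
        (A3.e0, r * sw p0 p1) ∈ Vl) → r = 1 ∨ r = sw p0 p1) r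
        (congrArg Prod.snd (h.ph.comm' c (mL (by decide +kernel)) e2)) (h.of_V c (e3 ▸ hM b2))
      rcases e4 with rfl | rfl
      · exact q1 (congrArg Prod.snd (h'.ph.inj1 b1 (e3.symm.trans h.ph.one)))
      · have c' : s1 ∈ HE ε := (ioL ε s1 (by decide)).mpr c
        refine q2 (congrArg Prod.snd (h'.ph.inj b1 c (e3.symm.trans ?_)))
        exact (h.cmp s1 (by decide) c').trans (h.l' (m := s1) ⟨by decide, c', rfl⟩).symm
    · have m1 : ((.e0, u6) : LM) ∈ LE ε := mL (by decide +kernel)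
      have e1 := conj_mem_of_mem_N (h.CF (h.memV.mp (hM (hK.mp hq).2)).1 (by
        rw [← h.l'' (m := s0 * s1) (m' := d0) (x := (.o0, sw p0 p1)) (by decide +kernel)]
        exact h'.ph.comm m1 (mL (by decide +kernel)) (by decide +kernel)) (by
        rintro rfl
        rw [← show _ = F s2 from h.l' (m := s0) (x := (.o0, 1)) (by decide +kernel)]
        exact h'.ph.comm m1 (mT' _) (by decide +kernel))) (mem_zpowers _)
      have m2 : ((.e0, ω6) : LM) ∈ LE ε := mL (by decide +kernel)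
      rw [← lω, ← h'.ph.conj' m1 m2] at e1
      have m3 := mul_mem (mul_mem m1 m2) (inv_mem m1)
      rcases mem_zpowers_three (h'.ph.pow_eq m2 (by decide +kernel)) e1 with e | e | e
      · exact absurd (h'.ph.inj1 m3 e) (by decide +kernel)
      · exact absurd (h'.ph.inj m3 m2 e) (by decide +kernel)
      · rw [← h'.ph.inv m2] at e
        exact absurd (h'.ph.inj m3 (inv_mem m2) e) (by decide +kernel)
  have hq : q ∈ K := hK.mpr ⟨a, hm⟩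
  rcases gen6 q with (rfl | rfl) | e | e | e | e | e
  · exact Or.inl h'.ph.one
  · refine Or.inr ⟨by revert a; cases ε <;> decide +kernel, ?_⟩
    exact h.l' (m := s1) ⟨by decide, (ioL ε s1 (by decide)).mpr a, rfl⟩
  · exact absurd e (hT _ (f1 _ (f3 _ (f4 _ hq))))
  · exact absurd e (hT _ (f3 _ (f3 _ (f1 _ hq))))
  · exact absurd e (hT _ (f1 _ (f1 _ (f1 _ hq))))
  · exact absurd e (hT _ (f4 _ (f4 _ (f2 _ hq))))
  · exact absurd e (hT _ (f2 _ hq))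

end Cfg
end W9
end CfsgH7
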