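import Cfsg.Agent.H7.Loc14

/-! The configuration `N(⟨a⟩) ≤ S₃ × S₆`, `N(J) ≤ S₃ ≀ S₃`: the centralizer of `V`. -/

set_option autoImplicit false

namespace CfsgH7
open Subgroup CfsgH5 CfsgH6 CfsgFT CfsgH8 CfsgH9 Equiv

universe u

namespace W9
open E6

variable {G : Type u} [Group G] [Finite G]

noncomputable def V8l : List LM := Vl ++ Vl.map (· * (.e0, sw p0 p1))
noncomputable def V8 : Subgroup LM := ofL V8l (by decide +kernel)

theorem card_ofL {M : Type} [Group M] [DecidableEq M] {l : List M} (h) (hl : l.Nodup) :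
    Nat.card (ofL l h) = l.length := by
  rw [← List.toFinset_card_of_nodup hl, ← Fintype.card_coe, ← Nat.card_eq_fintype_card]
  exact Nat.card_congr (Equiv.subtypeEquivRight fun x => List.mem_toFinset.symm)

noncomputable def K8 : Subgroup Q6 := ofL (V8l.map Prod.snd) (by decide +kernel)

namespace Cfg
variable {ε : Bool} {F : W → G} {J : Subgroup G} {l : LM → G}

theorem ls1 (h : Cfg true F J l) : l (.e0, sw p0 p1) = F s1 := h.cmp s1 (by decide) (mT _)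
theorem ls0 (h : Cfg true F J l) : l (.o0, 1) = F s0 := h.cmp s0 (by decide) (mT _)

theorem ncs (h : Cfg true F J l) {b : Bool} {q : Q6} (q2 : q * q = 1)
    (hq : sup6 q = 6 ∨ (b = true ∧ sup6 q = 2)) (g : G) : g * F s1 * g⁻¹ ≠ l (.sg b, q) := fun e => by
  rcases hq with hq | ⟨rfl, hq⟩
  · obtain ⟨-, k, e'⟩ := h.conj_rep (b := b) (mT' _) q2
    rw [hq, ← e] at e'
    cases b
    · refine nc_of_syl (h.fr.sylH (X := X02) (j := a0 * a2) (i := s1)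
        (by change ∀ x ∈ (_ : List W), _; decide +kernel) (show _ ∈ (_ : List W) by decide +kernel)
        (h.cbc _ (by decide +kernel)) (mT _) (by change ∀ x ∈ (_ : List W), _; decide +kernel)
        (by change ∀ m, _ → _ ∈ (_ : List W); decide +kernel))
        (h.fr.comm (x := c0) (y := rep false 6) (mT _) (mT _) (by decide +kernel))
        (h.fr.pow_eq (mT _) (by decide +kernel))
        (h.fr.not_conj (by change ∀ x ∈ (_ : List W), _; decide +kernel) (by decide)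
          fun k _ => (by change ∀ m, _ ∉ (_ : List W); decide +kernel : ∀ k, k * c0 * k⁻¹ ∉ X02) k)
        (k * g)⁻¹ (by rw [← e']; group)
    · refine nc_of_syl (h.fr.sylH (X := X12) (j := a1 * a2) (i := rep true 6)
        (by change ∀ x ∈ (_ : List W), _; decide +kernel) (show _ ∈ (_ : List W) by decide +kernel)
        (h.cbc _ (by decide +kernel)) (mT _) (by change ∀ x ∈ (_ : List W), _; decide +kernel)
        (by change ∀ m, _ → _ ∈ (_ : List W); decide +kernel))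
        (h.fr.comm (x := a0) (y := s1) (mT _) (mT _) (by decide +kernel))
        (h.fr.pow_eq (mT _) (by decide +kernel))
        (h.fr.not_conj (by change ∀ x ∈ (_ : List W), _; decide +kernel) (by decide)
          fun k _ => (by change ∀ m, _ ∉ (_ : List W); decide +kernel : ∀ k, k * a0 * k⁻¹ ∉ X12) k)
        (k * g) (by rw [← e']; group)
  · have h1 := (h.typeE (b := true) (mT' _) q2).mpr hq
    have h2 := (h.typeE (b := false) (q := sw p0 p1) (mT' _) (by decide +kernel)).mp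
      (h1.trans (h.ls1 ▸ (isConj_iff.2 ⟨g, e⟩).symm))
    exact absurd h2 (by decide +kernel)

theorem hCV (h : Cfg ε F J l) {g : G} (hg : g ∈ C (h.ph.im VV)) (e : g * F a0 = F a0 * g) :
    ∃ x ∈ V8l, x ∈ LE ε ∧ (g = l x ∨ g * (F a0)⁻¹ = l x ∨ g * F a0 = l x) := by
  obtain ⟨⟨p, q⟩, a, rfl, b⟩ := h.of_C e
  have mα : α ∈ LE ε := mL (by decide +kernel)
  rcases (by decide +kernel : ∀ q : Q6, ((A3.e0, q) ∈ Vl ∨ (A3.e0, q * sw p0 p1) ∈ Vl) →
    ∀ p : A3, p.s = false → (p, q) ∈ V8l ∨ (p, q) * α⁻¹ ∈ V8l ∨ (p, q) * α ∈ V8l) q (h.of_V a hg) p b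
    with e | e | e
  · exact ⟨_, e, a, Or.inl rfl⟩
  · exact ⟨_, e, mul_mem a (inv_mem mα), Or.inr (Or.inl (by
      rw [h.ph.mul a (inv_mem mα), h.ph.inv mα, h.lα]))⟩
  · exact ⟨_, e, mul_mem a mα, Or.inr (Or.inr (by rw [h.ph.mul a mα, h.lα]))⟩

theorem memV8 (h : Cfg true F J l) {g : G} :
    g ∈ C (h.ph.im V8) ↔ g ∈ C (h.ph.im VV) ∧ g * F s1 = F s1 * g := by
  refine ⟨fun e => ⟨mem_C.mpr fun y hy => ?_, h.ls1 ▸ (mem_C.mp e _ ((h.ph.mem_im' (mT' _)).mpr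
    (show _ ∈ V8l by decide +kernel))).symm⟩, fun e => mem_C.mpr fun y hy => ?_⟩ <;>
    obtain ⟨x, a, b, rfl⟩ := h.ph.mem_im.mp hy
  · exact mem_C.mp e _ ((h.ph.mem_im' b).mpr (List.mem_append_left _ a))
  · have h1 : ∀ x ∈ Vl, g * l x = l x * g := fun x a =>
      (mem_C.mp e.1 _ ((h.ph.mem_im' (mT' _)).mpr a)).symm
    rcases List.mem_append.mp a with a | a
    · exact (h1 x a).symm
    · obtain ⟨x, a', rfl⟩ := List.mem_map.mp a
      rw [h.ph.mul (mT' _) (mT' _), h.ls1]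
      exact (comm_mul_of (h1 x a') e.2).symm

theorem two_cases (h : Cfg ε F J l) {X : Subgroup G}
    (h1 : ∀ z ∈ X, z * F a0 = F a0 * z → orderOf z ≠ 5)
    (h2 : ∀ z ∈ X, z * F a2 = F a2 * z → orderOf z ≠ 5) :
    ¬ ∃ i j : Fin 3, a0 ^ i.val * a2 ^ j.val ≠ 1 ∧ ∃ z ∈ X, orderOf z = 5 ∧
      z * F (a0 ^ i.val * a2 ^ j.val) = F (a0 ^ i.val * a2 ^ j.val) * z := by
  rintro ⟨i, j, h3, z, hz, h5, e⟩
  have k : ∀ a ∈ HE false, z * F a⁻¹ = F a⁻¹ * z → z * F a = F a * z := fun a ha e => by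
    rw [h.fr.inv (mA ha)] at e
    simpa using (show Commute z _ from e).inv_right.eq
  rcases (by decide +kernel : ∀ i j : Fin 3, a0 ^ i.val * a2 ^ j.val ≠ 1 →
    na (a0 ^ i.val * a2 ^ j.val) ∨ a0 ^ i.val * a2 ^ j.val = a0 ∨ a0 ^ i.val * a2 ^ j.val = a0⁻¹ ∨
      a0 ^ i.val * a2 ^ j.val = a2 ∨ a0 ^ i.val * a2 ^ j.val = a2⁻¹) i j h3 with
    e' | e' | e' | e' | e'
  · exact h.ne5 e' e h5
  all_goals rw [e'] at e
  exacts [h1 z hz e h5, h1 z hz (k _ (by decide) e) h5, h2 z hz e h5, h2 z hz (k _ (by decide) e) h5]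

theorem Sa (h : Cfg true F J l) : C (h.ph.im V8) ≤ N (zpowers (F a0)) := by
  have hZ2 : IsPGroup 2 (h.ph.im V8) :=
    h.ph.isP_im (k := 1) (by change ∀ x ∈ V8l, _; decide +kernel)
  have hC : ∀ g ∈ C (h.ph.im V8), g * F a0 = F a0 * g → g ∈ h.ph.im V8 ∨
      g * (F a0)⁻¹ ∈ h.ph.im V8 ∨ g * F a0 ∈ h.ph.im V8 := fun g hg e => by
    obtain ⟨x, a, b, e⟩ := h.hCV (h.memV8.mp hg).1 e
    have := (h.ph.mem_im' (X := V8) b).mpr a
    rcases e with e | e | e <;> simp [e, this]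
  have m0 : F a0 ∈ C (h.ph.im V8) :=
    h.memV8.mpr ⟨h.mV (by decide +kernel), h.fr.comm (mT _) (mT _) (by decide)⟩
  refine (h.ft (b := a2) (by decide) (h.fr.b9 (mT _) (mT _) (by decide +kernel)) m0
    ((nrm_N _).C.le_N (mem_N_of_conj fun y hy => ?_)) (fun y hy => mem_C.mpr fun x hx => ?_) le_rfl
    hZ2 hC (by decide +kernel) fun m hm e => ?_).resolve_right fun ⟨e, _⟩ => h.two_cases
      (fun z hz e => not5 hZ2 h.a3 e (hC z hz e)) (fun z hz e h5 => ?_) e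
  · obtain ⟨x, a, b, rfl⟩ := h.ph.mem_im.mp hy
    rw [← h.lF (x := io a2) (by decide +kernel), ← h.ph.conj' (mT' _) b, h.ph.mem_im' (mT' _)]
    exact (by decide +kernel : ∀ x ∈ V8l, io a2 * x * (io a2)⁻¹ ∈ V8l) x a
  · obtain ⟨y, a', b', rfl⟩ := h.ph.mem_im.mp hy
    obtain ⟨x, a, b, rfl⟩ := h.ph.mem_im.mp hx
    exact h.ph.comm b b' ((by decide +kernel : ∀ x ∈ V8l, ∀ y ∈ V8l, x * y = y * x) x a y a')
  · rcases h.mlem (CfsgFT.not_dvd_card_Opc Nat.prime_three _)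
      (fun g hg => (h.memV8.mp (Opc_le _ _ hg)).1) (nrm_Opc _ _ _ m0)
      (nrm_Opc _ _ _ (h.memV8.mpr ⟨h.mV (by decide +kernel), h.fr.comm (mT _) (mT _) (by decide)⟩))
      hm e with rfl | ⟨-, rfl⟩
    · simp
    · exact h.fr.comm (mT _) (mT _) (by decide)
  · have h' := h.cj (k := n0) (mT _)
    obtain ⟨q, a, rfl⟩ := h'.of_C' (g := z) (by rwa [h.Fa2]) (by rw [h5]; norm_num)
    have e1 := (h.memV8.mp hz).2
    rw [← show _ = F s1 from h.l' (m := s1) (x := (.e0, sw p0 p1)) (by decide +kernel)] at e1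
    have e2 := (by decide +kernel : ∀ q : Q6, q * sw p0 p1 = sw p0 p1 * q → q ^ 5 = 1 → q = 1) q
      (congrArg Prod.snd (h'.ph.comm' a (mT' _) e1)) (congrArg Prod.snd (h'.ph.pow_eq' a
        (h5 ▸ pow_orderOf_eq_one _)))
    rw [e2, show ((A3.e0, 1) : LM) = 1 from rfl, h'.ph.one, orderOf_one] at h5
    omega

theorem Sb (h : Cfg true F J l) :
    ∃ Y, h.ph.im VV ≤ Y ∧ Y ≤ C (h.ph.im VV) ∧ Y.relIndex (C (h.ph.im VV)) = 2 ∧ F s1 ∉ Y := by
  have hV : ∀ {g}, g ∈ h.ph.im VV → ∃ q, (A3.e0, q) ∈ Vl ∧ l (.e0, q) = g := fun hg => by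
    obtain ⟨⟨p, q⟩, a, -, rfl⟩ := h.ph.mem_im.mp hg
    obtain rfl := (by decide +kernel : ∀ x ∈ Vl, x.1 = A3.e0) _ a
    exact ⟨q, a, rfl⟩
  have nV : ∀ x, x ∉ Vl → l x ∉ h.ph.im VV := fun x a b => a ((h.ph.mem_im' (mT' _)).mp b)
  have m1 : F s1 ∈ C (h.ph.im VV) := h.mV (by decide +kernel)
  have q1 : F s1 * F s1 = 1 := h.fr.sq (mT _) (by decide)
  have q0 : F s0 * F s0 = 1 := h.fr.sq (mT _) (by decide)
  have hY : ∀ g ∈ C (h.ph.im VV), g * F s1 = F s1 * g → ∃ p q, l (p, q) = g ∧ q * q = 1 :=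
    fun g hg e => by
      obtain ⟨⟨p, q⟩, a, rfl⟩ := h.rng.mp (h.Sa (h.memV8.mpr ⟨hg, e⟩))
      exact ⟨p, q, rfl, (by decide +kernel : ∀ q : Q6, ((A3.e0, q) ∈ Vl ∨
        (A3.e0, q * sw p0 p1) ∈ Vl) → q * q = 1) q (h.of_V a hg)⟩
  refine tf4_sec h.abV (fun g hg v hv => by rwa [← mem_C.mp hg v hv, mul_inv_cancel_right]) m1
    (h.mV (m := s0) (by decide +kernel)) q1 q0 (h.fr.comm (mT _) (mT _) (by decide))
    (h.ls1 ▸ nV _ (by decide +kernel)) (h.ls0 ▸ nV _ (by decide +kernel))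
    (by rw [← h.ls0, ← h.ls1, ← h.ph.mul (mT' _) (mT' _)]; exact nV _ (by decide +kernel))
    (fun g hg e => ?_) (fun e => ?_) (fun v hv => mem_C1.mpr (mem_C.mp m1 v hv))
    (fun g hg e => ?_) fun g hg e => ?_
  · obtain ⟨q, a, e⟩ := hV e
    rcases (by decide +kernel : ∀ q : Q6, (A3.e0, q) ∈ Vl → q = 1 ∨ (q * sw p0 p1 * (q * sw p0 p1) = 1
      ∧ sup6 (q * sw p0 p1) = 6)) q a with rfl | ⟨e1, e2⟩
    · rw [show ((A3.e0, 1) : LM) = 1 from rfl, h.ph.one, eq_comm, mul_eq_one_iff_eq_inv,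
        inv_eq_self q1] at e
      exact mul_inv_eq_iff_eq_mul.mp e
    · refine absurd ?_ (h.ncs (b := false) e1 (Or.inl e2) g)
      rw [← h.ph.mul' (x := (.e0, q)) (y := (.e0, sw p0 p1)) (w := (.sg false, q * sw p0 p1)) (mT' _)
        (mT' _) rfl, e, h.ls1,
        mul_assoc (_ * _ * _) (F s1), q1, mul_one]
  · have h1 : C (h.ph.im VV) ⊓ C1 (F s1) ≤ h.ph.im ((⊤ : Subgroup A3).prod K8) := by
      intro g hg
      obtain ⟨⟨p, q⟩, a, rfl⟩ := h.rng.mp (h.Sa (h.memV8.mpr ⟨hg.1, mem_C1.mp hg.2⟩))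
      exact (h.ph.mem_im' a).mpr ⟨mem_top _, (by decide +kernel : ∀ q : Q6, ((A3.e0, q) ∈ Vl ∨
        (A3.e0, q * sw p0 p1) ∈ Vl) → q ∈ V8l.map Prod.snd) q (h.of_V a hg.1)⟩
    have h2 := e.trans (card_dvd_of_le h1)
    have hT : ∀ X : Subgroup LM, X ⊓ LE true = X := fun X => inf_eq_left.mpr fun x _ => mT' x
    rw [h.ph.card_im, h.ph.card_im, hT, hT, Nat.card_congr (prodEquiv _ _).toEquiv, Nat.card_prod,
      VV, K8, card_ofL _ (by decide +kernel), card_ofL _ (by decide +kernel), card_top,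
      Nat.card_eq_fintype_card] at h2
    exact absurd h2 (by decide +kernel)
  · obtain ⟨q, a, e⟩ := hV e
    have e1 : g * g = l (.e0, q) * F s1 := by rw [e, mul_assoc, q1, mul_one]
    have e2 : g * l (.e0, q) = l (.e0, q) * g := (mem_C.mp hg _ ((h.ph.mem_im' (mT' _)).mpr a)).symm
    obtain ⟨p, r, rfl, r2⟩ := hY g hg (mul_left_cancel (a := l (.e0, q)) (by
      rw [← mul_assoc, ← e2, mul_assoc, ← e1, ← mul_assoc _ (F s1), ← e1, mul_assoc]))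
    rw [← h.ls1, ← h.ph.mul (mT' _) (mT' _), ← h.ph.mul (mT' _) (mT' _)] at e1
    have e3 := congrArg Prod.snd (h.ph.inj (mT' _) (mT' _) e1)
    exact (by decide +kernel : ∀ q : Q6, (A3.e0, q) ∈ Vl → 1 ≠ q * sw p0 p1) q a (r2.symm.trans e3)
  · obtain ⟨q, a, e⟩ := hV e
    obtain ⟨e1, e2⟩ := (by decide +kernel : ∀ q : Q6, (A3.e0, q) ∈ Vl → q * sw p0 p1 * (q * sw p0 p1) = 1
      ∧ (sup6 (q * sw p0 p1) = 6 ∨ (true = true ∧ sup6 (q * sw p0 p1) = 2))) q a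
    refine absurd ?_ (h.ncs (b := true) e1 e2 g)
    rw [← h.ph.mul' (x := (.e0, q)) (y := (.o0, sw p0 p1)) (w := (.sg true, q * sw p0 p1)) (mT' _)
      (mT' _) rfl, e,
      h.lF (m := s0 * s1) (by decide +kernel), ← h.fr.mul (mT _) (mT _), mul_assoc (_ * _ * _),
      h.fr.sq (x := s0 * s1) (mT _) (by decide), mul_one]

theorem exX1 (h : Cfg ε F J l) : ∃ X, X ≤ C (h.ph.im VV) ∧ h.ph.im VV ≤ X ∧
    Nrm (C (h.ph.im VV)) X ∧ F a2 ∈ N X ∧ F a0 ∈ X ∧ (ε = true → F s1 ∉ X) ∧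
    (F (s0 * s1) ∈ X ∨ (ε = true ∧ F s0 ∈ X)) := by
  have n2 := (nrm_N _).C.le_N h.a2V
  have m0 : F a0 ∈ C (h.ph.im VV) := h.mV ⟨by decide, mA (by decide), by decide +kernel⟩
  cases ε
  · exact ⟨_, le_rfl, h.abV, Nrm.self _, n2, m0, by simp, Or.inl (h.mV (by decide +kernel))⟩
  obtain ⟨Y, h1, h2, h3, h4⟩ := h.Sb
  have b3 : F a2 ^ 3 = 1 := h.fr.exp _ (h.fr.mJ (by decide))
  have k1 : ∀ g ∈ Y, F a2 * g = g * F a2 → g ∈ Y ⊓ CfsgH5.cj (F a2) Y ⊓ CfsgH5.cj (F a2)⁻¹ Y := fun g hg e =>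
    ⟨⟨hg, mem_cj.mpr (by rwa [mul_assoc, ← e, inv_mul_cancel_left])⟩,
      mem_cj.mpr (by rwa [inv_inv, e, mul_inv_cancel_right])⟩
  have hn := idx2_nrm h2 h3
  have hn' : ∀ g ∈ N (C (h.ph.im VV)), Nrm (C (h.ph.im VV)) (CfsgH5.cj g Y) := fun g hg => by
    have := hn.cjj g
    rwa [mem_N.mp hg] at this
  refine ⟨Y ⊓ CfsgH5.cj (F a2) Y ⊓ CfsgH5.cj (F a2)⁻¹ Y, fun g hg => h2 hg.1.1, fun v hv => ⟨⟨h1 hv,
    mem_cj.mpr (h1 ?_)⟩, mem_cj.mpr (h1 ?_)⟩, (hn.inf (hn' _ n2)).inf (hn' _ (inv_mem n2)),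
    mem_N_of_conj fun x hx => ⟨⟨?_, conj_mem_cj.mpr hx.1.1⟩, mem_cj.mpr ?_⟩,
    k1 _ (idx2_cube h2 h3 m0 h.a3) (h.fr.comm (mT _) (mT _) (by decide)), fun _ e => h4 e.1.1, ?_⟩
  · simpa using conj_mem_of_mem_N (inv_mem h.a2V) hv
  · simpa using conj_mem_of_mem_N h.a2V hv
  · simpa using mem_cj.mp hx.2
  · have := mem_cj.mp hx.1.2
    rwa [show (F a2)⁻¹ * x * F a2 = (F a2)⁻¹⁻¹ * (F a2 * x * (F a2)⁻¹) * (F a2)⁻¹ from by
      calc _ = (F a2 ^ 3)⁻¹ * (F a2 * (F a2 * x * (F a2)⁻¹) * (F a2)⁻¹) * F a2 ^ 3 := by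
            simp only [pow_three', mul_inv_rev, mul_assoc]; group
        _ = _ := by rw [b3]; group] at this
  · by_cases e : F s0 ∈ Y
    · exact Or.inr ⟨rfl, k1 _ e (h.fr.comm (mT _) (mT _) (by decide))⟩
    · refine Or.inl (k1 _ ?_ (h.fr.comm (mT _) (mT _) (by decide)))
      rw [h.fr.mul (mT _) (mT _), idx2_mul h2 h3 (h.mV (by decide +kernel)) (h.mV (by decide +kernel))]
      simp [e, h4]

set_option synthInstance.maxSize 2048 in
theorem notI (h : Cfg ε F J l) (hle : C (h.ph.im VV) ≤ N (zpowers (F a0))) : False := by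
  have := Fact.mk Nat.prime_two
  have me : ((.e0, u6) : LM) ∈ LE ε := mL (by decide +kernel)
  have mg : ((.o0, sw p0 p1) : LM) ∈ LE ε := mL (by decide +kernel)
  have mw : ((.e0, u6') : LM) ∈ LE ε := mL (by decide +kernel)
  have mt : ((.o0, sw p2 p3) : LM) ∈ LE ε := mL (by decide +kernel)
  let T := C1 (l (.e0, u6)) ⊓ C1 (l (.o0, sw p0 p1)) ⊓ N (zpowers (F a0))
  have hT : ∀ x ∈ T, ∃ b q, (A3.sg b, q) ∈ LE ε ∧ l (.sg b, q) = x ∧ q * u6 = u6 * q ∧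
      q * sw p0 p1 = sw p0 p1 * q := fun x hx => by
    obtain ⟨⟨p, q⟩, a, rfl⟩ := h.rng.mp hx.2
    have e := h.ph.comm' a mg (mem_C1.mp hx.1.2)
    obtain ⟨b, rfl⟩ := (by decide +kernel : ∀ p : A3, p * .o0 = .o0 * p → ∃ b, p = A3.sg b) p
      (congrArg Prod.fst e)
    exact ⟨b, q, a, rfl, congrArg Prod.snd (h.ph.comm' a me (mem_C1.mp hx.1.1)), congrArg Prod.snd e⟩
  have hT' : ∀ x ∈ LE false, x * (.e0, u6) = (.e0, u6) * x → x * (.o0, sw p0 p1) = (.o0, sw p0 p1) * x →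
      l x ∈ T := fun x a b c =>
    ⟨⟨mem_C1.mpr (h.ph.comm (mL a) me b), mem_C1.mpr (h.ph.comm (mL a) mg c)⟩, h.mN (mL a)⟩
  have h2 : IsPGroup 2 T := fun x => ⟨2, Subtype.ext (by
    obtain ⟨b, q, a, e, e1, e2⟩ := hT x x.2
    rw [coe_pow, ← e]
    exact h.ph.pow_eq a (Prod.ext ((by decide +kernel : ∀ b, A3.sg b ^ 2 ^ 2 = 1) b)
      ((by decide +kernel : ∀ q : Q6, q * u6 = u6 * q → q * sw p0 p1 = sw p0 p1 * q → q ^ 2 ^ 2 = 1)
        q e1 e2)))⟩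
  have ce := (h.typeE (b := false) me (by decide +kernel)).mpr (by decide +kernel)
  have cg := (h.typeE (b := true) mg (by decide +kernel)).mpr (by decide +kernel)
  have cw := (h.typeE (b := false) mw (by decide +kernel)).mpr (by decide +kernel)
  have Tw := hT' (.e0, u6') (by decide +kernel) (by decide +kernel) (by decide +kernel)
  have Tt := hT' (.o0, sw p2 p3) (by decide +kernel) (by decide +kernel) (by decide +kernel)
  have Tg := hT' (.o0, sw p0 p1) (by decide +kernel) (by decide +kernel) rfl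
  have hS : SylIn 2 T (C1 (l (.e0, u6))) := by
    refine sylIn_of_sylIn_N Nat.prime_two ?_
    rw [le_antisymm (fun x hx => ?_) (le_inf (inf_le_left.trans inf_le_left) (le_N T) :
      T ≤ C1 (l (.e0, u6)) ⊓ N T)]
    · exact sylIn_self h2
    have sq : ∀ y ∈ LE ε, y * y = 1 → ∀ b q, (A3.sg b, q) ∈ LE ε → l (.sg b, q) = x * l y * x⁻¹ →
        q * q = 1 := fun y a e b q a' e' =>
      congrArg Prod.snd (h.ph.sq' a' (by rw [e', conj_mul, h.ph.sq a e]; group))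
    have xe := mem_C1_iff_conj.mp hx.1
    have xg : x * l (.o0, sw p0 p1) * x⁻¹ = l (.o0, sw p0 p1) := by
      obtain ⟨b, q, a, e, e1, e2⟩ := hT _ (conj_mem_of_mem_N hx.2 Tg)
      have k : ∀ y ∈ LE ε, l y ∈ T → q * y.2 = y.2 * q := fun y a' b' =>
        congrArg Prod.snd (h.ph.comm' a a' (by
          rw [e]
          exact comm_conj_of (by
            simpa using (mem_C1.mp (conj_mem_of_mem_N (inv_mem hx.2) b').1.2).symm)))
      rcases (by decide +kernel : ∀ q : Q6, q * u6' = u6' * q → q * sw p2 p3 = sw p2 p3 * q →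
        q * sw p0 p1 = sw p0 p1 * q → ∀ b, sup6 q = cond b 2 4 → (A3.sg b, q) = (.e0, u6) ∨
        (A3.sg b, q) = (.o0, sw p0 p1)) q (k _ mw Tw) (k _ mt Tt) e2 b
        ((h.typeE a (sq _ mg (by decide +kernel) _ _ a e)).mp
          (cg.trans (isConj_iff.2 ⟨x, e.symm⟩))) with e' | e'
      · rw [e', ← xe] at e
        exact absurd (h.ph.inj me mg (by simpa using e)) (by decide +kernel)
      · rw [← e, e']
    refine ⟨⟨hx.1, mem_C1_iff_conj.mpr xg⟩, ?_⟩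
    obtain ⟨b, q, a, e, e1, e2⟩ := hT _ (conj_mem_of_mem_N hx.2 Tw)
    have q2 := sq _ mw (by decide +kernel) _ _ a e
    have m3 : (A3.sg (!b), q * sw p0 p1) = (A3.sg b, q) * (.o0, sw p0 p1) := by cases b <;> rfl
    rcases (by decide +kernel : ∀ q : Q6, q * u6 = u6 * q → q * sw p0 p1 = sw p0 p1 * q → q * q = 1 →
      ∀ b, sup6 q = cond b 2 4 → q * sw p0 p1 * (q * sw p0 p1) = 1 ∧
      (sup6 (q * sw p0 p1) = cond (!b) 2 4 ∨ (A3.sg b, q) = (.e0, u6) ∨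
        (A3.sg b, q) = (.o0, sw p0 p1) ∨ (A3.sg b, q) = (.e0, u6') ∨
        (A3.sg b, q) = (.e0, u6 * u6'))) q e1 e2 q2 b
      ((h.typeE a q2).mp (cw.trans (isConj_iff.2 ⟨x, e.symm⟩))) with ⟨q3, e' | e' | e' | e' | e'⟩
    · have c := (h.typeE (m3 ▸ mul_mem a mg) q3).mpr e'
      rw [m3, h.ph.mul a mg, e, ← xg, conj_mul, ← h.ph.mul mw mg] at c
      exact absurd ((h.typeE (b := true) (q := u6' * sw p0 p1) (mul_mem mw mg)
        (by decide +kernel)).mp (c.trans (isConj_iff.2 ⟨x, rfl⟩).symm)) (by decide +kernel)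
    · rw [e', ← xe] at e
      exact absurd (h.ph.inj me mw (by simpa using e)) (by decide +kernel)
    · rw [e', ← xg] at e
      exact absurd (h.ph.inj mg mw (by simpa using e)) (by decide +kernel)
    · exact hle (h.memV.mpr ⟨mem_C1.mp hx.1, mul_inv_eq_iff_eq_mul.mp (by rw [← e, e'])⟩)
    · refine (mul_mem_cancel_left (h.mN mt)).mp (hle (h.memV.mpr
        ⟨mem_C1.mp (mul_mem Tt.1.1 hx.1), mul_inv_eq_iff_eq_mul.mp ?_⟩))
      rw [← h.ph.conj mt (mul_mem me mw) (y := (.e0, u6')) (by decide +kernel)]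
      conv_rhs => rw [show ((.e0, u6) : LM) * (.e0, u6') = (.e0, u6 * u6') from rfl, ← e', e]
      rw [h.ph.conj mt (mul_mem me mw) (y := (.e0, u6')) (by decide +kernel)]
      group
  obtain ⟨k, hk⟩ := isConj_iff.1 (ce.symm.trans cg)
  have hS' := hS.cjj k
  rw [cj_C1] at hS'
  change SylIn 2 _ (C1 (k * l (.sg false, u6) * k⁻¹)) at hS'
  rw [hk] at hS'
  obtain ⟨c, hc, h3⟩ := hS'.exists_le_cj (X := T) (inf_le_left.trans inf_le_right) h2
  have h4 := eq_of_le_of_card_ge h3 (by rw [card_cj, card_cj])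
  obtain ⟨w, w1, w2, w3, w4⟩ := (by decide +kernel : ∃ q : Q6, ((.o0, q) : LM) ∈ LE false ∧
    q * q = u6 ∧ q * u6 = u6 * q ∧ q * sw p0 p1 = sw p0 p1 * q)
  obtain ⟨b, q, a, e, -⟩ := hT _ (h4.ge (conj_mem_cj.mpr (conj_mem_cj.mpr
    (hT' (.o0, w) w1 (Prod.ext rfl w3) (Prod.ext rfl w4)))))
  have e1 := h.ph.mul a a
  rw [e, conj_mul, conj_mul, h.ph.mul' (mL w1) (mL w1) (w := (.sg false, u6)) (Prod.ext rfl w2), hk,
    mem_C1_iff_conj.mp hc] at e1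
  exact (by decide +kernel : ∀ b, A3.sg b * A3.sg b ≠ .o0) b
    (congrArg Prod.fst (h.ph.inj (mul_mem a a) mg e1))

theorem y2V (h : Cfg ε F J l) :
    F n0 * l (.e0, sw p1 p3 * sw p4 p5) * (F n0)⁻¹ ∈ C (h.ph.im VV) := by
  obtain ⟨X, h1, h2, h3, h4, h5, h6, h7⟩ := h.exX1
  have ms : F (s0 * s1) ∈ C (h.ph.im VV) := h.mV ⟨by decide, mA (by decide), by decide +kernel⟩
  have hM := fun m hm e => h.mlem (M := Opc 3 X) (CfsgFT.not_dvd_card_Opc Nat.prime_three _)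
    ((Opc_le _ _).trans h1) (nrm_Opc _ _ _ h5) (h3.Opi _ _ ms) (m := m) hm e
  have hM' : ∀ m ∈ Opc 3 X, m * F a2 = F a2 * m → m = 1 := fun m hm e =>
    (hM m hm e).resolve_right fun ⟨a, b⟩ => h6 a (b ▸ Opc_le _ _ hm)
  rcases h.ft (b := a2) (by decide) (h.fr.b9 (mA (by decide)) (mA (by decide)) (by decide +kernel))
    h5 h4 h2 h1 h.isPV (fun g hg e => by
      obtain ⟨x, a, b, e⟩ := h.hCV (h1 hg) e
      have hx : l x ∈ X := by
        rcases e with e | e | e <;> rw [← e]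
        exacts [hg, mul_mem hg (inv_mem h5), mul_mem hg h5]
      have hx' : l x ∈ h.ph.im VV := by
        rcases List.mem_append.mp a with a | a
        · exact (h.ph.mem_im' b).mpr a
        · obtain ⟨y, a', rfl⟩ := List.mem_map.mp a
          obtain rfl : ε = true := (by decide +kernel : ∀ ε, ∀ y ∈ Vl,
            y * (.e0, sw p0 p1) ∈ LE ε → ε = true) ε y a' b
          rw [h.ph.mul (mT' _) (mT' _), h.ls1] at hx
          exact absurd ((mul_mem_cancel_left (h2 ((h.ph.mem_im' (mT' _)).mpr a'))).mp hx) (h6 rfl)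
      rcases e with e | e | e <;> simp [e, hx'])
    (by decide +kernel) (fun m hm e => by simp [hM' m hm e]) with e | ⟨-, e⟩
  · refine (h.notI fun g hg => CfsgH7.mem_N_zpowers ?_).elim
    obtain ⟨⟨p, q⟩, a, e'⟩ := h.rng.mp (e (h3 g hg _ h5))
    have e1 := h.ph.pow_eq' (n := 3) a (by rw [e', conj_pow, h.a3]; group)
    obtain rfl := (by decide +kernel : ∀ q : Q6, ((A3.e0, q) ∈ Vl ∨ (A3.e0, q * sw p0 p1) ∈ Vl) →
      q ^ 3 = 1 → q = 1) q (h.of_V a (e' ▸ h1 (h3 g hg _ h5))) (congrArg Prod.snd e1)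
    exact e' ▸ h.lp ((by decide +kernel : ∀ p : A3, p ^ 3 = 1 → p.s = false) p (congrArg Prod.fst e1))
  have h' := h.cj (k := n0) (mA (by decide))
  have lω : F n0 * l (.e0, ω6) * (F n0)⁻¹ = F a0 := h.l'' (m := a2) (by decide +kernel)
  have mω : ((.e0, ω6) : LM) ∈ LE ε := mL (by decide +kernel)
  have key : ∀ y ∈ HE ε, ∀ r, (A3.e0, r) ∈ LE ε → F n0 * l (.e0, r) * (F n0)⁻¹ = F y → F y ∈ X →
      y * y = 1 → y * a0 * y⁻¹ = a0⁻¹ → y * a2 = a2 * y → ∃ q, (A3.e0, q) ∈ LE ε ∧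
      F n0 * l (.e0, q) * (F n0)⁻¹ ∈ X ∧ q * q = 1 ∧ (ω6 * q) ^ 5 = 1 ∧ ω6 * q ≠ 1 ∧
      q * r = r * q := fun y a r b e1 c y2 y0 y1 => by
    have ya := h.fr.comm a (mA (by decide)) y1
    obtain ⟨g, hg, g1, g2, g3, g4, g5⟩ := e _ c (h.fr.conj_inv a (mA (by decide)) y0) ya
    have ca : F a0 * F a2 = F a2 * F a0 := h.fr.comm (mA (by decide)) (mA (by decide)) (by decide)
    have hC : ∀ {x}, x ∈ C1 (F a2) → x * F a2 = F a2 * x := mem_C1.mp
    have mg := mem_C1.mpr g1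
    have g2' := hM' _ g2 (hC (mul_mem mg mg))
    obtain ⟨q, a', rfl⟩ := h'.of_C' (g := g) (by rwa [h.Fa2]) (coprime_three_of_sq g2')
    have g3' := hM' _ g3 (hC (pow_mem (mul_mem (mem_C1.mpr ca) mg) _))
    have g5' := hM' _ g5 (hC (mul_mem (mul_mem (mul_mem mg (mem_C1.mpr ya)) (inv_mem mg))
      (inv_mem (mem_C1.mpr ya))))
    rw [← lω, ← h'.ph.mul mω a'] at g3' g4
    rw [mul_inv_eq_one, mul_inv_eq_iff_eq_mul, ← e1] at g5'
    exact ⟨q, a', hg, congrArg Prod.snd (h'.ph.sq' a' g2'),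
      congrArg Prod.snd (h'.ph.pow_eq' (mul_mem mω a') g3'), fun e2 => g4 (by
        rw [show ((.e0, ω6) : LM) * (.e0, q) = 1 from Prod.ext rfl e2, h'.ph.one]; exact one_mem _),
      congrArg Prod.snd (h'.ph.comm' a' b g5')⟩
  rcases h7 with h7 | ⟨rfl, h7⟩
  · have my : ((.e0, y6) : LM) ∈ LE ε := mL (by decide +kernel)
    have ly : F n0 * l (.e0, y6) * (F n0)⁻¹ = F (s0 * s1) := h.l'' (m := d0) (by decide +kernel)
    obtain ⟨q, a, b, q1, q2, q3, q4⟩ := key _ (mA (by decide)) _ my ly h7 (by decide) (by decide)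
      (by decide)
    have k1 := h'.ph.mem_bk.mpr ⟨a, b⟩
    have k2 := h'.ph.mem_bk.mpr ⟨mω, lω ▸ h5⟩
    have k3 := h'.ph.mem_bk.mpr ⟨my, ly ▸ h7⟩
    refine h1 (h'.ph.mem_bk.mp ?_).2
    rcases (by decide +kernel : ∀ q : Q6, q * q = 1 → (ω6 * q) ^ 5 = 1 → ω6 * q ≠ 1 →
      q * y6 = y6 * q → ((.e0, sw p1 p3 * sw p4 p5) : LM) = (.e0, q) * (.e0, ω6) * (.e0, q) * (.e0, y6) ∨
      ((.e0, sw p1 p3 * sw p4 p5) : LM) = (.e0, q) * (.e0, ω6)⁻¹ * (.e0, q) * (.e0, y6)) q q1 q2 q3 q4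
      with e | e <;> rw [e]
    · exact mul_mem (mul_mem (mul_mem k1 k2) k1) k3
    · exact mul_mem (mul_mem (mul_mem k1 (inv_mem k2)) k1) k3
  · obtain ⟨q, -, -, q1, q2, q3, q4⟩ := key s0 (mT _) (sw p4 p5) (mT' _)
      (h.l' (m := s2) (by decide +kernel)) h7 (by decide) (by decide) (by decide)
    exact absurd q4 ((by decide +kernel : ∀ q : Q6, q * q = 1 → (ω6 * q) ^ 5 = 1 → ω6 * q ≠ 1 →
      q * sw p4 p5 ≠ sw p4 p5 * q) q q1 q2 q3)

end Cfg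
end W9
end CfsgH7
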