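import Cfsg.Agent.H7.Loc15

/-! The configuration `N(⟨a⟩) ≤ S₃ × S₆`, `N(J) ≤ S₃ ≀ S₃`: identification with `A₉`, `S₉`. -/

set_option autoImplicit false

namespace CfsgH7
open Subgroup CfsgH5 CfsgH6 CfsgFT CfsgH8 CfsgH9 Equiv

universe u

namespace W9
open E6

variable {G : Type u} [Group G] [Finite G]

def ad (i : ℕ) : Perm (Fin 9) := adjSwap 8 i * adjSwap 8 (i + 1)

theorem cube_conj {π : Perm (Fin 9)} (h3 : π ^ 3 = 1) (h1 : π ≠ 1) : ∃ ρ, Perm.sign ρ = 1 ∧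
    (ρ * π * ρ⁻¹ = ad 0 ∨ ρ * π * ρ⁻¹ = ad 0 * ad 3 ∨ ρ * π * ρ⁻¹ = ad 0 * ad 3 * ad 6) := by
  have key : ∀ τ ν : Perm (Fin 9), τ ^ 3 = 1 → π.support.card = τ.support.card →
      Perm.sign ν = -1 → ν * τ * ν⁻¹ = τ → ∃ ρ, Perm.sign ρ = 1 ∧ ρ * π * ρ⁻¹ = τ := by
    intro τ ν a b c d
    obtain ⟨ρ, e⟩ := isConj_of_support Nat.prime_three h3 a b
    rcases Int.units_eq_one_or (Perm.sign ρ) with e' | e'
    · exact ⟨ρ, e', e⟩
    · exact ⟨ν * ρ, by rw [map_mul, c, e']; rfl, by rw [← d, ← e]; group⟩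
  have h2 := dvd_card_support Nat.prime_three h3
  have h4 : π.support.card ≤ 9 := by simpa using Finset.card_le_univ π.support
  have h5 : π.support.card ≠ 0 := by simpa using h1
  rcases (by omega : π.support.card = 3 ∨ π.support.card = 6 ∨ π.support.card = 9) with e | e | e
  · obtain ⟨ρ, a, b⟩ := key (ad 0) (swap 3 4) (by decide +kernel) (by rw [e]; decide +kernel)
      (by decide +kernel) (by decide +kernel)
    exact ⟨ρ, a, Or.inl b⟩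
  · obtain ⟨ρ, a, b⟩ := key (ad 0 * ad 3) (swap 6 7) (by decide +kernel) (by rw [e]; decide +kernel)
      (by decide +kernel) (by decide +kernel)
    exact ⟨ρ, a, Or.inr (Or.inl b)⟩
  · obtain ⟨ρ, a, b⟩ := key (ad 0 * ad 3 * ad 6) (swap 0 3 * swap 1 4 * swap 2 5) (by decide +kernel)
      (by rw [e]; decide +kernel) (by decide +kernel) (by decide +kernel)
    exact ⟨ρ, a, Or.inr (Or.inr b)⟩

noncomputable def Y1 (i : ℕ) : LM := [1, α, 1, (.o0, sw p0 p1), (.o0, sw p1 p2), (.o0, sw p2 p3),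
  (.o0, sw p3 p4), (.o0, sw p4 p5)].getD i 1
noncomputable def Y2 (i : ℕ) : LM := [1, (.e0, ω6), (.e0, sw p1 p3 * sw p4 p5), (.e0, y6),
  (.e0, sw p0 p2 * sw p4 p5), 1, (.o2, sw p4 p5), (.o0, sw p4 p5)].getD i 1
noncomputable def YW (i : ℕ) : W := [1, a2, 1, d0, ⟨.e0, .o1, .o0, .e0⟩, 1, ⟨.o2, .e0, .o0, .e0⟩,
  ⟨.o0, .e0, .o0, .e0⟩].getD i 1

theorem mY1 {ε : Bool} (i : ℕ) : Y1 i ∈ LE ε := mL (by
  unfold Y1
  rcases i with _ | _ | _ | _ | _ | _ | _ | _ | i <;> first | decide +kernel | exact one_mem _)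
theorem mY2 {ε : Bool} (i : ℕ) : Y2 i ∈ LE ε := mL (by
  unfold Y2
  rcases i with _ | _ | _ | _ | _ | _ | _ | _ | i <;> first | decide +kernel | exact one_mem _)

noncomputable def yy (F : W → G) (l : LM → G) (i : ℕ) : G :=
  if i = 2 then F n0 * l (Y2 2) * (F n0)⁻¹ else l (Y1 i)

def RB {M : Type u} [Group M] (x y : M) (n : ℕ) : Prop := (x⁻¹ * y) ^ n = 1 ∧ (x * y⁻¹) ^ n = 1

omit [Finite G] in
theorem PH.rb {H0 : Subgroup LM} {l : LM → G} (h : PH H0 l) {x y : LM} (hx : x ∈ H0) (hy : y ∈ H0)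
    {n : ℕ} (e : (x⁻¹ * y) ^ n = 1 ∧ (x * y⁻¹) ^ n = 1) : RB (l x) (l y) n := by
  unfold RB
  rw [← h.inv hx, ← h.inv hy, ← h.mul (inv_mem hx) hy, ← h.mul hx (inv_mem hy)]
  exact ⟨h.pow_eq (mul_mem (inv_mem hx) hy) e.1, h.pow_eq (mul_mem hx (inv_mem hy)) e.2⟩

namespace Cfg
variable {ε : Bool} {F : W → G} {J : Subgroup G} {l : LM → G} (h : Cfg ε F J l)
include h

omit h [Finite G] in
theorem y1 {i : ℕ} (hi : i ≠ 2) : yy F l i = l (Y1 i) := if_neg hi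

theorem y2 {i : ℕ} (hi : i ≠ 5) (h8 : i < 8) : yy F l i = F n0 * l (Y2 i) * (F n0)⁻¹ := by
  by_cases e : i = 2
  · subst e; rfl
  obtain ⟨a, b⟩ := (by decide +kernel : ∀ i : Fin 8, i.val ≠ 2 → i.val ≠ 5 → ((YW i ∈ St0 ∧
    YW i ∈ HE false ∧ io (YW i) = Y2 i) ∧ n0 * YW i * n0⁻¹ = n0 * YW i * n0⁻¹) ∧
    n0 * YW i * n0⁻¹ ∈ St0 ∧ n0 * YW i * n0⁻¹ ∈ HE false ∧ io (n0 * YW i * n0⁻¹) = Y1 i) ⟨i, h8⟩ e hi
  rw [y1 e, h.l'' a, h.lF b]

theorem rel {i j n : ℕ} (hi : i < 8) (hj : j < 8) (hij : i < j) (hn : n = if i + 1 = j then 3 else 2) :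
    RB (yy F l i) (yy F l j) n := by
  have h' := h.cj (k := n0) (mA (by decide))
  subst hn
  by_cases e : i ≠ 2 ∧ j ≠ 2
  · rw [y1 e.1, y1 e.2]
    exact h.ph.rb (mY1 i) (mY1 j) ((by decide +kernel : ∀ i j : Fin 8, i.val < j → i.val ≠ 2 ∧
      j.val ≠ 2 → ((Y1 i)⁻¹ * Y1 j) ^ (if i.val + 1 = j then 3 else 2) = 1 ∧
      (Y1 i * (Y1 j)⁻¹) ^ (if i.val + 1 = j then 3 else 2) = 1) ⟨i, hi⟩ ⟨j, hj⟩ hij e)
  by_cases e' : i ≠ 5 ∧ j ≠ 5
  · rw [h.y2 e'.1 hi, h.y2 e'.2 hj]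
    exact h'.ph.rb (mY2 i) (mY2 j) ((by decide +kernel : ∀ i j : Fin 8, i.val < j → i.val ≠ 5 ∧
      j.val ≠ 5 → ((Y2 i)⁻¹ * Y2 j) ^ (if i.val + 1 = j then 3 else 2) = 1 ∧
      (Y2 i * (Y2 j)⁻¹) ^ (if i.val + 1 = j then 3 else 2) = 1) ⟨i, hi⟩ ⟨j, hj⟩ hij e')
  obtain ⟨rfl, rfl⟩ : i = 2 ∧ j = 5 := by omega
  have a2 : yy F l 2 * yy F l 2 = 1 := h'.ph.sq (mY2 2) (by decide +kernel)
  have a5 : yy F l 5 * yy F l 5 = 1 := h.ph.sq (mY1 5) (by decide +kernel)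
  have c : yy F l 2 * yy F l 5 = yy F l 5 * yy F l 2 := by
    rw [show yy F l 5 = yy F l 7 * l (.e0, u6) from
      (h.ph.mul' (mY1 7) (mL (by decide +kernel)) (by decide +kernel)).symm]
    refine comm_mul_of ?_ (h.memV.mp h.y2V).1
    rw [h.y2 (i := 7) (by decide) (by decide)]
    exact h'.ph.comm (mY2 2) (mY2 7) (by decide +kernel)
  unfold RB
  rw [inv_eq_self a2, inv_eq_self a5, and_self, if_neg (by decide), pow_two, mul_assoc,
    ← mul_assoc (yy F l 5), ← c, mul_assoc, a5, mul_one, a2]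

theorem y0 : yy F l 0 = 1 := h.ph.one
theorem ya : yy F l 1 = F a0 := h.lα

theorem se {K : Subgroup G} (ψ : A9 →* G) (hψ : ∀ i j, i < 8 → j < 8 → ∀ x : A9,
    x.1 = adjSwap 8 i * adjSwap 8 j → ψ x = (yy F l i)⁻¹ * yy F l j) (hK : ∀ x, ψ x ∈ K)
    (hs : ε = true → F s0 ∈ K) (h3 : ∀ x ∈ K, x ^ 3 = 1 → ∃ π, π ^ 3 = 1 ∧ ψ π = x) : SE 3 K := by
  have hx : ∀ i j, i < 8 → j < 8 → ∃ x : A9, x.1 = adjSwap 8 i * adjSwap 8 j := fun i j a b =>
    ⟨⟨_, by rw [Perm.mem_alternatingGroup, map_mul, adjSwap_of_lt a, adjSwap_of_lt b,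
      Perm.sign_swap (by simp), Perm.sign_swap (by simp)]; rfl⟩, rfl⟩
  have hy : ∀ i, i < 8 → yy F l i ∈ K := fun i a => by
    obtain ⟨x, e⟩ := hx 0 i (by decide) a
    have := hK x
    rwa [hψ 0 i (by decide) a x e, h.y0, inv_one, one_mul] at this
  have hL : ∀ x ∈ LE ε, l x ∈ K := by
    let κ : Q6 →* LM := MonoidHom.mk' (fun q => (.sg (sgn q), q)) fun p q =>
      Prod.ext (by simp only [sgn_mul, A3.sg_xor]; rfl) rfl
    rintro ⟨p, q⟩ a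
    have k1 : q ∈ (h.ph.bk K).comap κ := Q6_le (fun i => h.ph.mem_bk.mpr ⟨sg_mem ε _, by
      have := hy (i + 3) (by omega)
      rw [y1 (by omega)] at this
      rwa [(by decide +kernel : ∀ i : Fin 5, (A3.sg (sgn (adj i)), adj i) = Y1 (i + 3)) i]⟩) q
    have k0 : α ∈ h.ph.bk K := h.ph.mem_bk.mpr ⟨mY1 1, hy 1 (by decide)⟩
    have k2 := mul_mem a (inv_mem (sg_mem ε q))
    rw [show ((p, q) : LM) * (A3.sg (sgn q), q)⁻¹ = (p * (A3.sg (sgn q))⁻¹, 1) from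
      Prod.ext rfl (mul_inv_cancel q)] at k2
    rw [show ((p, q) : LM) = (p * (A3.sg (sgn q))⁻¹, 1) * κ q from
      Prod.ext (inv_mul_cancel_right _ _).symm (one_mul q).symm]
    refine (h.ph.mem_bk.mp (mul_mem ?_ k1)).2
    generalize p * (A3.sg (sgn q))⁻¹ = r at k2
    obtain ⟨i, j, e, e'⟩ := (by decide +kernel : ∀ ε, ∀ r : A3, ((r, 1) : LM) ∈ LE ε →
      ∃ i : Fin 3, ∃ j : Fin 2, ((r, 1) : LM) = α ^ i.val * (.o0, 1) ^ j.val ∧ (j = 0 ∨ ε = true)) ε r k2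
    rw [e]
    refine mul_mem (pow_mem k0 _) ?_
    rcases e' with rfl | rfl
    · exact one_mem _
    · exact pow_mem (h.ph.mem_bk.mpr ⟨mT' _, h.ls0 ▸ hs rfl⟩) _
  have hS : ∀ m ∈ St0, m ∈ HE ε → F m ∈ K := fun m a b => h.cmp m a b ▸ hL _ ((ioL ε m a).mp b)
  have h' := h.cj (k := n0) (mA (by decide))
  have hν : F ⟨.o0, .o0, .o0, .o1⟩ ∈ K := by
    have k : ∀ m : W, m.p = .e0 ∧ m ∈ HE false → io m ∈ h'.ph.bk K := fun m ⟨a, b⟩ => by
      obtain ⟨c, d⟩ := (by decide +kernel : ∀ m : W, m.p = .e0 → m ∈ St0 ∧ n0 * m * n0⁻¹ ∈ St0) m a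
      exact h'.ph.mem_bk.mpr ⟨(ioL ε m c).mp (mA b), (h.l' ⟨c, mA b, rfl⟩).symm ▸ hS _ d
        (mul_mem (mul_mem (mA (by decide)) (mA b)) (inv_mem (mA (by decide))))⟩
    have k2 : Y2 2 ∈ h'.ph.bk K := h'.ph.mem_bk.mpr ⟨mY2 2, hy 2 (by decide)⟩
    have k3 := k ⟨.e0, .e1, .e1, .e0⟩ (by decide +kernel)
    have k4 := k ⟨.e0, .e2, .e0, .e0⟩ (by decide +kernel)
    have k5 := (h'.ph.mem_bk.mp (mul_mem (mul_mem (mul_mem k2 (mul_mem (mul_mem k3 k2) (inv_mem k3)))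
      (mul_mem (mul_mem k4 k2) (inv_mem k4))) (k ⟨.o0, .o2, .e2, .e0⟩ (by decide +kernel)))).2
    rwa [h.l'' (m := s0 * r0) (m' := ⟨.o0, .o0, .o0, .o1⟩) (by decide +kernel)] at k5
  have hH : N J ≤ K := fun g hg => by
    obtain ⟨m, a, rfl⟩ := h.fr.memN.mp hg
    have mν : (⟨.o0, .o0, .o0, .o1⟩ : W) ∈ HE ε := mA (by decide)
    have mr : s0 * r0 ∈ HE ε := mA (by decide)
    rcases (by decide +kernel : ∀ m : W, m ∈ St0 ∨ (⟨.o0, .o0, .o0, .o1⟩ : W) * m ∈ St0 ∨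
      (⟨.o0, .o0, .o0, .o1⟩ : W) * (s0 * r0 * m) ∈ St0) m with e | e | e
    · exact hS m e a
    · exact (mul_mem_cancel_left hν).mp (h.fr.mul mν a ▸ hS _ e (mul_mem mν a))
    · have := hS _ e (mul_mem mν (mul_mem mr a))
      rwa [h.fr.mul mν (mul_mem mr a), h.fr.mul mr a, mul_mem_cancel_left hν,
        mul_mem_cancel_left (hS _ (by decide) mr)] at this
  have hC : ∀ j ∈ J0, j ≠ 1 → C1 (F j) ≤ K := fun j hj j1 g hg => by
    by_cases hn : na j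
    · exact hH (h.cbc j hn hg)
    obtain ⟨k, hk, e'⟩ := (by decide +kernel : ∀ j ∈ J0, j ≠ 1 → ¬ na j → ∃ k ∈ HE false,
      k * a0 * k⁻¹ = j) j hj j1 hn
    obtain ⟨x, a, e1, -⟩ := (h.cj (mA hk)).of_C (g := g) (by
      rw [h.fr.conj (mA hk) (mA (by decide)) e']; exact mem_C1.mp hg)
    have := hH (h.fr.mN (mA hk))
    exact e1 ▸ mul_mem (mul_mem this (hL x a)) (inv_mem this)
  refine se_of Nat.prime_three h.fr.sylS ((h.fr.im_le _).trans hH)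
    (fun g hg => hH (h.fr.N_S (mem_N.mpr hg))) fun x hx' x1 x3 g hg => ?_
  obtain ⟨π, π3, rfl⟩ := h3 x (hH (h.fr.im_le _ hx')) x3
  obtain ⟨ρ, a, e⟩ := cube_conj (π := π.1) (congrArg Subtype.val π3)
    fun e => x1 (by rw [show π = 1 from Subtype.ext e, map_one])
  have k : ∀ i m, i < 7 → i ≠ 2 → i + 1 ≠ 2 → m ∈ St0 ∧ m ∈ HE false ∧ io m = (Y1 i)⁻¹ * Y1 (i + 1) →
      ∃ x : A9, x.1 = ad i ∧ ψ x = F m := fun i m a b c d => by
    obtain ⟨x, e⟩ := hx i (i + 1) (by omega) (by omega)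
    refine ⟨x, e, ?_⟩
    rw [hψ _ _ (by omega) (by omega) x e, y1 b, y1 c, ← h.ph.inv (mY1 i),
      ← h.ph.mul (inv_mem (mY1 i)) (mY1 _), h.lF d]
  obtain ⟨x0, b0, c0⟩ := k 0 a0 (by decide) (by decide) (by decide) (by decide +kernel)
  obtain ⟨x3, b3, c3⟩ := k 3 a1 (by decide) (by decide) (by decide) (by decide +kernel)
  obtain ⟨x6, b6, c6⟩ := k 6 a2⁻¹ (by decide) (by decide) (by decide) (by decide +kernel)
  obtain ⟨j, hj, j1, e⟩ : ∃ j ∈ J0, j ≠ 1 ∧ ψ ⟨ρ, a⟩ * ψ π * (ψ ⟨ρ, a⟩)⁻¹ = F j := by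
    rcases e with e | e | e
    · exact ⟨a0, by decide, by decide, (rel_conj ψ (Subtype.ext (e.trans b0.symm))).trans c0⟩
    · refine ⟨a0 * a1, by decide, by decide, (rel_conj ψ (y := x0 * x3)
        (Subtype.ext (e.trans (by rw [← b0, ← b3]; rfl)))).trans ?_⟩
      rw [map_mul, c0, c3, h.fr.mul (mA (by decide)) (mA (by decide))]
    · refine ⟨a0 * a1 * a2⁻¹, by decide +kernel, by decide +kernel, (rel_conj ψ (y := x0 * x3 * x6)
        (Subtype.ext (e.trans (by rw [← b0, ← b3, ← b6]; rfl)))).trans ?_⟩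
      rw [map_mul, map_mul, c0, c3, c6, h.fr.mul (mA (by decide)) (mA (by decide)),
        h.fr.mul (mA (by decide)) (mA (by decide))]
  have := hC j hj j1 (mem_C1.mpr (e ▸ comm_conj_both (g := ψ ⟨ρ, a⟩) hg))
  rwa [mul_mem_cancel_right (inv_mem (hK _)), mul_mem_cancel_left (hK _)] at this

end Cfg

theorem Cfg.mainA {F : W → G} {J : Subgroup G} {l : LM → G} (h : Cfg false F J l) :
    Nonempty (G ≃* A9) := by
  obtain ⟨ψ, hψ⟩ := moore_hom (k := 8) (yy F l)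
    (fun i hi => h.rel (by omega) hi (by omega) (by simp))
    fun i j hij hj => h.rel (by omega) hj (by omega) (by rw [if_neg (by omega)])
  have hi : Function.Injective ψ := alt_injective (by norm_num) (x := sw2 0 1 1 2) (by
    rw [hψ 0 1 (by decide) (by decide) _ (by decide +kernel), h.y0, h.ya]; simpa using h.a1')
  exact ⟨(MulEquiv.ofBijective ψ ⟨hi, endgame_A9 hi (h.se ψ hψ (fun x => ⟨x, rfl⟩) (by simp)
    fun _ ⟨π, e⟩ e3 => ⟨π, hi (by rw [map_pow, e, e3, map_one]), e⟩)⟩).symm⟩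

theorem Cfg.mainS {F : W → G} {J : Subgroup G} {l : LM → G} (h : Cfg true F J l) :
    Nonempty (G ≃* Perm (Fin 9)) := by
  have h' := h.cj (k := n0) (mT _)
  have hs : ∀ i, i < 8 → F s0 * yy F l i * (F s0 * yy F l i) = 1 := fun i hi => by
    by_cases e : i = 2
    · subst e
      rw [← show _ = F s0 from h.l' (m := s2) (x := (.e0, sw p4 p5)) (by decide +kernel),
        h.y2 (by decide) hi, ← h'.ph.mul (mT' _) (mT' _)]
      exact h'.ph.sq (mT' _) (by decide +kernel)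
    · rw [Cfg.y1 e, ← h.ls0, ← h.ph.mul (mT' _) (mT' _)]
      exact h.ph.sq (mT' _) ((by decide +kernel : ∀ i : Fin 8,
        ((.o0, 1) : LM) * Y1 i * ((.o0, 1) * Y1 i) = 1) ⟨i, hi⟩)
  have s2 : F s0 * F s0 = 1 := h.fr.sq (mT _) (by decide)
  have hm : ∀ i j, i < 8 → F s0 * yy F l i * (F s0 * yy F l j) = (yy F l i)⁻¹ * yy F l j :=
    fun i j hi => by
      rw [← mul_assoc, eq_inv_of_mul_eq_one_left (by simpa only [mul_assoc] using hs i hi :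
        F s0 * yy F l i * F s0 * yy F l i = 1)]
  obtain ⟨φ, hφ⟩ := CoxRel.exists_hom (s := fun i => F s0 * yy F l i) (k := 8) ⟨hs, fun i hi => by
    have e := (h.rel (i := i) (by omega) hi (by omega) (n := 3) (by simp)).1
    rw [← hm _ _ (by omega)] at e
    have a := inv_eq_self (hs i (by omega))
    have b := inv_eq_self (hs _ hi)
    generalize F s0 * yy F l i = x at *
    generalize F s0 * yy F l (i + 1) = y at *
    calc _ = (x * y) ^ 3 * (y⁻¹ * x⁻¹ * y⁻¹) := by simp only [pow_three', mul_assoc]; group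
      _ = _ := by rw [e, a, b, one_mul], fun i j hij hj => by
    have e := (h.rel (i := i) (by omega) hj (by omega) (n := 2) (by rw [if_neg (by omega)])).1
    rw [← hm _ _ (by omega)] at e
    have a := inv_eq_self (hs i (by omega))
    have b := inv_eq_self (hs _ hj)
    rw [pow_two] at e
    rw [← inv_eq_self e, mul_inv_rev, a, b]⟩
  have hψ : ∀ i j, i < 8 → j < 8 → ∀ x : A9, x.1 = adjSwap 8 i * adjSwap 8 j →
      φ.comp A9.subtype x = (yy F l i)⁻¹ * yy F l j := fun i j a b x e => by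
    change φ x = _
    rw [e, map_mul, hφ i a, hφ j b, hm i j a]
  have hi : Function.Injective φ := sym_injective (by norm_num) (x := sw2 0 1 1 2) (by
    change φ.comp A9.subtype (sw2 0 1 1 2) ≠ 1
    rw [hψ 0 1 (by decide) (by decide) _ (by decide +kernel), h.y0, h.ya]; simpa using h.a1')
  refine ⟨(MulEquiv.ofBijective φ ⟨hi, endgame_S9 hi (h.se _ hψ (fun x => ⟨x, rfl⟩)
    (fun _ => ⟨_, (hφ 0 (by decide)).trans (by rw [h.y0, mul_one])⟩) fun _ ⟨π, e⟩ e3 => ?_)⟩).symm⟩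
  have h3 : π ^ 3 = 1 := hi (by rw [map_pow, e, e3, map_one])
  exact ⟨⟨π, sign_of_cube (k := 1) h3⟩, Subtype.ext h3, e⟩

end W9
end CfsgH7
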