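import Cfsg.Agent.H7.Loc16

/-! Construction of the configuration `Cfg` from a frame. -/

set_option autoImplicit false

namespace CfsgH7
open Subgroup CfsgH5 CfsgH6 CfsgFT CfsgH8 CfsgH9 Equiv

universe u

namespace W9
open E6

variable {G : Type u} [Group G] [Finite G]

def ι0 (p : A3) : W := ⟨p, .e0, .e0, .e0⟩
theorem ι0_mul : ∀ p q, ι0 (p * q) = ι0 p * ι0 q := by decide +kernel
theorem mι : ∀ ε p, ι0 p ∈ HE ε ↔ (p.s = false ∨ ε = true) := by decide +kernel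
noncomputable def gW : Fin 5 → W := ![s0 * s1, s0 * s1 * a1, 1, s0 * s2 * a2, s0 * s2]

omit [Finite G] in
theorem braid_of {x y : G} (a : x * x = 1) (b : y * y = 1) (e : (x * y) ^ 3 = 1) :
    x * y * x = y * x * y := by
  calc _ = (x * y) ^ 3 * (y⁻¹ * x⁻¹ * y⁻¹) := by simp only [pow_three', mul_assoc]; group
    _ = _ := by rw [e, inv_eq_self a, inv_eq_self b, one_mul]

omit [Finite G] in
theorem s6_hom {a b c d e : G} (h : E7.S6 a b c d e) :
    ∃ κ : Q6 →* G, ∀ i, κ (adj i) = ![a, b, c, d, e] i := by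
  obtain ⟨φ, hφ⟩ := CoxRel.exists_hom (s := fun i => [a, b, c, d, e].getD i 1) (k := 5)
    ⟨fun i hi => by
      interval_cases i
      exacts [h.aa, h.bb, h.cc, h.dd, h.ee], fun i hi => by
      have : i < 4 := by omega
      interval_cases i
      exacts [braid_of h.aa h.bb h.ab, braid_of h.bb h.cc h.bc, braid_of h.cc h.dd h.cd,
        braid_of h.dd h.ee h.de], fun i j hij hj => by
      have : i < 3 := by omega
      interval_cases i <;> interval_cases j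
      exacts [h.ac, h.ad, h.ae, h.bd, h.be, h.ce]⟩
  refine ⟨φ.comp eqS.symm.toMonoidHom, fun i => ?_⟩
  rw [← eqS_adj]
  refine (congrArg φ (eqS.symm_apply_apply _)).trans ((hφ i i.2).trans ?_)
  fin_cases i <;> rfl

namespace Fr
variable {ε : Bool} {F : W → G} {J : Subgroup G} (h : Fr (HE ε) F J)
include h

theorem cfg (hc : ∀ j, na j → C1 (F j) ≤ N J) {z : G}
    (h6 : E7.S6 (F (s0 * s1)) (F (s0 * s1) * F a1) z (F (s0 * s2) * F a2) (F (s0 * s2)))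
    (hz : z * F a0 * z⁻¹ = (F a0)⁻¹) (hs : ε = true → z * F s0 = F s0 * z)
    (hg : ∀ K, F a0 ∈ K → (ε = true → F s0 ∈ K) →
      E7.K6 (F (s0 * s1)) (F (s0 * s1) * F a1) z (F (s0 * s2) * F a2) (F (s0 * s2)) ≤ K →
      N (zpowers (F a0)) ≤ K) : ∃ l, Cfg ε F J l := by
  obtain ⟨κ, hκ⟩ := s6_hom h6
  have m0 : a0 ∈ HE ε := mA (by decide)
  have k1 : ∀ i, i ≠ 2 → κ (adj i) = F (gW i) := fun i hi => by
    rw [hκ]
    fin_cases i
    exacts [rfl, (h.mul (mA (by decide)) (mA (by decide))).symm, absurd rfl hi,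
      (h.mul (mA (by decide)) (mA (by decide))).symm, rfl]
  have mg : ∀ i, gW i ∈ HE false := by decide +kernel
  have k2 : ∀ i p, ι0 p ∈ HE ε → κ (adj i) * F (ι0 p) * (κ (adj i))⁻¹ = F (ι0 (.o0 * p * .o0)) := by
    intro i p hp
    by_cases hi : i = 2
    · subst hi
      rw [hκ]
      change z * _ * z⁻¹ = _
      obtain ⟨i, j, e, e1, e'⟩ := (by decide +kernel : ∀ ε p, ι0 p ∈ HE ε → ∃ i : Fin 3, ∃ j : Fin 2,
        ι0 p = a0 ^ i.val * s0 ^ j.val ∧ ι0 (.o0 * p * .o0) = a0⁻¹ ^ i.val * s0 ^ j.val ∧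
          (j = 0 ∨ ε = true)) ε p hp
      rw [e, e1]
      rcases e' with rfl | rfl
      · simp only [Fin.val_zero, pow_zero, mul_one]
        rw [h.pow m0, h.pow (inv_mem m0), h.inv m0, ← conj_pow, hz]
      · rw [h.mul (mT _) (mT _), h.mul (mT _) (mT _), h.pow m0, h.pow (inv_mem m0), h.inv m0,
          h.pow (mT _), ← conj_mul, ← conj_pow, ← conj_pow, hz, hs rfl, mul_inv_cancel_right]
    · rw [k1 i hi]
      exact h.conj (mA (mg i)) hp ((by decide +kernel : ∀ i p, i ≠ 2 →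
        gW i * ι0 p * (gW i)⁻¹ = ι0 (.o0 * p * .o0)) i p hi)
  have k3 : ∀ q p, ι0 p ∈ HE ε → κ q * F (ι0 p) * (κ q)⁻¹ =
      F (ι0 (.sg (sgn q) * p * .sg (sgn q))) := fun q => by
    refine E8.closure_ind (Set.range adj) (fun q => ∀ p, ι0 p ∈ HE ε → κ q * F (ι0 p) * (κ q)⁻¹ =
      F (ι0 (.sg (sgn q) * p * .sg (sgn q)))) (fun p _ => ?_) ?_ q
      (Q6_le (fun i => Subgroup.subset_closure (Set.mem_range_self i)) q)
    · rw [map_one, one_mul, inv_one, mul_one]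
      exact congrArg (fun x => F (ι0 x)) ((mul_one _).trans (one_mul p)).symm
    · rintro _ ⟨i, rfl⟩ x hx p hp
      rw [map_mul, mul_inv_rev, show ∀ a b c : G, a * b * c * (b⁻¹ * a⁻¹) = a * (b * c * b⁻¹) * a⁻¹
        from fun a b c => by group, hx p hp, k2 _ _ ((by decide +kernel : ∀ ε p b, ι0 p ∈ HE ε →
          ι0 (.sg b * p * .sg b) ∈ HE ε) ε p _ hp), sgn_mul,
        (by decide +kernel : ∀ i, sgn (adj i) = true)]
      exact congrArg (fun x => F (ι0 x)) ((by decide +kernel : ∀ b p, A3.o0 * (.sg b * p * .sg b) * .o0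
        = .sg (xor true b) * p * .sg (xor true b)) _ p)
  have k4 : ∀ w : List (Fin 5), (∀ i ∈ w, i ≠ 2) → κ (w.map adj).prod = F (w.map gW).prod ∧
      (w.map gW).prod ∈ HE false := fun w => by
    induction w with
    | nil => exact fun _ => ⟨by simp [h.one], one_mem _⟩
    | cons i w ih =>
      intro hw
      obtain ⟨a, b⟩ := ih fun j hj => hw j (List.mem_cons_of_mem _ hj)
      rw [List.map_cons, List.map_cons, List.prod_cons, List.prod_cons, map_mul, a,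
        k1 i (hw i List.mem_cons_self), h.mul (mA (mg i)) (mA b)]
      exact ⟨rfl, mul_mem (mg i) b⟩
  have kA : ∀ x, κ (pA x) = F ⟨.sg x.s, x, .e0, .e0⟩ := fun x => by
    obtain ⟨w, -, a, b, c⟩ := (by decide +kernel : ∀ x, ∃ w ∈ ([[], [0], [1], [0, 1], [1, 0],
      [0, 1, 0]] : List (List (Fin 5))), (∀ i ∈ w, i ≠ 2) ∧ pA x = (w.map adj).prod ∧
        (⟨.sg x.s, x, .e0, .e0⟩ : W) = (w.map gW).prod) x
    rw [b, c, (k4 w a).1]
  have kB : ∀ x, κ (pB x) = F ⟨.sg x.s, .e0, x, .e0⟩ := fun x => by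
    obtain ⟨w, -, a, b, c⟩ := (by decide +kernel : ∀ x, ∃ w ∈ ([[], [3], [4], [3, 4], [4, 3],
      [3, 4, 3]] : List (List (Fin 5))), (∀ i ∈ w, i ≠ 2) ∧ pB x = (w.map adj).prod ∧
        (⟨.sg x.s, .e0, x, .e0⟩ : W) = (w.map gW).prod) x
    rw [b, c, (k4 w a).1]
  have kτ : κ τ6 = F (s0 * r0) := by
    have e0 : κ τ6 * F a0 * (κ τ6)⁻¹ = F a0⁻¹ := k3 τ6 .e1 m0
    have e1 : κ τ6 * F a1 * (κ τ6)⁻¹ = F a2 := by
      rw [← show _ = F a1 from kA .e1, ← show _ = F a2 from kB .e1]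
      exact rel_conj κ (by decide +kernel)
    have e2 : κ τ6 * F a2 * (κ τ6)⁻¹ = F a1 := by
      rw [← show _ = F a1 from kA .e1, ← show _ = F a2 from kB .e1]
      exact rel_conj κ (by decide +kernel)
    have e3 : κ τ6 * F (s0 * s1) * (κ τ6)⁻¹ = F (s0 * s2) := by
      rw [← show _ = F (s0 * s1) from kA .o0, ← show _ = F (s0 * s2) from kB .o0]
      exact rel_conj κ (by decide +kernel)
    obtain ⟨m, a, e⟩ := h.memN.mp (mem_N_of_conj fun x hx => by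
      simpa using mem_cj.mp (h.J_le (K := CfsgH5.cj (κ τ6)⁻¹ J)
        (mem_cj.mpr (by rw [inv_inv, e0]; exact h.mJ (by decide)))
        (mem_cj.mpr (by rw [inv_inv, e1]; exact h.mJ (by decide)))
        (mem_cj.mpr (by rw [inv_inv, e2]; exact h.mJ (by decide))) hx) : κ τ6 ∈ N J)
    rw [← e] at e0 e1 e3
    rw [← e, (by decide +kernel : ∀ m : W, m * a0 * m⁻¹ = a0⁻¹ → m * a1 * m⁻¹ = a2 →
      m * (s0 * s1) * m⁻¹ = s0 * s2 → m * m = 1 → m = s0 * r0) m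
      (h.conj_inj a m0 (inv_mem m0) e0) (h.conj_inj a (mA (by decide)) (mA (by decide)) e1)
      (h.conj_inj a (mA (by decide)) (mA (by decide)) e3)
      (h.sq' a (by rw [e]; exact rel_sq κ (by decide +kernel)))]
  have mL' : ∀ {x : LM}, x ∈ LE ε → ι0 (x.1 * .sg (sgn x.2)) ∈ HE ε := fun {x} hx =>
    (by decide +kernel : ∀ ε p b, (ε || !xor (A3.s p) b) = true → ι0 (p * .sg b) ∈ HE ε) ε _ _ hx
  have ph : PH (LE ε) fun x => F (ι0 (x.1 * .sg (sgn x.2))) * κ x.2 := ⟨fun {x y} a b => by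
    have := k3 x.2 _ (mL' b)
    rw [mul_inv_eq_iff_eq_mul] at this
    rw [mul_assoc, ← mul_assoc (κ _), this, ← mul_assoc, ← mul_assoc, ← h.mul (mL' a)
      ((by decide +kernel : ∀ ε p b, ι0 p ∈ HE ε → ι0 (.sg b * p * .sg b) ∈ HE ε) ε _ _ (mL' b)),
      Prod.snd_mul, map_mul, ← mul_assoc, ← ι0_mul, sgn_mul, Prod.fst_mul,
      (by decide +kernel : ∀ (p q : A3) a b, p * q * .sg (xor a b) =
        p * .sg a * (.sg a * (q * .sg b) * .sg a))], fun {x} a e => by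
    obtain ⟨p, q⟩ := x
    have a' := mL' a
    have e1 : κ q = (F (ι0 (p * .sg (sgn q))))⁻¹ := eq_inv_of_mul_eq_one_right e
    have hi : Function.Injective κ := by
      have := sym_injective (φ := κ.comp eqS.toMonoidHom) (by norm_num) (x := sw2 0 1 1 2) (by
        change κ (eqS _) ≠ 1
        rw [show eqS (sw2 0 1 1 2 : alternatingGroup (Fin 6)).1 = pA .e1 by decide +kernel, kA]
        exact h.ne (mA (by decide)) (by decide))
      exact Function.Injective.of_comp_right this eqS.surjective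
    have k : ∀ r m, m ∈ HE false → κ r = F m → (∀ p, ι0 p * m = m * ι0 p) → q * r = r * q :=
      fun r m b c d => hi (by
        rw [map_mul, map_mul, c, e1]
        exact (show Commute _ _ from h.comm a' (mA b) (d _)).inv_left)
    obtain rfl := (by decide +kernel : ∀ q : Q6, q * pA .e1 = pA .e1 * q → q * pB .e1 = pB .e1 * q →
      q * (pA .o0 * pB .o0) = pA .o0 * pB .o0 * q → q = 1) q
      (k _ a1 (by decide) (kA _) (by decide +kernel)) (k _ a2 (by decide) (kB _) (by decide +kernel))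
      (k _ d0 (by decide) (by
        rw [map_mul, kA, kB]; exact h.mul' (mA (by decide)) (mA (by decide)) (by decide))
        (by decide +kernel))
    rw [map_one, mul_one] at e
    exact Prod.ext ((by decide +kernel : ∀ p, ι0 (p * .sg (sgn 1)) = 1 → p = 1) p (h.inj1 a' e)) rfl⟩
  have k5 : ∀ p, ι0 p ∈ HE ε → F (ι0 p) ∈ ph.im ⊤ := fun p hp => ph.mem_im.mpr ⟨(p, 1), mem_top _,
    (by decide +kernel : ∀ ε p, ι0 p ∈ HE ε → ((p, 1) : LM) ∈ LE ε) ε p hp, by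
      simp only [map_one, mul_one]; exact congrArg (fun x => F (ι0 x)) (mul_one p)⟩
  have k6 : ∀ i, ![F (s0 * s1), F (s0 * s1) * F a1, z, F (s0 * s2) * F a2, F (s0 * s2)] i ∈
      ph.im ⊤ := fun i => ph.mem_im.mpr ⟨_, mem_top _, sg_mem ε (adj i), by
    simp only [(by decide +kernel : ∀ b, ι0 (.sg b * .sg b) = 1), h.one, one_mul, hκ]⟩
  refine ⟨_, h, ph, ⟨fun e => ?_, ?_⟩, fun m a b => ?_, hc⟩
  · obtain ⟨x, -, a, b⟩ := ph.mem_im.mp (hg _ (k5 .e1 m0) (fun e => k5 .o0 (e ▸ mT _))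
      (E7.K6_le (k6 0) (k6 1) (k6 2) (k6 3) (k6 4)) e)
    exact ⟨x, a, b⟩
  · rintro ⟨x, a, rfl⟩
    have k : ∀ m ∈ HE ε, (m = a0 ∨ m = a0⁻¹) → F m ∈ zpowers (F a0) := by
      rintro m - (rfl | rfl)
      exacts [mem_zpowers _, h.inv m0 ▸ inv_mem (mem_zpowers _)]
    refine mul_mem (CfsgH7.mem_N_zpowers ?_) (CfsgH7.mem_N_zpowers ?_)
    · rw [← h.conj' (mL' a) m0]
      exact k _ (mul_mem (mul_mem (mL' a) m0) (inv_mem (mL' a))) ((by decide +kernel : ∀ p,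
        ι0 p * a0 * (ι0 p)⁻¹ = a0 ∨ ι0 p * a0 * (ι0 p)⁻¹ = a0⁻¹) _)
    · have := (by decide +kernel : ∀ b, ι0 (.sg b * .e1 * .sg b) ∈ HE false ∧
        (ι0 (.sg b * .e1 * .sg b) = a0 ∨ ι0 (.sg b * .e1 * .sg b) = a0⁻¹)) (sgn x.2)
      exact (k3 x.2 .e1 m0).symm ▸ k _ (mA this.1) this.2
  · have a' := mL' ((ioL ε m a).mp b)
    have e1 : κ (cond m.p.s τ6 1) = F (cond m.p.s (s0 * r0) 1) ∧
        cond m.p.s (s0 * r0) 1 ∈ HE false := by
      cases m.p.s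
      exacts [⟨(map_one κ).trans h.one.symm, one_mem _⟩, ⟨kτ, by decide⟩]
    have e2 : ∀ x : A3, (⟨.sg x.s, x, .e0, .e0⟩ : W) ∈ HE false ∧
      (⟨.sg x.s, .e0, x, .e0⟩ : W) ∈ HE false := by decide +kernel
    change F _ * κ (_ * _ * _) = _
    rw [map_mul, map_mul, kA, kB, e1.1, ← h.mul (mA (e2 _).1) (mA (e2 _).2),
      ← h.mul (mA (mul_mem (e2 _).1 (e2 _).2)) (mA e1.2),
      ← h.mul a' (mA (mul_mem (mul_mem (e2 _).1 (e2 _).2) e1.2))]
    exact congrArg F ((by decide +kernel : ∀ m ∈ St0, ι0 ((io m).1 * .sg (sgn (io m).2)) *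
      ((⟨.sg m.x1.s, m.x1, .e0, .e0⟩ : W) * ⟨.sg m.x2.s, .e0, m.x2, .e0⟩ *
        cond m.p.s (s0 * r0) 1) = m) m a)

theorem supJ : D9 (F a1) (F a2) ⊔ zpowers (F a0) = J :=
  le_antisymm (sup_le (D9_le (h.mJ (by decide)) (h.mJ (by decide)))
    (zpowers_le.mpr (h.mJ (by decide)))) (h.J_le (mem_sup_right (mem_zpowers _))
    (mem_sup_left (left_mem_D9 _ _)) (mem_sup_left (right_mem_D9 _ _)))

theorem b12 : B9 (F a1) (F a2) := h.b9 (mA (by decide)) (mA (by decide)) (by decide +kernel)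

theorem memD12 {g : G} (hg : g ∈ D9 (F a1) (F a2)) : ∃ i j, g = F (jv 0 i j) := by
  obtain ⟨i, j, rfl⟩ := h.b12.mem hg
  have m1 : a1 ∈ HE ε := mA (by decide)
  have m2 : a2 ∈ HE ε := mA (by decide)
  refine ⟨i, j, ?_⟩
  rw [jv_eq, Fin.val_zero, pow_zero, one_mul, h.mul (pow_mem m1 _) (pow_mem m2 _), h.pow m1, h.pow m2]
  rfl

theorem memZ0 {g : G} (hg : g ∈ zpowers (F a0)) : ∃ i, g = F (jv i 0 0) := by
  rcases mem_zpowers_three (h.exp _ (h.mJ (by decide))) hg with rfl | rfl | rfl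
  exacts [⟨0, h.one.symm⟩, ⟨1, rfl⟩, ⟨2, (h.inv (mA (by decide))).symm⟩]

theorem inf12 : D9 (F a1) (F a2) ⊓ zpowers (F a0) = ⊥ := eq_bot_iff.mpr fun g hg => by
  obtain ⟨i, j, rfl⟩ := h.memD12 hg.1
  obtain ⟨k, e⟩ := h.memZ0 hg.2
  obtain ⟨-, rfl, rfl⟩ := jv_inj _ _ _ _ _ _ (h.inj (h.jle (jv_mem _ _ _)) (h.jle (jv_mem _ _ _)) e)
  exact h.one

theorem cent_aa (hs : Sig3 J) {x y r : W} (hx : x ∈ J0) (hr : r ∈ J0) (ρ : W)
    (h1 : ρ * ρ = 1 ∧ (∀ j ∈ J0, ∃ i : Fin 3, ρ * j * ρ⁻¹ * j⁻¹ = r ^ i.val) ∧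
      ∀ m, m * x = x * m → m * y = y * m → m ∈ J0 ∨ (m * ρ⁻¹ ∈ J0 ∧ (m ∈ HE false → False)))
    (hy : y ∈ J0) : C1 (F x) ⊓ C1 (F y) ≤ N J := by
  have hJ : J ≤ C1 (F x) ⊓ C1 (F y) :=
    le_inf (le_C1_iff.2 (h.ab (h.mJ hx))) (le_C1_iff.2 (h.ab (h.mJ hy)))
  have k : ∀ g ∈ C1 (F x) ⊓ C1 (F y), g ∈ N J → ∃ m ∈ HE ε, F m = g ∧ (m ∈ J0 ∨
      (m * ρ⁻¹ ∈ J0 ∧ (m ∈ HE false → False))) := fun g hg e => by
    obtain ⟨m, a, rfl⟩ := h.memN.mp e
    exact ⟨m, a, rfl, h1.2.2 m (h.comm' a (h.jle hx) (mem_C1.mp hg.1))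
      (h.comm' a (h.jle hy) (mem_C1.mp hg.2))⟩
  cases ε
  · rw [hs.le_of_inf_N h.isP h.ab hJ fun g hg => by
      obtain ⟨m, a, rfl, b⟩ := k g hg.1 hg.2
      exact h.mJ (b.resolve_right fun c => c.2 a)]
    exact le_N J
  · refine hs.le_N_of_refl h.exp h.ab hJ (ρ := F ρ) (h.mJ hr)
      (by rw [pow_two, h.sq (mT _) h1.1]; exact one_mem _) (fun j hj => ?_) fun g hg e => ?_
    · obtain ⟨j, a, rfl⟩ := h.memJ.mp hj
      obtain ⟨i, e⟩ := h1.2.1 j a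
      rw [← h.conj' (mT _) (mT _), ← h.inv (mT _), ← h.mul (mT _) (mT _), e, h.pow (mT _)]
      exact pow_mem (mem_zpowers _) _
    · obtain ⟨m, a, rfl, b⟩ := k g hg e
      rw [← h.inv (mT _), ← h.mul (mT _) (mT _)]
      exact b.imp h.mJ fun c => h.mJ c.1

theorem hC12 (hs : Sig3 J) (hc : ∀ j, na j → C1 (F j) ≤ N J) {y : G} (hy : y ∈ D9 (F a1) (F a2))
    (y1 : y ≠ 1) {g : G} (hg : g ∈ N (zpowers (F a0))) (e : g * y * g⁻¹ * y⁻¹ ∈ zpowers (F a0)) :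
    g ∈ N J := by
  obtain ⟨i, j, rfl⟩ := h.memD12 hy
  obtain ⟨k, e⟩ := h.memZ0 e
  have m := jv_mem 0 i j
  rw [mul_inv_eq_iff_eq_mul, ← h.mul (h.jle (jv_mem _ _ _)) (h.jle m)] at e
  by_cases hn : na (jv 0 i j)
  · exact h.ti (h.mJ m) (e ▸ h.mJ (mul_mem (jv_mem _ _ _) m)) (hc _ hn)
  obtain ⟨n, -, e1, -⟩ := h.fus m (mul_mem (jv_mem _ _ _) m) e
  obtain ⟨rfl, e2⟩ := (by decide +kernel : ∀ i j k, jv 0 i j ≠ 1 → ¬ na (jv 0 i j) →
    (∃ n, n * jv 0 i j * n⁻¹ = jv k 0 0 * jv 0 i j) → k = 0 ∧ (i = 0 ∨ j = 0)) i j k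
    (fun e => y1 (by rw [e, h.one])) hn ⟨n, e1⟩
  rw [show jv 0 0 0 = 1 from rfl, one_mul] at e
  have h1 : C1 (F a0) ⊓ C1 (F (jv 0 i j)) ≤ N J := by
    have y2 : jv 0 i j ≠ 1 := fun e => y1 (by rw [e, h.one])
    rcases e2 with rfl | rfl
    · exact h.cent_aa hs (by decide) (r := a1) (by decide) s1 ((by decide +kernel : ∀ j, jv 0 0 j ≠ 1 →
        s1 * s1 = 1 ∧ (∀ j ∈ J0, ∃ i : Fin 3, s1 * j * s1⁻¹ * j⁻¹ = a1 ^ i.val) ∧
        ∀ m, m * a0 = a0 * m → m * jv 0 0 j = jv 0 0 j * m → m ∈ J0 ∨ (m * s1⁻¹ ∈ J0 ∧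
          (m ∈ HE false → False))) j y2) m
    · exact h.cent_aa hs (by decide) (r := a2) (by decide) s2 ((by decide +kernel : ∀ i, jv 0 i 0 ≠ 1 →
        s2 * s2 = 1 ∧ (∀ j ∈ J0, ∃ i : Fin 3, s2 * j * s2⁻¹ * j⁻¹ = a2 ^ i.val) ∧
        ∀ m, m * a0 = a0 * m → m * jv 0 i 0 = jv 0 i 0 * m → m ∈ J0 ∨ (m * s2⁻¹ ∈ J0 ∧
          (m ∈ HE false → False))) i y2) m
  refine h.weak (le_trans (cj_mono (le_inf (le_C1_iff.2 (h.ab (h.mJ (show a0 ∈ J0 by decide))))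
    (le_C1_iff.2 (h.ab (h.mJ m))))) ?_)
  rw [cj_inf, cj_C1 g (F (jv 0 i j)), e, ← C_zpowers, cj_C, mem_N.mp hg, C_zpowers]
  exact h1

theorem hN8 {g : G} (hg : g ∈ N J) (l : List W) (hl : ∀ w ∈ l, w ∈ HE ε)
    (e : ∀ m ∈ HE ε, F m = g → ∃ w ∈ l, m * w⁻¹ ∈ J0) : ∃ w ∈ l.map F, g * w⁻¹ ∈ J := by
  obtain ⟨m, a, rfl⟩ := h.memN.mp hg
  obtain ⟨w, b, c⟩ := e m a rfl
  refine ⟨_, List.mem_map_of_mem b, ?_⟩
  rw [← h.inv (hl w b), ← h.mul a (inv_mem (hl w b))]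
  exact h.mJ c

theorem tup {s t : W} (hs : s ∈ HE ε) (ht : t ∈ HE ε) (e : s * s = 1 ∧ t * t = 1 ∧ s * t = t * s ∧
    s * a1 * (s * a1) = 1 ∧ s * a2 = a2 * s ∧ t * a1 = a1 * t ∧ t * a2 * (t * a2) = 1) :
    E7.Tup (F a1) (F a2) (F s) (F t) := by
  have m1 : a1 ∈ HE ε := mA (by decide)
  have m2 : a2 ∈ HE ε := mA (by decide)
  exact ⟨h.b12.a3, h.b12.b3, h.b12.comm, h.b12.a1, h.b12.ind, h.sq hs e.1, h.sq ht e.2.1,
    h.comm hs ht e.2.2.1, h.mul hs m1 ▸ h.sq (mul_mem hs m1) e.2.2.2.1, h.comm hs m2 e.2.2.2.2.1,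
    h.comm ht m1 e.2.2.2.2.2.1, h.mul ht m2 ▸ h.sq (mul_mem ht m2) e.2.2.2.2.2.2⟩

theorem sylJa : SylIn 3 J (C1 (F a0)) :=
  h.sylJ (le_C1_iff.2 (h.ab (h.mJ (by decide)))) (mA (by decide)) le_rfl (by decide +kernel)

end Fr

theorem Fr.coreA {F : W → G} {J : Subgroup G} (h : Fr (HE false) F J) (hs : Sig3 J)
    (hc : ∀ j, na j → C1 (F j) ≤ N J) : N (zpowers (F a0)) ≤ N J ∨ Nonempty (G ≃* A9) := by
  have := Fact.mk Nat.prime_three
  have a3 : F a0 ^ 3 = 1 := h.exp _ (h.mJ (by decide))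
  have hN : ∀ m ∈ HE false, (m * a0 * m⁻¹ = a0 ∨ m * a0 * m⁻¹ = a0⁻¹) → F m ∈ N (zpowers (F a0)) :=
    fun m a b => CfsgH7.mem_N_zpowers (nx_mem (b.imp (h.conj a (by decide)) (h.conj_inv a (by decide))))
  refine (d8_nsec (h.tup (s := s0 * s1) (t := s0 * s2) (by decide) (by decide) (by decide +kernel))
    (τ := F (s0 * r0)) a3 (h.ne (by decide) (by decide)) (le_N _ (mem_zpowers _)) le_rfl
    (hN _ (by decide) (by decide)) (hN _ (by decide) (by decide)) (hN _ (by decide) (by decide))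
    (h.sq (by decide) (by decide)) (h.conj (by decide) (by decide) (by decide))
    (h.conj (by decide) (by decide) (by decide)) h.inf12
    (h.conj_inv (by decide) (by decide) (by decide)) (h.comm (by decide) (by decide) (by decide))
    (fun g hg e => ?_) (fun y hy y1 g hg e => h.supJ.symm ▸ h.hC12 hs hc hy y1 hg e)
    fun g hg e e' => ?_).imp (fun e => h.supJ ▸ e) fun ⟨z, h6, hz, hg⟩ => ?_
  · rw [h.supJ] at e ⊢
    have := h.hN8 e [1, s0 * s1, s0 * s2, s0 * s1 * (s0 * s2), s0 * r0, s0 * s1 * (s0 * r0),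
      s0 * s2 * (s0 * r0), s0 * s1 * (s0 * s2) * (s0 * r0)] (by decide +kernel) fun m a b => by
        refine (by decide +kernel : ∀ m ∈ HE false, m * a0 * m⁻¹ ∈ [1, a0, a0⁻¹] →
          ∃ w ∈ [1, s0 * s1, s0 * s2, s0 * s1 * (s0 * s2), s0 * r0, s0 * s1 * (s0 * r0),
          s0 * s2 * (s0 * r0), s0 * s1 * (s0 * s2) * (s0 * r0)], m * w⁻¹ ∈ J0) m a ?_
        obtain ⟨k, e⟩ := h.memZ0 (conj_mem_of_mem_N (b ▸ hg) (mem_zpowers _))
        rw [h.conj_inj a (by decide) (h.jle (jv_mem _ _ _)) e]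
        exact (by decide +kernel : ∀ k, jv k 0 0 ∈ [1, a0, a0⁻¹]) k
    have k : ∀ x y, x ∈ HE false ∧ y ∈ HE false → F (x * y) = F x * F y := fun x y a => h.mul a.1 a.2
    simp only [List.map_cons, List.map_nil, h.one] at this
    rwa [k (s0 * s1 * (s0 * s2)) (s0 * r0) (by decide), k (s0 * s1) (s0 * s2) (by decide),
      k (s0 * s1) (s0 * r0) (by decide), k (s0 * s2) (s0 * r0) (by decide)] at this
  · obtain ⟨c, -, e1⟩ := h.sylJa.exists_le_cj (X := zpowers g) (zpowers_le.mpr (mem_C1.mpr e))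
      (IsPGroup.of_card_dvd_pow (n := 2) (by
        rw [Nat.card_zpowers]
        refine orderOf_dvd_of_pow_eq_one ?_
        rw [show 3 ^ 2 = 3 * 3 from rfl, pow_mul]; exact h.exp _ (zpowers_le.mpr (h.mJ (by decide)) e')))
    have := h.exp _ (mem_cj.mp (e1 (mem_zpowers g)))
    rw [show c⁻¹ * g * c = c⁻¹ * g * c⁻¹⁻¹ by rw [inv_inv], conj_pow, conj_eq_one_iff] at this
    exact this
  · obtain ⟨l, hl⟩ := h.cfg hc h6 hz (by simp) fun K a _ b g e => by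
      obtain ⟨ζ, c, k, d, rfl⟩ := hg g e
      exact mul_mem (zpowers_le.mpr a c) (b d)
    exact hl.mainA

omit [Finite G] in
theorem s6_twist {a b c d e w : G} (h : E7.S6 a b c d e) (w2 : w * w = 1) (ha : Commute w a)
    (hb : Commute w b) (hc : Commute w c) (hd : Commute w d) (he : Commute w e) :
    E7.S6 (w * a) (w * b) (w * c) (w * d) (w * e) := by
  have k : ∀ {x}, Commute w x → ∀ y, w * x * (w * y) = x * y := fun {x} hx y => by
    rw [hx.eq, mul_assoc, ← mul_assoc w, w2, one_mul]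
  constructor <;> simp only [k ha, k hb, k hc, k hd, k he]
  exacts [h.aa, h.bb, h.cc, h.dd, h.ee, h.ab, h.bc, h.cd, h.de, h.ac, h.ad, h.ae, h.bd, h.be, h.ce,
    h.ne]

theorem Fr.coreS {F : W → G} {J : Subgroup G} (h : Fr (HE true) F J) (hs : Sig3 J)
    (hc : ∀ j, na j → C1 (F j) ≤ N J) : C1 (F a0) ≤ N J ∨ Nonempty (G ≃* Perm (Fin 9)) := by
  have a3 : F a0 ^ 3 = 1 := h.exp _ (h.mJ (by decide))
  have hN : ∀ m, m * a0 = a0 * m → F m ∈ C1 (F a0) := fun m b => mem_C1.mpr (h.comm (mT _) (mT _) b)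
  refine ((h.tup (s := s1) (t := s2) (mT _) (mT _) (by decide +kernel)).d8_sec (τ := F r0)
    (X := C1 (F a0)) (Z := zpowers (F a0)) (zpowers_le.mpr (mem_C1.mpr rfl)) (C_zpowers _).ge
    (hN _ (by decide)) (hN _ (by decide)) (hN _ (by decide))
    (h.sq (mT _) (by decide)) (h.conj (mT _) (mT _) (by decide))
    (h.conj (mT _) (mT _) (by decide)) h.inf12 (fun g hg e => ?_)
    (fun y hy y1 g hg e => h.supJ.symm ▸ h.hC12 hs hc hy y1 (C_le_N _ ((C_zpowers _).ge hg)) e)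
    fun g hg ζ e e' => ?_).imp (fun e => h.supJ ▸ e) fun ⟨z, h6, hz, hg⟩ => ?_
  · rw [h.supJ] at e ⊢
    have := h.hN8 e [1, s1, s2, s1 * s2, r0, s1 * r0, s2 * r0, s1 * s2 * r0] (fun _ _ => mT _)
      fun m a b => (by decide +kernel : ∀ m, m * a0 = a0 * m →
          ∃ w ∈ [1, s1, s2, s1 * s2, r0, s1 * r0, s2 * r0, s1 * s2 * r0], m * w⁻¹ ∈ J0) m
          (h.comm' a (mT _) (mem_C1.mp (b ▸ hg)))
    simpa only [List.map_cons, List.map_nil, h.one, h.mul (mT _) (mT _)] using this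
  · have e1 := conj_mul_self (h.sq (x := s1) (mT _) (by decide)) g
    have e2 : Commute (F s1) ζ := (mem_C.mp ((C_zpowers _).ge (hN s1 (by decide))) ζ e).symm
    rw [e', ← pow_two, e2.mul_pow, pow_two, h.sq (mT _) (by decide), one_mul, pow_two] at e1
    exact eq_one_of_sq_cube e1 (h.exp _ (zpowers_le.mpr (h.mJ (by decide)) e))
  have s2' : F s0 * F s0 = 1 := h.sq (mT _) (by decide)
  have sa : F s0 * F a0 * (F s0)⁻¹ = (F a0)⁻¹ := h.conj_inv (mT _) (mT _) (by decide)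
  have c : ∀ m, s0 * m = m * s0 → Commute (F s0) (F m) := fun m e => h.comm (mT _) (mT _) e
  have c1 := c s1 (by decide)
  have c2 := c s2 (by decide)
  have c3 := c1.mul_right (c a1 (by decide))
  have c4 := c2.mul_right (c a2 (by decide))
  have sC : ∀ g ∈ C1 (F a0), F s0 * g * (F s0)⁻¹ ∈ C1 (F a0) := fun g hg => by
    rwa [← C1_inv, ← sa, ← cj_C1, conj_mem_cj]
  have sz : F s0 * z * (F s0)⁻¹ = z := by
    have k4 := h6.conj (F s0)
    rw [c1.mul_inv_cancel, c2.mul_inv_cancel, c3.mul_inv_cancel, c4.mul_inv_cancel] at k4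
    refine (h6.uniq ?_ k4.ac.symm k4.ce k4.cd).resolve_right fun e => e.2 (by
      have := k4.bc
      generalize F s1 * F a1 = x at this ⊢
      generalize F s0 * z * (F s0)⁻¹ = y at this ⊢
      calc _ = y * (x * y) ^ 3 * y⁻¹ := by simp only [pow_three', mul_assoc]; group
        _ = 1 := by rw [this]; group)
    obtain ⟨ζ, a, k, b, e⟩ := hg _ (sC z hz)
    have e2 : Commute ζ k := by
      have := mem_C.mp ((C_zpowers _).ge (sC z hz)) ζ a
      rw [e, mul_assoc] at this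
      exact mul_left_cancel this
    have e3 : F s0 * z * (F s0)⁻¹ = k ^ 3 := by
      rw [← mul_one (_ * _ * _), ← k4.cc, ← pow_three, e, e2.mul_pow,
        h.exp _ (zpowers_le.mpr (h.mJ (by decide)) a), one_mul]
    exact e3 ▸ pow_mem b 3
  have cz : Commute (F s0) z := mul_inv_eq_iff_eq_mul.mp sz
  have h7 := s6_twist h6 s2' c1 c3 cz c4 c2
  rw [← mul_assoc, ← mul_assoc (F s0) (F s2), ← h.mul (mT _) (mT _), ← h.mul (m := s0) (mT _) (mT _)] at h7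
  obtain ⟨l, hl⟩ := h.cfg hc h7 (by
    rw [mul_inv_rev, mul_assoc (F s0), mem_C1.mp hz, ← sa]; group)
    (fun _ => by rw [mul_assoc, ← cz.eq]) fun K a b d g e => by
      have k : ∀ x, F s0 * x ∈ K → x ∈ K := fun x => (mul_mem_cancel_left (b rfl)).mp
      obtain ⟨d1, d2, d3, d4, d5⟩ := E7.mem_K6 (F (s0 * s1)) (F (s0 * s1) * F a1) (F s0 * z)
        (F (s0 * s2) * F a2) (F (s0 * s2))
      have k1 : C1 (F a0) ≤ K := fun g e => by
        obtain ⟨ζ, c, k', d', rfl⟩ := hg g e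
        refine mul_mem (zpowers_le.mpr a c) (E7.K6_le ?_ ?_ (k _ (d d3)) ?_ ?_ d') <;> apply k <;>
          simp only [← mul_assoc, ← h.mul (m := s0) (mT _) (mT _)]
        exacts [d d1, d d2, d d4, d d5]
      rcases mem_zpowers_three a3 (conj_mem_of_mem_N e (mem_zpowers _)) with e | e | e
      · exact absurd e (conj_ne_one (h.ne (mT _) (by decide)) g)
      · exact k1 (mem_C1_iff_conj.mpr e)
      · refine k g (k1 (mem_C1_iff_conj.mpr ?_))
        calc _ = (F s0 * (g * F a0 * g⁻¹)⁻¹ * (F s0)⁻¹)⁻¹ := by group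
          _ = _ := by rw [e, inv_inv, sa, inv_inv]
  exact hl.mainS

end W9
end CfsgH7
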