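import Cfsg.Agent.H7.Loc17
import Cfsg.Agent.H9.P43Lam

/-! Frames for `N(J)`: centralizers of elements of `J` and of reflections. -/

set_option autoImplicit false

namespace CfsgH7
open Subgroup CfsgH5 CfsgH6 CfsgFT CfsgH8 CfsgH9 Equiv

universe u

variable {G : Type u} [Group G] [Finite G]

theorem iso_t {K : Subgroup G} {b z t : G} (h3 : ¬ 3 ∣ Nat.card K) (b3 : b ^ 3 = 1) (nb : b ∈ N K)
    (nz : z ∈ N K) (z2 : z * z = 1) (zK : z ∉ K) (zb : z * b * z⁻¹ = b⁻¹) (tK : t ∈ K)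
    (t2 : t * t = 1) (t1 : t ≠ 1) (tz : t * z = z * t) (tb : t * b = b * t) (hK : K ≤ C1 t)
    (hb : ∀ k ∈ K, k * b = b * k → k = 1 ∨ k = t) (hz : ∀ k ∈ K, k * z = z * k → k = 1 ∨ k = t)
    {u : G} (hu : u ∈ K) (u2 : u * u = 1) : u = 1 ∨ u = t := by
  have := Fact.mk Nat.prime_two
  have := Fact.mk Nat.prime_three
  have hn : Nrm (zpowers b) K := nrm_of_le_N (zpowers_le.mpr nb)
  have hb3 : IsPGroup 3 (zpowers b) := CfsgH8.isPGroup_zpowers_of_pow b3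
  obtain ⟨P, hP, hP'⟩ := exists_sylIn_nrm 2 hb3 hn h3
  have p2 : ∀ {x : G}, x * x = 1 → IsPGroup 2 (zpowers x) := fun e =>
    CfsgH8.isPGroup_zpowers_of_pow (by rwa [pow_two])
  have tP : t ∈ P := hP.le_of_nrm (zpowers_le.mpr tK) (p2 t2)
    (nrm_of_le_C (by rw [C_zpowers]; exact hP.le.trans hK)) (mem_zpowers t)
  have zP : z ∈ N P := by
    obtain ⟨k, hk⟩ := hb3.exists_card_eq
    obtain ⟨c, hc, e⟩ := sylIn_conj_of_coprime hn (by
      rw [hk]; exact ((Nat.prime_three.coprime_iff_not_dvd.2 h3).symm).pow_right k)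
      (Or.inr (have := hb3.isNilpotent; inferInstance)) Nat.prime_two hP (mem_N.mp nz ▸ hP.cjj z) hP' (by
        have := hP'.cjj z
        rwa [cj_zpowers, zb, zpowers_inv] at this)
    rw [mem_N, e]
    rcases hb c hc.1 (mem_C.mp hc.2 b (mem_zpowers b)).symm with rfl | rfl
    exacts [cj_one _, mem_N.mp (le_N _ tP)]
  have hn' : Nrm (zpowers z) P := nrm_of_le_N (zpowers_le.mpr zP)
  have z1 : z ≠ 1 := fun e => zK (e ▸ one_mem K)
  have hi : ∀ Q ≤ K, Nrm (zpowers z) Q → Nat.card ↥(zpowers z ⊔ Q) = Nat.card Q * 2 := fun Q a b => by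
    have := card_sup_mul (Or.inl b)
    rwa [show zpowers z ⊓ Q = ⊥ from eq_bot_iff.mpr fun x hx => by
      rcases mem_zpowers_order_two' z2 hx.1 with rfl | rfl
      exacts [one_mem _, absurd (a hx.2) zK], card_bot, mul_one, Nat.card_zpowers,
      orderOf_eq_prime (by rwa [pow_two]) z1, mul_comm] at this
  have hd : ∀ g ∈ zpowers z ⊔ P, g ∈ P ∨ g * z ∈ P := fun g hg => by
    obtain ⟨a, ha, c, hc, rfl⟩ := CfsgH6.Nrm.exists_mul_of_mem_sup hn' hg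
    rcases mem_zpowers_order_two' z2 ha with rfl | rfl
    · exact Or.inl (by simpa using hc)
    · exact Or.inr (by simpa [inv_eq_self z2] using conj_mem_of_mem_N zP hc)
  obtain ⟨Φ, -, a1, a2, -, a3, -, -, -, a4, -⟩ := exists_idx2_of_cent_four
    (CfsgH6.Nrm.isPGroup_sup hn' (p2 z2) hP.isPGroup) (mem_sup_left (mem_zpowers z)) z1 z2 (by
      have nt : Nrm (zpowers z) (zpowers t) := nrm_of_le_C (by
        rw [C_zpowers]; exact zpowers_le.mpr (mem_C1.mpr tz.symm))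
      rw [show (zpowers z ⊔ P) ⊓ C1 z = zpowers z ⊔ zpowers t from le_antisymm (fun g hg => ?_)
        (sup_le (zpowers_le.mpr ⟨mem_sup_left (mem_zpowers z), mem_C1.mpr rfl⟩)
          (zpowers_le.mpr ⟨mem_sup_right tP, mem_C1.mpr tz⟩)), hi _ (zpowers_le.mpr tK) nt,
        Nat.card_zpowers, orderOf_eq_prime (by rwa [pow_two]) t1]
      have k : ∀ x ∈ P, x ∈ C1 z → x ∈ zpowers z ⊔ zpowers t := fun x a b => by
        rcases hz x (hP.le a) (mem_C1.mp b) with rfl | rfl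
        exacts [one_mem _, mem_sup_right (mem_zpowers _)]
      rcases hd g hg.1 with e | e
      · exact k g e hg.2
      · exact (mul_mem_cancel_right (mem_sup_left (mem_zpowers z))).mp
          (k _ e (mul_mem hg.2 (mem_C1.mpr rfl))))
  have a5 : ∀ w ∈ Φ, w ∈ P ∧ z * w * z⁻¹ = w⁻¹ := fun w hw => by
    obtain ⟨g, hg, e⟩ := a4 w hw
    have e1 := conj_mul_self z2 g
    rw [e] at e1
    refine ⟨?_, by rw [inv_eq_self z2, eq_inv_iff_mul_eq_one]; calc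
      _ = z * (w * z * (w * z)) * z⁻¹ := by group
      _ = 1 := by rw [e1]; group⟩
    have k : ∀ x ∈ P, x * z * x⁻¹ = w * z → w ∈ P := fun x a b => by
      have := mul_mem a (conj_mem_of_mem_N zP (inv_mem a))
      rwa [← mul_assoc, ← mul_assoc, b, mul_inv_cancel_right] at this
    rcases hd g hg with a | a
    · exact k g a e
    · exact k _ a (by rw [← e]; group)
  have a6 : Φ ≤ P := fun w hw => (a5 w hw).1
  have a7 : Φ.relIndex P = 2 := by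
    have := relIndex_mul_relIndex Φ P _ a6 (le_sup_right (a := zpowers z))
    rw [a3, relIndex_eq_of_mul le_sup_right (hi P hP.le hn').symm] at this
    omega
  have key : ∀ u ∈ P, u * u = 1 → u = 1 ∨ u = t := fun u hu u2 => by
    by_contra hc
    have k1 : ∀ g ∈ zpowers b, g * u * g⁻¹ ∈ P ∧ g * u * g⁻¹ ∉ Φ := fun g hg =>
      ⟨hP' g hg u hu, fun e => hc (by
        have e1 := (a5 _ e).2
        rw [inv_eq_self (conj_mul_self u2 g), mul_inv_eq_iff_eq_mul] at e1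
        have e2 : g * t * g⁻¹ = t := by
          rw [mem_C.mp ((C_zpowers b).ge (mem_C1.mpr tb)) g hg, mul_inv_cancel_right]
        rcases hz _ (hP.le (a6 e)) e1.symm with e | e
        · exact Or.inl (by simpa using e)
        · exact Or.inr (by rw [← e2] at e; simpa using e))⟩
    have k0 := k1 1 (one_mem _)
    rw [one_mul, inv_one, mul_one] at k0
    have k2 := k1 b (mem_zpowers b)
    have k3 := k1 b⁻¹ (inv_mem (mem_zpowers b))
    have w1 := (a5 _ ((idx2_mul a6 a7 hu k2.1).mpr (by simp [k0.2, k2.2]))).2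
    have w2 := (a5 _ ((idx2_mul a6 a7 k3.1 hu).mpr (iff_of_false k3.2 k0.2))).2
    have wP := mul_mem hu k2.1
    have e0 : b * u * b⁻¹ = u * (u * (b * u * b⁻¹)) := by rw [← mul_assoc, u2, one_mul]
    rw [show b⁻¹ * u * b⁻¹⁻¹ * u = b⁻¹ * (u * (b * u * b⁻¹)) * b by group] at w2
    generalize u * (b * u * b⁻¹) = w at w1 w2 wP e0
    have cb : ∀ x, b * b * x = x * (b * b) → x * b = b * x := fun x e => by
      have : Commute x (b * b * (b * b)) := (show Commute x (b * b) from e.symm).mul_right e.symm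
      rwa [show b * b * (b * b) = b ^ 3 * b by simp only [pow_three', mul_assoc], b3, one_mul] at this
    have w3 : w * b = b * w := cb w (by
      have : b * w⁻¹ * b⁻¹ = b⁻¹ * w⁻¹ * b := by
        calc _ = (z * b * z⁻¹)⁻¹ * (z * w * z⁻¹) * (z * b * z⁻¹) := by rw [zb, w1, inv_inv]
          _ = z * (b⁻¹ * w * b) * z⁻¹ := by group
          _ = _ := by rw [w2]; group
      calc _ = b * (b * w⁻¹ * b⁻¹)⁻¹ * b := by group
        _ = _ := by rw [this]; group)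
    have w4 : w * w = 1 := by rcases hb w (hP.le wP) w3 with rfl | rfl <;> simp [t2]
    refine hc (hb u (hP.le hu) (cb u ?_))
    calc _ = b * (b * u * b⁻¹) * b := by group
      _ = (b * u * b⁻¹) * (b * w * b⁻¹) * (b * b) := by nth_rw 1 [e0]; group
      _ = _ := by rw [e0, ← w3, mul_inv_cancel_right, mul_assoc u w, w4, mul_one]
  obtain ⟨c, hc, e⟩ := hP.exists_le_cj (zpowers_le.mpr hu) (p2 u2)
  rcases key _ (mem_cj.mp (e (mem_zpowers u))) (by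
    simpa using conj_mul_self u2 c⁻¹) with e | e
  · exact Or.inl (by simpa [mul_assoc] using congrArg (fun x => c * x * c⁻¹) e)
  · exact Or.inr (by rw [← mem_C1_iff_conj.mp (hK hc), ← e]; group)

namespace W9

section
variable {H0 E0 : Subgroup W} {F : W → G} (h : PH H0 F) (hE : ∀ m ∈ E0, m ∈ J0 ∧ m ∈ H0)
  (hs : Sig3 (h.im E0)) {X : Subgroup G} (hX : h.im E0 ≤ X) {P : W → Prop}
  (hN : ∀ g ∈ X, g ∈ N (h.im E0) → ∃ m ∈ H0, F m = g ∧ P m)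
include hE

omit [Finite G] in
theorem PH.exp_im (j : G) (hj : j ∈ h.im E0) : j ^ 3 = 1 := by
  obtain ⟨m, a, b, rfl⟩ := h.mem_im.mp hj
  exact h.pow_eq b (J0_cube m (hE m a).1)

omit [Finite G] in
theorem PH.ab_im : Ab (h.im E0) := ab_iff.mpr fun x hx y hy => by
  obtain ⟨m, a, b, rfl⟩ := h.mem_im.mp hx
  obtain ⟨n, c, d, rfl⟩ := h.mem_im.mp hy
  exact h.comm b d (J0_comm (hE m a).1 (hE n c).1)

include hs hX hN

theorem PH.L1 (h1 : ∀ m ∈ H0, P m → m ∈ E0) : X ≤ N (h.im E0) := by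
  rw [hs.le_of_inf_N (fun g => ⟨1, Subtype.ext (h.exp_im hE g g.2)⟩) (h.ab_im hE) hX fun g hg => by
    obtain ⟨m, a, rfl, b⟩ := hN g hg.1 hg.2
    exact (h.mem_im' a).mpr (h1 m a b)]
  exact le_N _

theorem PH.L2 {ρ y : W} (h1 : ρ ∈ H0 ∧ y ∈ E0 ∧ ρ * ρ = 1 ∧
    (∀ j ∈ E0, ∃ i : Fin 3, ρ * j * ρ⁻¹ * j⁻¹ = y ^ i.val))
    (h2 : ∀ m ∈ H0, P m → m ∈ E0 ∨ m * ρ⁻¹ ∈ E0) : X ≤ N (h.im E0) := by
  obtain ⟨a, b, c, d⟩ := h1
  refine hs.le_N_of_refl (h.exp_im hE) (h.ab_im hE) hX (ρ := F ρ) ((h.mem_im' (hE y b).2).mpr b)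
    (by rw [pow_two, h.sq a c]; exact one_mem _) (fun j hj => ?_) fun g hg e => ?_
  · obtain ⟨j, a', b', rfl⟩ := h.mem_im.mp hj
    obtain ⟨i, e⟩ := d j a'
    rw [← h.conj' a b', ← h.inv b', ← h.mul (mul_mem (mul_mem a b') (inv_mem a)) (inv_mem b'), e,
      h.pow (hE y b).2]
    exact pow_mem (mem_zpowers _) _
  · obtain ⟨m, a', rfl, b'⟩ := hN g hg e
    rw [← h.inv a, ← h.mul a' (inv_mem a), h.mem_im' a', h.mem_im' (mul_mem a' (inv_mem a))]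
    exact h2 m a' b'

theorem PH.L3 {b x y ρ σ : W} (h1 : b ∈ E0 ∧ x ∈ E0 ∧ y ∈ E0 ∧ ρ ∈ H0 ∧ σ ∈ H0 ∧
    (∀ j ∈ E0, ∃ k l i : Fin 3, j * (el x y k l)⁻¹ = b ^ i.val) ∧
    (∀ k l i : Fin 3, el x y k l = b ^ i.val → k = 0 ∧ l = 0) ∧ ρ * ρ = 1 ∧ σ * σ = 1 ∧
    ρ * σ = σ * ρ ∧ ρ * x * ρ⁻¹ = x⁻¹ ∧ ρ * y * ρ⁻¹ = y ∧ σ * x * σ⁻¹ = x ∧ σ * y * σ⁻¹ = y⁻¹)
    (hc : X ≤ C1 (F b)) (hρ : F ρ ∈ X) (hσ : F σ ∈ X)
    (h2 : ∀ m ∈ H0, P m → m ∈ E0 ∨ m * ρ ∈ E0 ∨ m * σ ∈ E0 ∨ m * (ρ * σ) ∈ E0) :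
    X ≤ N (h.im E0) := by
  obtain ⟨a1, a2, a3, a4, a5, a6, a7, a8, a9, b1, b2, b3, b4, b5⟩ := h1
  have mx := (hE x a2).2
  have my := (hE y a3).2
  have mb := (hE b a1).2
  have me : ∀ k l, el x y k l ∈ H0 := fun k l => mul_mem (pow_mem mx _) (pow_mem my _)
  have he : ∀ k l, el (F x) (F y) k l = F (el x y k l) := fun k l => by
    unfold el; rw [h.mul (pow_mem mx _) (pow_mem my _), h.pow mx, h.pow my]
  refine SSHyp.le_N (b := F b) (x := F x) (y := F y) ⟨hs, h.exp_im hE, h.ab_im hE, hX,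
    (h.mem_im' mb).mpr a1, (h.mem_im' mx).mpr a2, (h.mem_im' my).mpr a3, fun j hj => ?_,
    fun k l e => ?_, hc, hρ, hσ, h.sq a4 a8, h.sq a5 a9, h.comm a4 a5 b1, h.conj_inv a4 mx b2,
    h.conj a4 my b3, h.conj a5 mx b4, h.conj_inv a5 my b5, fun g hg e => ?_⟩
  · obtain ⟨j, a', b', rfl⟩ := h.mem_im.mp hj
    obtain ⟨k, l, i, e⟩ := a6 j a'
    refine ⟨k, l, ?_⟩
    rw [he, ← h.inv (me k l), ← h.mul b' (inv_mem (me k l)), e, h.pow mb]
    exact pow_mem (mem_zpowers _) _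
  · rw [he] at e
    have b3 := J0_cube b (hE b a1).1
    rcases mem_zpowers_three (h.pow_eq mb b3) e with e | e | e
    · exact a7 k l 0 (h.inj1 (me k l) e)
    · exact a7 k l 1 ((h.inj (me k l) mb e).trans (pow_one b).symm)
    · exact a7 k l 2 ((h.inj (me k l) (inv_mem mb) (e.trans (h.inv mb).symm)).trans
        (inv_eq_of_mul_eq_one_left (by rw [← b3]; exact (pow_succ b 2).symm)))
  · obtain ⟨m, a', rfl, b'⟩ := hN g hg e
    rw [← h.mul a4 a5, ← h.mul a' a4, ← h.mul a' a5, ← h.mul a' (mul_mem a4 a5), h.mem_im' a',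
      h.mem_im' (mul_mem a' a4), h.mem_im' (mul_mem a' a5), h.mem_im' (mul_mem a' (mul_mem a4 a5))]
    exact h2 m a' b'

theorem PH.L4 {b t : W} (h1 : b ∈ E0 ∧ t ∈ H0 ∧ ∀ j ∈ E0, ∃ i : Fin 3, t * j * t⁻¹ * j = b ^ i.val)
    (h9 : (zpowers (F b)).relIndex (h.im E0) = 9) (hc : X ≤ C1 (F b)) (ht : F t ∈ X)
    (h2 : ∀ m ∈ H0, P m → m ∈ E0 ∨ m * t ∈ E0) : X ≤ N (h.im E0) := by
  obtain ⟨a1, a2, a3⟩ := h1
  have mb := (h.mem_im' (hE b a1).2).mpr a1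
  refine st_sec (zpowers_le.mpr mb) hX (nrm_of_le_C (hc.trans (C_zpowers _).ge)) h9
    (fun x hx => by rw [h.exp_im hE x hx]; exact one_mem _) ht (fun j hj => ?_)
    (fun x hx y hy => by rw [(h.ab_im hE).comm hx hy, mul_inv_cancel_right, mul_inv_cancel]; exact one_mem _) (fun g hg e => ?_)
    fun K k1 k2 k3 k4 => (le_of_opc_central (h.exp_im hE _ mb) (k1 (mem_zpowers _)) k2 k3 hc
      (hs.opc (Nrm.of_le hX)) k4).trans (zpowers_le.mpr mb)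
  · obtain ⟨j, a', b', rfl⟩ := h.mem_im.mp hj
    obtain ⟨i, e⟩ := a3 j a'
    rw [← h.conj' a2 b', ← h.mul (mul_mem (mul_mem a2 b') (inv_mem a2)) b', e, h.pow (hE b a1).2]
    exact pow_mem (mem_zpowers _) _
  · obtain ⟨m, a', rfl, b'⟩ := hN g hg e
    rw [← h.mul a' a2, h.mem_im' a', h.mem_im' (mul_mem a' a2)]
    exact h2 m a' b'

end

def R0 : Subgroup W where
  carrier := {m | m.p = .e0 ∧ m.x1 = m.x2}
  one_mem' := ⟨rfl, rfl⟩
  mul_mem' := by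
    rintro ⟨a, b, c, p⟩ ⟨a', b', c', p'⟩ ⟨rfl, (rfl : b = c)⟩ ⟨rfl, (rfl : b' = c')⟩; exact ⟨rfl, rfl⟩
  inv_mem' := by rintro ⟨a, b, c, p⟩ ⟨rfl, (rfl : b = c)⟩; exact ⟨rfl, rfl⟩
instance (m : W) : Decidable (m ∈ R0) := inferInstanceAs (Decidable (m.p = .e0 ∧ m.x1 = m.x2))
instance (X Y : Subgroup W) [DecidablePred (· ∈ X)] [DecidablePred (· ∈ Y)] (m : W) :
    Decidable (m ∈ X ⊓ Y) := inferInstanceAs (Decidable (m ∈ X ∧ m ∈ Y))

namespace Fr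
variable {H0 : Subgroup W} {F : W → G} {J : Subgroup G} (h : Fr H0 F J)
include h

theorem hNC {j : W} (hj : j ∈ J0) : ∀ g ∈ C1 (F j), g ∈ N (h.im J0) →
    ∃ m ∈ H0, F m = g ∧ m * j = j * m := fun g hg e => by
  obtain ⟨m, a, rfl⟩ := h.memN.mp (h.im_J ▸ e)
  exact ⟨m, a, rfl, h.comm' a (h.jle hj) (mem_C1.mp hg)⟩

theorem hEJ (m : W) (hm : m ∈ J0) : m ∈ J0 ∧ m ∈ H0 := ⟨hm, h.jle hm⟩

theorem J_le_C {j : W} (hj : j ∈ J0) : h.im J0 ≤ C1 (F j) :=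
  h.im_J.symm ▸ le_C1_iff.2 (h.ab (h.mJ hj))

theorem C_conj {j k : W} (hk : k ∈ H0) (hj : j ∈ H0) (hc : C1 (F (k * j * k⁻¹)) ≤ N J) :
    C1 (F j) ≤ N J := fun g hg => by
  have := hc (show F k * g * (F k)⁻¹ ∈ _ by rwa [h.conj' hk hj, ← cj_C1, conj_mem_cj])
  rwa [mul_mem_cancel_right (inv_mem (h.mN hk)), mul_mem_cancel_left (h.mN hk)] at this

theorem card_C1 [DecidablePred (· ∈ H0)] {i : W} (hi : i ∈ H0) (hc : C1 (F i) ≤ N J) :
    Nat.card (C1 (F i)) = Fintype.card {m // m ∈ H0 ∧ m * i = i * m} := by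
  rw [← Nat.card_eq_fintype_card]
  refine (Nat.card_congr (Equiv.ofBijective (fun m => ⟨F m.1, mem_C1.mpr (h.comm m.2.1 hi m.2.2)⟩)
    ⟨fun m n e => Subtype.ext (h.inj m.2.1 n.2.1 (congrArg Subtype.val e)), fun g => ?_⟩)).symm
  obtain ⟨m, a, e⟩ := h.memN.mp (hc g.2)
  exact ⟨⟨m, a, h.comm' a hi (e ▸ mem_C1.mp g.2)⟩, Subtype.ext e⟩

theorem secR (hall : ∀ j ∈ J0, j ≠ 1 → C1 (F j) ≤ N J) (mr : r0 ∈ H0) :
    ∃ (Q : Type u) (_ : Group Q) (_ : Finite Q) (f : W → Q) (hf : PH (H0 ⊓ R0) f),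
      Sig3 (hf.im (J0 ⊓ R0)) ∧ (∀ q ∈ N (hf.im (J0 ⊓ R0)), ∃ m ∈ H0 ⊓ R0, f m = q) ∧
      (⊤ ≤ N (hf.im (J0 ⊓ R0)) → C1 (F r0) ≤ N J) := by
  classical
  have r2 : F r0 * F r0 = 1 := h.sq mr (by decide)
  obtain ⟨Q, _, _, π, hπ⟩ := exists_sec (X := C1 (F r0)) (Z := zpowers (F r0))
    (zpowers_le.mpr (mem_C1.mpr rfl)) (nrm_of_le_C (C_zpowers _).ge)
  have hR : ∀ {m}, m ∈ H0 ⊓ R0 → F m ∈ C1 (F r0) := fun {m} a => mem_C1.mpr (h.comm a.1 mr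
    ((by decide +kernel : ∀ m ∈ R0, m * r0 = r0 * m) m a.2))
  let f : W → Q := fun m => if a : F m ∈ C1 (F r0) then π ⟨_, a⟩ else 1
  have hf : ∀ {m} (a : m ∈ H0 ⊓ R0), f m = π ⟨_, hR a⟩ := fun a => dif_pos (hR a)
  have ph : PH (H0 ⊓ R0) f := ⟨fun a b => by
    rw [hf a, hf b, hf (mul_mem a b), ← map_mul]
    exact congrArg π (Subtype.ext (h.mul a.1 b.1)), fun {m} a e => by
    rw [hf a, hπ.ker] at e
    rcases mem_zpowers_order_two' r2 e with e | e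
    · exact h.inj1 a.1 e
    · exact absurd (h.inj a.1 mr e ▸ a.2 : r0 ∈ R0) (by decide)⟩
  have k1 : ∀ m ∈ H0, ∀ a : F m ∈ C1 (F r0), ∃ n ∈ H0 ⊓ R0, f n = π ⟨_, a⟩ := fun m b a => by
    rcases (by decide +kernel : ∀ m, m * r0 = r0 * m → m ∈ R0 ∨ m * r0 ∈ R0) m
      (h.comm' b mr (mem_C1.mp a)) with e | e
    · exact ⟨m, ⟨b, e⟩, hf ⟨b, e⟩⟩
    · refine ⟨_, ⟨mul_mem b mr, e⟩, (hf ⟨mul_mem b mr, e⟩).trans (hπ.eq_iff.mpr ?_)⟩
      change F (m * r0) * (F m)⁻¹ ∈ _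
      rw [h.mul b mr, mem_C1_iff_conj.mp a]
      exact mem_zpowers _
  have mc : c0 ∈ H0 ⊓ R0 := ⟨h.jle (by decide), (by decide : c0 ∈ R0)⟩
  have k2 : ∀ g : C1 (F r0), π g ∈ N (ph.im (J0 ⊓ R0)) → g.1 ∈ N J := fun g hg => by
    obtain ⟨e, a, b, e1⟩ := ph.mem_im.mp (conj_mem_of_mem_N hg ((ph.mem_im' mc).mpr (by decide)))
    rw [hf mc, hf b, ← map_inv, ← map_mul, ← map_mul, eq_comm, hπ.eq_iff] at e1
    refine h.ti (h.mJ (show c0 ∈ J0 by decide)) ?_ (hall _ (by decide) (by decide))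
    rcases mem_zpowers_order_two' r2 e1 with e1 | e1
    · exact (mul_inv_eq_one.mp e1 : g.1 * F c0 * g.1⁻¹ = F e) ▸ h.mJ a.1
    · have e2 : g.1 * F c0 * g.1⁻¹ = F (r0 * e) := by
        rw [h.mul mr b.1]; exact mul_inv_eq_iff_eq_mul.mp e1
      have e3 := h.pow_eq' (n := 3) (mul_mem mr b.1) (by
        rw [← e2, conj_pow, h.exp _ (h.mJ (by decide))]; group)
      exact absurd e3 ((by decide +kernel : ∀ e ∈ J0, (r0 * e) ^ 3 ≠ 1) e a.1)
  refine ⟨Q, _, inferInstance, f, ph, fun K h3 hn => eq_bot_iff.mpr fun q hq => ?_, fun q hq => ?_,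
    fun e g hg => k2 ⟨g, hg⟩ (e (mem_top _))⟩
  · have hZ : zpowers (F r0) ≤ pre π K := fun z hz => mem_pre.mpr ⟨hπ.le hz, by
      rw [(hπ.ker _).2 hz]; exact one_mem _⟩
    have c3 : ¬ 3 ∣ Nat.card (pre π K) := by
      rw [← hπ.card_img hZ (pre_le _ _), img_pre_of_le (by
        rw [MonoidHom.range_eq_top.2 hπ.surj]; exact le_top), Nat.card_zpowers,
        orderOf_eq_prime (by rwa [pow_two]) (h.ne mr (by decide))]
      exact fun e => h3 ((Nat.Coprime.dvd_mul_left (by norm_num)).mp e)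
    have nj : ∀ j, j ∈ J0 ⊓ R0 → ∀ m ∈ pre π K, F j * m * (F j)⁻¹ ∈ pre π K := fun j hj m hm => by
      obtain ⟨a, b⟩ := mem_pre.mp hm
      have c : j ∈ H0 ⊓ R0 := ⟨h.jle hj.1, hj.2⟩
      have := hn _ ((ph.mem_im' c).mpr hj) _ b
      rw [hf c, ← map_inv, ← map_mul, ← map_mul] at this
      exact mem_pre.mpr ⟨_, this⟩
    have j0 : a0 ∈ H0 := h.jle (by decide)
    have j1 : a1 * a2 ∈ H0 := h.jle (by decide)
    have hle : pre π K ≤ N J := (h.b9 j0 j1 (by decide +kernel)).gen (nj _ (by decide))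
      (nj _ (by decide)) c3 (fun m _ e => hall _ (by decide) (by decide) (mem_C1.mpr e))
      (fun m _ e => hall _ (by decide) (by decide) (mem_C1.mpr e))
      (fun m _ e => hall (a0 * (a1 * a2)) (by decide) (by decide) (mem_C1.mpr (by rwa [h.mul j0 j1])))
      fun m _ e => hall (a0 * (a1 * a2)⁻¹) (by decide +kernel) (by decide +kernel)
        (mem_C1.mpr (by rwa [h.mul j0 (inv_mem j1), h.inv j1]))
    obtain ⟨⟨g, hg⟩, rfl⟩ := hπ.surj q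
    have gK := mem_pre.mpr ⟨hg, hq⟩
    obtain ⟨m, a, rfl⟩ := h.memN.mp (hle gK)
    have k : ∀ j ∈ J0 ⊓ R0, m * j = j * m := fun j hj => h.comm' a (h.jle hj.1)
      (h.comm_of_N (h.mJ hj.1) (nj j hj) c3 gK (hle gK))
    rw [mem_bot, hπ.ker]
    rcases (by decide +kernel : ∀ m, m * a0 = a0 * m → m * (a1 * a2) = a1 * a2 * m →
      m * r0 = r0 * m → (m * m) ^ 3 = 1 ∧ (m * m = 1 → m = 1 ∨ m = r0)) m (k _ (by decide))
      (k _ (by decide)) (h.comm' a mr (mem_C1.mp hg)) with ⟨e1, e2⟩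
    rcases e2 (h.sq' a (eq_one_of_pow_of_not_dvd Nat.prime_three (mul_mem gK gK)
      (by rw [← h.mul a a]; exact h.pow_eq (mul_mem a a) e1) c3)) with rfl | rfl
    · change F 1 ∈ _
      rw [h.one]; exact one_mem _
    · exact mem_zpowers _
  · obtain ⟨⟨g, hg⟩, rfl⟩ := hπ.surj q
    obtain ⟨m, a, rfl⟩ := h.memN.mp (k2 _ hq)
    exact k1 m a hg

end Fr
end W9
end CfsgH7
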