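import Cfsg.Agent.H7.Loc18

/-! Frames for `N(J)`: the case where `N(J)` contains all centralizers of elements of `J`. -/

set_option autoImplicit false

namespace CfsgH7
open Subgroup CfsgH5 CfsgH6 CfsgFT CfsgH8 CfsgH9 Equiv

universe u

variable {G : Type u} [Group G] [Finite G]

namespace W9
namespace Fr
variable {H0 : Subgroup W} {F : W → G} {J : Subgroup G} (h : Fr H0 F J)
include h

theorem of_reps (l : List W) (hl : ∀ j ∈ l, C1 (F j) ≤ N J) {j : W} (hj : j ∈ J0)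
    (e : ∃ k ∈ H0, k * j * k⁻¹ ∈ l) : C1 (F j) ≤ N J := by
  obtain ⟨k, a, b⟩ := e
  exact h.C_conj a (h.jle hj) (hl _ b)

theorem reflR (hs : Sig3 J) (mr : r0 ∈ H0) {j : W} (hj : j ∈ J0)
    (h2 : ∀ m ∈ H0, m * j = j * m → m ∈ J0 ∨ m * r0⁻¹ ∈ J0) : C1 (F j) ≤ N J :=
  h.im_J ▸ h.toPH.L2 h.hEJ (h.im_J.symm ▸ hs) (h.J_le_C hj) (h.hNC hj) (y := b0)
    ⟨mr, by decide +kernel⟩ h2

theorem C_inv {j : W} (hj : j ∈ H0) (hc : C1 (F j) ≤ N J) : C1 (F j⁻¹) ≤ N J := by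
  rwa [h.inv hj, C1_inv]

variable (hall : ∀ j ∈ J0, j ≠ 1 → C1 (F j) ≤ N J)
include hall

theorem ti' {y g : G} (hy : y ∈ J) (y1 : y ≠ 1) (hg : g * y * g⁻¹ ∈ J) : g ∈ N J := by
  obtain ⟨j, a, rfl⟩ := h.memJ.mp hy
  exact h.ti hy hg (hall j a fun e => y1 (by rw [e, h.one]))

theorem top_of_nrm {M : Subgroup G} (h1 : M ≠ ⊥) (hn : Nrm ⊤ M) (hM : IsPGroup 3 M) (ab : Ab M) :
    N J = ⊤ := by
  have h2 := h.sylS.le_of_nrm le_top hM (hn.mono le_top)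
  have h3 : M ≤ J := fun x hx => by
    obtain ⟨m, a, b, rfl⟩ := h.mem_im.mp (h2 hx)
    have m0 : a0 ∈ H0 := h.jle (by decide)
    have c := mul_mem (mul_mem m0 b) (inv_mem m0)
    exact h.mJ ((by decide +kernel : ∀ m ∈ S0, a0 * m * a0⁻¹ * m = m * (a0 * m * a0⁻¹) → m ∈ J0) m a
      (h.comm' c b (ab.comm (h.conj' m0 b ▸ hn _ (mem_top _) _ hx) hx)))
  obtain ⟨y, hy, y1⟩ := M.bot_or_exists_ne_one.resolve_left h1
  exact eq_top_iff.2 fun g _ => h.ti' hall (h3 hy) y1 (h3 (hn g (mem_top _) y hy))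

theorem top_of_solv (hs : Sig3 J) {X : Subgroup G} (h1 : X ≠ ⊥) (hn : Nrm ⊤ X)
    (h2 : Group.IsSolvable X) : N J = ⊤ := by
  obtain ⟨M, hle, p, hp, hM, hE⟩ := exists_minNrm_elAb h1 hn h2
  by_cases h5 : 3 ∣ Nat.card M
  · have := hM.elAb_of_dvd (solvable_of_le h2 hle) Nat.prime_three h5
    exact h.top_of_nrm hall hM.ne_bot hM.nrm this.isPGroup this.ab
  · exact absurd (hs M h5 (hM.nrm.mono le_top)) hM.ne_bot

theorem nσ' (mr : r0 ∈ H0) (hρ : ∀ j ∈ J0, j ≠ 1 → ∀ m ∈ H0, m * j = j * m → m ^ 3 = 1 → m ∉ J0 →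
    ∃ k ∈ H0, k * r0 * k⁻¹ * j = j * (k * r0 * k⁻¹) ∧ k * r0 * k⁻¹ * m * (k * r0 * k⁻¹)⁻¹ = m⁻¹) :
    (∀ g, ∀ j ∈ J0, g * F σ0 * g⁻¹ ≠ F j) ∨ (z0 ∈ H0 ∧ IsConj (F r0) (F z0)) := by
  refine or_iff_not_imp_left.mpr fun hc => ?_
  push Not at hc
  obtain ⟨g, j, hj, e⟩ := hc
  have mσ : σ0 ∈ H0 := h.le (by decide)
  have mc : c0 ∈ J0 := by decide
  have j1 : j ≠ 1 := fun e' => conj_ne_one (h.ne mσ (by decide)) g (by rw [e, e', h.one])
  have c1 : g * F c0 * g⁻¹ * F j = F j * (g * F c0 * g⁻¹) :=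
    e ▸ comm_conj_both (h.comm (h.jle mc) mσ (by decide))
  obtain ⟨m, a, e1⟩ := h.memN.mp (hall j hj j1 (mem_C1.mpr c1))
  obtain ⟨k, b, e2, e3⟩ := hρ j hj j1 m a (h.comm' a (h.jle hj) (e1 ▸ c1))
    (h.pow_eq' a (by rw [e1, conj_pow, h.exp _ (h.mJ mc)]; group)) fun e' => by
      have := conj_mem_of_mem_N (inv_mem (h.ti (h.mJ mc) (e1 ▸ h.mJ e') (hall _ mc (by decide))))
        (h.mJ hj)
      rw [← e] at this
      exact absurd (h.mJ' mσ (by simpa [mul_assoc] using this)) (by decide)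
  have mρ := mul_mem (mul_mem b mr) (inv_mem b)
  have e4 := h.comm mρ (h.jle hj) e2
  have e5 := h.conj_inv mρ a e3
  have e6 : IsConj (F r0) (F (k * r0 * k⁻¹)) := isConj_iff.2 ⟨_, (h.conj' b mr).symm⟩
  have e7 := h.sq mρ (by rw [conj_mul, show r0 * r0 = 1 by decide]; group)
  generalize F (k * r0 * k⁻¹) = ρ at e4 e5 e6 e7
  have e8 : g⁻¹ * ρ * g * F c0 * (g⁻¹ * ρ * g)⁻¹ = F c0⁻¹ := by
    calc _ = g⁻¹ * (ρ * (g * F c0 * g⁻¹) * ρ⁻¹) * g := by group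
      _ = _ := by rw [← e1, e5, e1, h.inv (h.jle mc)]; group
  obtain ⟨n, c, e9⟩ := h.memN.mp (h.ti (h.mJ mc) (e8 ▸ h.mJ (inv_mem mc)) (hall _ mc (by decide)))
  obtain ⟨k', d, e10⟩ := (by decide +kernel : ∀ n, n * c0 * n⁻¹ = c0⁻¹ → n * σ0 = σ0 * n → n * n = 1 →
    ∃ k ∈ J0, k * n * k⁻¹ = z0) n (h.conj_inj c (h.jle mc) (h.jle (inv_mem mc)) (e9 ▸ e8))
    (h.comm' c mσ (by
      rw [e9]
      calc _ = g⁻¹ * (ρ * (g * F σ0 * g⁻¹)) * g := by group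
        _ = _ := by rw [e, e4, ← e]; group))
    (h.sq' c (by simpa [e9] using conj_mul_self e7 g⁻¹))
  exact ⟨e10 ▸ mul_mem (mul_mem (h.jle d) c) (inv_mem (h.jle d)), e6.trans
    ((isConj_iff.2 ⟨g⁻¹, by rw [e9, inv_inv]⟩).trans (isConj_iff.2 ⟨_, h.conj (h.jle d) c e10⟩))⟩

variable (hσ : ∀ g, ∀ j ∈ J0, g * F σ0 * g⁻¹ ≠ F j)
include hσ

theorem ctrl {i : W} (hi : i ∈ H0) (i2 : i * i = 1) (hc : C1 (F i) ≤ N J)
    (h3 : ∀ m, m * i = i * m → m ^ 3 = 1 → m ∈ J0) (g : G) (hg : g * F i * g⁻¹ ∈ N J) :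
    g ∈ N J := by
  obtain ⟨m, a, e⟩ := h.memN.mp hg
  have k : ∀ y ∈ H0, y ^ 3 = 1 → y * m = m * y → ∃ n ∈ J0, g⁻¹ * F y * g⁻¹⁻¹ = F n :=
    fun y b y3 c => by
      have c1 : g⁻¹ * F y * g⁻¹⁻¹ * F i = F i * (g⁻¹ * F y * g⁻¹⁻¹) :=
        comm_conj_of (by rw [inv_inv, ← e]; exact h.comm b a c)
      obtain ⟨n, d, e1⟩ := h.memN.mp (hc (mem_C1.mpr c1))
      exact ⟨n, h3 n (h.comm' d hi (e1 ▸ c1)) (h.pow_eq' d (by
        rw [e1, conj_pow, h.pow_eq b y3]; group)), e1.symm⟩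
  rcases (by decide +kernel : ∀ m : W, m * m = 1 → (∃ j ∈ J0, j ≠ 1 ∧ j * m = m * j) ∨
    ∃ k ∈ J0, k * σ0 * k⁻¹ * m = m * (k * σ0 * k⁻¹)) m
    (h.sq' a (e ▸ conj_mul_self (h.sq hi i2) g)) with ⟨j, b, j1, c⟩ | ⟨j, b, c⟩
  · obtain ⟨n, d, e1⟩ := k j (h.jle b) (J0_cube j b) c
    exact inv_mem_iff.mp (h.ti (h.mJ b) (e1 ▸ h.mJ d) (hall j b j1))
  · have mσ : σ0 ∈ H0 := h.le (by decide)
    obtain ⟨n, d, e1⟩ := k _ (mul_mem (mul_mem (h.jle b) mσ) (inv_mem (h.jle b)))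
      (by rw [conj_pow, show σ0 ^ 3 = 1 by decide]; group) c
    rw [h.conj' (h.jle b) mσ] at e1
    exact (hσ (g⁻¹ * F j) n d (by rw [← e1]; group)).elim

theorem bend (hz : ∀ m ∈ H0, m ^ 3 = 1 → m ∈ J0 ∨ ∃ k ∈ H0, k * σ0 * k⁻¹ = m) {i : W} (hi : i ∈ H0)
    (i2 : i * i = 1) (hf : ∀ g, g * F i * g⁻¹ ∈ N J → g ∈ N J) (hne : N J ≠ ⊤) :
    ∃ L ≤ H0.map linH, 27 * L.relIndex (H0.map linH) ≤ Nat.card (C1 (F i)) ∧ ∀ x ∈ L, x ∈ H0 →
      x * x = 1 → (∀ g, g * F x * g⁻¹ ∈ N J → g ∈ N J) → False := by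
  obtain ⟨j, hj, hc⟩ := bender_count (h.sq hi i2) hf hne
  have hD : ∀ m ∈ h.bk (cj j (N J)), m ∈ J0 → m = 1 := fun m a b => by_contra fun m1 => by
    obtain ⟨n, c, e⟩ := h.memN.mp (mem_cj.mp (h.mem_bk.mp a).2)
    rcases hz n c (h.pow_eq' c (by
      rw [e, show j⁻¹ * F m * j = j⁻¹ * F m * j⁻¹⁻¹ by rw [inv_inv], conj_pow, h.exp _ (h.mJ b)]
      group)) with d | ⟨k, d, e'⟩
    · exact hj (inv_mem_iff.mp (h.ti (h.mJ b) (by rw [inv_inv, ← e]; exact h.mJ d) (hall m b m1)))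
    · exact hσ (j * F k) m b (by
        calc _ = j * (F k * F σ0 * (F k)⁻¹) * j⁻¹ := by group
          _ = _ := by rw [h.conj d (h.le (by decide)) e', e]; group)
  have hk : ∀ m, m ∈ J0 ↔ linH m = 1 := by decide +kernel
  have hle : h.bk (cj j (N J)) ≤ H0 := fun m a => (h.mem_bk.mp a).1
  refine ⟨(h.bk (cj j (N J))).map linH, map_mono hle, ?_, ?_⟩
  · have e1 : N J = h.im H0 := by
      ext g; rw [h.memN, h.mem_im]; exact ⟨fun ⟨m, a, b⟩ => ⟨m, a, a, b⟩, fun ⟨m, a, _, b⟩ => ⟨m, a, b⟩⟩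
    have e2 : N J ⊓ cj j (N J) ≤ h.im (h.bk (cj j (N J))) := fun g hg => by
      obtain ⟨m, a, rfl⟩ := h.memN.mp hg.1
      exact (h.mem_im' a).mpr (h.mem_bk.mpr ⟨a, hg.2⟩)
    have e3 := card_le_of_le e2
    rw [h.card_im, inf_eq_left.mpr hle] at e3
    have e4 : Nat.card (h.bk (cj j (N J))) ≤ Nat.card ((h.bk (cj j (N J))).map linH) :=
      Nat.card_le_card_of_injective (fun d => ⟨linH d, d, d.2, rfl⟩) fun x y e =>
        Subtype.ext (mul_inv_eq_one.mp (hD _ (mul_mem x.2 (inv_mem y.2)) ((hk _).mpr (by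
          rw [map_mul, map_inv, show linH x = linH y from congrArg Subtype.val e, mul_inv_cancel]))))
    have e5 := card_mul_relIndex (J0_le_S0.trans h.le)
    rw [card_J0, show J0 = linH.ker from Subgroup.ext hk, relIndex_ker,
      ← card_mul_relIndex (map_mono hle)] at e5
    nth_rw 1 [e1] at hc
    rw [h.card_im, inf_idem, ← e5] at hc
    have e6 : 0 < Nat.card ((h.bk (cj j (N J))).map linH) := Nat.card_pos
    refine Nat.le_of_mul_le_mul_right ?_ e6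
    calc _ = _ := by ring
      _ ≤ _ := hc
      _ ≤ _ := Nat.mul_le_mul_left _ (e3.trans e4)
  · rintro _ ⟨m, a, rfl⟩ b x2 hx
    obtain ⟨k, c, e⟩ := (by decide +kernel : ∀ m : W, m * m = 1 → ∃ k ∈ J0,
      k * lin m * k⁻¹ = m) m (hD _ (mul_mem a a) ((hk _).mpr (by rw [map_mul]; exact x2)))
    have := hx (j⁻¹ * F k) (by
      convert mem_cj.mp (h.mem_bk.mp a).2 using 1
      rw [← h.conj (h.jle c) b e]; group)
    exact hj (inv_mem_iff.mp ((mul_mem_cancel_right (h.mN (h.jle c))).mp this))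

theorem fin1 [DecidablePred (· ∈ H0)] (hz : ∀ m ∈ H0, m ^ 3 = 1 → m ∈ J0 ∨ ∃ k ∈ H0, k * σ0 * k⁻¹ = m)
    (mr : r0 ∈ H0) (hr : C1 (F r0) ≤ N J)
    (hn : Fintype.card {m // m ∈ H0 ∧ m * r0 = r0 * m} < 54 ∨ (s1 ∈ H0 ∧ C1 (F d0) ≤ N J)) :
    N J = ⊤ := by
  by_contra hne
  have cr := h.ctrl hall hσ mr (by decide) hr (by decide +kernel)
  obtain ⟨L, h1, h2, h3⟩ := h.bend hall hσ hz mr (by decide) cr hne
  have h4 : L.relIndex (H0.map linH) ≠ 0 := index_ne_zero_of_finite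
  rw [h.card_C1 mr hr] at h2
  have h5 : L.relIndex (H0.map linH) ≠ 1 := fun e =>
    h3 r0 (relIndex_eq_one.mp e ⟨r0, mr, by decide⟩) mr (by decide) cr
  rcases hn with hn | ⟨ms, hd⟩
  · omega
  · have h6 : Fintype.card {m // m ∈ H0 ∧ m * r0 = r0 * m} ≤ Fintype.card {m // m * r0 = r0 * m} :=
      Fintype.card_subtype_mono _ _ fun _ a => a.2
    rw [show Fintype.card {m // m * r0 = r0 * m} = 72 by decide +kernel] at h6
    have md : d0 ∈ H0 := (by decide : s1 * r0 * (s1 * r0) = d0) ▸ mul_mem (mul_mem ms mr) (mul_mem ms mr)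
    exact h3 d0 ((by decide : s1 * r0 * (s1 * r0) = d0) ▸ idx2_sq h1 (by omega)
      ⟨s1 * r0, mul_mem ms mr, by decide⟩) md (by decide)
      (h.ctrl hall hσ md (by decide) hd (by decide +kernel))

end Fr

variable {F : W → G} {J : Subgroup G}

theorem Fr.caseS3 (h : Fr HS3 F J) (hs : Sig3 J) (hc : C1 (F c0) ≤ N J) : N J = ⊤ := by
  have hall : ∀ j ∈ J0, j ≠ 1 → C1 (F j) ≤ N J := fun j hj j1 => by
    rcases (by decide +kernel : ∀ j ∈ J0, j ≠ 1 → j = c0 ∨ j = c0⁻¹ ∨ ∃ k ∈ HS3, k * j * k⁻¹ ∈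
      [a0, a0⁻¹, a1 * a2, (a1 * a2)⁻¹, a0⁻¹ * a1 * a2, (a0⁻¹ * a1 * a2)⁻¹, b0]) j hj j1 with
      rfl | rfl | e
    exacts [hc, h.C_inv (by decide) hc, h.of_reps _ (fun j hj => (fun a => h.reflR hs (by decide)
      a.1 a.2) ((by decide +kernel : ∀ j ∈ [a0, a0⁻¹, a1 * a2, (a1 * a2)⁻¹, a0⁻¹ * a1 * a2,
        (a0⁻¹ * a1 * a2)⁻¹, b0], j ∈ J0 ∧ ∀ m ∈ HS3, m * j = j * m → m ∈ J0 ∨ m * r0⁻¹ ∈ J0) j hj))
      hj e]
  obtain ⟨Q, _, _, f, hf, h1, h2, h3⟩ := h.secR hall (by decide)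
  exact h.fin1 hall ((h.nσ' hall (by decide) (by decide +kernel)).resolve_right fun e =>
    absurd e.1 (by decide)) (by decide +kernel) (by decide) (h3 (hf.L1 (by decide +kernel) h1 le_top
      (P := fun _ => True) (fun g _ e => by simpa using h2 g e) (by decide +kernel)))
    (Or.inl (by decide +kernel))

theorem Fr.caseD3 (h : Fr HD3 F J) (hs : Sig3 J) (hc : C1 (F c0) ≤ N J) : N J = ⊤ := by
  have hall : ∀ j ∈ J0, j ≠ 1 → C1 (F j) ≤ N J := fun j hj j1 => h.of_reps [c0, c0⁻¹, a1 * a2, a0]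
    (by
      simp only [List.forall_mem_cons, List.not_mem_nil, false_imp_iff, implies_true, and_true]
      exact ⟨hc, h.C_inv (by decide) hc, h.reflR hs (by decide) (by decide) (by decide +kernel),
        h.im_J ▸ h.toPH.L3 h.hEJ (h.im_J.symm ▸ hs) (h.J_le_C (by decide)) (h.hNC (by decide))
          (b := a0) (x := b0) (y := a1 * a2) (ρ := r0) (σ := d0 * r0) (by decide +kernel) le_rfl
          (mem_C1.mpr (h.comm (by decide) (by decide) (by decide)))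
          (mem_C1.mpr (h.comm (by decide) (by decide) (by decide))) (by decide +kernel)⟩) hj
    ((by decide +kernel : ∀ j ∈ J0, j ≠ 1 → ∃ k ∈ HD3, k * j * k⁻¹ ∈ [c0, c0⁻¹, a1 * a2, a0]) j hj j1)
  obtain ⟨Q, _, _, f, hf, h1, h2, h3⟩ := h.secR hall (by decide)
  exact h.fin1 hall ((h.nσ' hall (by decide) (by decide +kernel)).resolve_right fun e =>
    absurd e.1 (by decide)) (by decide +kernel) (by decide) (h3 (hf.L2 (by decide +kernel) h1 le_top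
      (P := fun _ => True) (fun g _ e => by simpa using h2 g e) (ρ := d0) (y := a1 * a2)
      (by decide +kernel) (by decide +kernel))) (Or.inl (by decide +kernel))

theorem Fr.caseD12 (h : Fr HD12 F J) (hs : Sig3 J) (hc : C1 (F c0) ≤ N J) : N J = ⊤ := by
  have := Fact.mk Nat.prime_three
  have mb : b0 ∈ J0 := by decide
  have b3 : F b0 ^ 3 = 1 := h.exp _ (h.mJ mb)
  have b1 : F b0 ≠ 1 := h.ne (by decide) (by decide)
  have hall : ∀ j ∈ J0, j ≠ 1 → C1 (F j) ≤ N J := fun j hj j1 =>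
    h.of_reps [c0, a0, a1 * a2, a0⁻¹ * a1 * a2, b0] (by
      simp only [List.forall_mem_cons, List.not_mem_nil, false_imp_iff, implies_true, and_true]
      refine ⟨hc, h.reflR hs (by decide) (by decide) (by decide +kernel),
        h.reflR hs (by decide) (by decide) (by decide +kernel),
        h.reflR hs (by decide) (by decide +kernel) (by decide +kernel),
        h.im_J ▸ h.toPH.L4 h.hEJ (h.im_J.symm ▸ hs) (h.J_le_C mb) (h.hNC mb)
          (b := b0) (t := t0) (by decide +kernel) ?_ le_rfl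
          (mem_C1.mpr (h.comm (by decide) (by decide) (by decide))) (by decide +kernel)⟩
      rw [h.im_J]
      exact relIndex_eq_of_mul (zpowers_le.mpr (h.mJ mb)) (by
        rw [h.card_J, Nat.card_zpowers, orderOf_eq_prime b3 b1])) hj
    ((by decide +kernel : ∀ j ∈ J0, j ≠ 1 → ∃ k ∈ HD12, k * j * k⁻¹ ∈
      [c0, a0, a1 * a2, a0⁻¹ * a1 * a2, b0]) j hj j1)
  obtain ⟨Q, _, _, f, hf, h1, h2, h3⟩ := h.secR hall (by decide)
  have hr := h3 (hf.L4 (by decide +kernel) h1 le_top (P := fun _ => True)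
    (fun g _ e => by simpa using h2 g e) (b := 1) (t := z0) (by decide +kernel) (by
      rw [hf.one, zpowers_one_eq_bot, relIndex_bot_left, hf.card_im, Nat.card_eq_fintype_card]
      decide +kernel) (by rw [hf.one, C1_one]) (mem_top _) (by decide +kernel))
  rcases h.nσ' hall (by decide) (by decide +kernel) with e | ⟨-, e⟩
  · exact h.fin1 hall e (by decide +kernel) (by decide) hr (Or.inl (by decide +kernel))
  have mr : r0 ∈ HD12 := by decide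
  have mz : z0 ∈ HD12 := by decide
  have mt : t0 ∈ HD12 := by decide
  have r2 := h.sq mr (by decide)
  have z2 := h.sq mz (by decide)
  have t2 := h.sq mt (by decide)
  have rz : F r0 * F z0 = F t0 := h.mul' mr mz (by decide)
  have hr' : ∀ g, g * F r0 = F r0 * g → ∃ m ∈ HD12, F m = g ∧ m * r0 = r0 * m := fun g e => by
    obtain ⟨m, a, rfl⟩ := h.memN.mp (hr (mem_C1.mpr e))
    exact ⟨m, a, rfl, h.comm' a mr e⟩
  have bt : F b0 * F t0 = F t0 * F b0 := h.comm (by decide) mt (by decide)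
  obtain ⟨Y, hY, rY⟩ := tf4 r2 z2 (h.comm mr mz (by decide)) (h.ne mr (by decide))
    (h.ne mz (by decide)) (fun e => absurd (h.inj mz mr e) (by decide))
    (by rw [h.card_C1 mr hr]; decide +kernel) (fun g e => by
      obtain ⟨m, a, rfl, b⟩ := hr' g (by rw [← e, mul_assoc])
      exact (by decide +kernel : ∀ m, m * r0 = r0 * m → m * m ≠ r0) m b
        (h.inj (mul_mem a a) mr (h.mul a a ▸ e))) fun g e => by
      rw [rz] at e
      obtain ⟨m, a, e1, b⟩ := hr' (g⁻¹ * F b0 * g⁻¹⁻¹) (comm_conj_of (by rwa [inv_inv, e]))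
      obtain ⟨n, c, rfl⟩ := h.memN.mp (h.ti (h.mJ mb) (e1 ▸ h.mJ ((by decide +kernel : ∀ m,
        m * r0 = r0 * m → m ^ 3 = 1 → m ∈ J0) m b (h.pow_eq' a (by
          rw [e1, conj_pow, b3]; group)))) (hall _ mb (by decide)) |> inv_mem_iff.mp)
      exact (by decide +kernel : ∀ n, n * r0 * n⁻¹ ≠ t0) n (h.conj_inj c mr mt e)
  have zY : F z0 ∉ Y := by
    obtain ⟨g, e⟩ := isConj_iff.1 e
    rwa [← e, idx2_conj le_top hY (mem_top _) (mem_top _)]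
  have tY : F t0 ∈ Y := by rw [← rz, idx2_mul le_top hY (mem_top _) (mem_top _)]; simp [rY, zY]
  have bY : F b0 ∈ Y := idx2_cube le_top hY (mem_top _) b3
  have k0 : ∀ m ∈ HD12, F m ∈ Y → m * t0 = t0 * m → ∃ i : Fin 3, m = b0 ^ i.val ∨
      m = b0 ^ i.val * t0 := fun m a b c => by
    obtain ⟨i, e | e⟩ := (by decide +kernel : ∀ m ∈ HD12, m * t0 = t0 * m → ∃ i : Fin 3,
      (m = b0 ^ i.val ∨ m = b0 ^ i.val * t0) ∨ m = b0 ^ i.val * z0 ∨ m = b0 ^ i.val * r0) m a c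
    · exact ⟨i, e⟩
    · rcases e with rfl | rfl <;> rw [h.mul (pow_mem (h.jle mb) _) (by decide), h.pow (h.jle mb),
        mul_mem_cancel_left (pow_mem bY _)] at b <;> contradiction
  have k1 : ∀ g ∈ Y ⊓ C1 (F t0) ⊓ N (zpowers (F b0)), ∃ i : Fin 3, g = F b0 ^ i.val ∨
      g = F b0 ^ i.val * F t0 := fun g hg => by
    obtain ⟨m, a, rfl⟩ := h.memN.mp (h.ti (h.mJ mb) (zpowers_le.mpr (h.mJ mb)
      (conj_mem_of_mem_N hg.2 (mem_zpowers _))) (hall _ mb (by decide)))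
    obtain ⟨i, e⟩ := k0 m a hg.1.1 (h.comm' a mt (mem_C1.mp hg.1.2))
    refine ⟨i, e.imp (fun e => ?_) fun e => ?_⟩ <;> rw [e]
    exacts [h.pow (h.jle mb) _, by rw [h.mul (pow_mem (h.jle mb) _) mt, h.pow (h.jle mb)]]
  have cbt : Commute (F b0) (F t0) := bt
  have hP : PNil 3 (Y ⊓ C1 (F t0)) := SylIn.pNil_of_le_C Nat.prime_three (S := zpowers (F b0))
    (sylIn_of_sq (CfsgH8.isPGroup_zpowers_of_pow b3) (zpowers_le.mpr ⟨bY, mem_C1.mpr bt⟩)
      fun g hg e => Or.inl (by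
        obtain ⟨i, rfl | rfl⟩ := k1 g ⟨hg, e⟩
        · exact pow_mem (pow_mem (mem_zpowers _) _) _
        · rw [(cbt.pow_left _).mul_pow, pow_two (F t0), t2, mul_one]
          exact pow_mem (pow_mem (mem_zpowers _) _) _)) fun g hg => by
      rw [C_zpowers, mem_C1]
      obtain ⟨i, rfl | rfl⟩ := k1 g hg
      exacts [(Commute.refl _).pow_left _, ((Commute.refl _).pow_left _).mul_left cbt.symm]
  have hn : ∀ g ∈ C1 (F t0), g ∈ N hP.compl := fun g hg => (hP.nrm_compl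
    (((idx2_nrm le_top hY).mono le_top).inf (Nrm.self _))).le_N hg
  have c3 : ¬ 3 ∣ Nat.card hP.compl := (Nat.Prime.coprime_iff_not_dvd Nat.prime_three).mp
    (hP.coprime_card_compl Nat.prime_three).symm
  have zt : F z0 * F t0 = F t0 * F z0 := h.comm mz mt (by decide)
  have tK : F t0 ∈ hP.compl := ⟨⟨tY, mem_C1.mpr rfl⟩, coprime_three_of_sq t2⟩
  have h4 := CfsgSZ.zstar (mem_top (F t0)) (h.ne mt (by decide)) t2 fun g _ e =>
    (iso_t c3 b3 (hn _ (mem_C1.mpr bt)) (hn _ (mem_C1.mpr zt)) z2 (fun e => zY e.1.1)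
      (h.conj_inv mz (h.jle mb) (by decide)) tK t2 (h.ne mt (by decide)) zt.symm bt.symm
      (fun k hk => hk.1.2) (fun k hk e => by
        have k2 : ∀ i : Fin 3, F b0 ^ i.val ∈ hP.compl → F b0 ^ i.val = 1 := fun i a =>
          eq_one_of_pow_of_not_dvd Nat.prime_three a (by rw [← pow_mul, mul_comm, pow_mul, b3, one_pow]) c3
        obtain ⟨i, rfl | rfl⟩ := k1 k ⟨hk.1, C_le_N _ ((C_zpowers _).ge (mem_C1.mpr e))⟩
        · exact Or.inl (k2 i hk)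
        · exact Or.inr (by rw [k2 i ((mul_mem_cancel_right tK).mp hk), one_mul]))
      (fun k hk e => by
        obtain ⟨m, a, rfl, b⟩ := hr' k (by
          rw [← h.mul' mt mz (w := r0) (by decide)]; exact comm_mul_of (mem_C1.mp hk.1.2) e)
        obtain ⟨i, e'⟩ := k0 m a hk.1.1 (h.comm' a mt (mem_C1.mp hk.1.2))
        rcases (by decide +kernel : ∀ i : Fin 3, ∀ m, (m = b0 ^ i.val ∨ m = b0 ^ i.val * t0) →
          m * r0 = r0 * m → m = 1 ∨ m = t0) i m e' b with rfl | rfl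
        exacts [Or.inl h.one, Or.inr rfl])
      ⟨⟨(idx2_conj le_top hY (mem_top _) (mem_top _)).mpr tY, mem_C1.mpr e.symm⟩,
        coprime_three_of_sq (conj_mul_self t2 g)⟩ (conj_mul_self t2 g)).resolve_left
      (conj_ne_one (h.ne mt (by decide)) g)
  refine h.top_of_solv hall hs (fun e => ?_) (nrm_Opc 2 ⊤) (solvable_Opc2 ⊤)
  rw [e, bot_sup_eq, top_inf_eq] at h4
  exact absurd (h.comm' (h.jle (show a0 ∈ J0 by decide)) mt (mem_C1.mp (h4.ge (mem_top _))))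
    (by decide)

end W9
end CfsgH7
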