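import Cfsg.Agent.H7.Loc19

/-! Frames for `N(J)`: the case `S₃ ≀ S₃`, and construction of frames. -/

set_option autoImplicit false

namespace CfsgH7
open Subgroup CfsgH5 CfsgH6 CfsgFT CfsgH8 CfsgH9 Equiv

universe u

variable {G : Type u} [Group G] [Finite G]

namespace W9
variable {F : W → G} {J : Subgroup G}

noncomputable def X2 : Subgroup W := ofL [1, a2, a2⁻¹] (by decide +kernel)

theorem Fr.centS (h : Fr (HE true) F J) (hall : ∀ j ∈ J0, j ≠ 1 → C1 (F j) ≤ N J)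
    (hr : C1 (F r0) ≤ N J) : C1 (F s0) ≤ N J := by
  have s2' := h.sq (mT s0) (by decide)
  have s1' := h.ne (mT s0) (by decide)
  have hC : ∀ m, m * s0 = s0 * m → F m ∈ C1 (F s0) := fun m e => mem_C1.mpr (h.comm (mT _) (mT _) e)
  have hD : D9 (F a1) (F a2) ≤ C1 (F s0) := D9_le (hC _ (by decide)) (hC _ (by decide))
  have k0 : ∀ d ∈ C1 (F s0), d ^ 3 = 1 → ∀ ζ ∈ zpowers (F s0), (d * ζ) ^ 3 = 1 → ζ = 1 := by
    intro d a b ζ c e
    rcases mem_zpowers_order_two' s2' c with rfl | rfl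
    · rfl
    · rw [(show Commute d _ from mem_C1.mp a).mul_pow, b, one_mul] at e
      exact eq_one_of_sq_cube s2' e
  have hs : ∀ {x}, x ∈ D9 (F a1) (F a2) ⊔ zpowers (F s0) → ∃ d ∈ D9 (F a1) (F a2),
      ∃ ζ ∈ zpowers (F s0), x = d * ζ :=
    CfsgH6.Nrm.exists_mul_of_mem_sup (nrm_of_le_C (hD.trans (C_zpowers _).ge))
  have hJ : D9 (F a1) (F a2) ≤ J := D9_le (h.mJ (by decide)) (h.mJ (by decide))
  have k1 : ∀ g ∈ N (D9 (F a1) (F a2) ⊔ zpowers (F s0)), g ∈ N J := fun g hg => by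
    obtain ⟨d, a, ζ, b, e⟩ := hs (conj_mem_of_mem_N hg (mem_sup_left (left_mem_D9 _ _)))
    obtain rfl := k0 d (hD a) (h.b12.cube a) ζ b (by rw [← e, conj_pow, h.b12.a3]; group)
    exact h.ti' hall (h.mJ (show a1 ∈ J0 by decide)) h.b12.a1 (by rw [e, mul_one]; exact hJ a)
  have k2 : ∀ i j, F (jv 0 i j) ∈ D9 (F a1) (F a2) := fun i j => by
    rw [jv_eq, Fin.val_zero, pow_zero, one_mul, h.mul (mT _) (mT _), h.pow (mT _), h.pow (mT _)]
    exact mul_mem (pow_mem (left_mem_D9 _ _) _) (pow_mem (right_mem_D9 _ _) _)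
  rcases (h.tup (s := s1) (t := s2) (mT _) (mT _) (by decide +kernel)).d8_sec (τ := F r0)
    (X := C1 (F s0)) (Z := zpowers (F s0)) (zpowers_le.mpr (mem_C1.mpr rfl)) (C_zpowers _).ge
    (hC _ (by decide)) (hC _ (by decide)) (hC _ (by decide))
    (h.sq (mT _) (by decide)) (h.conj (mT _) (mT _) (by decide))
    (h.conj (mT _) (mT _) (by decide)) (eq_bot_iff.mpr fun g hg =>
      k0 1 (one_mem _) (one_pow _) g hg.2 (by rw [one_mul]; exact h.b12.cube hg.1))
    (fun g hg e => by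
      obtain ⟨m, a, rfl⟩ := h.memN.mp (k1 g e)
      obtain ⟨w, b, i, j, k, e⟩ := (by decide +kernel : ∀ m, m * s0 = s0 * m →
        ∃ w ∈ [1, s1, s2, s1 * s2, r0, s1 * r0, s2 * r0, s1 * s2 * r0], ∃ i j, ∃ k : Fin 2,
          m * w⁻¹ = jv 0 i j * s0 ^ k.val) m (h.comm' a (mT _) (mem_C1.mp hg))
      refine ⟨F w, by simpa only [List.map_cons, List.map_nil, h.one, h.mul (mT _) (mT _)] using
        List.mem_map_of_mem (f := F) b, ?_⟩
      rw [← h.inv (mT _), ← h.mul (mT _) (mT _), e, h.mul (mT _) (mT _), h.pow (mT _)]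
      exact mul_mem (mem_sup_left (k2 i j)) (mem_sup_right (pow_mem (mem_zpowers _) _)))
    (fun y hy y1 g hg e => by
      have e1 := k0 y (hD hy) (h.b12.cube hy) _ e (by
        rw [mem_C.mp ((C_zpowers _).ge (hD hy)) _ e |>.symm, inv_mul_cancel_right, conj_pow,
          h.b12.cube hy]; group)
      obtain ⟨m, a, rfl⟩ := h.memN.mp (h.ti' hall (hJ hy) y1 (by rw [mul_inv_eq_one.mp e1]; exact hJ hy) : g ∈ N J)
      refine mem_N_of_conj fun x hx => ?_
      obtain ⟨d, b, ζ, c, rfl⟩ := hs hx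
      obtain ⟨i, j, rfl⟩ := h.memD12 b
      obtain ⟨i', j', e2⟩ := (by decide +kernel : ∀ m, m * s0 = s0 * m → ∀ i j, ∃ i' j',
        m * jv 0 i j * m⁻¹ = jv 0 i' j') m (h.comm' a (mT _) (mem_C1.mp hg)) i j
      rw [← conj_mul, h.conj a (mT _) e2, ← mem_C.mp ((C_zpowers _).ge hg) ζ c, mul_inv_cancel_right]
      exact mul_mem (mem_sup_left (k2 _ _)) (mem_sup_right c))
    (fun g hg ζ e e' => by
      rcases mem_zpowers_order_two' s2' e with rfl | rfl
      · rfl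
      rw [← h.mul (mT _) (mT _)] at e'
      exact (nc_of_syl (h.sylH (X := X2) (j := a2) (i := s1 * s0)
        (by change ∀ x ∈ (_ : List W), _; decide +kernel) (show _ ∈ (_ : List W) by decide +kernel)
        (hall _ (by decide) (by decide)) (mT _) (by change ∀ x ∈ (_ : List W), _; decide +kernel)
        (by change ∀ m, _ → _ ∈ (_ : List W); decide +kernel))
        (h.comm (x := a0 * a2) (y := s1) (mT _) (mT _) (by decide +kernel))
        (h.pow_eq (mT _) (by decide +kernel))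
        (h.not_conj (by change ∀ x ∈ (_ : List W), _; decide +kernel) (by decide)
          fun k _ => (by change ∀ m, _ ∉ (_ : List W); decide +kernel :
            ∀ k, k * (a0 * a2) * k⁻¹ ∉ X2) k) g e').elim) with e | ⟨z, h6, hz, hg⟩
  · exact fun g hg => k1 g (e hg)
  have k4 := h6.conj (F r0)
  have e1 : F r0 * F s1 * (F r0)⁻¹ = F s2 := h.conj (mT _) (mT _) (by decide)
  have e2 : F r0 * F s2 * (F r0)⁻¹ = F s1 := h.conj (mT _) (mT _) (by decide)
  have e3 : F r0 * F a1 * (F r0)⁻¹ = F a2 := h.conj (mT _) (mT _) (by decide)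
  have e4 : F r0 * F a2 * (F r0)⁻¹ = F a1 := h.conj (mT _) (mT _) (by decide)
  rw [← conj_mul (a := F s1), ← conj_mul (a := F s2), e1, e2, e3, e4] at k4
  have zr : F r0 * z * (F r0)⁻¹ = z := by
    refine (h6.uniq ?_ k4.ce k4.ac.symm (E7.cube_symm k4.bc)).resolve_right fun e => e.2 k4.cd
    obtain ⟨ζ, a, k, b, e⟩ := hg _ (mul_mem (mul_mem (hC r0 (by decide)) hz) (inv_mem (hC r0 (by decide))))
    rcases mem_zpowers_order_two' s2' a with rfl | rfl
    · rwa [e, one_mul]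
    · have c1 := (E7.mem_K6 (F s1) (F s1 * F a1) z (F s2 * F a2) (F s2)).2.2.2.1
      have c2 : E7.K6 (F s1) (F s1 * F a1) z (F s2 * F a2) (F s2) ≤ C1 (F s0) :=
        E7.K6_le (hC _ (by decide)) (mul_mem (hC _ (by decide)) (hC _ (by decide))) hz
          (mul_mem (hC _ (by decide)) (hC _ (by decide))) (hC _ (by decide))
      have c3 := E7.cube_symm k4.bc
      rw [e, mul_assoc, (show Commute _ _ from mem_C1.mp (c2 (mul_mem b c1))).symm.mul_pow,
        pow_three, s2', mul_one, mul_eq_one_iff_eq_inv] at c3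
      rw [e, c3]
      exact mul_mem (inv_mem (pow_mem (mul_mem b c1) _)) b
  obtain ⟨m, a, rfl⟩ := h.memN.mp (hr (mem_C1.mpr (mul_inv_eq_iff_eq_mul.mp zr).symm))
  have c1 := h6.bc
  have c2 := h6.cd
  simp only [← h.mul (mT _) (mT _)] at c1 c2
  exact ((by decide +kernel : ∀ m, s1 * m = m * s1 → m * s2 = s2 * m → (s1 * a1 * m) ^ 3 = 1 →
    (m * (s2 * a2)) ^ 3 ≠ 1) m (h.comm' (mT _) a h6.ac) (h.comm' a (mT _) h6.ce)
    (h.pow_eq' (mT _) c1) (h.pow_eq' (mT _) c2)).elim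

theorem Fr.caseB3 (h : Fr (HE true) F J) (hs : Sig3 J) (hc : C1 (F c0) ≤ N J) :
    N J = ⊤ ∨ Nonempty (G ≃* Perm (Fin 9)) := by
  have hna : ∀ j, na j → C1 (F j) ≤ N J := fun j hj => h.of_reps [c0, a1 * a2] (by
      simp only [List.forall_mem_cons, List.not_mem_nil, false_imp_iff, implies_true, and_true]
      exact ⟨hc, h.im_J ▸ h.toPH.L3 h.hEJ (h.im_J.symm ▸ hs) (h.J_le_C (by decide))
        (h.hNC (by decide)) (b := a1 * a2) (x := a0) (y := b0) (ρ := s0) (σ := r0)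
        (by decide +kernel) le_rfl (mem_C1.mpr (h.comm (mT _) (mT _) (by decide)))
        (mem_C1.mpr (h.comm (mT _) (mT _) (by decide))) (by decide +kernel)⟩) hj.1
    ((by decide +kernel : ∀ j, na j → ∃ k ∈ HE true, k * j * k⁻¹ ∈ [c0, a1 * a2]) j hj)
  refine (h.coreS hs hna).imp_left fun ha => ?_
  have hall : ∀ j ∈ J0, j ≠ 1 → C1 (F j) ≤ N J := fun j hj j1 => by
    by_cases hn : na j
    · exact hna j hn
    · exact h.of_reps [a0] (by simpa using ha) hj ((by decide +kernel : ∀ j ∈ J0, j ≠ 1 → ¬ na j →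
        ∃ k ∈ HE true, k * j * k⁻¹ ∈ [a0]) j hj j1 hn)
  obtain ⟨Q, _, _, f, hf, h1, h2, h3⟩ := h.secR hall (mT _)
  have hr := h3 (hf.L3 (by decide +kernel) h1 le_top (P := fun _ => True)
    (fun g _ e => by simpa using h2 g e) (b := 1) (x := a0) (y := a1 * a2) (ρ := s0) (σ := d0)
    (by decide +kernel) (by rw [hf.one, C1_one]) (mem_top _) (mem_top _) (by decide +kernel))
  have hσ := (h.nσ' hall (mT _) (by decide +kernel)).resolve_right fun ⟨_, e⟩ => by
    obtain ⟨g, e⟩ := isConj_iff.1 e.symm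
    have e1 : g * F (s1 * r0) * g⁻¹ * F r0 = F r0 * (g * F (s1 * r0) * g⁻¹) :=
      e ▸ comm_conj_both (h.comm (mT _) (mT _) (by decide))
    obtain ⟨m, a, e2⟩ := h.memN.mp (hr (mem_C1.mpr e1))
    have e3 := h.pow_eq a ((by decide +kernel : ∀ m, m * r0 = r0 * m → m ^ 6 = 1) m
      (h.comm' a (mT _) (e2 ▸ e1)))
    rw [e2, conj_pow, conj_eq_one_iff] at e3
    exact absurd (h.pow_eq' (mT _) e3) (by decide +kernel)
  refine h.fin1 hall hσ (by decide +kernel) (mT _) hr (Or.inr ⟨mT _, ?_⟩)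
  have hsC := h.centS hall hr
  have cs := h.ctrl hall hσ (mT s0) (by decide) hsC (by decide +kernel)
  have s2 := h.sq (mT s0) (by decide)
  have hC : ∀ m, m * d0 = d0 * m → F m ∈ C1 (F d0) := fun m e => mem_C1.mpr (h.comm (mT _) (mT _) e)
  rw [← CfsgSZ.zstar (hC s0 (by decide)) (h.ne (mT _) (by decide)) s2 fun g hg e => by
    obtain ⟨m, a, rfl⟩ := h.memN.mp (cs g (hsC (mem_C1.mpr e.symm)))
    rw [← h.conj' a (mT _)] at e
    exact h.conj a (mT _) ((by decide +kernel : ∀ m, m * d0 = d0 * m →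
      s0 * (m * s0 * m⁻¹) = m * s0 * m⁻¹ * s0 → m * s0 * m⁻¹ = s0) m
      (h.comm' a (mT _) (mem_C1.mp hg)) (h.comm' (mT _) (mT _) e))]
  refine sup_le (fun x hx => hall a0 (by decide) (by decide) (mem_C1.mpr ?_)) (inf_le_right.trans hsC)
  have k := fun d => conj_eq_inv_of_fpf (d := d) s2 (nrm_Opc 2 _ _ (hC s0 (by decide))) fun x hx e => by
    obtain ⟨m, a, rfl⟩ := h.memN.mp (hsC (mem_C1.mpr e.symm))
    have e1 := h.pow_eq a ((by decide +kernel : ∀ m, m * d0 = d0 * m → s0 * m = m * s0 →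
      (m ^ 2) ^ 2 = 1) m (h.comm' a (mT _) (mem_C1.mp (Opc_le _ _ hx))) (h.comm' (mT _) a e) |>
      fun t => (pow_mul m 2 2).trans t)
    have o := CfsgFT.not_dvd_card_Opc Nat.prime_two (C1 (F d0))
    rw [pow_mul] at e1
    exact eq_one_of_pow_of_not_dvd Nat.prime_two hx
      (eq_one_of_pow_of_not_dvd Nat.prime_two (pow_mem hx 2) e1 o) o
  have k1 := k _ (nrm_Opc _ _ _ (hC a0 (by decide)) x hx)
  have sa : F s0 * F a0 * (F s0)⁻¹ = (F a0)⁻¹ := h.conj_inv (mT _) (mT _) (by decide)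
  rw [← conj_mul, ← conj_mul, ← conj_inv, k _ hx, sa] at k1
  have a3 : F a0 ^ 3 = 1 := h.exp _ (h.mJ (by decide))
  have k2 : x * (F a0 * F a0) = F a0 * F a0 * x := by
    calc _ = F a0 * ((F a0)⁻¹ * x⁻¹ * (F a0)⁻¹⁻¹)⁻¹ * F a0 := by group
      _ = _ := by rw [k1]; group
  have k3 := comm_mul_of k2 k2
  rwa [show F a0 * F a0 * (F a0 * F a0) = F a0 ^ 3 * F a0 by simp only [pow_three', mul_assoc], a3,
    one_mul] at k3

end W9
end CfsgH7
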