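import Cfsg.Agent.H7.Loc18

/-! Construction of frames from the centralizer of `c`. -/

set_option autoImplicit false

namespace CfsgH7
open Subgroup CfsgH5 CfsgH6 CfsgFT CfsgH8 CfsgH9 Equiv CfsgH9.P43 Matrix

universe u

variable {G : Type u} [Group G] [Finite G]

theorem exists_compl {J Y : Subgroup G} (h3 : ∀ j ∈ J, j ^ 3 = 1) (ab : Ab J) (h1 : Y ≤ N J)
    (hn : Nrm (N J) Y) (h2 : ∀ y ∈ Y, y * y ∈ J)
    (hf : ∀ j ∈ J, (∀ y ∈ Y, y * j = j * y) → j = 1) :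
    ∃ K ≤ N J, (∀ k ∈ K, k ∈ J → k = 1) ∧ ∀ g ∈ N J, ∃ k ∈ K, g * k⁻¹ ∈ J := by
  have := Fact.mk Nat.prime_two
  obtain ⟨P, hP⟩ := exists_sylIn 2 Y
  have k1 : ∀ y ∈ Y, ∃ p ∈ P, y * p⁻¹ ∈ J := fun y hy => by
    obtain ⟨c, hc, e⟩ := hP.exists_le_cj (zpowers_le.mpr (pow_mem hy 3))
      (CfsgH8.isPGroup_zpowers_of_pow (by
        rw [← pow_mul, mul_comm, pow_mul, pow_two]; exact h3 _ (h2 y hy)))
    obtain ⟨p, hp, e⟩ := mem_cj'.mp (e (mem_zpowers _))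
    have a := hP.le hp
    refine ⟨p, hp, ?_⟩
    have := mul_mem (inv_mem (h2 y hy)) (mul_mem (mul_mem (h2 _ (mul_mem hc a))
      (conj_mem_of_mem_N (h1 (inv_mem a)) (inv_mem (h2 c hc)))) (inv_mem (h2 p a)))
    convert this using 1
    calc _ = (y * y)⁻¹ * (y ^ 3 * p⁻¹) := by simp only [pow_three', mul_assoc]; group
      _ = _ := by rw [e]; group
  refine ⟨N J ⊓ N P, inf_le_left, fun k hk e => hf k e fun y hy => ?_, fun g hg => ?_⟩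
  · obtain ⟨p, hp, e1⟩ := k1 y hy
    have e2 : k * p * k⁻¹ * p⁻¹ = 1 := by
      have a := mul_mem (conj_mem_of_mem_N hk.2 hp) (inv_mem hp)
      obtain ⟨n, hn⟩ := hP.isPGroup ⟨_, a⟩
      refine eq_one_of_coprime_three (Nat.Coprime.coprime_dvd_left
        (orderOf_dvd_of_pow_eq_one (congrArg Subtype.val hn)) (Nat.Coprime.pow_left n (by norm_num)))
        (h3 _ (by simpa [mul_assoc] using mul_mem e (conj_mem_of_mem_N (h1 (hP.le hp)) (inv_mem e))))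
    rw [mul_inv_eq_one, mul_inv_eq_iff_eq_mul] at e2
    have := comm_mul_of (ab.comm e e1) e2
    rw [inv_mul_cancel_right] at this
    exact this.symm
  · obtain ⟨c, hc, e⟩ := hP.frattini (hn.cj_eq hg)
    obtain ⟨p, hp, e1⟩ := k1 c hc
    have a := h1 (hP.le hp)
    refine ⟨p⁻¹ * (c * g), mem_inf.mpr ⟨mul_mem (inv_mem a) (mul_mem (h1 hc) hg),
      mul_mem (inv_mem (le_N P hp)) (mem_N.mpr e)⟩, ?_⟩
    convert conj_mem_of_mem_N (inv_mem a) (inv_mem e1) using 1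
    group

namespace W9

/-- `g` acts on `J` as `m` does. -/
def RR (f : W → G) (g : G) (m : W) : Prop := ∀ j ∈ J0, g * f j * g⁻¹ = f (m * j * m⁻¹)

structure Pj (f : W → G) (J : Subgroup G) : Prop extends PH J0 f where
  memJ : ∀ {g}, g ∈ J ↔ ∃ m ∈ J0, f m = g
  cJ : C J ≤ J

omit [Finite G] in
theorem RR.mul {f : W → G} {g k : G} {m n : W} (a : RR f g m) (b : RR f k n) :
    RR f (g * k) (m * n) := fun j hj => by
  rw [show g * k * f j * (g * k)⁻¹ = g * (k * f j * k⁻¹) * g⁻¹ by group, b j hj,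
    a _ (J0_nrm n hj)]
  congr 1; group

omit [Finite G] in
theorem RR.inv {f : W → G} {g : G} {m : W} (a : RR f g m) : RR f g⁻¹ m⁻¹ := fun j hj => by
  have := a _ (J0_nrm m⁻¹ hj)
  rw [show m * (m⁻¹ * j * m⁻¹⁻¹) * m⁻¹ = j by group] at this
  rw [← this]; group

/-- elements acting as elements of `Λ`. -/
def RY (f : W → G) (Λ : Subgroup W) : Subgroup G where
  carrier := {g | ∃ m ∈ Λ, RR f g m}
  one_mem' := ⟨1, one_mem _, fun j _ => by simp⟩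
  mul_mem' := fun ⟨_, a, b⟩ ⟨_, c, d⟩ => ⟨_, mul_mem a c, b.mul d⟩
  inv_mem' := fun ⟨_, a, b⟩ => ⟨_, inv_mem a, b.inv⟩

def RK (f : W → G) : Subgroup W where
  carrier := {m | ∃ g, RR f g m}
  one_mem' := ⟨1, fun j _ => by simp⟩
  mul_mem' := fun ⟨_, b⟩ ⟨_, d⟩ => ⟨_, b.mul d⟩
  inv_mem' := fun ⟨_, b⟩ => ⟨_, b.inv⟩

theorem lin_J (m : W) : m * (lin m)⁻¹ ∈ J0 := (by decide +kernel : ∀ m, m * (lin m)⁻¹ ∈ J0) m
theorem lin_eq_one : ∀ m, m ∈ J0 ↔ lin m = 1 := by decide +kernel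

noncomputable def PJZ (s0 s1 s2 : Bool) (p : A3) : Bool := !xor s0 s1 && !xor s0 s2 && decide (p = .e0)
noncomputable def JZ : Subgroup W := sub PJZ rfl (by decide +kernel)
noncomputable instance (m : W) : Decidable (m ∈ JZ) := inferInstanceAs (Decidable (ap PJZ m = true))

theorem ap_conj (P : Bool → Bool → Bool → A3 → Bool) (h : ∀ s0 s1 s2 p t0 t1 t2 q, P t0 t1 t2 q = true →
    ap P (mkL s0 s1 s2 p * mkL t0 t1 t2 q * (mkL s0 s1 s2 p)⁻¹) = true) (m n : W)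
    (a : ap P n = true) : ap P (m * n * m⁻¹) = true := by
  rw [← ap_lin, lin_mul, lin_mul, show lin m⁻¹ = (lin m)⁻¹ from map_inv linH m]
  exact h _ _ _ _ _ _ _ _ a

namespace Pj
variable {f : W → G} {J : Subgroup G} (h : Pj f J)
include h

omit [Finite G] in
theorem mJ {j : W} (hj : j ∈ J0) : f j ∈ J := h.memJ.mpr ⟨j, hj, rfl⟩

omit [Finite G] in
theorem ab : Ab J := ab_iff.mpr fun x hx y hy => by
  obtain ⟨m, a, rfl⟩ := h.memJ.mp hx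
  obtain ⟨n, b, rfl⟩ := h.memJ.mp hy
  exact h.comm a b (J0_comm a b)

theorem mN {g : G} {m : W} (a : RR f g m) : g ∈ N J := mem_N_of_conj fun x hx => by
  obtain ⟨j, b, rfl⟩ := h.memJ.mp hx
  exact a j b ▸ h.mJ (J0_nrm m b)

omit [Finite G] in
theorem rJ {g : G} {m : W} (hg : g ∈ J) (hm : m ∈ J0) : RR f g m := fun j hj => by
  rw [h.ab.comm hg (h.mJ hj), J0_comm hm hj, mul_inv_cancel_right, mul_inv_cancel_right]

omit [Finite G] in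
theorem of_r {g : G} {m : W} (a : RR f g m) (hm : m ∈ J0) : g ∈ J := h.cJ (mem_C.mpr fun x hx => by
  obtain ⟨j, b, rfl⟩ := h.memJ.mp hx
  have := a j b
  rw [J0_comm hm b, mul_inv_cancel_right, mul_inv_eq_iff_eq_mul] at this
  exact this.symm)

theorem mkFr {H0 : Subgroup W} (le : S0 ≤ H0) (ha : H0 ≤ RK f) (hb : N J ≤ RY f H0)
    {Λ : Subgroup W} (hn : ∀ m, ∀ n ∈ Λ, m * n * m⁻¹ ∈ Λ) (h2 : ∀ n ∈ Λ, n * n ∈ J0) {x y : W}
    (hx : x ∈ Λ ∧ x ∈ H0 ∧ y ∈ Λ ∧ y ∈ H0 ∧ ∀ j ∈ J0, x * j * x⁻¹ = j → y * j * y⁻¹ = j → j = 1) :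
    ∃ F, Fr H0 F J ∧ F c0 = f c0 := by
  obtain ⟨K, k1, k2, k3⟩ := exists_compl (J := J) (Y := RY f Λ) (fun j hj => by
      obtain ⟨m, a, rfl⟩ := h.memJ.mp hj
      exact h.pow_eq a (J0_cube m a)) h.ab (fun g ⟨_, _, b⟩ => h.mN b) (fun g hg k ⟨n, a, b⟩ => by
      obtain ⟨m, -, c⟩ := hb hg
      exact ⟨_, hn m n a, (c.mul b).mul c.inv⟩) (fun g ⟨n, a, b⟩ => h.of_r (b.mul b) (h2 n a))
    fun j hj e => by
      obtain ⟨m, a, rfl⟩ := h.memJ.mp hj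
      have k : ∀ x ∈ Λ, x ∈ H0 → x * m * x⁻¹ = m := fun x b c => by
        obtain ⟨g, d⟩ := ha c
        exact h.inj (J0_nrm x a) a (by rw [← d m a, e g ⟨x, b, d⟩, mul_inv_cancel_right])
      rw [hx.2.2.2.2 m a (k x hx.1 hx.2.1) (k y hx.2.2.1 hx.2.2.2.1), h.one]
  have k4 : ∀ m ∈ H0, ∃ k ∈ K, RR f k m := fun m a => by
    obtain ⟨g, b⟩ := ha a
    obtain ⟨k, c, d⟩ := k3 g (h.mN b)
    exact ⟨k, c, by simpa using (h.rJ (inv_mem d) (one_mem _)).mul b⟩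
  choose! κ κ1 κ2 using k4
  have u : ∀ m ∈ H0, ∀ k ∈ K, RR f k m → κ m = k := fun m a k b c =>
    mul_inv_eq_one.mp (k2 _ (mul_mem (κ1 m a) (inv_mem b))
      (h.of_r ((κ2 m a).mul c.inv) (by simp)))
  have jle : ∀ {m}, m ∈ J0 → m ∈ H0 := fun a => le (J0_le_S0 a)
  have hJ : ∀ j ∈ J0, f (j * (lin j)⁻¹) * κ j = f j := fun j a => by
    rw [u j (jle a) 1 (one_mem _) (h.rJ (one_mem _) a), (lin_eq_one j).mp a]; simp
  refine ⟨fun m => f (m * (lin m)⁻¹) * κ m, ⟨⟨fun {m n} a b => ?_, fun {m} a e => ?_⟩, le,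
    h.memJ.trans ⟨fun ⟨m, a, b⟩ => ⟨m, a, (hJ m a).trans b⟩, fun ⟨m, a, b⟩ =>
      ⟨m, a, (hJ m a).symm.trans b⟩⟩, ⟨fun hg => ?_, ?_⟩⟩, hJ _ (by decide)⟩
  · rw [u _ (mul_mem a b) _ (mul_mem (κ1 m a) (κ1 n b)) ((κ2 m a).mul (κ2 n b)), mul_assoc (f _),
      ← mul_assoc (κ m), mul_inv_eq_iff_eq_mul.mp (κ2 m a _ (lin_J n)), ← mul_assoc, ← mul_assoc,
      ← mul_assoc (f _), ← h.mul (lin_J m) (J0_nrm m (lin_J n)), J0_comm (lin_J m) (J0_nrm m (lin_J n)),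
      lin_mul]
    congr 3; group
  · have e1 := k2 _ (κ1 m a) (eq_inv_of_mul_eq_one_right e ▸ inv_mem (h.mJ (lin_J m)))
    have k : ∀ j ∈ J0, m * j = j * m := fun j b => mul_inv_eq_iff_eq_mul.mp
      (h.inj (J0_nrm m b) b (by simpa [e1] using (κ2 m a j b).symm))
    have e2 := cent_J0 m (k _ (by decide)) (k _ (by decide)) (k _ (by decide))
    exact h.inj1 e2 ((hJ m e2).symm.trans e)
  · obtain ⟨m, a, b⟩ := hb hg
    obtain ⟨j, c, e⟩ := h.memJ.mp (h.of_r (b.mul (κ2 m a).inv) (by simp))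
    have d : lin m ∈ H0 := by simpa using mul_mem (inv_mem (jle (lin_J m))) a
    refine ⟨j * lin m, mul_mem (jle c) d, ?_⟩
    rw [u _ (mul_mem (jle c) d) _ (κ1 m a) (by
      have := (h.rJ (one_mem _) (mul_mem c (inv_mem (lin_J m)))).mul (κ2 m a)
      simpa [mul_assoc] using this), lin_mul, (lin_eq_one j).mp c, one_mul,
      (by decide +kernel : ∀ m, lin (lin m) = lin m), mul_inv_cancel_right, e, inv_mul_cancel_right]
  · rintro ⟨m, a, rfl⟩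
    exact mul_mem (le_N J (h.mJ (lin_J m))) (k1 (κ1 m a))

omit [Finite G] in
theorem le_RK {H0 : Subgroup W} (h1 : ∀ s0 s1 s2 p, mkL s0 s1 s2 p ∈ H0 → mkL s0 s1 s2 p ∈ RK f)
    (h2 : ∀ m ∈ H0, lin m ∈ H0) : H0 ≤ RK f := fun m a => by
  have := mul_mem (show _ ∈ RK f from ⟨1, h.rJ (one_mem _) (lin_J m)⟩)
    (show lin m ∈ RK f from h1 _ _ _ _ (h2 m a))
  rwa [inv_mul_cancel_right] at this

theorem withZ {H0 H1 : Subgroup W} (le : S0 ≤ H1) (ha : H0 ≤ RK f)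
    (hb : ∀ g ∈ N J, ∃ m ∈ H0, RR f g m ∨ RR f g (z0 * m))
    (h1 : ∀ m, m ∈ H1 ↔ m ∈ H0 ∨ z0 * m ∈ H0) :
    N J ≤ RY f H0 ∨ ∃ F, Fr H1 F J ∧ F c0 = f c0 := by
  by_cases hz : z0 ∈ RK f
  · refine Or.inr (h.mkFr le (fun m a => ?_) (fun g hg => ?_) (Λ := JZ)
      (ap_conj _ (by decide +kernel)) (by decide +kernel) (x := z0) (y := z0)
      ⟨by decide, (h1 _).mpr (Or.inr (one_mem _)), by decide, (h1 _).mpr (Or.inr (one_mem _)),
        by decide +kernel⟩)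
    · rcases (h1 m).mp a with e | e
      exacts [ha e, (mul_mem_cancel_left hz).mp (ha e)]
    · obtain ⟨m, a, b | b⟩ := hb g hg
      exacts [⟨m, (h1 m).mpr (Or.inl a), b⟩, ⟨_, (h1 _).mpr (Or.inr (by
        rwa [← mul_assoc, show z0 * z0 = 1 by decide, one_mul])), b⟩]
  · refine Or.inl fun g hg => ?_
    obtain ⟨m, a, b | b⟩ := hb g hg
    exacts [⟨m, a, b⟩, absurd ((mul_mem_cancel_right (ha a)).mp ⟨g, b⟩) hz]

end Pj

def jw (v : V3) : W := jv (v 0) (v 1) (v 2)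
noncomputable def vw (m : W) : V3 := ![m.x0.a, m.x1.a, m.x2.a]
def Act (ψ : V3 → G) (g : G) (A : M3) : Prop := ∀ v, g * ψ v * g⁻¹ = ψ (A *ᵥ v)
def Lk (A : M3) (m : W) : Prop := ∀ a b c : Fin 3, A *ᵥ vw (jv a b c) = vw (m * jv a b c * m⁻¹)
noncomputable instance (A : M3) (m : W) : Decidable (Lk A m) := by unfold Lk; infer_instance

structure Co (ψ : V3 → G) (J : Subgroup G) : Prop where
  add : ∀ v w, ψ (v + w) = ψ v * ψ w
  inj : Function.Injective ψ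
  memJ : ∀ {g}, g ∈ J ↔ ∃ v, ψ v = g
  cJ : C J ≤ J
  hX : ∃ g, Act ψ g mX
  hT : ∃ g, Act ψ g P43.mT
  fix : ∀ g A, Act ψ g A → A *ᵥ ![1, 1, 1] = ![1, 1, 1] → A ∈ B0

namespace Co
variable {ψ : V3 → G} {J : Subgroup G} (h : Co ψ J)
include h

omit [Finite G] in
theorem ex {g : G} (hg : g ∈ N J) : ∃ A, Act ψ g A := by
  have h1 : ∀ v, ∃ w, ψ w = g * ψ v * g⁻¹ := fun v =>
    h.memJ.mp (conj_mem_of_mem_N hg (h.memJ.mpr ⟨v, rfl⟩))
  choose φ hφ using h1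
  let φ' := AddMonoidHom.mk' φ fun v w => h.inj (by rw [h.add, hφ, hφ, hφ, h.add, conj_mul])
  exact ⟨LinearMap.toMatrix' (φ'.toZModLinearMap 3), fun v => by
    rw [LinearMap.toMatrix'_mulVec]; exact (hφ v).symm⟩

theorem lam : LamH fun A => ∃ g, Act ψ g A where
  one := ⟨1, fun v => by simp⟩
  mul := fun ⟨g, a⟩ ⟨k, b⟩ => ⟨g * k, fun v => by rw [← mulVec_mulVec, ← a, ← b]; group⟩
  hX := h.hX
  hT := h.hT
  inv := fun {A} ⟨g, a⟩ => by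
    obtain ⟨B, b⟩ := h.ex (inv_mem (mem_N_of_conj fun x hx => by
      obtain ⟨v, rfl⟩ := h.memJ.mp hx
      exact h.memJ.mpr ⟨_, (a v).symm⟩) : g⁻¹ ∈ N J)
    refine ⟨B, Matrix.ext_iff_mulVec.mpr fun v => h.inj ?_⟩
    rw [← mulVec_mulVec, ← b, ← a, one_mulVec]; group
  fix := fun ⟨g, a⟩ => h.fix g _ a

omit h [Finite G] in
theorem mR_inv : ∀ k, mR k * mR (-k) = 1 ∧ mR (-k) * mR k = 1 ∧ mR k *ᵥ ![1, 1, 1] = ![1, 1, 1] ∧
    mR (-k) *ᵥ ![1, 1, 1] = ![1, 1, 1] ∧ ∀ P ∈ B0, mR k * P * mR (-k) = P ∧ mR (-k) * P * mR k = P := by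
  decide +kernel

omit h [Finite G] in
theorem act_tw {k : ZMod 3} {g : G} {A : M3} :
    Act (fun v => ψ (mR k *ᵥ v)) g A ↔ Act ψ g (mR k * A * mR (-k)) :=
  ⟨fun a v => by
    have := a (mR (-k) *ᵥ v)
    simp only [mulVec_mulVec, (mR_inv k).1, one_mulVec, ← mul_assoc] at this
    exact this, fun a v => by
    simp only [a _, mulVec_mulVec, mul_assoc, (mR_inv k).2.1, mul_one]⟩

omit [Finite G] in
theorem tw (k : ZMod 3) : Co (fun v => ψ (mR k *ᵥ v)) J where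
  add v w := by rw [mulVec_add, h.add]
  inj v w e := by
    simpa only [mulVec_mulVec, (mR_inv k).2.1, one_mulVec] using congrArg (mR (-k) *ᵥ ·) (h.inj e)
  memJ := h.memJ.trans ⟨fun ⟨v, e⟩ => ⟨mR (-k) *ᵥ v, by
    simp only [mulVec_mulVec, (mR_inv k).1, one_mulVec, e]⟩, fun ⟨_, e⟩ => ⟨_, e⟩⟩
  cJ := h.cJ
  hX := h.hX.imp fun g a => act_tw.mpr (by rwa [((mR_inv k).2.2.2.2 mX (by simp [B0])).1])
  hT := h.hT.imp fun g a => act_tw.mpr (by rwa [((mR_inv k).2.2.2.2 P43.mT (by simp [B0])).1])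
  fix g A a e := by
    have h1 := h.fix g _ (act_tw.mp a) (by
      rw [← mulVec_mulVec, ← mulVec_mulVec, (mR_inv k).2.2.2.1, e, (mR_inv k).2.2.1])
    have h2 := ((mR_inv k).2.2.2.2 _ h1).2
    rw [← mul_assoc, ← mul_assoc, (mR_inv k).2.1, one_mul, mul_assoc, (mR_inv k).2.1, mul_one] at h2
    exact h2 ▸ h1

omit [Finite G] in
theorem pj : Pj (fun m => ψ (vw m)) J where
  mul {m n} a b := by
    rw [← h.add, eq_jv m a, eq_jv n b]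
    exact congrArg ψ ((by decide +kernel : ∀ a b c a' b' c',
      vw (jv a b c * jv a' b' c') = vw (jv a b c) + vw (jv a' b' c')) _ _ _ _ _ _)
  inj1 {m} a e := (by decide +kernel : ∀ m ∈ J0, vw m = 0 → m = 1) m a
    (h.inj (e.trans (mul_left_cancel (a := ψ 0) (by rw [← h.add]; simp))))
  memJ := h.memJ.trans ⟨fun ⟨v, e⟩ => ⟨jw v, jv_mem _ _ _, by
    rwa [(by decide +kernel : ∀ v, vw (jw v) = v)]⟩, fun ⟨_, _, e⟩ => ⟨_, e⟩⟩
  cJ := h.cJ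

omit h [Finite G] in
theorem rr {g : G} {A : M3} {m : W} (a : Act ψ g A) (b : Lk A m) : RR (fun m => ψ (vw m)) g m :=
  fun j hj => by rw [eq_jv j hj]; exact (a _).trans (congrArg ψ (b _ _ _))

theorem main : N J ≤ C1 (ψ ![1, 1, 1]) ∨ ∃ F, F c0 = ψ ![1, 1, 1] ∧
    (Fr HD12 F J ∨ Fr HD3 F J ∨ Fr (HE true) F J) := by
  have k0 : ∀ {ψ : V3 → G}, Co ψ J → σ0 ∈ RK (fun m => ψ (vw m)) ∧ r0 ∈ RK fun m => ψ (vw m) :=
    fun h => ⟨h.hX.imp fun g a => rr a (by decide +kernel), h.hT.imp fun g a => rr a (by decide +kernel)⟩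
  rcases h.lam.cases with e | ⟨k, g, e⟩
  · refine (h.pj.withZ (H0 := HS3) (H1 := HD12) (by decide +kernel : ∀ m ∈ S0, m ∈ HD12)
      (h.pj.le_RK (fun s0 s1 s2 p a => ?_) (by decide +kernel)) (fun g hg => ?_)
      (by decide +kernel)).imp (fun e g hg => ?_) fun ⟨F, a, b⟩ => ⟨F, b, Or.inl a⟩
    · obtain ⟨i, j, e⟩ := (by decide +kernel : ∀ s0 s1 s2 p, mkL s0 s1 s2 p ∈ HS3 → ∃ i : Fin 3,
        ∃ j : Fin 2, mkL s0 s1 s2 p = σ0 ^ i.val * r0 ^ j.val) s0 s1 s2 p a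
      exact e ▸ mul_mem (pow_mem (k0 h).1 _) (pow_mem (k0 h).2 _)
    · obtain ⟨A, a⟩ := h.ex hg
      have k := (by decide +kernel : ∀ P ∈ B0, ∃ p, mkL false false false p ∈ HS3 ∧
        Lk P (mkL false false false p) ∧ Lk (-P) (z0 * mkL false false false p))
      rcases e A ⟨g, a⟩ with e | e <;> obtain ⟨p, b, c, d⟩ := k _ e
      exacts [⟨_, b, Or.inl (rr a c)⟩, ⟨_, b, Or.inr (rr a (neg_neg A ▸ d))⟩]
    · obtain ⟨m, a, b⟩ := e hg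
      have := b c0 (by decide)
      rw [(HS3_comm m).mp a, mul_inv_cancel_right] at this
      exact mem_C1_iff_conj.mpr this
  have h' := h.tw k
  have e' := act_tw.mpr e
  have ec : ψ (mR k *ᵥ vw c0) = ψ ![1, 1, 1] := congrArg ψ (mR_inv k).2.2.1
  have ha : HD3 ≤ RK fun m => ψ (mR k *ᵥ vw m) := h'.pj.le_RK (fun s0 s1 s2 p a => by
    have md : d0 ∈ RK fun m => ψ (mR k *ᵥ vw m) := ⟨g, rr e' (by decide +kernel)⟩
    obtain ⟨i, j, a, b, e⟩ := (by decide +kernel : ∀ s0 s1 s2 p, mkL s0 s1 s2 p ∈ HD3 → ∃ i : Fin 3,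
      ∃ j a b : Fin 2, mkL s0 s1 s2 p = σ0 ^ i.val * r0 ^ j.val * d0 ^ a.val *
        (σ0 * d0 * σ0⁻¹) ^ b.val) s0 s1 s2 p a
    exact e ▸ mul_mem (mul_mem (mul_mem (pow_mem (k0 h').1 _) (pow_mem (k0 h').2 _)) (pow_mem md _))
      (pow_mem (mul_mem (mul_mem (k0 h').1 md) (inv_mem (k0 h').1)) _)) (by decide +kernel)
  refine Or.inr ?_
  rcases h'.pj.withZ (H0 := HD3) (H1 := HE true) (fun _ _ => W9.mT _) ha (fun g hg => by
      obtain ⟨A, a⟩ := h'.ex hg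
      have k := (by decide +kernel : ∀ P ∈ SP24, ∃ s0 s1 s2 p, mkL s0 s1 s2 p ∈ HD3 ∧
        Lk P (mkL s0 s1 s2 p) ∧ Lk (-P) (z0 * mkL s0 s1 s2 p))
      rcases h'.lam.signed ⟨_, e'⟩ ⟨g, a⟩ with e | e <;> obtain ⟨_, _, _, p, b, c, d⟩ := k _ e
      exacts [⟨_, b, Or.inl (rr a c)⟩, ⟨_, b, Or.inr (rr a (neg_neg A ▸ d))⟩])
    (by decide +kernel) with e | ⟨F, a, b⟩
  · obtain ⟨F, a, b⟩ := h'.pj.mkFr (by decide +kernel : ∀ m ∈ S0, m ∈ HD3) ha e (Λ := JV)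
      (ap_conj _ (by decide +kernel)) (by decide +kernel) (x := d0) (y := s0 * s1) (by decide +kernel)
    exact ⟨F, b.trans ec, Or.inr (Or.inl a)⟩
  · exact ⟨F, b.trans ec, Or.inr (Or.inr a)⟩

end Co
end W9
end CfsgH7
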