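import Cfsg.Agent.H7.Loc20
import Cfsg.Agent.H7.Loc21

/-! Recognition of `S₉` from the centralizer of `c`. -/

set_option autoImplicit false

namespace CfsgH7
open Subgroup CfsgH5 CfsgH6 CfsgFT CfsgH8 CfsgH9 Equiv CfsgH9.P43 Matrix

universe u

variable {G : Type u} [Group G]

namespace W9

theorem exists_PH {K : Subgroup G} {L : Subgroup (Perm (Fin 9))} (e : K ≃* L) {H0 : Subgroup W}
    (h1 : ∀ m ∈ H0, toP m ∈ L) (h2 : ∀ π ∈ L, ∃ m ∈ H0, toP m = π) :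
    ∃ f, PH H0 f ∧ ∀ g, g ∈ K ↔ ∃ m ∈ H0, f m = g := by
  classical
  refine ⟨fun m => if h : m ∈ H0 then e.symm ⟨_, h1 m h⟩ else 1, ⟨fun {m n} a b => ?_,
    fun {m} a b => ?_⟩, fun g => ⟨fun hg => ?_, ?_⟩⟩
  · simp only [dif_pos a, dif_pos b, dif_pos (mul_mem a b), ← coe_mul, ← map_mul]
    exact congrArg (fun x => (e.symm x : G)) (Subtype.ext (map_mul _ _ _))
  · simp only [dif_pos a, OneMemClass.coe_eq_one, EmbeddingLike.map_eq_one_iff] at b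
    exact toP_inj ((congrArg Subtype.val b).trans (map_one _).symm)
  · obtain ⟨m, a, b⟩ := h2 _ (e ⟨g, hg⟩).2
    exact ⟨m, a, by simp only [dif_pos a, b]; simp⟩
  · rintro ⟨m, a, rfl⟩
    simp only [dif_pos a]
    exact Subtype.prop _

variable [Finite G]

theorem PH.memJ {H0 : Subgroup W} {f : W → G} (h : PH H0 f) (le : J0 ≤ H0) {J : Subgroup G}
    (h1 : ∀ g ∈ J, ∃ m ∈ H0, f m = g) (ab : Ab J) (h3 : ∀ j ∈ J, j ^ 3 = 1)
    (hc : Nat.card J = 27) {g : G} : g ∈ J ↔ ∃ m ∈ J0, f m = g := by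
  choose! φ a b using h1
  have h2 : ∀ g ∈ J, φ g ^ 3 = 1 := fun g hg => h.pow_eq' (a g hg) (by rw [b g hg, h3 g hg])
  have h4 : J ≤ h.im J0 := fun x hx => h.mem_im.mpr ⟨_, by_contra fun hn => by
    have h5 : ∀ y : J, ∃ w : Fin 3 × Fin 3, φ y =
        φ x ^ w.1.val * (a0 * (φ x * a0 * (φ x)⁻¹) * ((φ x)⁻¹ * a0 * φ x)) ^ w.2.val := fun y => by
      obtain ⟨i, j, e⟩ := cube_out _ (h2 x hx) hn _ (h2 y y.2) (h.comm' (a x hx) (a y y.2) (by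
        rw [b x hx, b y y.2]; exact ab.comm hx y.2))
      exact ⟨(i, j), e⟩
    choose ψ hψ using h5
    have := Nat.card_le_card_of_injective ψ fun v w e => Subtype.ext (by
      rw [← b v v.2, ← b w w.2, hψ v, hψ w, e])
    simp [hc] at this, a x hx, b x hx⟩
  rw [eq_of_le_of_card_ge h4 (by rw [h.card_im, inf_eq_left.mpr le, card_J0, hc]), h.mem_im]
  exact ⟨fun ⟨m, a, _, b⟩ => ⟨m, a, b⟩, fun ⟨m, a, b⟩ => ⟨m, a, le a, b⟩⟩

theorem s9_main {f : W → G} (h : PH HS3 f) {J : Subgroup G}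
    (hC : ∀ g, g ∈ C1 (f c0) ↔ ∃ m ∈ HS3, f m = g) (hJ : ∀ {g}, g ∈ J ↔ ∃ m ∈ J0, f m = g)
    (hs : Sig3 J) : N J = ⊤ ∨ Nonempty (G ≃* Perm (Fin 9)) := by
  have le : ∀ {m}, m ∈ J0 → m ∈ HS3 := fun {m} =>
    (by decide +kernel : ∀ m, m ∈ J0 → m ∈ HS3) m
  have jm : ∀ v, jw v ∈ J0 := fun v => jv_mem _ _ _
  have hc : C1 (f c0) ≤ N J := fun g hg => by
    obtain ⟨m, a, rfl⟩ := (hC g).mp hg
    refine mem_N_of_conj fun x hx => ?_
    obtain ⟨j, b, rfl⟩ := hJ.mp hx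
    exact hJ.mpr ⟨_, J0_nrm m b, h.conj' a (le b)⟩
  have act : ∀ m ∈ HS3, ∀ A, (∀ v, m * jw v * m⁻¹ = jw (A *ᵥ v)) → Act (fun v => f (jw v)) (f m) A :=
    fun m a A e v => h.conj a (le (jm v)) (e v)
  have co : Co (fun v => f (jw v)) J := {
    add v w := (h.mul' (le (jm v)) (le (jm w)) ((by decide +kernel : ∀ v w, jw v * jw w =
      jw (v + w)) v w)).symm
    inj v w e := (by decide +kernel : ∀ v w, jw v = jw w → v = w) v w
      (h.inj (le (jm v)) (le (jm w)) e)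
    memJ := hJ.trans ⟨fun ⟨m, a, b⟩ => ⟨vw m, by
      rwa [(by decide +kernel : ∀ m ∈ J0, jw (vw m) = m) m a]⟩, fun ⟨v, e⟩ => ⟨_, jm v, e⟩⟩
    cJ g hg := by
      obtain ⟨m, a, rfl⟩ := (hC g).mp (mem_C1.mpr (mem_C.mp hg _ (hJ.mpr ⟨c0, by decide, rfl⟩)).symm)
      have : ∀ x ∈ J0, m * x = x * m := fun x hx =>
        h.comm' a (le hx) (mem_C.mp hg _ (hJ.mpr ⟨x, hx, rfl⟩)).symm
      exact hJ.mpr ⟨m, cent_J0 m (this _ (by decide)) (this _ (by decide)) (this _ (by decide)), rfl⟩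
    hX := ⟨_, act σ0 (by decide) _ (by decide +kernel)⟩
    hT := ⟨_, act r0 (by decide) _ (by decide +kernel)⟩
    fix g A a e := by
      obtain ⟨m, b, rfl⟩ := (hC g).mp (mem_C1_iff_conj.mpr ((a ![1, 1, 1]).trans (by rw [e]; rfl)))
      obtain ⟨P, c, d⟩ := (by decide +kernel : ∀ s0 s1 s2 p, mkL s0 s1 s2 p ∈ HS3 → ∃ P ∈ B0, ∀ v,
        mkL s0 s1 s2 p * jw v * (mkL s0 s1 s2 p)⁻¹ = jw (P *ᵥ v)) _ _ _ _
          ((by decide +kernel : ∀ m ∈ HS3, lin m ∈ HS3) m b)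
      have := act m b P fun v => by
        have k := J0_comm (lin_J m) (J0_nrm (lin m) (jm v))
        rw [← d v]
        calc _ = m * (lin m)⁻¹ * (lin m * jw v * (lin m)⁻¹) * (m * (lin m)⁻¹)⁻¹ := by group
          _ = _ := by rw [k, mul_inv_cancel_right]; rfl
      rwa [show A = P from Matrix.ext_iff_mulVec.mpr fun v => (by decide +kernel : ∀ v w,
        jw v = jw w → v = w) _ _ (h.inj (le (jm _)) (le (jm _)) ((a v).symm.trans (this v)))] }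
  rcases co.main with e | ⟨F, e, k | k | k⟩
  · exact Or.inl (Fr.caseS3 ⟨h, (by decide +kernel : ∀ m ∈ S0, m ∈ HS3), hJ,
      ⟨fun a => (hC _).mp (e a), fun a => hc ((hC _).mpr a)⟩⟩ hs hc)
  exacts [Or.inl (k.caseD12 hs (e ▸ hc)), Or.inl (k.caseD3 hs (e ▸ hc)), k.caseB3 hs (e ▸ hc)]

end W9
end CfsgH7
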