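import Cfsg.Agent.H7.Loc22
import Cfsg.Agent.H7.Loc24
import Cfsg.Agent.H3.N9Main

/-! Recognition of `A₉` from the normalizer of `3³`. -/

set_option autoImplicit false

namespace CfsgH7
open Subgroup CfsgH5 CfsgH6 CfsgFT CfsgH8 CfsgH9 Equiv

universe u

variable {G : Type u} [Group G] [Finite G]

namespace W9

def Lw : Fin 24 → W := ![mkL false false false .e0, mkL false true true .e0, mkL true false true .e0,
  mkL true true false .e0, mkL false true false .o0, mkL false false true .o0, mkL true false false .o0,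
  mkL true true true .o0, mkL false false true .o1, mkL true false false .o1, mkL false true false .o1,
  mkL true true true .o1, mkL false false false .e1, mkL true false true .e1, mkL true true false .e1,
  mkL false true true .e1, mkL false false false .e2, mkL true true false .e2, mkL false true true .e2,
  mkL true false true .e2, mkL true false false .o2, mkL false true false .o2, mkL false false true .o2,
  mkL true true true .o2]

noncomputable def φ9 (m : CfsgH3.N9.M) : W :=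
  jv (Fin.ofNat 3 m.v.val) (Fin.ofNat 3 (m.v.val / 3)) (Fin.ofNat 3 (m.v.val / 9)) * Lw m.w

theorem φ9_act : ∀ m i, toP (φ9 m) i = CfsgH3.N9.act m i := by decide +kernel
theorem φ9_mul (m n : CfsgH3.N9.M) : φ9 (m * n) = φ9 m * φ9 n := toP_inj (Equiv.ext fun i => by
  rw [map_mul, Perm.mul_apply, φ9_act, φ9_act, φ9_act, CfsgH3.N9.act_mul])
theorem φ9_mem : ∀ m, φ9 m ∈ HE false ∧ (φ9 m = 1 → m = 1) ∧ (φ9 m ∈ J0 ↔ m.w = 0) := by
  decide +kernel
theorem φ9_surj : ∀ m ∈ HE false, ∃ w, φ9 ⟨Fin.ofNat 27 (m.x0.a + 3 * m.x1.a + 9 * m.x2.a), w⟩ = m := by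
  decide +kernel

noncomputable instance (m : W) : Decidable (m ∈ X0) := inferInstanceAs (Decidable (m ∈ [1, a0, a0⁻¹]))

namespace Fr
variable {F : W → G} {J : Subgroup G} (h : Fr (HE false) F J)
include h

theorem centC (hO : Opc 3 (C1 (F c0)) = ⊥) : C1 (F c0) ≤ N J := by
  have := Fact.mk Nat.prime_three
  have mc : c0 ∈ HE false := by decide
  have mb : b0 ∈ HE false := by decide
  have c3 : F c0 ^ 3 = 1 := h.pow_eq mc (by decide)
  have k1 : ∀ g ∈ C1 (F c0), g ∈ N J → g ∈ h.im S0 := fun g a b => by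
    obtain ⟨m, e, rfl⟩ := h.memN.mp b
    exact (h.mem_im' e).mpr ((by decide +kernel : ∀ m ∈ HE false, m * c0 = c0 * m → m ∈ S0) m e
      (h.comm' e mc (mem_C1.mp a)))
  have hS : SylIn 3 (h.im S0) (C1 (F c0)) := h.sylS.of_le (fun g hg => by
    obtain ⟨m, a, b, rfl⟩ := h.mem_im.mp hg
    exact mem_C1.mpr (h.comm b mc ((by decide +kernel : ∀ m ∈ S0, m * c0 = c0 * m) m a))) le_top
  have hZ : zpowers (F c0) ≤ J := zpowers_le.mpr (h.mJ (by decide))
  have hJ := h.J_le_S.trans hS.le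
  obtain ⟨Q, _, _, π, s⟩ := exists_sec (hZ.trans hJ) (nrm_of_le_C (C_zpowers _).ge)
  have cZ : Nat.card (zpowers (F c0)) = 3 := by
    rw [Nat.card_zpowers, orderOf_three (h.ne mc (by decide)) c3]
  have hS' := hS.img Nat.prime_three π le_rfl
  have bX : F b0 ∈ C1 (F c0) := hJ (h.mJ (by decide))
  have p1 : PNil 3 (C1 (F b0) ⊓ C1 (F c0)) := (h.sylJ (le_inf (le_C1_iff.2 (h.ab (h.mJ (by decide)))) hJ)
    mb inf_le_left (by decide +kernel)).pNil_of_le_C Nat.prime_three fun g hg => by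
      obtain ⟨m, a, rfl⟩ := h.memN.mp hg.2
      exact h.ab (h.mJ ((by decide +kernel : ∀ m ∈ HE false, m * c0 = c0 * m → m * b0 = b0 * m →
        m ∈ J0) m a (h.comm' a mc (mem_C1.mp hg.1.2)) (h.comm' a mb (mem_C1.mp hg.1.1))))
  have cJ : Nat.card (img π J) = 9 := by
    have := s.card_img hZ hJ
    rw [cZ, h.card_J] at this; omega
  have p2 : img π J ≤ Jt 3 (img π (h.im S0)) := MaxEl.le_Jt ⟨img_mono _ h.J_le_S,
    ElAb.img π ⟨fun _ a _ b => h.ab.comm a b, h.exp⟩, fun B b1 b2 => by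
      have c1 := s.card_img (hZ.trans h.J_le_S) hS.le
      rw [cZ, h.card_S] at c1
      have c2 := card_dvd_of_le b1
      rw [show Nat.card (img π (h.im S0)) = 3 ^ 3 by omega, Nat.dvd_prime_pow Nat.prime_three] at c2
      obtain ⟨k, k3, c2⟩ := c2
      by_contra c5
      have c4 : k = 3 := by
        rw [cJ, c2] at c5
        interval_cases k <;> simp at c5 ⊢
      have m1 : F a0 ∈ h.im S0 := (h.mem_im' (by decide)).mpr (by decide)
      have m2 : F σ0 ∈ h.im S0 := (h.mem_im' (by decide)).mpr (by decide)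
      rw [eq_of_le_of_card_ge b1 (by rw [c2, c4]; omega)] at b2
      have := b2.1 _ (mem_img_of_mem π (hS.le m1) m1) _ (mem_img_of_mem π (hS.le m2) m2)
      rw [← map_mul, ← map_mul, s.eq_iff] at this
      change F a0 * F σ0 * (F σ0 * F a0)⁻¹ ∈ _ at this
      have m3 : a0 * σ0 * (σ0 * a0)⁻¹ ∈ HE false := by decide
      rw [← h.mul (by decide) (by decide), ← h.mul (by decide) (by decide), ← h.inv (by decide),
        ← h.mul (by decide) (by decide)] at this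
      rcases mem_zpowers_three c3 this with e | e | e
      · exact h.ne m3 (by decide) e
      · exact absurd (h.inj m3 mc e) (by decide)
      · rw [← h.inv mc] at e
        exact absurd (h.inj m3 (inv_mem mc) e) (by decide)⟩
  have p3 := thompson_pNil (by norm_num) hS' ((p1.img Nat.prime_three π inf_le_right).of_subgroup
    fun x hx e => by
      obtain ⟨x, rfl⟩ := s.surj x
      obtain ⟨n, e1, e2⟩ := exists_lift_coprime Nat.prime_three π x e
      have e3 := mem_centralizer_iff.mp (e2 ▸ hx.2) (π ⟨_, bX⟩) <| mem_Zo.mpr ⟨mem_img_of_mem π bX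
        ((h.mem_im' mb).mpr (by decide)), by
          rw [← map_pow, s.ker, coe_pow, h.pow_eq mb (by decide)]; exact one_mem _, fun y hy => by
          obtain ⟨y, hy', _, rfl⟩ := mem_img'.mp hy
          obtain ⟨m, a, b, rfl⟩ := h.mem_im.mp hy'
          rw [← map_mul, ← map_mul, s.eq_iff]
          change F m * F b0 * (F b0 * F m)⁻¹ ∈ _
          obtain ⟨i, e⟩ := (by decide +kernel : ∀ m ∈ S0, ∃ i : Fin 3,
            m * b0 * (b0 * m)⁻¹ = c0 ^ i.val) m a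
          rw [← h.mul b mb, ← h.mul mb b, ← h.inv (mul_mem mb b),
            ← h.mul (mul_mem b mb) (inv_mem (mul_mem mb b)), e, h.pow mc]
          exact pow_mem (mem_zpowers _) _⟩
      rw [← e2]
      generalize x ^ n = y at e1 e3
      rw [← map_mul, ← map_mul, s.eq_iff] at e3
      refine mem_img_of_mem π y.2 ⟨mem_of_pow_mem_of_coprime' (n := 3) (by rwa [orderOf_coe]) ?_, y.2⟩
      change F b0 * y * (y * F b0)⁻¹ ∈ _ at e3
      obtain ⟨z, e4⟩ : ∃ z, F b0 * y * (y * F b0)⁻¹ = z := ⟨_, rfl⟩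
      rw [e4] at e3
      have e5 : Commute z y := mem_C.mp ((C_zpowers (F c0)).ge y.2) z e3
      have e6 : z ^ 3 = 1 := h.exp z (hZ e3)
      have e7 : (F b0 * y * (F b0)⁻¹) ^ 3 = y ^ 3 := by
        rw [show F b0 * y * (F b0)⁻¹ = z * y by rw [← e4]; group, e5.mul_pow, e6, one_mul]
      rw [conj_pow, mul_inv_eq_iff_eq_mul] at e7
      exact mem_C1.mpr e7.symm)
    ((pNil_of_isPGroup hS'.isPGroup).mono fun x hx => by
      obtain ⟨x, rfl⟩ := s.surj x
      refine mem_img_of_mem π x.2 (k1 x x.2 (h.weak fun y hy => ?_))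
      obtain ⟨j, a, rfl⟩ := mem_cj'.mp hy
      have := Jt_le _ ((mem_normalizer_iff.mp hx.2 _).mp (p2 (mem_img_of_mem π (hJ a) a)))
      rw [← map_inv, ← map_mul, ← map_mul, s.mem_img (hZ.trans h.J_le_S)] at this
      exact h.im_le _ this)
  have k2 : zpowers (F c0) ≤ pre π p3.compl := fun z hz =>
    (mem_pre' (s.le hz)).mpr ((s.ker ⟨z, _⟩).mpr hz ▸ one_mem _)
  have k3 := le_of_opc_central c3 (k2 (mem_zpowers _)) (pre_le π _)
    (nrm_pre_of_img le_rfl (p3.nrm_compl (Nrm.self _))) le_rfl hO (by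
      have := s.card_img k2 (pre_le π _)
      rw [img_pre_of_le (by rw [MonoidHom.range_eq_top.mpr s.surj]; exact le_top)] at this
      rw [relIndex_eq_of_mul k2 this]
      exact (Nat.Prime.coprime_iff_not_dvd Nat.prime_three).mp
        (p3.coprime_card_compl Nat.prime_three).symm)
  refine (hS.eq_of_le le_rfl (fun g => ?_) hS.le).le.trans (h.im_le _)
  obtain ⟨k, e⟩ := p3.pow_mem_compl Nat.prime_three (π g) (mem_img_of_mem π g.2 g.2)
  refine ⟨k + 1, Subtype.ext ?_⟩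
  rw [pow_succ, pow_mul]
  exact h.exp _ (hZ (k3 (coe_mem_pre.mpr (by rwa [map_pow]))))

theorem centB (hO : Opc 3 (C1 (F b0)) = ⊥) : C1 (F b0) ≤ N J := by
  have mb : b0 ∈ HE false := by decide
  have mt : t0 ∈ HE false := by decide
  have b3 : F b0 ^ 3 = 1 := h.pow_eq mb (by decide)
  have hZ : zpowers (F b0) ≤ J := zpowers_le.mpr (h.mJ (by decide))
  refine st_sec hZ (le_C1_iff.2 (h.ab (h.mJ (by decide)))) (nrm_of_le_C (C_zpowers _).ge)
    (relIndex_eq_of_mul hZ (by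
      rw [Nat.card_zpowers, orderOf_three (h.ne mb (by decide)) b3, h.card_J]))
    (fun x hx => by rw [h.exp x hx]; exact one_mem _) (mem_C1.mpr (h.comm mt mb (by decide)))
    (fun j hj => ?_) (fun x hx y hy => by
      rw [h.ab.comm hx hy, mul_inv_cancel_right, mul_inv_cancel]; exact one_mem _) (fun g hg e => ?_)
    fun K k1 k2 k3 k4 => (le_of_opc_central b3 (k1 (mem_zpowers _)) k2 k3 le_rfl hO k4).trans hZ
  · obtain ⟨j, a, rfl⟩ := h.memJ.mp hj
    obtain ⟨i, e⟩ := (by decide +kernel : ∀ j ∈ J0, ∃ i : Fin 3, t0 * j * t0⁻¹ * j = b0 ^ i.val) j a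
    rw [← h.conj' mt (h.jle a), ← h.mul (h.jle (J0_nrm _ a)) (h.jle a), e, h.pow mb]
    exact pow_mem (mem_zpowers _) _
  · obtain ⟨m, a, rfl⟩ := h.memN.mp e
    rw [← h.mul a mt]
    exact ((by decide +kernel : ∀ m ∈ HE false, m * b0 = b0 * m → m ∈ J0 ∨ m * t0 ∈ J0) m a
      (h.comm' a mb (mem_C1.mp hg))).imp h.mJ h.mJ

theorem sig_of (hc : ∀ j, na j → C1 (F j) ≤ N J) : Sig3 J := fun K h3 hn => by
  have mc : c0 ∈ J0 := by decide
  have mb : b0 ∈ J0 := by decide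
  have k : ∀ j, na j → ∀ m ∈ K, m * F j = F j * m → m ∈ (⊥ : Subgroup G) := fun j a m b e =>
    eq_one_of_pow_of_not_dvd Nat.prime_three b (h.exp _ (h.C_J (mem_C.mpr fun x hx =>
      (h.comm_of_N hx (hn x hx) h3 b (hc j a (mem_C1.mpr e))).symm))) h3
  refine le_bot_iff.mp ((h.b9 (h.jle mb) (h.jle mc) (by decide)).gen (hn _ (h.mJ mb)) (hn _ (h.mJ mc)) h3
    (k b0 (by decide +kernel)) (k c0 (by decide +kernel)) ?_ ?_)
  · rw [← h.mul (h.jle mb) (h.jle mc)]; exact k _ (by decide +kernel)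
  · rw [← h.inv (h.jle mc), ← h.mul (h.jle mb) (h.jle (inv_mem mc))]; exact k _ (by decide +kernel)

theorem top_of_all (hall : ∀ j ∈ J0, j ≠ 1 → C1 (F j) ≤ N J) : N J = ⊤ := by
  have := Fact.mk Nat.prime_three
  let f : CfsgH3.N9.M →* G := MonoidHom.mk' (fun m => F (φ9 m)) fun m n => by
    rw [φ9_mul, h.mul (φ9_mem m).1 (φ9_mem n).1]
  have hf : Function.Injective f := (injective_iff_map_eq_one _).mpr fun m e =>
    (φ9_mem m).2.1 (h.inj1 (φ9_mem m).1 e)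
  have hr : f.range = N J := le_antisymm (fun _ ⟨m, e⟩ => e ▸ h.mN (φ9_mem m).1) fun g hg => by
    obtain ⟨m, a, rfl⟩ := h.memN.mp hg
    obtain ⟨w, e⟩ := φ9_surj m a
    exact ⟨_, congrArg F e⟩
  have fJ : ∀ {m}, m.w = 0 → f m ∈ J := fun {m} e => h.mJ ((φ9_mem m).2.2.mpr e)
  have mc : c0 ∈ HE false := by decide
  have mσ : σ0 ∈ HE false := by decide
  have hc := hall c0 (by decide) (by decide)
  by_cases hσ : ∃ g, g * F σ0 * g⁻¹ = F c0
  swap
  · rw [← hr]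
    refine CfsgH3.N9.Hyp.main ⟨hf, fun j a b => hr ▸ hall _ ((φ9_mem j).2.2.mpr a)
      fun e => b ((φ9_mem j).2.1 e), fun j a g m e => (φ9_mem m).2.2.mp (by_contra fun b => ?_)⟩
    have j0 := (φ9_mem j).2.2.mpr a
    change g * F (φ9 j) * g⁻¹ = F (φ9 m) at e
    obtain ⟨k, c, d⟩ := (by decide +kernel : ∀ m ∈ HE false, m ∉ J0 → m ^ 3 = 1 →
      ∃ k ∈ HE false, k * σ0 * k⁻¹ = m) _ (φ9_mem m).1 b (h.pow_eq' (φ9_mem m).1 (by
        rw [← e, conj_pow, h.exp _ (h.mJ j0)]; group))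
    have e1 : g⁻¹ * F k * F σ0 * (g⁻¹ * F k)⁻¹ = F (φ9 j) := by
      rw [← h.conj c mσ d] at e
      calc _ = g⁻¹ * (F k * F σ0 * (F k)⁻¹) * g := by group
        _ = _ := by rw [← e]; group
    rcases (by decide +kernel : ∀ j ∈ J0, j = 1 ∨ (∀ m, m * j = j * m → m ^ 4 ∈ J0) ∨
      ∃ k ∈ HE false, k * j * k⁻¹ = c0) _ j0 with e2 | e2 | ⟨l, e2, e3⟩
    · exact conj_ne_one (h.ne mσ (by decide)) _ (e1.trans (e2 ▸ h.one))
    · exact h.nσ hc j0 e2 _ e1
    · exact hσ ⟨F l * (g⁻¹ * F k), by rw [← h.conj e2 (h.jle j0) e3, ← e1]; group⟩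
  exfalso
  let _ := Fintype.ofFinite G
  obtain ⟨K, hK, k1, k2⟩ := N9c.Hy.main (f := f) ⟨hf, fun a b ha hb g e => by
    have t : ∀ n : ℕ, (a ^ n).w = 0 → a ^ n ≠ 1 → (b ^ n).w = 0 → g ∈ f.range := fun n e1 e2 e3 =>
      hr ▸ h.ti' hall (fJ e1) (fun e => e2 ((map_eq_one_iff f hf).mp e))
        (by rw [map_pow, ← conj_pow, e, ← map_pow]; exact fJ e3)
    have s1 : ∀ m : CfsgH3.N9.M, (m ^ 12).w = 0 := by decide +kernel
    have s2 : ∀ m, 5 ≤ N9c.cls m → m ^ 12 = 1 → (m ^ 4).w = 0 ∧ m ^ 4 ≠ 1 := by decide +kernel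
    by_cases e1 : a ^ 12 = 1
    · exact t 4 (s2 a ha e1).1 (s2 a ha e1).2 (s2 b hb (hf (by
        rw [map_pow, ← e, conj_pow, ← map_pow, e1]; simp))).1
    · exact t 12 (s1 a) e1 (s1 b), fun e => by
    obtain ⟨g, e⟩ := isConj_iff.mp e.symm
    exact nc_of_syl (h.sylH (X := X0) (show ∀ x ∈ (_ : List W), _ by decide +kernel) (j := a0) (i := d0)
      (by decide +kernel) (hall a0 (by decide) (by decide)) (by decide)
      (show ∀ x ∈ (_ : List W), _ by decide +kernel) (by decide +kernel))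
      (h.comm (x := b0) (y := t0) (by decide) (by decide) (by decide)) (h.pow_eq (by decide) (by decide))
      (h.not_conj (show ∀ x ∈ (_ : List W), _ by decide +kernel) (by decide) (by decide +kernel)) g e⟩
  have md : d0 ∈ HE false := by decide
  have cj : ∀ {x}, x ∈ K → ∀ g, g * x * g⁻¹ ∈ K := fun a => hK.conj_mem _ a
  have k3 : F a1 ∈ K := h.mul' md (by decide) (show d0 * (a1 * d0 * a1⁻¹) = a1 by decide) ▸
    mul_mem k2 (h.conj' (show a1 ∈ HE false by decide) md ▸ cj k2 _)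
  have k4 : F a2 ∈ K := h.conj mσ (by decide) (show σ0 * a1 * σ0⁻¹ = a2 by decide) ▸ cj k3 _
  have hJ := h.J_le (h.conj mσ (by decide) (show σ0 * a2 * σ0⁻¹ = a0 by decide) ▸ cj k4 _) k3 k4
  obtain ⟨g, e⟩ := hσ
  have kσ : F σ0 ∈ K := by simpa [← e, mul_assoc] using cj (hJ (h.mJ (show c0 ∈ J0 by decide))) g⁻¹
  have hS : ∀ m ∈ S0, F m ∈ K := fun m a => by
    obtain ⟨i, b⟩ := (by decide +kernel : ∀ m ∈ S0, ∃ i : Fin 3, m * (σ0 ^ i.val)⁻¹ ∈ J0) m a
    have := mul_mem (hJ (h.mJ b)) (pow_mem kσ i)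
    rwa [← h.pow mσ, ← h.mul (h.jle b) (pow_mem mσ _), inv_mul_cancel_right] at this
  have e1 : g * F c0 * g⁻¹ ∈ C1 (F c0) := mem_C1.mpr (by
    have := comm_conj_both (g := g) (h.comm mc mσ (by decide))
    rwa [e] at this)
  obtain ⟨m, a, e2⟩ := h.memN.mp (hc e1)
  obtain ⟨s, b, e3, e4⟩ := (by decide +kernel : ∀ m ∈ HE false, m * c0 = c0 * m → m ^ 3 = 1 → m ∉ J0 →
    ∃ s ∈ J0, s * m * s⁻¹ = m * c0 ∧ s⁻¹ * m * s⁻¹⁻¹ = m * c0⁻¹) m a
    (h.comm' a mc (e2 ▸ mem_C1.mp e1)) (h.pow_eq' a (by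
      rw [e2, conj_pow, h.pow_eq mc (by decide)]; group)) fun b => by
    have := conj_mem_of_mem_N (inv_mem (h.ti (h.mJ (by decide)) (e2 ▸ h.mJ b) hc))
      (h.mJ (show c0 ∈ J0 by decide))
    exact absurd (h.mJ' mσ (by simpa [← e, mul_assoc] using this)) (by decide)
  have e5 := h.conj (h.jle b) a e3
  have e6 := h.conj (h.jle (inv_mem b)) a e4
  have e7 := h.conj (g := b0) (by decide) (mul_mem mc mσ) (y := (c0 * σ0⁻¹)⁻¹) (by decide)
  rw [h.mul a mc, e2] at e5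
  rw [h.mul a (inv_mem mc), h.inv mc, h.inv (h.jle b), e2] at e6
  rw [h.mul mc mσ, h.inv (mul_mem mc (inv_mem mσ)), h.mul mc (inv_mem mσ), h.inv mσ] at e7
  have eσ : F σ0 = g⁻¹ * F c0 * g := by rw [← e]; group
  have ky : g⁻¹ * F s * g⁻¹⁻¹ ∈ K := cj (hJ (h.mJ b)) _
  have y1 : g⁻¹ * F s * g⁻¹⁻¹ * F c0 * (g⁻¹ * F s * g⁻¹⁻¹)⁻¹ = F c0 * F σ0 := by
    calc _ = g⁻¹ * (F s * (g * F c0 * g⁻¹) * (F s)⁻¹) * g := by group
      _ = _ := by rw [e5, eσ]; group
  have y2 : (g⁻¹ * F s * g⁻¹⁻¹)⁻¹ * F c0 * (g⁻¹ * F s * g⁻¹⁻¹) = F c0 * (F σ0)⁻¹ := by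
    calc _ = g⁻¹ * ((F s)⁻¹ * (g * F c0 * g⁻¹) * (F s)⁻¹⁻¹) * g := by group
      _ = _ := by rw [e6, eσ]; group
  generalize g⁻¹ * F s * g⁻¹⁻¹ = y at ky y1 y2
  have y3 : y * F b0 * y * F c0 * (y * F b0 * y)⁻¹ = (F c0)⁻¹ := by
    calc _ = y * (F b0 * (y * F c0 * y⁻¹) * (F b0)⁻¹) * y⁻¹ := by group
      _ = _ := by rw [y1, e7, ← y2]; group
  obtain ⟨t, a, e8⟩ := h.memN.mp (h.ti (h.mJ (by decide)) (y3 ▸ inv_mem (h.mJ (by decide))) hc)
  have kt : F t ∈ K := e8 ▸ mul_mem (mul_mem ky (hJ (h.mJ (by decide)))) ky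
  have e9 := h.conj_inj a mc (inv_mem mc) (by rw [e8, y3, h.inv mc])
  refine k1 (eq_top_iff.mpr fun g _ => ?_)
  obtain ⟨c, b, e⟩ := (h.sylS.of_le (K := K) (fun x hx => by
    obtain ⟨m, a, -, rfl⟩ := h.mem_im.mp hx
    exact hS m a) le_top).frattini (g := g) ((show Nrm ⊤ K from fun g _ _ a => cj a g).cj_eq (mem_top g))
  refine (mul_mem_cancel_left b).mp ?_
  obtain ⟨m, d, e'⟩ := h.memN.mp (h.N_S (mem_N.mpr e))
  have e1 := conj_mem_of_mem_N (mem_N.mpr e) ((h.mem_im' mσ).mpr (by decide))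
  rw [← e', ← h.conj' d mσ, h.mem_im' (mul_mem (mul_mem d mσ) (inv_mem d))] at e1
  rw [← e']
  have q1 := (by decide +kernel : ∀ t ∈ HE false, t * c0 * t⁻¹ = c0⁻¹ → t * t0 ∈ S0) t a e9
  rcases (by decide +kernel : ∀ m ∈ HE false, m * σ0 * m⁻¹ ∈ S0 → m ∈ S0 ∨ m * t0 ∈ S0) m d e1
    with q | q
  · exact hS m q
  · have mt : t0 ∈ HE false := by decide
    have := hS _ q1
    rw [h.mul a mt, mul_mem_cancel_left kt] at this
    exact (mul_mem_cancel_right this).mp (h.mul d mt ▸ hS _ q)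

theorem a9_main (hO : ∀ x ∈ J0, x ≠ 1 → Opc 3 (C1 (F x)) = ⊥) : N J = ⊤ ∨ Nonempty (G ≃* A9) := by
  have hc : ∀ j, na j → C1 (F j) ≤ N J := fun j a => h.of_reps [b0, c0] (by
    simpa using ⟨h.centB (hO _ (by decide) (by decide)), h.centC (hO _ (by decide) (by decide))⟩) a.1
    ((by decide +kernel : ∀ j, na j → ∃ k ∈ HE false, k * j * k⁻¹ ∈ [b0, c0]) j a)
  refine (h.coreA (h.sig_of hc) hc).imp_left fun e => h.top_of_all fun j a b => ?_
  by_cases c : na j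
  · exact hc j c
  · exact h.of_reps [a0] (by simpa using ((C_zpowers _).ge.trans (C_le_N _)).trans e) a
      ((by decide +kernel : ∀ j ∈ J0, j ≠ 1 → ¬ na j → ∃ k ∈ HE false, k * j * k⁻¹ ∈ [a0]) j a b c)

end Fr
end W9
end CfsgH7
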