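import Cfsg.Agent.H7.Loc2

/-! Endgames: a strongly 3-embedded `A₈, A₉, S₈, S₉` is the whole group. -/

set_option autoImplicit false

namespace CfsgH7
open Subgroup CfsgH5 CfsgH6 CfsgFT CfsgH8 CfsgH9 Equiv

universe u
variable {G : Type u} [Group G]

abbrev A9 := alternatingGroup (Fin 9)

/-- extension of a permutation by a new fixed last point. -/
def extL (n : ℕ) : Perm (Fin n) →* Perm (Fin (n + 1)) where
  toFun σ := finSuccEquivLast.symm.permCongr (Equiv.optionCongr σ)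
  map_one' := by ext x; simp
  map_mul' σ τ := by ext x; simp

theorem sign_extL {n : ℕ} (σ : Perm (Fin n)) : Perm.sign (extL n σ) = Perm.sign σ := by
  change Perm.sign (finSuccEquivLast.symm.permCongr (Equiv.optionCongr σ)) = _
  rw [Perm.sign_permCongr, Equiv.optionCongr_sign]

theorem extL_injective (n : ℕ) : Function.Injective (extL n) := fun _ _ e =>
  Equiv.optionCongr_injective ((finSuccEquivLast.symm.permCongr).injective e)

/-- `A_n → A_{n+1}`. -/
def extA (n : ℕ) : alternatingGroup (Fin n) →* alternatingGroup (Fin (n + 1)) :=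
  ((extL n).comp (alternatingGroup (Fin n)).subtype).codRestrict _ fun x => by
    rw [Perm.mem_alternatingGroup]
    exact (sign_extL _).trans (Perm.mem_alternatingGroup.mp x.2)

theorem extA_injective (n : ℕ) : Function.Injective (extA n) := fun _ _ e =>
  Subtype.ext (extL_injective n (congrArg Subtype.val e))

theorem apply_comm {α : Type*} {h a : Perm α} (e : h * a = a * h) (x : α) : h (a x) = a (h x) :=
  DFunLike.congr_fun e x

theorem isConj_of_support {α : Type*} [Fintype α] [DecidableEq α] {σ τ : Perm α} {p : ℕ}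
    (hp : p.Prime) (h1 : σ ^ p = 1) (h2 : τ ^ p = 1) (h : σ.support.card = τ.support.card) :
    ∃ π : Perm α, π * σ * π⁻¹ = τ := by
  have := Fact.mk hp
  have e1 := Perm.cycleType_of_pow_prime_eq_one h1
  have e2 := Perm.cycleType_of_pow_prime_eq_one h2
  rw [← Perm.sum_cycleType, ← Perm.sum_cycleType, e1, e2, Multiset.sum_replicate,
    Multiset.sum_replicate, smul_eq_mul, smul_eq_mul] at h
  refine isConj_iff.mp (Perm.isConj_iff_cycleType_eq.mpr ?_)
  rw [e1, e2, Nat.eq_of_mul_eq_mul_right hp.pos h]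

theorem dvd_card_support {α : Type*} [Fintype α] [DecidableEq α] {σ : Perm α} {p : ℕ}
    (hp : p.Prime) (h1 : σ ^ p = 1) : p ∣ σ.support.card := by
  have := Fact.mk hp
  rw [← Perm.sum_cycleType, Perm.cycleType_of_pow_prime_eq_one h1, Multiset.sum_replicate,
    smul_eq_mul]
  exact dvd_mul_left _ _

theorem invol_cent_three {n : ℕ} (hn : n ≤ 9) (e x : Fin 5 → Perm (Fin n))
    (h : ∀ m, e m ^ 2 = 1 ∧ (e m).support.card = 2 * m.val ∧ x m ≠ 1 ∧ x m ^ 3 = 1 ∧
      x m * e m = e m * x m) (u : Perm (Fin n)) (hu : u * u = 1) :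
    ∃ w : Perm (Fin n), w ≠ 1 ∧ w ^ 3 = 1 ∧ w * u = u * w := by
  have hu' : u ^ 2 = 1 := by rw [pow_two, hu]
  obtain ⟨m, hm⟩ := dvd_card_support Nat.prime_two hu'
  have h1 : u.support.card ≤ n := by simpa using Finset.card_le_univ u.support
  obtain ⟨h2, h3, h4, h5, h6⟩ := h ⟨m, by omega⟩
  obtain ⟨π, h7⟩ := isConj_of_support Nat.prime_two h2 hu' (h3.trans hm.symm)
  have h8 := comm_conj_both (g := π) h6
  rw [h7] at h8
  exact ⟨_, conj_ne_one h4 π, by rw [conj_pow, h5]; simp, h8⟩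

theorem sign_conj' {α : Type*} [Fintype α] [DecidableEq α] (π σ : Perm α) :
    Perm.sign (π * σ * π⁻¹) = Perm.sign σ := by
  rw [map_mul, map_mul, map_inv, mul_comm (Perm.sign π), mul_inv_cancel_right]

theorem sign_of_cube {α : Type*} [Fintype α] [DecidableEq α] {σ : Perm α} {k : ℕ}
    (h : σ ^ (2 * k + 1) = 1) : Perm.sign σ = 1 := by
  have := congrArg Perm.sign h
  rw [map_pow, map_one, pow_succ, pow_mul, Int.units_sq, one_pow, one_mul] at this
  exact this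

theorem inv3_8 (u : Perm (Fin 8)) (hu : u * u = 1) :
    ∃ w : Perm (Fin 8), w ≠ 1 ∧ w ^ 3 = 1 ∧ w * u = u * w :=
  invol_cent_three (by norm_num) ![1, swap 0 1, E8.a, E8.a.1 * swap 4 5, E8.i]
    ![E8.z2, E8.z2, E8.z2, E8.y, E8.y] (by decide +kernel) u hu

theorem inv3_9 (u : Perm (Fin 9)) (hu : u * u = 1) :
    ∃ w : Perm (Fin 9), w ≠ 1 ∧ w ^ 3 = 1 ∧ w * u = u * w :=
  invol_cent_three (by norm_num)
    ![1, swap 0 1, extA 8 E8.a, (extA 8 E8.a).1 * swap 4 5, extA 8 E8.i]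
    ![extA 8 E8.z2, extA 8 E8.z2, extA 8 E8.z2, extA 8 E8.y, extA 8 E8.y] (by decide +kernel) u hu

namespace E9
def a : Perm (Fin 9) := extA 8 E8.a
def b : Perm (Fin 9) := extA 8 E8.b
def c : Perm (Fin 9) := extA 8 E8.c
def d : Perm (Fin 9) := extA 8 E8.d
def y : Perm (Fin 9) := extA 8 E8.y
def i : Perm (Fin 9) := extA 8 E8.i

set_option synthInstance.maxSize 2048 in
theorem f1_aux : ∀ p : Fin 9, c p = p → a p ≠ p → ∀ q : Fin 9, a q = q → c q ≠ q → ∀ r : Fin 9,
    a r = r → c r = r → ∀ k, ![p, a p, b p, a (b p), q, c q, d q, c (d q), r]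
      (![p, a p, b p, a (b p), q, c q, d q, c (d q), r] k) = k := by decide +kernel

theorem F1 (h : Perm (Fin 9)) (ha : h * a = a * h) (hb : h * b = b * h) (hc : h * c = c * h)
    (hd : h * d = d * h) : h * h = 1 := by
  have e : ⇑h = ![h 0, a (h 0), b (h 0), a (b (h 0)), h 4, c (h 4), d (h 4), c (d (h 4)), h 8] := by
    simp only [← apply_comm ha, ← apply_comm hb, ← apply_comm hc, ← apply_comm hd]
    funext k
    fin_cases k <;> rfl
  ext k
  have := f1_aux (h 0) (by rw [← apply_comm hc]; rfl)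
    (by rw [← apply_comm ha]; exact h.injective.ne (by decide)) (h 4)
    (by rw [← apply_comm ha]; rfl) (by rw [← apply_comm hc]; exact h.injective.ne (by decide))
    (h 8) (by rw [← apply_comm ha]; rfl) (by rw [← apply_comm hc]; rfl) k
  rw [← e] at this
  exact congrArg Fin.val this

set_option synthInstance.maxSize 2048 in
theorem f2_aux : ∀ p : Fin 9, y p ≠ p → ∀ q : Fin 9, y q = q → i q ≠ q → ∀ r : Fin 9,
    i r = r → ∃ j : Fin 3, ∃ l m : Fin 2, ∀ k, ![p, i p, y p, y (i p), y (y p), y (y (i p)), q,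
      i q, r] k = (y ^ j.val * i ^ l.val * swap (6 : Fin 9) 7 ^ m.val) k := by decide +kernel

theorem F2 (h : Perm (Fin 9)) (hs : Perm.sign h = 1) (hy : h * y = y * h) (hi : h * i = i * h) :
    ∃ j : Fin 3, ∃ l : Fin 2, h = y ^ j.val * i ^ l.val := by
  have e : ⇑h = ![h 0, i (h 0), y (h 0), y (i (h 0)), y (y (h 0)), y (y (i (h 0))), h 6,
      i (h 6), h 8] := by
    simp only [← apply_comm hy, ← apply_comm hi]
    funext k
    fin_cases k <;> rfl
  obtain ⟨j, l, m, hm⟩ := f2_aux (h 0) (by rw [← apply_comm hy]; exact h.injective.ne (by decide))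
    (h 6) (by rw [← apply_comm hy]; rfl) (by rw [← apply_comm hi]; exact h.injective.ne (by decide))
    (h 8) (by rw [← apply_comm hi]; rfl)
  rw [← e] at hm
  have e' : h = y ^ j.val * i ^ l.val * swap (6 : Fin 9) 7 ^ m.val := Equiv.ext hm
  refine ⟨j, l, ?_⟩
  fin_cases m
  · simpa using e'
  · exfalso
    rw [e', map_mul, map_mul, map_pow, map_pow, show Perm.sign y = 1 from (extA 8 E8.y).2,
      show Perm.sign i = 1 from (extA 8 E8.i).2] at hs
    simp at hs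

theorem F4 (h : Perm (Fin 9)) : h * a * h⁻¹ ≠ i := fun e => by
  have h1 : ∀ k, a k = k → h k = 8 := fun k hk => by
    have : i (h k) = h k := by rw [← e]; simp [hk]
    revert this
    generalize h k = q
    revert q
    decide +kernel
  exact absurd (h.injective ((h1 4 rfl).trans (h1 5 rfl).symm)) (by decide)

end E9

theorem zp_cases {i y h : G} (j : Fin 3) (l : Fin 2) (hy : y ^ 3 = 1) (hc : y * i = i * y)
    (e : h = y ^ j.val * i ^ l.val) :
    h ∈ zpowers i ∨ h * y⁻¹ ∈ zpowers i ∨ h * y ∈ zpowers i := by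
  have h1 : i ^ l.val ∈ zpowers i := pow_mem (mem_zpowers i) _
  rw [(Commute.pow_pow hc _ _).eq] at e
  fin_cases j
  · exact Or.inl (by simpa [e] using h1)
  · exact Or.inr (Or.inl (by simpa [e] using h1))
  · refine Or.inr (Or.inr ?_)
    rw [e, mul_assoc, ← pow_succ]
    simpa [hy] using h1

theorem card_A8 : Nat.card A8 = 20160 := by rw [nat_card_alternatingGroup]; simp [Nat.factorial]
theorem card_A9 : Nat.card A9 = 181440 := by rw [nat_card_alternatingGroup]; simp [Nat.factorial]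

theorem card_range_inj {H : Type*} [Group H] {ψ : H →* G} (hψ : Function.Injective ψ) :
    Nat.card ψ.range = Nat.card H := (Nat.card_congr (MonoidHom.ofInjective hψ).toEquiv).symm

/-- a 7-cycle. -/
def c7 : Perm (Fin 8) := swap 0 1 * swap 1 2 * swap 2 3 * swap 3 4 * swap 4 5 * swap 5 6
/-- multiplication by 3 mod 7. -/
def m7 : Perm (Fin 8) := swap 1 3 * swap 3 2 * swap 2 6 * swap 6 4 * swap 4 5

set_option synthInstance.maxSize 2048 in
theorem seven_aux1 : ∀ j : Fin 7, ∀ p q : Fin 8, (c7 ^ j.val) p ≠ p → (c7 ^ j.val) q = q →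
    ∃ l : Fin 7, ∃ m : Fin 6, ∀ t, ![p, (c7 ^ j.val) p, (c7 ^ j.val) ((c7 ^ j.val) p),
      (c7 ^ j.val) ((c7 ^ j.val) ((c7 ^ j.val) p)),
      (c7 ^ j.val) ((c7 ^ j.val) ((c7 ^ j.val) ((c7 ^ j.val) p))),
      (c7 ^ j.val) ((c7 ^ j.val) ((c7 ^ j.val) ((c7 ^ j.val) ((c7 ^ j.val) p)))),
      (c7 ^ j.val) ((c7 ^ j.val) ((c7 ^ j.val) ((c7 ^ j.val) ((c7 ^ j.val) ((c7 ^ j.val) p))))),
      q] t = (c7 ^ l.val * m7 ^ m.val) t := by decide +kernel

theorem seven_aux2 : ∀ l : Fin 7, ∀ m : Fin 6, (c7 ^ l.val * m7 ^ m.val) ^ 10 = 1 →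
    m.val % 2 = 0 → c7 ^ l.val * m7 ^ m.val = 1 := by decide +kernel

theorem seven_fact (x h : Perm (Fin 8)) (hx : orderOf x = 7) (hs : Perm.sign h = 1)
    (hn : h * x * h⁻¹ ∈ zpowers x) (h10 : h ^ 10 = 1) : h = 1 := by
  have := Fact.mk (show Nat.Prime 7 by norm_num)
  have hx7 : x ^ 7 = 1 := hx ▸ pow_orderOf_eq_one x
  have hsup : x.support.card = 7 := by
    obtain ⟨m, hm⟩ := dvd_card_support (by norm_num) hx7
    have h1 : x.support.card ≤ 8 := by simpa using Finset.card_le_univ x.support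
    have h2 : x.support.card ≠ 0 := fun e => by
      rw [Finset.card_eq_zero, Perm.support_eq_empty_iff] at e
      rw [e, orderOf_one] at hx; omega
    omega
  have hc7' : c7 ^ 7 = 1 := by decide +kernel
  obtain ⟨π, rfl⟩ := isConj_of_support (σ := c7) (by norm_num) hc7' hx7
    (by rw [hsup]; decide +kernel)
  obtain ⟨k, rfl⟩ : ∃ k, h = π * k * π⁻¹ := ⟨π⁻¹ * h * π, by group⟩
  have hk10 : k ^ 10 = 1 := by
    rw [conj_pow] at h10
    simpa [mul_inv_eq_iff_eq_mul] using h10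
  have hks : Perm.sign k = 1 := by
    rwa [sign_conj'] at hs
  have hkn : k * c7 * k⁻¹ ∈ zpowers c7 := by
    rw [← cj_zpowers, mem_cj] at hn
    convert hn using 1; group
  suffices k = 1 by simp [this]
  have hc7 : orderOf c7 = 7 := by rwa [orderOf_conj'] at hx
  obtain ⟨j, hj, e⟩ : ∃ j : ℕ, j < 7 ∧ k * c7 = c7 ^ j * k := by
    rw [mem_zpowers_iff_mem_range_orderOf, hc7] at hkn
    obtain ⟨j, hj, e⟩ := Finset.mem_image.mp hkn
    exact ⟨j, Finset.mem_range.mp hj, by rw [e]; group⟩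
  have e1 : ∀ x, k (c7 x) = (c7 ^ j) (k x) := fun x => DFunLike.congr_fun e x
  have e2 : ⇑k = ![k 0, (c7 ^ j) (k 0), (c7 ^ j) ((c7 ^ j) (k 0)),
      (c7 ^ j) ((c7 ^ j) ((c7 ^ j) (k 0))), (c7 ^ j) ((c7 ^ j) ((c7 ^ j) ((c7 ^ j) (k 0)))),
      (c7 ^ j) ((c7 ^ j) ((c7 ^ j) ((c7 ^ j) ((c7 ^ j) (k 0))))),
      (c7 ^ j) ((c7 ^ j) ((c7 ^ j) ((c7 ^ j) ((c7 ^ j) ((c7 ^ j) (k 0)))))), k 7] := by
    simp only [← e1]
    funext k
    fin_cases k <;> rfl
  obtain ⟨l, m, e4⟩ := seven_aux1 ⟨j, hj⟩ (k 0) (k 7)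
    (by rw [← e1]; exact k.injective.ne (by decide)) (by rw [← e1]; rfl)
  rw [← e2] at e4
  have e5 : k = _ := Equiv.ext e4
  rw [e5] at hk10 hks ⊢
  refine seven_aux2 l m hk10 ?_
  rw [map_mul, map_pow, map_pow, sign_of_cube (k := 3) hc7',
    show Perm.sign m7 = -1 by decide +kernel, one_pow, one_mul,
    neg_one_pow_eq_one_iff_even (by decide)] at hks
  exact Nat.even_iff.mp hks

theorem f6_A8 (L : Subgroup A8) (h3 : ¬ 3 ∣ Nat.card L) (h : 105 ≤ Nat.card L) :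
    32 ∣ Nat.card L := by
  have := Fact.mk (show Nat.Prime 7 by norm_num)
  have h1 : Nat.card L ∣ 2240 :=
    Nat.Coprime.dvd_of_dvd_mul_left (Nat.Coprime.pow_right 2
      ((Nat.Prime.coprime_iff_not_dvd Nat.prime_three).mpr h3).symm)
      (by have := card_subgroup_dvd_card L; rwa [card_A8] at this)
  by_contra h32
  have h7 : Nat.card L = 112 ∨ Nat.card L = 140 ∨ Nat.card L = 280 ∨ Nat.card L = 560 := by
    obtain ⟨k, hk⟩ := h1
    have : k ≤ 21 := by nlinarith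
    interval_cases k <;> omega
  obtain ⟨x, hx, ho⟩ := exists_mem_orderOf_eq (X := L) (p := 7) (by norm_num) (by omega)
  have hP : SylIn 7 (zpowers x) L := by
    refine sylIn_of_not_dvd (zpowers_le.mpr hx) (isPGroup_of_card_eq_prime (by
      rw [Nat.card_zpowers, ho])) fun hd => ?_
    have := card_mul_relIndex (zpowers_le.mpr hx)
    rw [Nat.card_zpowers, ho] at this
    omega
  have h2 : L ⊓ N (zpowers x) ≤ zpowers x := by
    refine hP.le_of_nrm' (by norm_num) inf_le_left ?_ (nrm_of_le_N inf_le_right)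
    refine (piG_single (by norm_num)).mp fun q hq hd => ?_
    obtain ⟨g, hg, hgo⟩ := exists_mem_orderOf_eq hq hd
    by_contra hq7
    have h4 : q ∣ 2 ^ 6 * 5 * 7 := (hd.trans (card_dvd_of_le inf_le_left)).trans h1
    have h5 : q ∣ 10 := by
      rcases (Nat.Prime.dvd_mul hq).mp h4 with e | e
      · rcases (Nat.Prime.dvd_mul hq).mp e with e | e
        · exact (hq.dvd_of_dvd_pow e).trans (by norm_num)
        · exact e.trans (by norm_num)
      · exact absurd ((Nat.prime_dvd_prime_iff_eq hq (by norm_num)).mp e) hq7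
    have h6 := seven_fact x g (by rw [Subgroup.orderOf_coe, ho]) g.2 (by
      obtain ⟨k, hk⟩ := mem_zpowers_iff.mp (conj_mem_of_mem_N hg.2 (mem_zpowers x))
      exact ⟨k, congrArg Subtype.val hk⟩)
      (congrArg Subtype.val (orderOf_dvd_iff_pow_eq_one.mp (hgo ▸ h5) : g ^ 10 = 1))
    rw [show g = 1 from Subtype.ext h6, orderOf_one] at hgo
    exact hq.one_lt.ne hgo
  have h3 := card_sylow_modEq_one 7 L
  rw [Sylow.card_eq_index_normalizer hP.toSylow] at h3
  have h4 : normalizer ((hP.toSylow : Subgroup L) : Set L) = (zpowers x).subgroupOf L := by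
    refine le_antisymm (fun g hg => h2 ⟨g.2, mem_N_of_conj fun y hy => ?_⟩) le_normalizer
    exact (mem_normalizer_iff.mp hg ⟨y, hP.le hy⟩).mp hy
  replace h3 : ((zpowers x).subgroupOf L).index ≡ 1 [MOD 7] := h4 ▸ h3
  have h5 := card_mul_relIndex hP.le
  rw [Nat.card_zpowers, ho, relIndex] at h5
  unfold Nat.ModEq at h3
  omega

variable [Finite G]

theorem endgame_A8 {ψ : A8 →* G} (hψ : Function.Injective ψ) (hSE : SE 3 ψ.range) :
    Function.Surjective ψ := by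
  have h9 : ∀ {x y : A8}, ψ x * ψ y = ψ y * ψ x →
      (extA 8 x).1 * (extA 8 y).1 = (extA 8 y).1 * (extA 8 x).1 := fun e =>
    congrArg Subtype.val (rel_mul (extA 8) (hψ (by rwa [map_mul, map_mul])))
  refine MonoidHom.range_eq_top.mp (E8.endgame hψ (fun x => ⟨x, rfl⟩) hSE ?_ ?_ ?_ ?_ ?_ ?_)
  · rintro _ ⟨h, rfl⟩ h1 h2 h3 h4
    refine rel_sq ψ (extA_injective 8 (Subtype.ext ?_))
    rw [map_mul, map_one]
    exact E9.F1 _ (h9 h1) (h9 h2) (h9 h3) (h9 h4)
  · rintro _ ⟨h, rfl⟩ h1 h2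
    obtain ⟨j, l, e⟩ := E9.F2 _ (extA 8 h).2 (h9 h1) (h9 h2)
    refine zp_cases j l (rel_pow ψ (by decide +kernel)) (rel_mul ψ (by decide +kernel)) ?_
    rw [← map_pow, ← map_pow, ← map_mul]
    refine congrArg ψ (extA_injective 8 (Subtype.ext ?_))
    rw [map_mul, map_pow, map_pow]
    exact e
  · rw [card_range_inj hψ, card_A8]; norm_num
  · rintro _ ⟨h, rfl⟩ e
    rw [← map_inv, ← map_mul, ← map_mul] at e
    exact E9.F4 (extA 8 h) (congrArg Subtype.val (rel_conj (extA 8) (hψ e)))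
  · rintro _ ⟨u, rfl⟩ hu
    obtain ⟨w, h1, h2, h3⟩ := inv3_8 u (congrArg Subtype.val (hψ (by rwa [map_mul, map_one]) :
      u * u = 1))
    exact ⟨ψ ⟨w, sign_of_cube (k := 1) h2⟩, ⟨_, rfl⟩, rel_ne hψ fun e => h1 (congrArg Subtype.val e),
      rel_pow ψ (Subtype.ext h2), rel_mul ψ (Subtype.ext h3)⟩
  · rintro _ - h3 h1 ⟨L, hL, rfl⟩
    have e : Nat.card (L.comap ψ) = Nat.card L := by
      rw [← card_map_of_injective hψ, map_comap_eq_self hL]
    rw [card_range_inj hψ, card_A8] at h1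
    rw [← e] at h3 h1 ⊢
    exact f6_A8 _ h3 (by omega)

theorem endgame_A9 {ψ : A9 →* G} (hψ : Function.Injective ψ) (hSE : SE 3 ψ.range) :
    Function.Surjective ψ := by
  have h9 : ∀ {x y : A9}, ψ x * ψ y = ψ y * ψ x → x.1 * y.1 = y.1 * x.1 := fun e =>
    congrArg Subtype.val (hψ (by rwa [map_mul, map_mul]) : _ * _ = _ * _)
  refine MonoidHom.range_eq_top.mp (E8.endgame (ψ := ψ.comp (extA 8))
    (hψ.comp (extA_injective 8)) (fun x => ⟨_, rfl⟩) hSE ?_ ?_ ?_ ?_ ?_ ?_)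
  · rintro _ ⟨h, rfl⟩ h1 h2 h3 h4
    exact rel_sq ψ (Subtype.ext (E9.F1 _ (h9 h1) (h9 h2) (h9 h3) (h9 h4)))
  · rintro _ ⟨h, rfl⟩ h1 h2
    obtain ⟨j, l, e⟩ := E9.F2 _ h.2 (h9 h1) (h9 h2)
    refine zp_cases j l (rel_pow _ (by decide +kernel)) (rel_mul _ (by decide +kernel)) ?_
    rw [MonoidHom.comp_apply, MonoidHom.comp_apply, ← map_pow ψ, ← map_pow ψ, ← map_mul]
    exact congrArg ψ (Subtype.ext e)
  · rw [card_range_inj hψ, card_A9]; norm_num
  · rintro _ ⟨h, rfl⟩ e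
    rw [MonoidHom.comp_apply, MonoidHom.comp_apply, ← map_inv, ← map_mul, ← map_mul] at e
    exact E9.F4 h (congrArg Subtype.val (hψ e))
  · rintro _ ⟨u, rfl⟩ hu
    obtain ⟨w, h1, h2, h3⟩ := inv3_9 u (congrArg Subtype.val (hψ (by rwa [map_mul, map_one]) :
      u * u = 1))
    exact ⟨ψ ⟨w, sign_of_cube (k := 1) h2⟩, ⟨_, rfl⟩, rel_ne hψ fun e => h1 (congrArg Subtype.val e),
      rel_pow ψ (Subtype.ext h2), rel_mul ψ (Subtype.ext h3)⟩
  · rintro n hn h3 h1 -
    rw [card_range_inj hψ, card_A9] at h1 hn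
    obtain ⟨k, hk⟩ : n ∣ 2240 := Nat.Coprime.dvd_of_dvd_mul_left (Nat.Coprime.pow_right 4
      ((Nat.Prime.coprime_iff_not_dvd Nat.prime_three).mpr h3).symm) hn
    have : k ≤ 2 := by nlinarith
    interval_cases k <;> omega

theorem le_of_idx2_alt {n : ℕ} (hn : 5 ≤ n) (ψ : alternatingGroup (Fin n) →* G) {X Y : Subgroup G}
    (hY : Y ≤ X) (hi : Y.relIndex X = 2) (hX : ∀ x, ψ x ∈ X) (x : alternatingGroup (Fin n)) :
    ψ x ∈ Y := by
  have := alternatingGroup.isSimpleGroup (α := Fin n) (by simpa using hn)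
  have hN : (Y.comap ψ).Normal := ⟨fun a ha g => by
    rw [mem_comap, map_mul, map_mul, map_inv]
    exact (idx2_conj hY hi (hX g) (hX a)).mpr ha⟩
  rcases hN.eq_bot_or_eq_top with e | e
  · exfalso
    let w : alternatingGroup (Fin n) := sw2 ⟨0, by omega⟩ ⟨1, by omega⟩ ⟨1, by omega⟩ ⟨2, by omega⟩
    have h1 : w * w ∈ Y.comap ψ := by rw [mem_comap, map_mul]; exact idx2_sq hY hi (hX w)
    rw [e, mem_bot] at h1
    have h2 := DFunLike.congr_fun (congrArg Subtype.val h1) ⟨0, by omega⟩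
    simp [w, sw2, swap_apply_def] at h2
  · exact (e.ge (mem_top x) : x ∈ Y.comap ψ)

theorem endgame_S_aux {n : ℕ} (hn : 5 ≤ n) (ι : A8 →* alternatingGroup (Fin n))
    (hι : Function.Injective ι) {φ : Perm (Fin n) →* G} (hφ : Function.Injective φ)
    (hSE : SE 3 φ.range)
    (F1 : ∀ h : Perm (Fin n), h * ι E8.a = ι E8.a * h → h * ι E8.b = ι E8.b * h →
      h * ι E8.c = ι E8.c * h → h * ι E8.d = ι E8.d * h → h * h = 1)
    (F3 : ¬ 128 ∣ Nat.card (alternatingGroup (Fin n))) (F3' : 128 ∣ Nat.card (Perm (Fin n)))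
    (F4 : ∀ h : Perm (Fin n), h * ι E8.a * h⁻¹ ≠ ι E8.i)
    (F5 : ∀ u : Perm (Fin n), u * u = 1 → ∃ w : Perm (Fin n), w ≠ 1 ∧ w ^ 3 = 1 ∧ w * u = u * w)
    (hA : ∀ (K : Type u) [Group K] [Finite K] (ψ : alternatingGroup (Fin n) →* K),
      Function.Injective ψ → SE 3 ψ.range → Function.Surjective ψ) : Function.Surjective φ := by
  let χ : alternatingGroup (Fin n) →* G := φ.comp (alternatingGroup (Fin n)).subtype
  have hχ : Function.Injective χ := hφ.comp Subtype.val_injective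
  have hψ : Function.Injective (χ.comp ι) := hχ.comp hι
  have h0 : ∀ σ, φ σ ∈ χ.range ↔ Perm.sign σ = 1 := fun σ =>
    ⟨fun ⟨x, e⟩ => hφ e ▸ x.2, fun e => ⟨⟨σ, e⟩, rfl⟩⟩
  have h1 : χ.range ≤ φ.range := by rintro _ ⟨x, rfl⟩; exact ⟨_, rfl⟩
  have h2 : Nrm φ.range χ.range := by
    rintro _ ⟨g, rfl⟩ _ ⟨x, rfl⟩
    change φ g * φ x * (φ g)⁻¹ ∈ _
    rw [← map_inv, ← map_mul, ← map_mul, h0, sign_conj']
    exact x.2
  have hfus : ∀ σ τ : Perm (Fin n), σ * σ = 1 → ∀ g, g * φ σ * g⁻¹ = φ τ →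
      Perm.sign τ = Perm.sign σ := fun σ τ hσ g e => by
    obtain ⟨w, w1, w3, wc⟩ := F5 σ hσ
    obtain ⟨v, v1, v3, vc⟩ := F5 τ (hφ (by rw [map_mul, ← e, conj_mul_self (rel_sq φ hσ), map_one]))
    obtain ⟨_, ⟨k, rfl⟩, e'⟩ := hSE.fusion Nat.prime_three ⟨w, rfl⟩ (rel_ne hφ w1) (rel_pow φ w3)
      (rel_mul φ wc) ⟨v, rfl⟩ (rel_ne hφ v1) (rel_pow φ v3) (by rw [e]; exact rel_mul φ vc)
    rw [e, ← map_inv, ← map_mul, ← map_mul] at e'
    rw [← hφ e', sign_conj']
  have hT0 := E8.sylIn_T hψ (H := χ.range) (fun x => ⟨_, rfl⟩) (by rwa [card_range_inj hχ])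
  obtain ⟨T, hT1, hT⟩ := exists_sylIn_ge (hT0.le.trans h1) hT0.isPGroup
  have hT2 : T ⊓ χ.range = E8.T0.map (χ.comp ι) :=
    hT0.eq_of_le inf_le_right (hT.isPGroup.to_le inf_le_left) (le_inf hT1 hT0.le)
  have hT' : SylIn 2 T ⊤ := by
    refine sylIn_of_sylIn_N Nat.prime_two (hT.of_le (le_inf le_top (le_N _)) fun g hg => ?_)
    refine E8.mem_of_conj_M hψ (H := φ.range) (fun x => ⟨_, rfl⟩) hSE ?_
      (E8.not_conj_ai hψ (H := φ.range) (fun x => ⟨_, rfl⟩) hSE ?_) fun m hm => ?_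
    · rintro _ ⟨h, rfl⟩ h1 h2 h3 h4
      have h9 : ∀ {x y : Perm (Fin n)}, φ x * φ y = φ y * φ x → x * y = y * x := fun e =>
        hφ (by rwa [map_mul, map_mul])
      exact rel_sq φ (F1 _ (h9 h1) (h9 h2) (h9 h3) (h9 h4))
    · rintro _ ⟨h, rfl⟩ e
      exact F4 h (hφ (by rwa [map_mul, map_mul, map_inv]))
    · have h3 := conj_mem_of_mem_N hg.2 (hT1 (mem_map_of_mem _ (E8.M0_le hm)))
      obtain ⟨τ, e⟩ := hT.le h3
      rw [← hT2]
      refine ⟨h3, e ▸ (h0 τ).mpr ((hfus (ι m) τ ?_ g e.symm).trans (ι m).2)⟩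
      obtain ⟨k, hk, rfl⟩ := E8.mem_M0 hm
      exact congrArg Subtype.val (rel_sq ι (E8.tau_comm16 k hk).1)
  let s : Perm (Fin n) := swap ⟨0, by omega⟩ ⟨1, by omega⟩
  have hs : Perm.sign s = -1 := Perm.sign_swap (by simp)
  have hi2 : χ.range.relIndex φ.range = 2 := by
    refine relIndex_eq_of_mul h1 ?_
    rw [card_range_inj hχ, card_range_inj hφ]
    have : Nontrivial (Fin n) := Fin.nontrivial_iff_two_le.mpr (by omega)
    rw [← alternatingGroup.index_eq_two (α := Fin n), card_mul_index]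
  have hi : (T ⊓ χ.range).relIndex T = 2 := by
    rw [inf_relIndex_left]
    rcases (Nat.dvd_prime Nat.prime_two).mp (hi2 ▸ relIndex_dvd_of_nrm' hT.le h2) with e | e
    · exfalso
      rw [relIndex_eq_one] at e
      have h3 := card_mul_relIndex hT.le
      rw [← inf_eq_left.mpr e, hT2, E8.card_T hψ, card_range_inj hφ] at h3
      rw [← h3, ← hT2, inf_eq_left.mpr e] at F3'
      exact hT.not_dvd_relIndex (Nat.dvd_of_mul_dvd_mul_left (k := 64) (by norm_num) F3')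
    · exact e
  obtain ⟨Y, -, hY, hsY⟩ := thompson_in hT' inf_le_left hi (t := φ s) (mem_top _)
    (fun g _ => by rw [rel_sq φ (swap_mul_self _ _)]; simp) (fun g _ hg => by
      obtain ⟨x, e⟩ := hg.2
      have := hfus s x (swap_mul_self _ _) g e.symm
      rw [hs, Perm.mem_alternatingGroup.mp x.2] at this
      exact absurd this (by decide))
  have hχY := le_of_idx2_alt hn χ le_top hY fun _ => mem_top _
  have hsurj := hA Y (χ.codRestrict Y hχY) (fun _ _ e => hχ (congrArg Subtype.val e)) (by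
    rintro _ ⟨x, rfl⟩ x1 x3 g ⟨w, hw⟩
    obtain ⟨σ, e⟩ := hSE (χ x) ⟨_, rfl⟩ (fun e => x1 (Subtype.ext e)) (congrArg Subtype.val x3) g
      ⟨w, congrArg Subtype.val hw⟩
    rcases Int.units_eq_one_or (Perm.sign σ) with h | h
    · exact ⟨⟨σ, h⟩, Subtype.ext e⟩
    · exfalso
      have h3 := hχY ⟨σ * s, by rw [Perm.mem_alternatingGroup, map_mul, h, hs]; rfl⟩
      change φ (σ * s) ∈ Y at h3
      rw [map_mul, e] at h3
      exact hsY ((mul_mem_cancel_left g.2).mp h3))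
  intro g
  by_cases hg : g ∈ Y
  · obtain ⟨x, e⟩ := hsurj ⟨g, hg⟩
    exact ⟨x, congrArg Subtype.val e⟩
  · obtain ⟨x, e⟩ := hsurj ⟨g * φ s, (idx2_mul le_top hY (mem_top _) (mem_top _)).mpr
      (iff_of_false hg hsY)⟩
    refine ⟨x * s, ?_⟩
    have e' : φ x = g * φ s := congrArg Subtype.val e
    rw [map_mul, e', mul_assoc, rel_sq φ (swap_mul_self _ _), mul_one]

theorem endgame_S8 {φ : Perm (Fin 8) →* G} (hφ : Function.Injective φ) (hSE : SE 3 φ.range) :
    Function.Surjective φ := by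
  refine endgame_S_aux (by norm_num) (MonoidHom.id _) (fun _ _ e => e) hφ hSE
    (fun h h1 h2 h3 h4 => extL_injective 8 ?_) (by rw [card_A8]; norm_num)
    (by rw [Nat.card_perm]; simp [Nat.factorial]) (fun h e => E9.F4 (extL 8 h) (rel_conj _ e))
    inv3_8 fun K _ _ ψ h1 h2 => endgame_A8 h1 h2
  rw [map_mul, map_one]
  exact E9.F1 _ (rel_mul _ h1) (rel_mul _ h2) (rel_mul _ h3) (rel_mul _ h4)

theorem endgame_S9 {φ : Perm (Fin 9) →* G} (hφ : Function.Injective φ) (hSE : SE 3 φ.range) :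
    Function.Surjective φ :=
  endgame_S_aux (by norm_num) (extA 8) (extA_injective 8) hφ hSE E9.F1 (by rw [card_A9]; norm_num)
    (by rw [Nat.card_perm]; simp [Nat.factorial]) E9.F4
    inv3_9 fun K _ _ ψ h1 h2 => endgame_A9 h1 h2

end CfsgH7
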