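import Cfsg.Agent.H7.Loc4
import Cfsg.Agent.S3333

/-! Sections isomorphic to `S₆`. -/

set_option autoImplicit false

namespace CfsgH7
open Subgroup CfsgH5 CfsgH6 CfsgFT CfsgH8 CfsgH9 Equiv

universe u
variable {G : Type u} [Group G]

abbrev S6 := Perm (Fin 6)

theorem s6_section [Finite G] {X Z E Y : Subgroup G} (hZ : Z ≤ E) (hE : E ≤ X)
    (hc : ∀ g ∈ X, ∀ z ∈ Z, g * z = z * g) (h9 : Z.relIndex E = 9) (h3 : ¬ 3 ∣ E.relIndex X)
    (hC : ∀ g ∈ X, (∀ x ∈ E, g * x * g⁻¹ * x⁻¹ ∈ Z) ↔ g ∈ E)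
    (hC1 : ∀ x ∈ E, x ∉ Z → ∀ g ∈ X, g * x * g⁻¹ * x⁻¹ ∈ Z → g ∈ N E)
    (hY : Y = X ⊓ N E) (φ : Y →* DihedralGroup 4) (hφ : Function.Surjective φ)
    (hφk : ∀ g, φ g = 1 ↔ g.1 ∈ E) :
    X ≤ N E ∨ ∃ ψ : X →* S6, Function.Surjective ψ ∧ ∀ g, ψ g = 1 ↔ g.1 ∈ Z := by
  subst hY
  have := Fact.mk Nat.prime_three
  have hn : Nrm X Z := fun g hg z hz => by rw [hc g hg z hz, mul_inv_cancel_right]; exact hz
  haveI := hn.normal_subgroupOf
  let π : X →* X ⧸ Z.subgroupOf X := QuotientGroup.mk' _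
  have hπ : Function.Surjective π := QuotientGroup.mk'_surjective _
  have hk : ∀ g : X, π g = 1 ↔ (g : G) ∈ Z := fun g => QuotientGroup.eq_one_iff g
  have hk' : pre π ⊥ = Z := by
    ext g
    rw [mem_pre]
    exact ⟨fun ⟨h1, h2⟩ => (hk _).mp h2, fun h => ⟨hE (hZ h), (hk _).mpr h⟩⟩
  have hcard : Nat.card (img π E) = 9 := by rw [card_img' π hE, hk', h9]
  have hpre : pre π (img π E) = E := pre_img_of_le hE (hk'.le.trans hZ)
  have hN := pre_N_img (f := π) hE (hk'.le.trans hZ)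
  have hcm : ∀ g x : X, π g * π x = π x * π g ↔ (g : G) * x * (g : G)⁻¹ * (x : G)⁻¹ ∈ Z :=
    fun g x => by
      rw [← mul_inv_eq_iff_eq_mul, ← mul_inv_eq_one, ← map_inv, ← map_inv, ← map_mul, ← map_mul,
        ← map_mul, hk]; rfl
  obtain ⟨P, hP⟩ : ∃ P : Sylow 3 (X ⧸ Z.subgroupOf X), (P : Subgroup _) = img π E := by
    refine SylIn.exists_sylow (sylIn_of_not_dvd le_top (isPGroup_of_card_eq (k := 2) hcard) ?_)
    have := relIndex_pre_pre (f := π) (img π E) (Y := ⊤) (by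
      rw [MonoidHom.range_eq_top.mpr hπ])
    rwa [← this, hpre, pre_top]
  let ρ : ↥(X ⊓ N E) →* normalizer (img π E : Set (X ⧸ Z.subgroupOf X)) :=
    (π.comp (inclusion inf_le_left)).codRestrict _ fun g => (mem_pre' (f := π) g.2.1).mp (hN.ge g.2)
  have hρ : Function.Surjective ρ := fun ⟨q, hq⟩ => by
    obtain ⟨g, rfl⟩ := hπ q
    exact ⟨⟨g, hN.le (coe_mem_pre.mpr hq)⟩, rfl⟩
  let a := (QuotientGroup.mk' ((img π E).subgroupOf (normalizer (img π E : Set _)))).comp ρ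
  have ha : Function.Surjective a := (QuotientGroup.mk'_surjective _).comp hρ
  have hak : a.ker = φ.ker := by
    ext g
    rw [MonoidHom.mem_ker, MonoidHom.mem_ker, hφk]
    exact (QuotientGroup.eq_one_iff _).trans ((mem_pre' (f := π) g.2.1).symm.trans (by rw [hpre]))
  refine (Cfsg.Agent.S3333.result P _ hP.symm hcard ?_
    ((QuotientGroup.quotientKerEquivOfSurjective a ha).symm.trans
      (QuotientGroup.liftEquiv _ hφ hak)) ?_).imp (fun h g hg => (hN.le ((mem_pre' hg).mpr (by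
        rw [@normalizer_eq_top _ _ _ h]; trivial))).2) fun ⟨e⟩ => ⟨e.toMonoidHom.comp π,
      e.surjective.comp hπ, fun g => by rw [← hk]; exact map_eq_one_iff _ e.injective⟩
  · ext q
    obtain ⟨g, rfl⟩ := hπ q
    rw [← coe_mem_pre (Y := img π E), hpre, ← hC g g.2, mem_centralizer_iff]
    refine ⟨fun h x hx => (hcm g ⟨x, hE hx⟩).mp (h _ (mem_img_of_mem π _ hx)).symm, fun h y hy => ?_⟩
    obtain ⟨x, hx, _, rfl⟩ := mem_img'.mp hy
    exact ((hcm _ _).mpr (h x hx)).symm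
  · intro y hy y1 q hq
    obtain ⟨x, hx, hx', rfl⟩ := mem_img'.mp hy
    obtain ⟨g, rfl⟩ := hπ q
    exact coe_mem_pre.mp (hN.ge ⟨g.2, hC1 x hx (fun e => y1 ((hk _).mpr e)) g g.2
      ((hcm g ⟨x, hx'⟩).mp (mem_centralizer_singleton_iff.mp hq))⟩)

namespace F6
def R2 : Fin 2 → S6 := ![swap 0 1, swap 0 1 * swap 2 3 * swap 4 5]
def G4 : Fin 2 → Fin 4 → S6 := ![![swap 2 3 * swap 4 5, swap 2 4 * swap 3 5, swap 2 3 * swap 3 4,
  swap 2 3], ![swap 0 1 * swap 2 3, swap 0 1 * swap 4 5, swap 0 2 * swap 2 4 * swap 1 3 * swap 3 5,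
  swap 0 2 * swap 1 3]]
def el (i : Fin 2) (t : Fin 48) : S6 := R2 i ^ (t.val % 2) * G4 i 0 ^ (t.val / 2 % 2) *
  G4 i 1 ^ (t.val / 4 % 2) * G4 i 2 ^ (t.val / 8 % 3) * G4 i 3 ^ (t.val / 24)

theorem tab : ∀ i g, g * R2 i = R2 i * g → ∃ t, g = el i t := by decide +kernel

set_option synthInstance.maxSize 2048 in
theorem factT_aux : ∀ i a, el i a * el i a = 1 → ∀ b, el i b * el i b = 1 →
    (el i a * el i b) ^ 3 = 1 → el i a * el i b ≠ 1 → ∀ c, el i c * el i c = 1 →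
    (el i b * el i c) ^ 3 = 1 → el i b * el i c ≠ 1 → el i a * el i c = el i c * el i a ∨
      el i b * el i a * el i b * el i c = el i c * (el i b * el i a * el i b) := by decide +kernel

theorem factT {i : Fin 2} {a b c : S6} (ha : a * R2 i = R2 i * a) (hb : b * R2 i = R2 i * b)
    (hc : c * R2 i = R2 i * c) (a2 : a * a = 1) (b2 : b * b = 1) (c2 : c * c = 1)
    (h1 : (a * b) ^ 3 = 1) (h2 : a * b ≠ 1) (h3 : (b * c) ^ 3 = 1) (h4 : b * c ≠ 1) :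
    a * c = c * a ∨ b * a * b * c = c * (b * a * b) := by
  obtain ⟨a, rfl⟩ := tab i a ha
  obtain ⟨b, rfl⟩ := tab i b hb
  obtain ⟨c, rfl⟩ := tab i c hc
  exact factT_aux i a a2 b b2 h1 h2 c c2 h3 h4

/-- `f` lies in a four-group normalized by `w` and centralizes `r`. -/
def P4 {H : Type*} [Group H] (w r f : H) : Prop :=
  f * f = 1 ∧ f * r = r * f ∧ f * (w * f * w⁻¹) * (w⁻¹ * f * w) = 1

instance (w r f : S6) : Decidable (P4 w r f) := by unfold P4; infer_instance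

set_option synthInstance.maxSize 2048 in
theorem factE_aux : ∀ i w, el i w ^ 3 = 1 → el i w ≠ 1 → ∀ r, el i r * el i r = 1 →
    el i r * el i w * (el i r)⁻¹ = (el i w)⁻¹ → ∃ f, P4 (el i w) (el i r) (el i f) ∧ el i f ≠ 1 ∧
      el i f * R2 i = R2 i * el i f ∧
      ∀ f', P4 (el i w) (el i r) (el i f') → el i f' = 1 ∨ el i f' = el i f := by decide +kernel

theorem factE {i : Fin 2} {w r : S6} (hw : w * R2 i = R2 i * w) (hr : r * R2 i = R2 i * r)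
    (w3 : w ^ 3 = 1) (w1 : w ≠ 1) (r2 : r * r = 1) (h : r * w * r⁻¹ = w⁻¹) :
    ∃ f, P4 w r f ∧ f ≠ 1 ∧ f * R2 i = R2 i * f ∧
      ∀ f', f' * R2 i = R2 i * f' → P4 w r f' → f' = 1 ∨ f' = f := by
  obtain ⟨w, rfl⟩ := tab i w hw
  obtain ⟨r, rfl⟩ := tab i r hr
  obtain ⟨f, h1, h2, h3, h4⟩ := factE_aux i w w3 w1 r r2 h
  refine ⟨_, h1, h2, h3, fun f' hf h5 => ?_⟩
  obtain ⟨f', rfl⟩ := tab i f' hf
  exact h4 f' h5

theorem sq_ne (i : Fin 2) (g : S6) : g * g ≠ R2 i := fun e => by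
  have := congrArg Perm.sign e
  rw [map_mul, Int.units_mul_self] at this
  exact (by decide +kernel : ∀ i, 1 ≠ Perm.sign (R2 i)) i this

theorem dbl : ∀ x : S6, x * (swap 0 1 * swap 2 3) = swap 0 1 * swap 2 3 * x → x ^ 3 = 1 → x = 1 := by
  decide +kernel

theorem norm {ρ x : S6} (h1 : ρ ≠ 1) (h2 : ρ * ρ = 1) (x1 : x ≠ 1) (x3 : x ^ 3 = 1)
    (hc : x * ρ = ρ * x) : ∃ i π, π * ρ * π⁻¹ = R2 i := by
  have h3 : ρ ^ 2 = 1 := by rw [pow_two, h2]
  obtain ⟨m, hm⟩ := dvd_card_support Nat.prime_two h3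
  have h4 : ρ.support.card ≤ 6 := by simpa using Finset.card_le_univ ρ.support
  have h5 : ρ.support.card ≠ 0 := fun e => by
    rw [Finset.card_eq_zero, Perm.support_eq_empty_iff] at e
    exact h1 e
  have h6 : m = 1 ∨ m = 2 ∨ m = 3 := by omega
  rcases h6 with rfl | rfl | rfl
  · exact ⟨0, isConj_of_support Nat.prime_two h3 (by decide +kernel) (hm.trans (by decide +kernel))⟩
  · obtain ⟨π, e⟩ := isConj_of_support (τ := swap 0 1 * swap 2 3) Nat.prime_two h3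
      (by decide +kernel) (hm.trans (by decide +kernel))
    exact absurd (dbl (π * x * π⁻¹) (by rw [← e]; exact comm_conj_both hc)
      (by rw [conj_pow, x3]; simp)) (conj_ne_one x1 π)
  · exact ⟨1, isConj_of_support Nat.prime_two h3 (by decide +kernel) (hm.trans (by decide +kernel))⟩

theorem norm' {H : Type*} [Group H] {ψ : H →* S6} (hψ : Function.Surjective ψ) {r x : H}
    (h1 : ψ r ≠ 1) (h2 : r * r = 1) (x1 : ψ x ≠ 1) (x3 : x ^ 3 = 1) (hc : x * r = r * x) :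
    ∃ i, ∃ ψ' : H →* S6, Function.Surjective ψ' ∧ (∀ g, ψ' g = 1 ↔ ψ g = 1) ∧ ψ' r = R2 i := by
  obtain ⟨i, π, e⟩ := norm h1 (rel_sq ψ h2) x1 (rel_pow ψ x3) (rel_mul ψ hc)
  exact ⟨i, (MulAut.conj π).toMonoidHom.comp ψ, (MulAut.conj π).surjective.comp hψ,
    fun g => map_eq_one_iff _ (MulAut.conj π).injective, e⟩

end F6

theorem SE.fusion_in [Finite G] {p : ℕ} (hp : p.Prime) {H X : Subgroup G} (h : SE p H)
    {u g x y : G} (hg : g ∈ X) (hx : x ∈ H) (hx' : x ∈ X) (hx1 : x ≠ 1) (hxp : x ^ p = 1)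
    (hxu : x * u = u * x) (hy : y ∈ H) (hy' : y ∈ X) (hy1 : y ≠ 1) (hyp : y ^ p = 1)
    (hyu : y * (g * u * g⁻¹) = g * u * g⁻¹ * y) :
    ∃ k ∈ H ⊓ X, k * u * k⁻¹ = g * u * g⁻¹ := by
  obtain ⟨c, hc, S, hS, h1, h2⟩ := exists_conj_common hp (X := X ⊓ C1 (g * u * g⁻¹))
    (x := g * x * g⁻¹) ⟨X.mul_mem (X.mul_mem hg hx') (X.inv_mem hg), mem_C1.mpr (comm_conj_both hxu)⟩
    ⟨hy', mem_C1.mpr hyu⟩
    (by rw [conj_pow, hxp]; simp) hyp
  have hSH : S ≤ H := h.le_of_pgroup hp hS.isPGroup hy h1 hy1 hyp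
  refine ⟨c * g, ⟨h x hx hx1 hxp _ (by convert hSH h2 using 1; group), mul_mem hc.1 hg⟩, ?_⟩
  have h3 := mem_C1.mp hc.2
  calc c * g * u * (c * g)⁻¹ = c * (g * u * g⁻¹) * c⁻¹ := by group
    _ = _ := by rw [h3]; group

end CfsgH7
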