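import Cfsg.Agent.H7.Loc6

/-! The 3-local characterization of `S₈`: common part and the case `G ≅ S₈`. -/

set_option autoImplicit false

namespace CfsgH7
open Subgroup CfsgH5 CfsgH6 CfsgFT CfsgH8 CfsgH9 Equiv F5

universe u
variable {G : Type u} [Group G]

theorem sym_le {k : ℕ} {f : Perm (Fin (k + 1)) →* G} {K : Subgroup G}
    (h : ∀ i, i < k → f (adjSwap k i) ∈ K) (x : Perm (Fin (k + 1))) : f x ∈ K := by
  have : coxSub (adjSwap k) k ≤ K.comap f := by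
    rw [coxSub, closure_le]
    rintro _ ⟨i, hi, rfl⟩
    exact h i hi
  exact this ((coxSub_adjSwap k).ge (mem_top x))

theorem sym_injective {n : ℕ} (hn : 5 ≤ n) {φ : Perm (Fin n) →* G}
    {x : alternatingGroup (Fin n)} (hx : φ x ≠ 1) : Function.Injective φ := by
  have h1 := alt_injective hn (ψ := φ.comp (alternatingGroup (Fin n)).subtype) hx
  refine (injective_iff_map_eq_one φ).mpr fun g hg => Equiv.ext fun p => ?_
  by_contra hp
  obtain ⟨q, q1, q2⟩ := Fin.exists_ne_and_ne_of_two_lt p (g p) (by omega)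
  have h2 := congrArg Subtype.val ((injective_iff_map_eq_one _).mp h1
    ⟨swap (g p) q * g * (swap (g p) q)⁻¹ * g⁻¹, by
      rw [Perm.mem_alternatingGroup, map_mul, sign_conj', Perm.sign_inv, Int.units_mul_self]⟩
    (by
      change φ (_ * g * _⁻¹ * g⁻¹) = 1
      rw [map_mul φ, map_mul φ, map_mul φ, map_inv φ, map_inv φ, hg]; group))
  have h3 := DFunLike.congr_fun (mul_inv_eq_one.mp h2) p
  rw [Perm.mul_apply, Perm.mul_apply, swap_inv, swap_apply_of_ne_of_ne (x := p) (Ne.symm hp) q1.symm,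
    swap_apply_left] at h3
  exact q2 h3

theorem s6_conj {s : G} (g : G) {ψ : C1 s →* S6} (h1 : Function.Surjective ψ)
    (h2 : ∀ x, ψ x = 1 ↔ x.1 ∈ zpowers s) : ∃ ψ' : C1 (g * s * g⁻¹) →* S6,
      Function.Surjective ψ' ∧ ∀ x, ψ' x = 1 ↔ x.1 ∈ zpowers (g * s * g⁻¹) := by
  rw [← cj_zpowers, ← cj_C1]
  refine ⟨ψ.comp (cjEquiv g (C1 s)).symm.toMonoidHom, h1.comp (cjEquiv g (C1 s)).symm.surjective,
    fun x => ?_⟩
  obtain ⟨x, rfl⟩ := (cjEquiv g _).surjective x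
  rw [MonoidHom.comp_apply, MulEquiv.coe_toMonoidHom, MulEquiv.symm_apply_apply, h2]
  exact conj_mem_cj.symm

theorem eq_of_cube_of_invol {s a b : G} (s2 : s * s = 1) (a3 : a ^ 3 = 1) (b3 : b ^ 3 = 1)
    (hb : s * b = b * s) (h : a * b⁻¹ ∈ zpowers s) : a = b := by
  rcases mem_zpowers_order_two' s2 h with e | e
  · exact mul_inv_eq_one.mp e
  · rw [mul_inv_eq_iff_eq_mul] at e
    rw [e, (Commute.mul_pow hb 3), b3, mul_one] at a3
    rw [e, eq_one_of_sq_cube s2 a3, one_mul]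

namespace S8c

def z0 : S3 × S5 := (ζ, 1)
def w0 : S3 × S5 := (1, ω)
def s0 : S3 × S5 := (1, swap 0 1)
def r0 : S3 × S5 := (τ, 1)
def r1 (ε : Fin 2) : S3 × S5 := (1, R6 0 ε)

theorem cent_ω : ∀ q : S5, q * ω = ω * q → q ^ 3 = 1 ∨ (q * swap 0 1) ^ 3 = 1 := by decide +kernel

theorem cent_D : ∀ p : S3, p ^ 3 = 1 → ∀ q : S5, q * ω = ω * q → q ^ 3 = 1 →
    ∃ i j : Fin 3, (p, q) = z0 ^ i.val * w0 ^ j.val := by decide +kernel

structure Hyp (l : S3 × S5 →* G) : Prop where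
  inj : Function.Injective l
  rng : l.range = N (zpowers (l z0))
  syl : SylIn 3 (D9 (l z0) (l w0)) ⊤
  cD : Nat.card (C (D9 (l z0) (l w0))) = 18
  d8 : ∃ φ : N (D9 (l z0) (l w0)) →* DihedralGroup 4, Function.Surjective φ ∧
    ∀ g, φ g = 1 ↔ g.1 ∈ C (D9 (l z0) (l w0))
  hy : ∃ y ∈ D9 (l z0) (l w0), Nat.card (C1 y) = 36 ∧ C1 y ≤ N (D9 (l z0) (l w0)) ∧
    ∀ g ∈ C1 y, g * g ∈ D9 (l z0) (l w0)
  hz : Nat.card (C1 (l z0)) = 360

structure Cfg (l : S3 × S5 →* G) (σ : G) (ε : Fin 2) : Prop extends Hyp l where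
  σ2 : σ * σ = 1
  σz : σ * l z0 * σ⁻¹ = l w0
  σw : σ * l w0 * σ⁻¹ = l z0
  σr : σ * l r0 * σ⁻¹ = l (r1 ε)

namespace Hyp
variable [Finite G] {l : S3 × S5 →* G} (h : Hyp l)
include h

theorem b9 : B9 (l z0) (l w0) := b9_map h.inj (by decide +kernel) (by decide +kernel)
  (by decide +kernel) (by decide +kernel) (by decide +kernel) (by decide +kernel)
  (by decide +kernel)

theorem of_N {g : G} (hg : g * l z0 * g⁻¹ ∈ zpowers (l z0)) : ∃ x, l x = g :=
  h.rng.ge (mem_N_zpowers hg)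

theorem of_C {g : G} (hg : g * l z0 = l z0 * g) : ∃ p q, l (p, q) = g ∧ p ^ 3 = 1 := by
  obtain ⟨x, rfl⟩ := h.of_N (g := g) (by rw [hg, mul_inv_cancel_right]; exact mem_zpowers _)
  have h1 : x * z0 = z0 * x := h.inj (by rwa [map_mul, map_mul])
  exact ⟨_, _, rfl, cent_ζ _ (congrArg Prod.fst h1)⟩

theorem of_C' {g : G} (hg : g * l z0 = l z0 * g) (ho : (orderOf g).Coprime 3) :
    ∃ q, l (1, q) = g := by
  obtain ⟨p, q, rfl, h1⟩ := h.of_C hg
  rw [orderOf_injective l h.inj] at ho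
  obtain rfl : p = 1 := eq_one_of_coprime_three (coprime_map (MonoidHom.fst S3 S5) ho) h1
  exact ⟨q, rfl⟩

theorem s2 : l s0 * l s0 = 1 := rel_sq l (by decide +kernel)
theorem s1 : l s0 ≠ 1 := rel_ne h.inj (by decide +kernel)
theorem sC : l s0 ∈ C (D9 (l z0) (l w0)) :=
  h.b9.mem_C_iff.mpr ⟨rel_mul l (by decide +kernel), rel_mul l (by decide +kernel)⟩

theorem of_CD {g : G} (hg : g ∈ C (D9 (l z0) (l w0))) :
    g ∈ D9 (l z0) (l w0) ∨ g * l s0 ∈ D9 (l z0) (l w0) := by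
  obtain ⟨h1, h2⟩ := h.b9.mem_C_iff.mp hg
  obtain ⟨p, q, rfl, h3⟩ := h.of_C h1
  have h4 : q * ω = ω * q := congrArg Prod.snd (h.inj (by rwa [map_mul, map_mul]) :
    (p, q) * w0 = w0 * (p, q))
  have h5 : ∀ q : S5, q * ω = ω * q → q ^ 3 = 1 → l (p, q) ∈ D9 (l z0) (l w0) := fun q e1 e2 => by
    obtain ⟨i, j, e⟩ := cent_D p h3 q e1 e2
    rw [e, map_mul, map_pow, map_pow]
    exact mul_mem (pow_mem (left_mem_D9 _ _) _) (pow_mem (right_mem_D9 _ _) _)
  refine (cent_ω q h4).imp (h5 q h4) fun e => ?_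
  rw [← map_mul, show (p, q) * s0 = (p, q * swap 0 1) from Prod.ext (mul_one p) rfl]
  exact h5 _ (comm_mul_of h4.symm (by decide +kernel)).symm e

theorem inv_CD {g : G} (hg : g ∈ C (D9 (l z0) (l w0))) (g2 : g * g = 1) : g = 1 ∨ g = l s0 := by
  refine (h.of_CD hg).imp (fun e => eq_one_of_sq_cube g2 (h.b9.cube e)) fun e => ?_
  have h1 := mem_C.mp hg _ e
  have h2 := mem_C.mp h.sC _ e
  rw [mul_assoc, h.s2, mul_one, ← mul_assoc] at h2
  have h3 : g * l s0 * (g * l s0) = 1 := by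
    rw [← mul_assoc, h1, ← mul_assoc, g2, one_mul, h.s2]
  rw [← inv_eq_self h.s2, ← mul_eq_one_iff_eq_inv]
  exact eq_one_of_sq_cube h3 (h.b9.cube e)

theorem N_le : N (D9 (l z0) (l w0)) ≤ C1 (l s0) := fun g hg =>
  mem_C1_iff_conj.mpr ((h.inv_CD (nrm_N_C _ g hg _ h.sC) (conj_mul_self h.s2 g)).resolve_left
    (conj_ne_one h.s1 g))

theorem card_N : Nat.card (N (D9 (l z0) (l w0))) = 144 := by
  obtain ⟨φ, h1, h2⟩ := h.d8
  have h3 : (C (D9 (l z0) (l w0))).subgroupOf (N (D9 (l z0) (l w0))) = φ.ker := by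
    ext g; rw [mem_subgroupOf, MonoidHom.mem_ker, h2]
  rw [← card_mul_relIndex (C_le_N _), h.cD, relIndex, h3, index_ker,
    MonoidHom.range_eq_top.mpr h1, card_top, DihedralGroup.nat_card]

theorem exists_swap : ∃ σ, σ * l z0 * σ⁻¹ = l w0 ∧ σ * l w0 * σ⁻¹ = l z0 := by
  obtain ⟨φ, h1, h2⟩ := h.d8
  obtain ⟨n, hn⟩ := h1 (DihedralGroup.r 1)
  refine h.b9.exists_swap (l := l (r1 0)) (rel_conj l (by decide +kernel))
    (by rw [← map_inv l w0]; exact rel_conj l (by decide +kernel)) ⟨n, n.2, fun e => ?_⟩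
    fun g hg => ?_
  · have := (h2 (n * n)).mpr e
    rw [map_mul, hn] at this
    exact absurd this (by decide)
  · refine (h2 (⟨g, hg⟩ * ⟨g, hg⟩ * ⟨g, hg⟩ * ⟨g, hg⟩)).mp ?_
    rw [map_mul, map_mul, map_mul]
    exact (by decide : ∀ a : DihedralGroup 4, a * a * a * a = 1) _

theorem hw : Nat.card (C1 (l w0)) = 360 := by
  obtain ⟨σ, h1, -⟩ := h.exists_swap
  rw [← h1, card_C1_conj, h.hz]

theorem r1N : l (r1 0) ∈ N (D9 (l z0) (l w0)) := mem_N_of_cj_le (by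
  rw [B9.cj_D9, rel_conj l (show _ = z0 by decide +kernel),
    rel_conj l (show _ = w0⁻¹ by decide +kernel), map_inv]
  exact D9_le (left_mem_D9 _ _) (inv_mem (right_mem_D9 _ _)))

theorem zw_aux {y y' : G} (e : l (r1 0) * y * (l (r1 0))⁻¹ = y')
    (hy : Nat.card (C1 y) = 36 ∧ C1 y ≤ N (D9 (l z0) (l w0)) ∧
      ∀ g ∈ C1 y, g * g ∈ D9 (l z0) (l w0)) :
    Nat.card (C1 y') = 36 ∧ C1 y' ≤ N (D9 (l z0) (l w0)) ∧
      ∀ g ∈ C1 y', g * g ∈ D9 (l z0) (l w0) := by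
  rw [← e, card_C1_conj, ← cj_C1]
  refine ⟨hy.1, cj_le_of_le hy.2.1 h.r1N, fun g hg => ?_⟩
  obtain ⟨g, hg', rfl⟩ := mem_cj'.mp hg
  rw [conj_mul]
  exact conj_mem_of_mem_N h.r1N (hy.2.2 g hg')

theorem zw : (Nat.card (C1 (l z0 * l w0)) = 36 ∧ C1 (l z0 * l w0) ≤ N (D9 (l z0) (l w0)) ∧
      ∀ g ∈ C1 (l z0 * l w0), g * g ∈ D9 (l z0) (l w0)) ∧
    Nat.card (C1 (l z0 * (l w0)⁻¹)) = 36 ∧ C1 (l z0 * (l w0)⁻¹) ≤ N (D9 (l z0) (l w0)) ∧
      ∀ g ∈ C1 (l z0 * (l w0)⁻¹), g * g ∈ D9 (l z0) (l w0) := by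
  have e1 : l (r1 0) * (l z0 * l w0) * (l (r1 0))⁻¹ = l z0 * (l w0)⁻¹ := by
    rw [← map_inv l w0, ← map_mul l z0, ← map_mul l z0]; exact rel_conj l (by decide +kernel)
  have e2 : l (r1 0) * (l z0 * (l w0)⁻¹) * (l (r1 0))⁻¹ = l z0 * l w0 := by
    rw [← map_inv l w0, ← map_mul l z0, ← map_mul l z0]; exact rel_conj l (by decide +kernel)
  obtain ⟨y, hy, h4⟩ := h.hy
  have h1 := h.hz
  have h2 := h.hw
  rcases h.b9.mem' hy with rfl | rfl | rfl | rfl | rfl | rfl | rfl | rfl | rfl <;>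
    try simp only [C1_inv] at h4
  · have := card_dvd_of_le (le_top (a := C1 (l z0)))
    rw [← C1_one, h4.1, h1] at this
    omega
  iterate 4 omega
  exacts [⟨h4, h.zw_aux e1 h4⟩, ⟨h4, h.zw_aux e1 h4⟩, ⟨h.zw_aux e2 h4, h4⟩, ⟨h.zw_aux e2 h4, h4⟩]

theorem conj_mem {g : G} (hg : g * l z0 * g⁻¹ ∈ D9 (l z0) (l w0)) :
    g * l z0 * g⁻¹ ∈ zpowers (l z0) ∨ g * l z0 * g⁻¹ ∈ zpowers (l w0) := by
  have a2 := card_C1_conj g (l z0)
  rw [h.hz] at a2
  rcases h.b9.mem' hg with e | e | e | e | e | e | e | e | e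
  · exact absurd e (conj_ne_one h.b9.a1 g)
  · exact Or.inl (by rw [e]; exact mem_zpowers _)
  · exact Or.inl (by rw [e]; exact inv_mem (mem_zpowers _))
  · exact Or.inr (by rw [e]; exact mem_zpowers _)
  · exact Or.inr (by rw [e]; exact inv_mem (mem_zpowers _))
  all_goals simp only [e, C1_inv, h.zw.1.1, h.zw.2.1] at a2; omega

theorem exists_cfg : ∃ σ ε, Cfg l σ ε := by
  obtain ⟨σ, h1, h2⟩ := h.exists_swap
  have h3 := h.zw.1.2.2 σ (mem_C1_iff_conj.mpr (by rw [← conj_mul, h1, h2, h.b9.comm]))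
  obtain ⟨h5, h6⟩ := h.b9.mem_C_iff.mp (h.b9.ab h3)
  obtain ⟨ρ, ρ2, ρz, ρw⟩ : ∃ i : G, i * i = 1 ∧ i * l z0 * i⁻¹ = l w0 ∧ i * l w0 * i⁻¹ = l z0 := by
    refine ⟨σ * (σ * σ), by rw [← h.b9.cube h3]; simp only [pow_succ]; group, ?_, ?_⟩
    · rw [mul_assoc σ, h5, ← h1]; group
    · rw [mul_assoc σ, h6, ← h2]; group
  obtain ⟨q, e⟩ := h.of_C' (g := ρ * l r0 * ρ⁻¹)
    (by rw [← ρw]; exact comm_conj_both (rel_mul l (by decide +kernel)))
    (coprime_three_of_sq (conj_mul_self (rel_sq l (by decide +kernel)) ρ))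
  have e1 : l ((1, q) * w0 * (1, q)⁻¹) = l w0⁻¹ := by
    rw [map_mul, map_mul, map_inv, map_inv, e, ← ρz]
    calc _ = ρ * (l r0 * l z0 * (l r0)⁻¹) * ρ⁻¹ := by group
      _ = _ := by rw [rel_conj l (show _ = z0⁻¹ by decide +kernel), map_inv]; group
  obtain ⟨j, ε, rfl⟩ := inverts_ω q (congrArg Prod.snd (h.inj e1))
  have e2 : ∀ a b : S3 × S5, a * w0 = w0 * a → ρ * l a * ρ⁻¹ = l b →
      l w0 ^ j.val * ρ * (l w0 ^ j.val)⁻¹ * l a * (l w0 ^ j.val * ρ * (l w0 ^ j.val)⁻¹)⁻¹ =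
        l (w0 ^ j.val * b * (w0 ^ j.val)⁻¹) := fun a b ha e => by
    rw [map_mul, map_mul, map_inv, map_pow]
    calc _ = l w0 ^ j.val * ρ * ((l w0 ^ j.val)⁻¹ * (l a * l w0 ^ j.val)) *
          (l w0 ^ j.val * ρ)⁻¹ := by group
      _ = _ := by rw [(Commute.pow_right (rel_mul l ha) j.val).eq, ← e]; group
  have e3 : ∀ j : Fin 3, w0 ^ j.val * w0 * (w0 ^ j.val)⁻¹ = w0 ∧
      w0 ^ j.val * z0 * (w0 ^ j.val)⁻¹ = z0 ∧
      ∀ ε, w0 ^ j.val * (1, R6 j ε) * (w0 ^ j.val)⁻¹ = r1 ε := by decide +kernel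
  exact ⟨_, ε, h, conj_mul_self ρ2 (l w0 ^ j.val),
    by rw [e2 _ _ (by decide +kernel) ρz, (e3 j).1], by rw [e2 _ _ rfl ρw, (e3 j).2.1],
    by rw [e2 _ _ (by decide +kernel) e.symm, (e3 j).2.2]⟩

theorem not_dvd_C {y : G} (hy : y ∈ D9 (l z0) (l w0)) (y1 : y ≠ 1) : Nat.card (C1 y) ∣ 360 := by
  rcases h.b9.mem' hy with rfl | rfl | rfl | rfl | rfl | rfl | rfl | rfl | rfl
  · exact absurd rfl y1
  all_goals simp only [C1_inv, h.hz, h.hw, h.zw.1.1, h.zw.2.1]; norm_num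

theorem cs : C1 (l s0) ≤ N (D9 (l z0) (l w0)) ∨
    ∃ ψ : C1 (l s0) →* S6, Function.Surjective ψ ∧ ∀ g, ψ g = 1 ↔ g.1 ∈ zpowers (l s0) := by
  have := Fact.mk Nat.prime_three
  have hZ : zpowers (l s0) ≤ C (D9 (l z0) (l w0)) := zpowers_le.mpr h.sC
  have hD : D9 (l z0) (l w0) ≤ C (D9 (l z0) (l w0)) := h.b9.ab
  have hE : C (D9 (l z0) (l w0)) ≤ C1 (l s0) := (C_le_N _).trans h.N_le
  have h1 : ∀ g ∈ C1 (l s0), ∀ d ∈ D9 (l z0) (l w0), ∀ d' ∈ D9 (l z0) (l w0),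
      g * d * g⁻¹ * d'⁻¹ ∈ zpowers (l s0) → g * d * g⁻¹ = d' := fun g hg d hd d' hd' e =>
    eq_of_cube_of_invol h.s2 (by rw [conj_pow, h.b9.cube hd]; simp) (h.b9.cube hd')
      (mem_C.mp h.sC _ hd').symm e
  have h2 : ∀ g ∈ C1 (l s0), ∀ x : G, g * (x * l s0) * g⁻¹ * (x * l s0)⁻¹ = g * x * g⁻¹ * x⁻¹ :=
    fun g hg x => by
      calc _ = g * x * g⁻¹ * (g * l s0 * g⁻¹) * (x * l s0)⁻¹ := by group
        _ = _ := by rw [mem_C1_iff_conj.mp hg]; group
  have hN : N (D9 (l z0) (l w0)) = C1 (l s0) ⊓ N (C (D9 (l z0) (l w0))) := by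
    refine le_antisymm (le_inf h.N_le (nrm_N_C _).le_N) fun g hg => mem_N_of_conj fun d hd => ?_
    refine (h.of_CD (conj_mem_of_mem_N hg.2 (hD hd))).elim id fun e => ?_
    rw [h1 g hg.1 d hd _ e (by
      have e1 := mem_C.mp h.sC _ e
      rw [mul_assoc, h.s2, mul_one] at e1
      rw [mul_inv_eq_iff_eq_mul.mpr e1]
      exact mem_zpowers _)]
    exact e
  obtain ⟨φ, φ1, φ2⟩ := h.d8
  refine (s6_section hZ hE (fun g hg z hz => mem_C1.mp (C1_le_C1_of_mem_zpowers hz hg))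
    (relIndex_eq_of_mul hZ (by rw [h.cD, Nat.card_zpowers, orderOf_eq_two h.s2 h.s1]))
    (fun e => (h.syl.of_le (hD.trans hE) le_top).not_dvd_relIndex
      (e.trans (relIndex_dvd_of_le_left _ hD))) (fun g hg => ⟨fun e => mem_C.mpr fun d hd =>
        (mul_inv_eq_iff_eq_mul.mp (h1 g hg d hd d hd (e d (hD hd)))).symm, fun e x hx => ?_⟩)
    (fun x hx x1 g hg e => ?_) hN φ φ1 φ2).imp_left fun e => hN.ge.trans' (le_inf le_rfl e)
  · rcases h.of_CD hx with e' | e'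
    · rw [← mem_C.mp e x e']; simp
    · rw [← h2 g hg, ← mem_C.mp e _ e']; simp
  · obtain ⟨d, hd, d1, e'⟩ : ∃ d ∈ D9 (l z0) (l w0), d ≠ 1 ∧ g * d = d * g := by
      rcases h.of_CD hx with e' | e'
      · exact ⟨x, e', fun f => x1 (f ▸ one_mem _), mul_inv_eq_iff_eq_mul.mp (h1 g hg _ e' _ e' e)⟩
      · exact ⟨_, e', fun f => x1 (by rw [mul_eq_one_iff_eq_inv.mp f]; simp),
          mul_inv_eq_iff_eq_mul.mp (h1 g hg _ e' _ e' (by rwa [h2 g hg]))⟩
    refine (hN.le ?_).2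
    have hz : ∀ g ∈ C1 (l s0), g ∈ C1 (l z0) → g ∈ N (D9 (l z0) (l w0)) := fun g hg e => by
      obtain ⟨p, q, rfl, p3⟩ := h.of_C (mem_C1.mp e)
      have e1 : q * swap 0 1 = swap 0 1 * q := congrArg Prod.snd (h.inj (by
        rw [map_mul, map_mul]; exact mem_C1.mp hg) : (p, q) * s0 = s0 * (p, q))
      refine mem_N_of_cj_le ?_
      rw [B9.cj_D9, mem_C1_iff_conj.mp e]
      refine D9_le (left_mem_D9 _ _) ?_
      rcases (by decide +kernel : ∀ q : S5, q * swap 0 1 = swap 0 1 * q →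
        q * ω * q⁻¹ = ω ∨ q * ω * q⁻¹ = ω⁻¹) q e1 with e2 | e2
      · rw [rel_conj l (show _ = w0 from Prod.ext (by simp [w0]) e2)]
        exact right_mem_D9 _ _
      · rw [rel_conj l (show _ = w0⁻¹ from Prod.ext (by simp [w0]) e2), map_inv]
        exact inv_mem (right_mem_D9 _ _)
    have hw : g ∈ C1 (l w0) → g ∈ N (D9 (l z0) (l w0)) := fun e => by
      obtain ⟨σ, h3, h4⟩ := h.exists_swap
      have h5 : σ ∈ N (D9 (l z0) (l w0)) := mem_N_of_cj_le (by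
        rw [B9.cj_D9, h3, h4]; exact D9_le (right_mem_D9 _ _) (left_mem_D9 _ _))
      have h6 := hz (σ * g * σ⁻¹) (mul_mem (mul_mem (h.N_le h5) hg) (inv_mem (h.N_le h5)))
        (by rw [← h4, ← cj_C1]; exact conj_mem_cj.mpr e)
      exact (mul_mem_cancel_left h5).mp ((mul_mem_cancel_right (inv_mem h5)).mp h6)
    replace e' := mem_C1.mpr e'
    rcases h.b9.mem' hd with rfl | rfl | rfl | rfl | rfl | rfl | rfl | rfl | rfl <;>
      try simp only [C1_inv] at e'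
    exacts [absurd rfl d1, hz g hg e', hz g hg e', hw e', hw e', h.zw.1.2.1 e', h.zw.1.2.1 e',
      h.zw.2.2.1 e', h.zw.2.2.1 e']

end Hyp

namespace Cfg
variable [Finite G] {l : S3 × S5 →* G} {σ : G} {ε : Fin 2} (h : Cfg l σ ε)
include h

theorem σN : σ ∈ N (D9 (l z0) (l w0)) := mem_N_of_cj_le (by
  rw [B9.cj_D9, h.σz, h.σw]; exact D9_le (right_mem_D9 _ _) (left_mem_D9 _ _))

theorem σs : σ * l s0 * σ⁻¹ = l s0 := mem_C1_iff_conj.mp (h.N_le h.σN)

theorem σr' : σ * l (r1 ε) * σ⁻¹ = l r0 := by rw [← h.σr, conj_invol h.σ2]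

theorem of_w {K : Subgroup G} (h1 : ∀ x, l x ∈ K) (h2 : σ ∈ K) {g : G}
    (hg : g * l z0 * g⁻¹ ∈ D9 (l z0) (l w0)) : g ∈ K := by
  rcases h.conj_mem hg with e | e
  · obtain ⟨x, rfl⟩ := h.of_N e
    exact h1 x
  · obtain ⟨x, e'⟩ := h.of_N (g := σ * g) (by
      have := conj_mem_cj (g := σ).mpr e
      rw [cj_zpowers, h.σw] at this
      convert this using 1; group)
    exact (mul_mem_cancel_left h2).mp (e' ▸ h1 x)

theorem se {K : Subgroup G} (h1 : ∀ x, l x ∈ K) (h2 : σ ∈ K) : SE 3 K := by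
  have h3 : N (D9 (l z0) (l w0)) ≤ K := fun g hg =>
    h.of_w h1 h2 (conj_mem_of_mem_N hg (left_mem_D9 _ _))
  have c1 : C1 (l z0) ≤ K := fun g hg =>
    h.of_w h1 h2 (by rw [mem_C1_iff_conj.mp hg]; exact left_mem_D9 _ _)
  have c2 : C1 (l w0) ≤ K := by rw [← h.σz, ← cj_C1]; exact cj_le_of_le c1 h2
  refine se_of Nat.prime_three h.syl (D9_le (h1 _) (h1 _)) (fun g hg => h3 (mem_N.mpr hg))
    fun d hd d1 _ g hg => ?_
  replace hg := mem_C1.mpr hg
  rcases h.b9.mem' hd with rfl | rfl | rfl | rfl | rfl | rfl | rfl | rfl | rfl <;>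
    try simp only [C1_inv] at hg
  exacts [absurd rfl d1, c1 hg, c1 hg, c2 hg, c2 hg, h3 (h.zw.1.2.1 hg), h3 (h.zw.1.2.1 hg),
    h3 (h.zw.2.2.1 hg), h3 (h.zw.2.2.1 hg)]

theorem not_conj_s {q : S5} (hq : Perm.sign q = 1) (g : G) : g * l (1, q) * g⁻¹ ≠ l s0 := by
  intro e
  have := Fact.mk Nat.prime_three
  obtain ⟨c, hc, hle⟩ := (h.syl.of_le (le_C1_iff.mpr h.sC) le_top).exists_le_cj
    (X := zpowers (g * l z0 * g⁻¹)) (zpowers_le.mpr (mem_C1.mpr (by
      rw [← e]; exact comm_conj_both (rel_mul l (Prod.ext (by simp [z0]) (by simp [z0]))))))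
    (CfsgFT.isPGroup_zpowers (k := 1) (by rw [pow_one, conj_pow, h.b9.a3]; simp))
  have h1 : c⁻¹ * g * l (1, q) * (c⁻¹ * g)⁻¹ = l s0 := by
    calc _ = c⁻¹ * (g * l (1, q) * g⁻¹) * c⁻¹⁻¹ := by group
      _ = _ := by rw [e, mem_C1_iff_conj.mp (inv_mem hc)]
  have h2 : ∀ x : S3 × S5, l x * l (1, q) * (l x)⁻¹ ≠ l s0 := fun x e => by
    rw [← map_inv, ← map_mul, ← map_mul] at e
    have h3 := congrArg (fun t : S3 × S5 => Perm.sign t.2) (h.inj e)
    change Perm.sign (x.2 * q * x.2⁻¹) = Perm.sign (swap (0 : Fin 5) 1) at h3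
    rw [sign_conj', hq] at h3
    exact absurd h3 (by decide)
  rcases h.conj_mem (g := c⁻¹ * g) (by
    convert mem_cj.mp (hle (mem_zpowers _)) using 1; group) with e' | e'
  · obtain ⟨x, e''⟩ := h.of_N e'
    exact h2 x (e'' ▸ h1)
  · obtain ⟨x, e''⟩ := h.of_N (g := σ * (c⁻¹ * g)) (by
      have := conj_mem_cj (g := σ).mpr e'
      rw [cj_zpowers, h.σw] at this
      convert this using 1; group)
    refine h2 x ?_
    rw [e'', ← h.σs, ← h1]; group

end Cfg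

theorem Cfg.caseT [Finite G] {l : S3 × S5 →* G} {σ : G} (h : Cfg l σ 0) :
    Nonempty (G ≃* Perm (Fin 8)) := by
  let l' : S3 × S5 →* G := (MulAut.conj σ).toMonoidHom.comp l
  have hl' : ∀ x, l' x = σ * l x * σ⁻¹ := fun _ => rfl
  have a0 : l' (1, swap 2 3) = l (swap 0 1, 1) := h.σr'
  have a1 : l' (1, swap 3 4) = l (swap 1 2, 1) := by
    rw [show ((1, swap 3 4) : S3 × S5) = (1, swap 2 3) * w0 by decide +kernel, map_mul, a0, hl',
      h.σw, ← map_mul]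
    exact congrArg l (by decide +kernel)
  have a3 : l' (1, swap 0 1) = l (1, swap 0 1) := h.σs
  have a5 : l' (swap 0 1, 1) = l (1, swap 2 3) := h.σr
  have a6 : l' (swap 1 2, 1) = l (1, swap 3 4) := by
    rw [show ((swap 1 2, 1) : S3 × S5) = (swap 0 1, 1) * z0 by decide +kernel, map_mul, a5, hl',
      h.σz, ← map_mul]
    exact congrArg l (by decide +kernel)
  have hr : σ * l (1, swap 0 2 * swap 1 3) * l s0 * (σ * l (1, swap 0 2 * swap 1 3))⁻¹ = l r0 := by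
    rw [← h.σr', ← rel_conj l (show (1, swap 0 2 * swap 1 3) * s0 * _ = r1 0 by decide +kernel)]
    group
  obtain ⟨ψ, ψ1, ψ2⟩ : ∃ ψ : C1 (l r0) →* S6, Function.Surjective ψ ∧
      ∀ g, ψ g = 1 ↔ g.1 ∈ zpowers (l r0) := by
    rcases h.cs with e | ⟨ψ, ψ1, ψ2⟩
    · exfalso
      have h1 := card_dvd_of_le e
      have h2 := orderOf_dvd_card' (X := C1 (l r0)) (x := l (1, finRotate 5))
        (mem_C1.mpr (rel_mul l (by decide +kernel)))
      have := Fact.mk Nat.prime_five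
      rw [orderOf_eq_prime (p := 5) (rel_pow l (by decide +kernel)) (rel_ne h.inj (by decide +kernel)),
        ← hr, card_C1_conj] at h2
      rw [h.card_N] at h1
      exact absurd (h2.trans h1) (by norm_num)
    · rw [← hr]; exact s6_conj _ ψ1 ψ2
  have r2 : l r0 * l r0 = 1 := rel_sq l (by decide +kernel)
  have m : ∀ q : S5, l (1, q) ∈ C1 (l r0) := fun q =>
    mem_C1.mpr (rel_mul l (Prod.ext (by simp [r0]) (by simp [r0])))
  have m' : l' (1, swap 4 0) ∈ C1 (l r0) := by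
    rw [mem_C1, show l r0 = _ from a0.symm]; exact rel_mul l' (by decide +kernel)
  have n1 : ∀ g : C1 (l r0), g.1 ^ 3 = 1 → g.1 ≠ 1 → ψ g ≠ 1 := fun g g3 g1 e => by
    rcases mem_zpowers_order_two' r2 ((ψ2 g).mp e) with e' | e'
    · exact g1 e'
    · exact g1 (eq_one_of_sq_cube (by rw [e', r2]) g3)
  obtain ⟨i, χ, χ1, χ2, χ3⟩ := F6.norm' ψ1 (r := ⟨_, m (swap 3 4)⟩)
    (x := ⟨_, m (swap 0 1 * swap 1 2)⟩) (fun e => by
      rcases mem_zpowers_order_two' r2 ((ψ2 _).mp e) with e' | e'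
      · exact rel_ne h.inj (by decide +kernel) e'
      · exact absurd (h.inj e') (by decide +kernel))
    (Subtype.ext (rel_sq l (by decide +kernel)))
    (n1 _ (rel_pow l (by decide +kernel)) (rel_ne h.inj (by decide +kernel)))
    (Subtype.ext (rel_pow l (by decide +kernel))) (Subtype.ext (rel_mul l (by decide +kernel)))
  have lift : ∀ a : C1 (l r0), χ a * χ ⟨_, m (swap 1 2)⟩ = χ ⟨_, m (swap 1 2)⟩ * χ a →
      a.1 * l (1, swap 1 2) = l (1, swap 1 2) * a.1 := fun a e => by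
    rw [← mul_inv_eq_iff_eq_mul, ← mul_inv_eq_one, ← map_inv, ← map_inv, ← map_mul, ← map_mul,
      ← map_mul, χ2, ψ2] at e
    rcases mem_zpowers_order_two' r2 e with e' | e'
    · exact mul_inv_eq_iff_eq_mul.mp (mul_inv_eq_one.mp e')
    · exfalso
      have e1 : a.1 * l (1, swap 1 2) * a.1⁻¹ = l r0 * l (1, swap 1 2) :=
        mul_inv_eq_iff_eq_mul.mp e'
      have e2 : l (1, swap 0 2) * l (1, swap 1 2) * (l (1, swap 0 2))⁻¹ = l s0 :=
        rel_conj l (by decide +kernel)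
      have e3 : l (1, swap 0 2) * (l r0 * l (1, swap 1 2)) * (l (1, swap 0 2))⁻¹ =
          σ * l (1, R6 0 1) * σ⁻¹ := by
        rw [← map_mul, rel_conj l (show _ = r0 * s0 by decide +kernel), map_mul, ← h.σr', ← h.σs,
          conj_mul, ← map_mul]
        exact congrArg (σ * l · * σ⁻¹) (by decide +kernel)
      refine h.not_conj_s (sign_R6 0).2 (l (1, swap 0 2) * a.1⁻¹ * (l (1, swap 0 2))⁻¹ * σ) ?_
      calc _ = l (1, swap 0 2) * a.1⁻¹ * (l (1, swap 0 2))⁻¹ * (σ * l (1, R6 0 1) * σ⁻¹) *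
            (l (1, swap 0 2) * a.1⁻¹ * (l (1, swap 0 2))⁻¹)⁻¹ := by group
        _ = _ := by rw [← e3, ← e1, ← e2]; group
  obtain ⟨k, hk, hx⟩ : ∃ k : Fin 5, (k = 0 ∨ k = 1) ∧
      l' (1, swap 4 k) * l (1, swap 1 2) = l (1, swap 1 2) * l' (1, swap 4 k) := by
    have b1 : (l' (1, swap 4 0) * l (1, swap 0 1)) ^ 3 = 1 := by
      rw [← a3, ← map_mul]; exact rel_pow l' (by decide +kernel)
    have b2 : (l (1, swap 0 1) * l (1, swap 1 2)) ^ 3 = 1 := by
      rw [← map_mul]; exact rel_pow l (by decide +kernel)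
    rcases F6.factT (i := i) (a := χ ⟨_, m'⟩) (b := χ ⟨_, m (swap 0 1)⟩) (c := χ ⟨_, m (swap 1 2)⟩)
      (by rw [← χ3]; exact rel_mul χ (Subtype.ext (by
        change _ * l _ = l _ * _; rw [← a6]; exact rel_mul l' (by decide +kernel))))
      (by rw [← χ3]; exact rel_mul χ (Subtype.ext (rel_mul l (by decide +kernel))))
      (by rw [← χ3]; exact rel_mul χ (Subtype.ext (rel_mul l (by decide +kernel))))
      (rel_sq χ (Subtype.ext (rel_sq l' (by decide +kernel))))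
      (rel_sq χ (Subtype.ext (rel_sq l (by decide +kernel))))
      (rel_sq χ (Subtype.ext (rel_sq l (by decide +kernel))))
      (by rw [← map_mul]; exact rel_pow χ (Subtype.ext b1))
      (by
        rw [← map_mul, Ne, χ2]
        refine n1 _ b1 ?_
        change _ * l _ ≠ 1
        rw [← a3, ← map_mul]
        exact rel_ne ((MulAut.conj σ).injective.comp h.inj) (by decide +kernel))
      (by rw [← map_mul]; exact rel_pow χ (Subtype.ext b2))
      (by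
        rw [← map_mul, Ne, χ2]
        refine n1 _ b2 ?_
        change l _ * l _ ≠ 1
        rw [← map_mul]
        exact rel_ne h.inj (by decide +kernel)) with e | e
    · exact ⟨0, Or.inl rfl, lift _ e⟩
    · refine ⟨1, Or.inr rfl, ?_⟩
      rw [← map_mul, ← map_mul] at e
      have := lift _ e
      change l _ * l' _ * l _ * _ = _ * (l _ * l' _ * l _) at this
      rwa [← a3, ← map_mul, ← map_mul, show (1, swap 0 1) * (1, swap 4 0) * (1, swap 0 1) =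
        ((1, swap 4 1) : S3 × S5) by decide +kernel] at this
  let y0 : Fin 7 → S3 × S5 := ![(swap 0 1, 1), (swap 1 2, 1), 1, (1, swap 0 1), (1, swap 1 2),
    (1, swap 2 3), (1, swap 3 4)]
  let y : ℕ → G := fun n => if n = 2 then l' (1, swap 4 k) else l (y0 (Fin.ofNat 7 n))
  have hb : ∀ (f : S3 × S5 →* G) (a b : S3 × S5), a * b * a = b * a * b →
      f a * f b * f a = f b * f a * f b := fun f a b e => by simp only [← map_mul, e]
  obtain ⟨φ, hφ⟩ := (show CoxRel y 7 from ⟨fun i hi => by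
      interval_cases i
      iterate 2 exact rel_sq l (by decide +kernel)
      · exact rel_sq l' (Prod.ext (one_mul _) (swap_mul_self _ _))
      all_goals exact rel_sq l (by decide +kernel), fun i hi => by
      have : i < 6 := by omega
      interval_cases i
      · exact hb l _ _ (by decide +kernel)
      · change l (swap 1 2, 1) * l' _ * l (swap 1 2, 1) = l' _ * l (swap 1 2, 1) * l' _
        rw [← a1]
        exact hb l' _ _ (by rcases hk with rfl | rfl <;> decide +kernel)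
      · change l' _ * l (1, swap 0 1) * l' _ = l (1, swap 0 1) * l' _ * l (1, swap 0 1)
        rw [← a3]
        exact hb l' _ _ (by rcases hk with rfl | rfl <;> decide +kernel)
      all_goals exact hb l _ _ (by decide +kernel), fun i j hi hj => by
      have : i < 5 := by omega
      interval_cases i <;> interval_cases j
      · change l (swap 0 1, 1) * l' _ = l' _ * l (swap 0 1, 1)
        rw [← a0]
        exact rel_mul l' (by rcases hk with rfl | rfl <;> decide +kernel)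
      iterate 8 exact rel_mul l (by decide +kernel)
      · exact hx
      · change l' _ * l (1, swap 2 3) = l (1, swap 2 3) * l' _
        rw [← a5]
        exact rel_mul l' (Prod.ext (by simp) (by simp))
      · change l' _ * l (1, swap 3 4) = l (1, swap 3 4) * l' _
        rw [← a6]
        exact rel_mul l' (Prod.ext (by simp) (by simp))
      all_goals exact rel_mul l (by decide +kernel)⟩).exists_hom
  have hy : ∀ n : Fin 7, n.val ≠ 2 → φ (adjSwap 7 n) = l (y0 n) := fun n hn => by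
    rw [hφ n n.2]
    simp [y, hn]
  have hz : φ (adjSwap 7 0 * adjSwap 7 1) = l z0 := by
    rw [map_mul]
    exact (congrArg₂ _ (hy 0 (by decide)) (hy 1 (by decide))).trans (map_mul l _ _).symm
  have hw : φ (adjSwap 7 5 * adjSwap 7 6) = l w0 := by
    rw [map_mul]
    exact (congrArg₂ _ (hy 5 (by decide)) (hy 6 (by decide))).trans (map_mul l _ _).symm
  have hφi : Function.Injective φ := sym_injective (by norm_num) (x := sw2 0 1 1 2)
    (by rw [show (sw2 (0 : Fin 8) 1 1 2).1 = adjSwap 7 0 * adjSwap 7 1 by decide +kernel, hz]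
        exact h.b9.a1)
  have hl : ∀ x, l x ∈ φ.range := fun x => by
    rw [show x = (x.1, 1) * (1, x.2) from Prod.ext (mul_one _).symm (one_mul _).symm, map_mul]
    refine mul_mem (sym_le (f := l.comp (MonoidHom.inl S3 S5)) (fun i hi => ?_) x.1)
      (sym_le (f := l.comp (MonoidHom.inr S3 S5)) (fun i hi => ?_) x.2)
    · interval_cases i
      exacts [⟨_, hy 0 (by decide)⟩, ⟨_, hy 1 (by decide)⟩]
    · interval_cases i
      exacts [⟨_, hy 3 (by decide)⟩, ⟨_, hy 4 (by decide)⟩, ⟨_, hy 5 (by decide)⟩,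
        ⟨_, hy 6 (by decide)⟩]
  have hσ : σ ∈ φ.range := by
    have e : φ (swap 0 5 * swap 1 6 * swap 2 7) * l w0 * (φ (swap 0 5 * swap 1 6 * swap 2 7))⁻¹ =
        l z0 := by
      rw [← hz, ← hw]; exact rel_conj φ (by decide +kernel)
    obtain ⟨x, e'⟩ := h.of_N (g := φ (swap 0 5 * swap 1 6 * swap 2 7) * σ) (by
      have := mem_zpowers (l z0)
      rw [← e, ← h.σz] at this
      convert this using 1
      · rw [h.σz, e]
      · group)
    exact (φ.range.mul_mem_cancel_left ⟨_, rfl⟩).mp (e' ▸ hl x)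
  exact ⟨(MulEquiv.ofBijective φ ⟨hφi, endgame_S8 hφi (h.se hl hσ)⟩).symm⟩

end S8c
end CfsgH7
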