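import Cfsg.Agent.H7.Loc4

/-! Endgame for `A₅ × A₅`. -/

set_option autoImplicit false

namespace CfsgH7
open Subgroup CfsgH5 CfsgH6 CfsgFT CfsgH8 CfsgH9 Equiv
open scoped commutatorElement

universe u
variable {G : Type u} [Group G]

namespace AA
def ρ : A5 := sw2 2 3 0 1
def g1 : A5 := sw2 0 2 1 3
def γ : A5 := sw2 0 1 1 2
def c5 : A5 := sw2 0 1 1 2 * sw2 2 3 3 4

theorem V_cases : ∀ a : A5, a * ρ = ρ * a → a = 1 ∨ a = ρ ∨ a = g1 ∨ a = ρ * g1 := by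
  decide +kernel
theorem inv_conj : ∀ a : A5, a * a = 1 → a ≠ 1 → ∃ k : A5, k * ρ * k⁻¹ = a := by decide +kernel
theorem cent_γ : ∀ a : A5, a * γ = γ * a → a = 1 ∨ a * γ⁻¹ = 1 ∨ a * γ = 1 := by decide +kernel
theorem V_ab : ∀ a : A5, a * ρ = ρ * a → a * a = 1 ∧ ∀ b : A5, b * ρ = ρ * b → a * b = b * a := by
  decide +kernel

theorem card_V : Nat.card (C1 ρ) = 4 := by
  rw [Nat.card_congr (Equiv.subtypeEquivRight fun x => (mem_C1 : x ∈ C1 ρ ↔ _)),
    Nat.card_eq_fintype_card]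
  decide +kernel

theorem le_of_normal {f : A5 →* G} {K : Subgroup G} (hn : ∀ a, ∀ k ∈ K, f a * k * (f a)⁻¹ ∈ K)
    {x : A5} (x1 : x ≠ 1) (hx : f x ∈ K) (a : A5) : f a ∈ K := by
  have := alternatingGroup.isSimpleGroup (α := Fin 5) (by simp)
  have hN : (K.comap f).Normal := ⟨fun b hb g => by
    rw [mem_comap, map_mul, map_mul, map_inv]; exact hn _ _ hb⟩
  rcases hN.eq_bot_or_eq_top with e | e
  · exact absurd (mem_bot.mp (e.le hx)) x1
  · exact (e.ge (mem_top a) : a ∈ K.comap f)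

structure Hyp (ν : A5 × A5 →* G) : Prop where
  inj : Function.Injective ν
  se : SE 3 ν.range
  odd : ¬ 2 ∣ ν.range.index
  hu : ∀ g a b, a ≠ 1 → b ≠ 1 → g * ν (ρ, 1) * g⁻¹ ≠ ν (a, b) ∧ g * ν (1, ρ) * g⁻¹ ≠ ν (a, b)

def sw (ν : A5 × A5 →* G) : A5 × A5 →* G := ν.comp MulEquiv.prodComm.toMonoidHom

theorem range_sw (ν : A5 × A5 →* G) : (sw ν).range = ν.range :=
  le_antisymm (fun _ ⟨x, e⟩ => ⟨_, e⟩) fun _ ⟨x, e⟩ => ⟨x.swap, e⟩

def M (ν : A5 × A5 →* G) : Subgroup G := ((C1 ρ).prod (C1 ρ)).map ν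

theorem mem_M {ν : A5 × A5 →* G} {g : G} :
    g ∈ M ν ↔ ∃ a b, a * ρ = ρ * a ∧ b * ρ = ρ * b ∧ ν (a, b) = g :=
  ⟨fun ⟨x, h, e⟩ => ⟨x.1, x.2, mem_C1.mp h.1, mem_C1.mp h.2, e⟩,
    fun ⟨_, _, h1, h2, e⟩ => ⟨_, ⟨mem_C1.mpr h1, mem_C1.mpr h2⟩, e⟩⟩

namespace Hyp
variable [Finite G] {ν : A5 × A5 →* G} (h : Hyp ν)
include h

theorem symm : Hyp (sw ν) := ⟨h.inj.comp MulEquiv.prodComm.injective, range_sw ν ▸ h.se,
  range_sw ν ▸ h.odd, fun g a b ha hb => (h.hu g b a hb ha).symm⟩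

theorem ab_M : Ab (M ν) := ab_iff.mpr fun x hx y hy => by
  obtain ⟨a, b, h1, h2, rfl⟩ := mem_M.mp hx
  obtain ⟨c, d, h3, h4, rfl⟩ := mem_M.mp hy
  exact rel_mul ν (Prod.ext ((V_ab a h1).2 c h3) ((V_ab b h2).2 d h4))

theorem card_M : Nat.card (M ν) = 16 := by
  rw [M, card_map_of_injective h.inj, Nat.card_congr (prodEquiv _ _).toEquiv, Nat.card_prod, card_V]

theorem syl_M : SylIn 2 (M ν) ⊤ := by
  have h1 : M ν ≤ ν.range := map_le_range _ _
  refine SylIn.trans_not_dvd Nat.prime_two (sylIn_of_not_dvd h1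
    (isPGroup_of_card_eq (k := 4) h.card_M) ?_) le_top (by rw [relIndex_top_right]; exact h.odd)
  rw [relIndex_eq_of_mul h1 (n := 225) (by
    rw [h.card_M, card_range_inj h.inj, Nat.card_prod, card_A5])]
  norm_num

theorem types {g : G} {a a' b' : A5} (a1 : a ≠ 1) (a2 : a * a = 1)
    (e : g * ν (a, 1) * g⁻¹ = ν (a', b')) : b' = 1 := by
  by_contra hb
  by_cases ha : a' = 1
  · subst ha
    obtain ⟨_, ⟨k, rfl⟩, e'⟩ := h.se.fusion Nat.prime_three (u := ν (a, 1)) (g := g) ⟨(1, γ), rfl⟩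
      (rel_ne h.inj (by decide +kernel)) (rel_pow ν (by decide +kernel))
      (rel_mul ν (by simp)) ⟨(γ, 1), rfl⟩ (rel_ne h.inj (by decide +kernel))
      (rel_pow ν (by decide +kernel)) (by rw [e]; exact rel_mul ν (by simp))
    rw [e, ← map_inv, ← map_mul, ← map_mul] at e'
    exact conj_ne_one a1 k.1 (congrArg Prod.fst (h.inj e'))
  · obtain ⟨k, rfl⟩ := inv_conj a a2 a1
    refine (h.hu (g * ν (k, 1)) a' b' ha hb).1 ?_
    rw [← e, ← rel_conj ν (show (k, 1) * (ρ, 1) * (k, 1)⁻¹ = (k * ρ * k⁻¹, 1) by simp)]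
    group

theorem ct : C1 (ν (1, ρ)) ≤ ν.range := by
  have hM : M ν ≤ C1 (ν (1, ρ)) := le_C1_iff.mpr (h.ab_M (mem_M.mpr ⟨1, ρ, by simp, rfl, rfl⟩))
  have hS := h.syl_M.of_le hM le_top
  have hV : M ν ⊓ D (C1 (ν (1, ρ))) ≤ (C1 ρ).map (ν.comp (MonoidHom.inl A5 A5)) := by
    refine hS.inf_D_le Nat.prime_two fun x hx g hg hx' => ?_
    obtain ⟨n, ⟨hn, hn'⟩, e⟩ := hS.fusion_C Nat.prime_two (h.ab_M hx) hg (h.ab_M hx')
    have h1 : n * ν (1, g1) * n⁻¹ = ν (1, g1) := by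
      obtain ⟨a, b, -, hb, e1⟩ := mem_M.mp (conj_mem_of_mem_N hn'
        (mem_M.mpr ⟨1, g1, by simp, by decide +kernel, rfl⟩))
      obtain rfl : a = 1 := h.symm.types (g := n) (a := g1) (by decide +kernel) (by decide +kernel)
        e1.symm
      have h2 := mem_C1_iff_conj.mp hn
      rcases V_cases b hb with rfl | rfl | rfl | rfl
      · exact absurd (e1.symm.trans (map_one ν))
          (conj_ne_one (rel_ne h.inj (by decide +kernel)) n)
      · exact absurd (h.inj (mul_left_cancel (mul_right_cancel (h2.trans e1)))) (by decide +kernel)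
      · exact e1.symm
      · have h3 : n * n ∈ C1 (ν (1, g1)) := mem_C1_iff_conj.mpr (by
          calc _ = n * (n * ν (1, g1) * n⁻¹) * n⁻¹ := by group
            _ = n * ν (1, ρ) * n⁻¹ * (n * ν (1, g1) * n⁻¹) := by
              rw [conj_mul, ← e1, ← map_mul]; rfl
            _ = _ := by rw [h2, ← e1, ← map_mul]; exact congrArg ν (by decide +kernel))
        have h4 := (nrm_of_le_N (inf_le_right (a := C1 (ν (1, ρ))) (b := N (M ν)))).normal_subgroupOf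
        have h5 : n ^ (M ν).relIndex (C1 (ν (1, ρ)) ⊓ N (M ν)) ∈ M ν :=
          pow_index_mem ((M ν).subgroupOf (C1 (ν (1, ρ)) ⊓ N (M ν))) ⟨n, hn, hn'⟩
        obtain ⟨k, hk⟩ := Nat.not_even_iff_odd.mp fun e => (hS.of_le (le_inf hM (le_N _))
          inf_le_left).not_dvd_relIndex e.two_dvd
        have h6 : n ^ (2 * k + 1) ∈ C1 (ν (1, g1)) := hk ▸ le_C1_iff.mpr
          (h.ab_M (mem_M.mpr ⟨1, g1, by simp, by decide +kernel, rfl⟩)) h5
        rw [pow_succ, pow_mul, pow_two, mul_mem_cancel_left (pow_mem h3 k)] at h6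
        exact mem_C1_iff_conj.mp h6
    obtain ⟨a, b, ha, hb, rfl⟩ := mem_M.mp hx
    have h2 : n * ν (1, b) * n⁻¹ = ν (1, b) := by
      have h3 := mem_C1_iff_conj.mp hn
      rcases V_cases b hb with rfl | rfl | rfl | rfl
      · rw [show ν (1, 1) = 1 from map_one ν]; simp
      · exact h3
      · exact h1
      · rw [show ν (1, ρ * g1) = ν (1, ρ) * ν (1, g1) from map_mul ν (1, ρ) (1, g1), ← conj_mul, h3,
          h1]
    obtain ⟨a', ha', h3⟩ : ∃ a', a' * ρ = ρ * a' ∧ n * ν (a, 1) * n⁻¹ = ν (a', 1) := by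
      by_cases a1 : a = 1
      · exact ⟨1, by simp, by rw [a1, show ν (1, 1) = 1 from map_one ν]; simp⟩
      obtain ⟨a', b', ha', -, e1⟩ := mem_M.mp (conj_mem_of_mem_N hn'
        (mem_M.mpr ⟨a, 1, ha, by simp, rfl⟩))
      obtain rfl := h.types a1 (V_ab a ha).1 e1.symm
      exact ⟨a', ha', e1.symm⟩
    refine ⟨a⁻¹ * a', mul_mem (inv_mem (mem_C1.mpr ha)) (mem_C1.mpr ha'), ?_⟩
    rw [e, show ν (a, b) = ν (a, 1) * ν (1, b) by rw [← map_mul]; simp]
    rw [← conj_mul (b := n), h2, h3, ← map_mul, ← map_mul, ← map_inv, ← map_mul]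
    exact congrArg ν (by simp)
  have hi : Function.Injective (ν.comp (MonoidHom.inl A5 A5)) :=
    h.inj.comp (Prod.mk_left_injective 1)
  have hK0 : ∀ a, ν (a, 1) ∈ C1 (ν (1, ρ)) := fun a => mem_C1.mpr (rel_mul ν (by simp))
  have hK : ∀ a, ν (a, 1) ∈ D (C1 (ν (1, ρ))) := by
    refine le_of_normal (f := ν.comp (MonoidHom.inl A5 A5))
      (fun a => (normalIn_D _).nrm _ (hK0 a)) (x := ⁅ρ, γ⁆) (by decide +kernel) ?_
    rw [map_commutatorElement]
    exact commutator_mem_commutator (hK0 _) (hK0 _)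
  have h8 : ¬ 8 ∣ Nat.card (D (C1 (ν (1, ρ)))) := fun e => by
    have h1 := hS.inf_nrm (D_le _) (normalIn_D _).nrm
    have h2 := card_dvd_of_le hV
    rw [card_map_of_injective hi, card_V] at h2
    rw [← card_mul_relIndex h1.le] at e
    have h3 := Nat.Coprime.dvd_of_dvd_mul_right (Nat.Coprime.pow_left 3
      ((Nat.Prime.coprime_iff_not_dvd Nat.prime_two).mpr h1.not_dvd_relIndex)) e
    exact absurd (h3.trans h2) (by norm_num)
  have x1 : ν (γ, 1) ≠ 1 := rel_ne h.inj (by decide +kernel)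
  have x3 : ν (γ, 1) ^ 3 = 1 := rel_pow ν (by decide +kernel)
  have hC : ∀ g ∈ D (C1 (ν (1, ρ))), g * ν (γ, 1) = ν (γ, 1) * g →
      g ∈ (⊥ : Subgroup G) ∨ g * (ν (γ, 1))⁻¹ ∈ (⊥ : Subgroup G) ∨ g * ν (γ, 1) ∈ (⊥ : Subgroup G) := by
    intro g hg e
    obtain ⟨⟨a, b⟩, rfl⟩ := h.se.cent ⟨_, rfl⟩ x1 x3 e
    have h1 : b * ρ = ρ * b := congrArg Prod.snd (h.inj (by
      rw [map_mul, map_mul]; exact mem_C1.mp (D_le _ hg)) : (a, b) * (1, ρ) = (1, ρ) * (a, b))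
    obtain ⟨c, -, h2⟩ := hV (x := ν (1, b)) ⟨mem_M.mpr ⟨1, b, by simp, h1, rfl⟩, by
      have := mul_mem (inv_mem (hK a)) hg
      rwa [← map_inv, ← map_mul, show (a, (1 : A5))⁻¹ * (a, b) = (1, b) by simp] at this⟩
    obtain rfl : 1 = b := congrArg Prod.snd (h.inj h2)
    simp only [mem_bot, ← map_inv, ← map_mul, map_eq_one_iff ν h.inj]
    simpa using cent_γ a (congrArg Prod.fst (h.inj (by rwa [map_mul, map_mul]) :
      (a, 1) * (γ, 1) = (γ, 1) * (a, (1 : A5))))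
  obtain ⟨N, hN, hcase⟩ := ft3_section (Z := ⊥) bot_le (by simp) (by simp) (hK γ) x1 x3 hC
  rcases hcase with h1 | ⟨h1, f, hf, h2⟩ | h1
  · obtain ⟨k1, k2, -⟩ := hN.con1 (hK γ) x1 x3 hC h1
    have k3 := k1 _ (hK c5)
    rw [← map_pow, show (c5, (1 : A5)) ^ 6 = (c5, 1) by decide +kernel] at k3
    have k4 := k2 _ (hK ρ) (by rw [rel_sq ν (by decide +kernel)]; exact one_mem _) (by
      simp only [← map_inv, ← map_mul]
      rw [show _ * _ = (1 : A5 × A5) by decide +kernel, map_one]; exact one_mem _)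
    have := Fact.mk Nat.prime_five
    have k5 := hN.comm _ k3 _ k4 (by
      rw [orderOf_eq_prime (p := 5) (rel_pow ν (by decide +kernel)) (rel_ne h.inj (by decide +kernel)),
        orderOf_eq_two (rel_sq ν (by decide +kernel)) (rel_ne h.inj (by decide +kernel))]
      norm_num)
    rw [← map_mul, ← map_mul] at k5
    exact absurd (h.inj k5) (by decide +kernel)
  · have k1 : N.relIndex (D (C1 (ν (1, ρ)))) = 60 := by
      have : N.subgroupOf (D (C1 (ν (1, ρ)))) = f.ker := by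
        ext g; rw [mem_subgroupOf, MonoidHom.mem_ker, h2]
      rw [relIndex, this, index_ker, MonoidHom.range_eq_top.mpr hf, card_top, card_A5]
    obtain ⟨k, hk⟩ := exists_card_eq_pow Nat.prime_two (P := N) fun n =>
      ⟨1, Subtype.ext (mem_bot.mp (h1 n n.2))⟩
    have k3 := card_mul_relIndex hN.le2
    rw [k1, hk] at k3
    have k4 : k = 0 := by
      by_contra hh
      exact h8 (k3 ▸ (show 8 ∣ 2 ^ 1 * 60 by norm_num).trans
        (Nat.mul_dvd_mul_right (pow_dvd_pow 2 (by omega)) _))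
    have k5 : (ν.comp (MonoidHom.inl A5 A5)).range = D (C1 (ν (1, ρ))) :=
      eq_of_le_of_card_eq (by rintro _ ⟨a, rfl⟩; exact hK a) (by
        rw [card_range_inj hi, card_A5, ← k3, k4]; rfl)
    intro g hg
    obtain ⟨a, e⟩ := k5.ge ((normalIn_D _).nrm g hg _ (hK γ))
    exact h.se _ ⟨_, rfl⟩ x1 x3 g ⟨_, e⟩
  · rw [relIndex_bot_left] at h1
    exact absurd (h1 ▸ (by norm_num : 8 ∣ 168)) h8

theorem ct' {b : A5} (b1 : b ≠ 1) (b2 : b * b = 1) : C1 (ν (1, b)) ≤ ν.range := by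
  obtain ⟨k, rfl⟩ := inv_conj b b2 b1
  rw [← rel_conj ν (show (1, k) * (1, ρ) * (1, k)⁻¹ = (1, k * ρ * k⁻¹) by simp), ← cj_C1]
  exact cj_le_of_le h.ct ⟨_, rfl⟩

theorem hf {g : G} (hg : g * ν (1, ρ) * g⁻¹ ∈ ν.range) : g ∈ ν.range := by
  obtain ⟨⟨a, b⟩, e⟩ := hg
  obtain rfl : a = 1 := h.symm.types (g := g) (a := ρ) (by decide +kernel) (by decide +kernel) e.symm
  obtain ⟨k, rfl⟩ := inv_conj b (congrArg Prod.snd (h.inj (by
    rw [map_mul, e, conj_mul_self (rel_sq ν (by decide +kernel)), map_one]) :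
      ((1 : A5), b) * (1, b) = 1)) fun e' => conj_ne_one (rel_ne h.inj (x := (1, ρ))
        (by decide +kernel)) g (by rw [← e, e']; exact map_one ν)
  rw [← rel_conj ν (show (1, k) * (1, ρ) * (1, k)⁻¹ = (1, k * ρ * k⁻¹) by simp)] at e
  refine (ν.range.mul_mem_cancel_left (inv_mem ⟨(1, k), rfl⟩)).mp (h.ct (mem_C1_iff_conj.mpr ?_))
  calc _ = (ν (1, k))⁻¹ * (g * ν (1, ρ) * g⁻¹) * ν (1, k) := by group
    _ = _ := by rw [← e]; group

theorem cu : C1 (ν (ρ, ρ)) ≤ ν.range := by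
  have hM : M ν ≤ C1 (ν (ρ, ρ)) := le_C1_iff.mpr (h.ab_M (mem_M.mpr ⟨ρ, ρ, rfl, rfl, rfl⟩))
  have hS := h.syl_M.of_le hM le_top
  have hP := hS.pNil_of_le_C Nat.prime_two fun n hn => by
    obtain ⟨⟨a, b⟩, rfl⟩ := h.hf (map_le_range _ _ (conj_mem_of_mem_N hn.2
      (mem_M.mpr ⟨1, ρ, by simp, rfl, rfl⟩)))
    have e : (a, b) * (ρ, ρ) = (ρ, ρ) * (a, b) := h.inj (by
      rw [map_mul, map_mul]; exact mem_C1.mp hn.1)
    exact h.ab_M (mem_M.mpr ⟨a, b, congrArg Prod.fst e, congrArg Prod.snd e, rfl⟩)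
  rw [← (hP.sdp Nat.prime_two hS).2.2]
  refine sup_le ?_ (map_le_range _ _)
  have hi : Function.Injective (ν.comp (MonoidHom.inr A5 A5)) :=
    h.inj.comp (Prod.mk_right_injective 1)
  have hA : (C1 ρ).map (ν.comp (MonoidHom.inr A5 A5)) ≤ M ν := by
    rintro _ ⟨b, hb, rfl⟩
    exact mem_M.mpr ⟨1, b, by simp, mem_C1.mp hb, rfl⟩
  refine le_of_cent1_le (h.ab_M.mono hA) (fun hc => ?_) ((nrm_Opi _ _).mono (hA.trans hM))
    (by rw [card_map_of_injective hi, card_V]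
        exact Nat.Coprime.pow_right 2 ((Nat.Prime.coprime_iff_not_dvd Nat.prime_two).mpr
          (CfsgFT.not_dvd_card_Opc Nat.prime_two _)).symm) ?_
  · obtain ⟨⟨_, b, hb, rfl⟩, e⟩ := hc.exists_ofOrder_eq_natCard
    rw [card_map_of_injective hi, card_V] at e
    have := orderOf_dvd_of_pow_eq_one (x := (⟨_, b, hb, rfl⟩ : (C1 ρ).map
      (ν.comp (MonoidHom.inr A5 A5)))) (n := 2) (Subtype.ext (by
        rw [pow_two]; exact rel_sq _ (V_ab b (mem_C1.mp hb)).1))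
    exact absurd (e.symm.dvd.trans this) (by norm_num)
  · rintro _ ⟨b, hb, rfl⟩ b1
    exact inf_le_right.trans (h.ct' (fun e => b1 (by rw [e, map_one])) (V_ab b (mem_C1.mp hb)).1)

theorem main : Function.Surjective ν := fun g => by
  by_contra hg
  obtain ⟨k, e⟩ := isConj_iff.mp (isConj_of_cent_le (M := ν.range) (t := ν (ρ, 1)) (by
    rintro _ ⟨⟨a, b⟩, rfl⟩ w1 w2
    have e : (a, b) * (a, b) = 1 := h.inj (by rwa [map_mul, map_one])
    by_cases ha : a = 1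
    · subst ha
      exact h.ct' (fun e' => w1 (by rw [e']; exact map_one ν)) (congrArg Prod.snd e)
    by_cases hb : b = 1
    · subst hb
      exact range_sw ν ▸ h.symm.ct' ha (congrArg Prod.fst e)
    obtain ⟨k, rfl⟩ := inv_conj a (congrArg Prod.fst e) ha
    obtain ⟨k', rfl⟩ := inv_conj b (congrArg Prod.snd e) hb
    change C1 _ ≤ _
    rw [← rel_conj ν (show (k, k') * (ρ, ρ) * (k, k')⁻¹ = (k * ρ * k⁻¹, k' * ρ * k'⁻¹) from rfl), ← cj_C1]
    exact cj_le_of_le h.cu ⟨_, rfl⟩) (rel_sq ν (by decide +kernel))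
    (rel_ne h.inj (by decide +kernel)) ⟨_, rfl⟩ (conj_mul_self (rel_sq ν (by decide +kernel)) g)
    fun e => hg (h.hf e))
  exact absurd (h.symm.types (g := k * g) (a := ρ) (a' := 1) (b' := ρ) (by decide +kernel)
    (by decide +kernel) (e ▸ by change _ * ν (1, ρ) * _ = _; group)) (by decide +kernel)

end Hyp
end AA
end CfsgH7
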