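import Cfsg.Agent.H7.Loc7
import Cfsg.Agent.H7.Loc8
import Cfsg.Agent.H9.Loc3K

/-! The 3-local characterization of `S₈`: the exceptional case. -/

set_option autoImplicit false

namespace CfsgH7
open Subgroup CfsgH5 CfsgH6 CfsgFT CfsgH8 CfsgH9 Equiv F5 F6

universe u
variable {G : Type u} [Group G]

theorem not_dvd_idx_seven' [Finite G] {L P : Subgroup G} (hP : SylIn 7 P L)
    (hL : Nat.card L ∣ 672) : ¬ 3 ∣ (N P).relIndex L := by
  haveI : Fact (Nat.Prime 7) := ⟨by norm_num⟩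
  have h1 := card_sylow_modEq_one 7 L
  rw [hP.toSylow.card_eq_index_normalizer] at h1
  have h2 : normalizer ((hP.toSylow : Sylow 7 L) : Set L) = (N P).subgroupOf L := by
    rw [subgroupOf_normalizer_eq hP.le]; rfl
  rw [h2] at h1
  have h3 : (N P).relIndex L ∣ 672 := (relIndex_dvd_card' _ _).trans hL
  change (N P).relIndex L ≡ 1 [MOD 7] at h1
  generalize (N P).relIndex L = n at h1 h3
  have h4 := Nat.le_of_dvd (by norm_num) h3
  unfold Nat.ModEq at h1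
  rintro ⟨k, rfl⟩
  have : k ≤ 224 := by omega
  interval_cases k <;> omega

theorem F6.P4.map {H : Type*} [Group H] (ψ : G →* H) {w r f : G} (h : P4 w r f) :
    P4 (ψ w) (ψ r) (ψ f) :=
  ⟨rel_sq ψ h.1, rel_mul ψ h.2.1, by simp only [← map_inv, ← map_mul, h.2.2, map_one]⟩

theorem F6.P4.conj (g : G) {w r f : G} (h : P4 w r f) :
    P4 (g * w * g⁻¹) (g * r * g⁻¹) (g * f * g⁻¹) := h.map (MulAut.conj g).toMonoidHom

theorem prod_mul_central {s w f : G} (s2 : s * s = 1) (hw : w * s = s * w) (hf : f * s = s * f) :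
    f * s * (w * (f * s) * w⁻¹) * (w⁻¹ * (f * s) * w) =
      f * (w * f * w⁻¹) * (w⁻¹ * f * w) * s := by
  have h1 : s * f * s⁻¹ = f := by rw [← hf]; group
  have h2 : s * w * s⁻¹ = w := by rw [← hw]; group
  calc _ = f * (s * w * s⁻¹ * (s * f * s⁻¹) * (s * s) * w⁻¹) * (w⁻¹ * f * (s * w * s⁻¹) * s) := by
        group
    _ = _ := by rw [h1, h2, s2]; group

namespace S8c

def fc (c q : S5) : S5 := q * (c * q * c⁻¹)
def T3 (x : S5) : Prop := x ^ 2 ≠ 1 ∧ (x ^ 2) ^ 3 = 1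
instance (x : S5) : Decidable (T3 x) := by unfold T3; infer_instance

set_option synthInstance.maxSize 2048 in
theorem inv_sub' : ∀ q : S5, q * ω = ω * q ∨ T3 (fc ω (fc ω q)) ∨ T3 (fc ω (fc ω⁻¹ q)) ∨
    T3 (fc ω (fc (R6 0 1) q)) ∨ T3 (fc (ω * R6 0 1) (q * (ω * q * ω⁻¹)⁻¹)) ∨
    T3 (fc (R6 0 1) (fc ω q)) := by decide +kernel

def g0 : S3 × S5 := (1, swap 0 2 * swap 1 3)

theorem centA : ∀ p : S3, p * τ = τ * p → ∀ q : S5, q * swap 0 1 = swap 0 1 * q →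
    q * R6 0 1 = R6 0 1 * q → (p, q) * (p, q) = 1 ∧ (q * g0.2 = g0.2 * q →
      (p, q) = 1 ∨ (p, q) = r0 ∨ (p, q) = r1 1 ∨ (p, q) = r0 * r1 1) := by decide +kernel

theorem centK : ∀ q : S5, q * g0.2 = g0.2 * q → q * ω = ω * q → q = 1 := by decide +kernel

namespace Cfg
variable [Finite G] {l : S3 × S5 →* G} {σ : G} (h : Cfg l σ 1)
include h

theorem no_four {f : G} (h1 : f * l (1, v1) = l (1, v1) * f) (h2 : f * l (1, v2) = l (1, v2) * f)
    (hf : P4 (l z0) (l r0) f) : f = 1 := by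
  have := Fact.mk Nat.prime_three
  have hX : Nrm (D9 (l z0) (l w0)) (C1 (l (1, v1)) ⊓ C1 (l (1, v2))) := by
    have hk : ∀ z x w : S3 × S5, z⁻¹ * x * z = w → ∀ m : G, m * l w = l w * m →
        l z * m * (l z)⁻¹ ∈ C1 (l x) := fun z x w e m hm =>
      mem_C1.mpr (comm_conj_of (by rwa [← map_inv, ← map_mul, ← map_mul, e]))
    refine h.b9.nrm (fun m hm => ⟨hk _ _ (1, v1) (by decide +kernel) m (mem_C1.mp hm.1),
      hk _ _ (1, v2) (by decide +kernel) m (mem_C1.mp hm.2)⟩) fun m hm =>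
      ⟨hk _ _ ((1, v1) * (1, v2)) (by decide +kernel) m ?_,
        hk _ _ (1, v1) (by decide +kernel) m (mem_C1.mp hm.1)⟩
    rw [map_mul]; exact comm_mul_of (mem_C1.mp hm.1) (mem_C1.mp hm.2)
  generalize hXe : C1 (l (1, v1)) ⊓ C1 (l (1, v2)) = X at hX
  have mX : ∀ g, g ∈ X ↔ g * l (1, v1) = l (1, v1) * g ∧ g * l (1, v2) = l (1, v2) * g := by
    simp only [← hXe, mem_inf, mem_C1, implies_true]
  have fX := (mX f).mpr ⟨h1, h2⟩
  have zX := (mX (l z0)).mpr ⟨rel_mul l (by decide +kernel), rel_mul l (by decide +kernel)⟩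
  have rX := (mX (l r0)).mpr ⟨rel_mul l (by decide +kernel), rel_mul l (by decide +kernel)⟩
  have hc : ∀ g ∈ X, zpowers (l (1, v1)) ⊔ zpowers (l (1, v2)) ≤ C1 g := fun g hg =>
    sup_le (zpowers_le.mpr (mem_C1.mpr ((mX g).mp hg).1.symm))
      (zpowers_le.mpr (mem_C1.mpr ((mX g).mp hg).2.symm))
  have h4 : Nat.card ↥(zpowers (l (1, v1)) ⊔ zpowers (l (1, v2))) ∣ 4 := by
    have := card_sup_dvd (X := zpowers (l (1, v1))) (Y := zpowers (l (1, v2))) (Or.inl (nrm_of_le_C (by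
      rw [C_zpowers, zpowers_le, mem_C1]; exact rel_mul l (by decide +kernel))))
    rwa [Nat.card_zpowers, Nat.card_zpowers,
      orderOf_eq_two (rel_sq l (by decide +kernel)) (rel_ne h.inj (by decide +kernel)),
      orderOf_eq_two (rel_sq l (by decide +kernel)) (rel_ne h.inj (by decide +kernel))] at this
  have hZ : zpowers (l (1, v1)) ⊔ zpowers (l (1, v2)) ≤ X := sup_le
    (zpowers_le.mpr ((mX _).mpr ⟨rfl, rel_mul l (by decide +kernel)⟩))
    (zpowers_le.mpr ((mX _).mpr ⟨rel_mul l (by decide +kernel), rfl⟩))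
  have hV : ∀ t, l (1, V4 t) ∈ zpowers (l (1, v1)) ⊔ zpowers (l (1, v2)) := fun t => by
    have a1 := mem_sup_left (T := zpowers (l (1, v2))) (mem_zpowers (l (1, v1)))
    have a2 := mem_sup_right (S := zpowers (l (1, v1))) (mem_zpowers (l (1, v2)))
    have a3 := mul_mem a1 a2
    rw [← map_mul] at a3
    fin_cases t
    exacts [(map_one l).symm ▸ one_mem _, a1, a2, a3]
  generalize zpowers (l (1, v1)) ⊔ zpowers (l (1, v2)) = Z at hc h4 hZ hV
  have hC : ∀ g ∈ X, g * l z0 = l z0 * g → g ∈ Z ∨ g * (l z0)⁻¹ ∈ Z ∨ g * l z0 ∈ Z := by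
    intro g hg e
    obtain ⟨p, q, rfl, p3⟩ := h.of_C e
    obtain ⟨e1, e2⟩ := (mX _).mp hg
    rw [← map_mul, ← map_mul] at e1 e2
    obtain ⟨t, rfl⟩ := cent_V q (congrArg Prod.snd (h.inj e1)) (congrArg Prod.snd (h.inj e2))
    rw [← map_inv, ← map_mul, ← map_mul]
    rcases cube_S3 p p3 with rfl | rfl | rfl
    · exact Or.inl (hV t)
    · exact Or.inr (Or.inl (by simpa [z0] using hV t))
    · exact Or.inr (Or.inr (by simpa [z0] using hV t))
  obtain ⟨N, hN, hcase⟩ := ft3_section hZ (fun g hg z hz => (mem_C1.mp (hc g hg hz)).symm)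
    (fun e => absurd (e.trans h4) (by norm_num)) zX h.b9.a1 h.b9.a3 hC
  have rz : l r0 * l z0 * (l r0)⁻¹ = (l z0)⁻¹ := by
    rw [← map_inv l z0]; exact rel_conj l (by decide +kernel)
  have fN : f ∈ N := by
    rcases hcase with k | ⟨-, φ, -, k⟩ | k
    · exact (hN.con1 zX h.b9.a1 h.b9.a3 hC k).2.1 f fX (hf.1 ▸ one_mem _) (hf.2.2 ▸ one_mem _)
    · have a1 : l z0 * f * (l z0)⁻¹ * l r0 ∈ X := mul_mem (mul_mem (mul_mem zX fX) (inv_mem zX)) rX
      have a2 : (⟨_, a1⟩ : X) * ⟨_, a1⟩ = ⟨f, fX⟩ := Subtype.ext (by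
        change l z0 * f * (l z0)⁻¹ * l r0 * (l z0 * f * (l z0)⁻¹ * l r0) = f
        calc _ = f⁻¹ * (f * (l z0 * f * (l z0)⁻¹) * (l r0 * l z0 * (l r0)⁻¹ * (l r0 * f * (l r0)⁻¹) *
              (l r0 * l z0 * (l r0)⁻¹)⁻¹)) * (l r0 * l r0) := by group
          _ = _ := by
            rw [rz, ← hf.2.1, mul_inv_cancel_right, inv_inv, hf.2.2, inv_eq_self hf.1,
              rel_sq l (show r0 * r0 = 1 by decide +kernel), mul_one, mul_one])
      refine (k ⟨f, fX⟩).mp ?_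
      rw [← a2, map_mul]
      refine (by decide +kernel : ∀ q : A5, q * q * (q * q) = 1 → q * q = 1) _ ?_
      rw [← map_mul, a2]
      exact rel_sq φ (Subtype.ext hf.1)
    · exfalso
      have := Fact.mk (show Nat.Prime 7 by norm_num)
      have k1 := card_mul_relIndex hZ
      rw [k] at k1
      obtain ⟨P, hP⟩ := exists_sylIn 7 X
      obtain ⟨Q, hQ, hQn⟩ := exists_sylIn_nrm_idx h.b9.isPGroup hX hP
        (not_dvd_idx_seven' hP (k1 ▸ Nat.mul_dvd_mul_right h4 168))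
      have k2 : ∀ d ∈ D9 (l z0) (l w0), d ≠ 1 → ∀ m ∈ Q, m * d = d * m → m ∈ (⊥ : Subgroup G) :=
        fun d hd d1 m hm e => eq_one_of_coprime_of_mem hQ.isPGroup hm (Nat.Coprime.coprime_dvd_left
          ((orderOf_dvd_card' (mem_C1.mpr e)).trans (h.not_dvd_C hd d1)) (by norm_num))
      obtain ⟨j, hj⟩ := exists_card_eq_pow (by norm_num) hQ.isPGroup
      refine hQ.ne_bot (by norm_num) (k1 ▸ Dvd.dvd.mul_left (by norm_num) _) (le_bot_iff.mp
        (h.b9.gen (hQn _ (left_mem_D9 _ _)) (hQn _ (right_mem_D9 _ _))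
          (fun e => absurd (Nat.prime_three.dvd_of_dvd_pow (hj ▸ e)) (by norm_num))
          (k2 _ (left_mem_D9 _ _) h.b9.a1) (k2 _ (right_mem_D9 _ _) h.b9.b1)
          (k2 _ (mul_mem (left_mem_D9 _ _) (right_mem_D9 _ _)) h.b9.mul_ne_one)
          (k2 _ (mul_mem (left_mem_D9 _ _) (inv_mem (right_mem_D9 _ _))) h.b9.mul_inv_ne_one)))
  have hM : Nrm (D9 (l z0) (l w0)) (Opc 3 X) := hX.Opi _
  have h3 := CfsgFT.not_dvd_card_Opc Nat.prime_three X
  have k1 : ∀ m ∈ Opc 3 X, m ∈ CfsgFT.N (D9 (l z0) (l w0)) → m ∈ C1 (l z0) := fun m hm e => by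
    have a1 : m * l z0 * m⁻¹ * (l z0)⁻¹ ∈ Opc 3 X := by
      have := mul_mem hm (hM _ (left_mem_D9 _ _) _ (inv_mem hm))
      simpa only [mul_assoc] using this
    exact mem_C1_iff_conj.mpr (mul_inv_eq_one.mp (eq_one_of_pow_of_not_dvd Nat.prime_three a1
      (h.b9.cube (mul_mem (conj_mem_of_mem_N e (left_mem_D9 _ _)) (inv_mem (left_mem_D9 _ _)))) h3))
  have k2 : f * l z0 = l z0 * f := by
    refine mem_C1.mp (h.b9.gen (hM _ (left_mem_D9 _ _)) (hM _ (right_mem_D9 _ _)) h3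
      (fun m _ e => mem_C1.mpr e) (fun m hm e => ?_)
      (fun m hm e => k1 m hm (h.zw.1.2.1 (mem_C1.mpr e)))
      (fun m hm e => k1 m hm (h.zw.2.2.1 (mem_C1.mpr e)))
      (le_Opc_of Nat.prime_three hN.le2 hN.nrm hN.not3 fN))
    let ι : S5 →* G := (MulAut.conj σ).toMonoidHom.comp (l.comp (MonoidHom.inr S3 S5))
    have hι : Function.Injective ι :=
      (MulAut.conj σ).injective.comp (h.inj.comp (Prod.mk_right_injective 1))
    obtain ⟨q, hq⟩ := h.of_C' (g := σ * m * σ⁻¹) (by rw [← h.σw]; exact comm_conj_both e)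
      (by rw [orderOf_conj']
          exact coprime_of_mem ((Nat.Prime.coprime_iff_not_dvd Nat.prime_three).mpr h3).symm hm)
    have hq' : ι q = m := by change σ * l (1, q) * σ⁻¹ = m; rw [hq, conj_invol h.σ2]
    let U := (Opc 3 X).comap ι
    have u0 : ∀ c, ι c ∈ X → ∀ a ∈ U, c * a * c⁻¹ ∈ U := fun c hc a ha => by
      rw [mem_comap, map_mul, map_mul, map_inv]; exact nrm_Opi _ _ _ hc _ ha
    have u1 : ∀ c, ι c ∈ X → ∀ a ∈ U, fc c a ∈ U := fun c hc a ha => mul_mem ha (u0 c hc a ha)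
    have u2 : ∀ a ∈ U, ¬ T3 a := fun a ha e => e.1 (hι ((eq_one_of_pow_of_not_dvd Nat.prime_three
      (mem_comap.mp (pow_mem ha 2)) (rel_pow ι e.2) h3).trans (map_one ι).symm))
    have u3 : ι ω ∈ X := (show ι ω = _ from h.σw) ▸ zX
    have u4 : ι (R6 0 1) ∈ X := (show ι (R6 0 1) = _ from h.σr') ▸ rX
    have u5 : ι ω⁻¹ ∈ X := map_inv ι ω ▸ inv_mem u3
    have u6 : ι (ω * R6 0 1) ∈ X := map_mul ι ω _ ▸ mul_mem u3 u4
    have u7 : q ∈ U := by rw [mem_comap, hq']; exact hm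
    rcases inv_sub' q with e | e | e | e | e | e
    · rw [mem_C1, ← hq', ← h.σw]; exact rel_mul ι e
    · exact absurd e (u2 _ (u1 _ u3 _ (u1 _ u3 _ u7)))
    · exact absurd e (u2 _ (u1 _ u3 _ (u1 _ u5 _ u7)))
    · exact absurd e (u2 _ (u1 _ u3 _ (u1 _ u4 _ u7)))
    · exact absurd e (u2 _ (u1 _ u6 _ (mul_mem u7 (inv_mem (u0 _ u3 _ u7)))))
    · exact absurd e (u2 _ (u1 _ u4 _ (u1 _ u3 _ u7)))
  have k3 := hf.2.2
  rw [← k2, mul_inv_cancel_right, hf.1, one_mul, mul_assoc, k2, inv_mul_cancel_left] at k3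
  exact k3

theorem nc' (g : G) : g * l (r1 1) * g⁻¹ ≠ l (r1 1) * l s0 := fun e =>
  h.not_conj_s (sign_R6 0).2 (l (1, swap 0 2 * swap 1 3) * g) (by
    rw [← rel_conj l (show (1, swap 0 2 * swap 1 3) * (r1 1 * s0) * _ = s0 by decide +kernel),
      map_mul l (r1 1), ← e]
    change _ * l (r1 1) * _ = _
    group)

theorem nc (g : G) : g * l r0 * g⁻¹ ≠ l r0 * l s0 := fun e => h.nc' (σ * g * σ⁻¹) (by
  calc _ = σ * (g * l r0 * g⁻¹) * σ⁻¹ := by rw [← h.σr]; group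
    _ = _ := by rw [e, ← conj_mul, h.σr, h.σs])

theorem csE : C1 (l s0) ≤ N (D9 (l z0) (l w0)) := by
  refine h.cs.resolve_right fun ⟨ψ, ψ1, ψ2⟩ => ?_
  have m : ∀ x, x * s0 = s0 * x → l x ∈ C1 (l s0) := fun x e => mem_C1.mpr (rel_mul l e)
  have mr := m r0 (by decide +kernel)
  have mr' := m (r1 1) (by decide +kernel)
  have mw := m w0 (by decide +kernel)
  have n1 : ∀ (x) (hx : l x ∈ C1 (l s0)), x ≠ 1 → x ≠ s0 → ψ ⟨_, hx⟩ ≠ 1 := fun x hx x1 x2 e =>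
    (mem_zpowers_order_two' h.s2 ((ψ2 _).mp e)).elim (rel_ne h.inj x1) fun e' => x2 (h.inj e')
  obtain ⟨i, χ, χ1, χ2, χ3⟩ := norm' ψ1 (r := ⟨_, mr⟩) (x := ⟨_, mw⟩)
    (n1 _ _ (by decide +kernel) (by decide +kernel)) (Subtype.ext (rel_sq l (by decide +kernel)))
    (n1 _ _ (by decide +kernel) (by decide +kernel)) (Subtype.ext h.b9.b3)
    (Subtype.ext (rel_mul l (by decide +kernel)))
  have ker : ∀ a b : C1 (l s0), χ a = χ b → a.1 = b.1 ∨ a.1 = b.1 * l s0 := fun a b e => by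
    rw [eq_comm, ← inv_mul_eq_one, ← map_inv, ← map_mul, χ2, ψ2] at e
    refine (mem_zpowers_order_two' h.s2 e).imp (fun e => (inv_mul_eq_one.mp e).symm) fun e => ?_
    exact (mul_inv_cancel_left _ _).symm.trans (congrArg (b.1 * ·) e)
  have lift : ∀ a t : C1 (l s0), (∀ g, g * t.1 * g⁻¹ ≠ t.1 * l s0) → χ a * χ t = χ t * χ a →
      a.1 * t.1 = t.1 * a.1 := fun a t ht e => by
    rw [← mul_inv_eq_iff_eq_mul, ← map_inv, ← map_mul, ← map_mul] at e
    exact mul_inv_eq_iff_eq_mul.mp ((ker _ _ e).resolve_right (ht _))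
  obtain ⟨f', f1, f2, f3, f4⟩ := factE (i := i) (w := χ ⟨_, mw⟩) (r := χ ⟨_, mr'⟩)
    (by rw [← χ3]; exact rel_mul χ (Subtype.ext (rel_mul l (by decide +kernel))))
    (by rw [← χ3]; exact rel_mul χ (Subtype.ext (rel_mul l (by decide +kernel))))
    (rel_pow χ (Subtype.ext h.b9.b3))
    (by rw [Ne, χ2]; exact n1 _ _ (by decide +kernel) (by decide +kernel))
    (rel_sq χ (Subtype.ext (rel_sq l (by decide +kernel))))
    (by
      rw [← map_inv χ ⟨_, mw⟩]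
      refine rel_conj χ (Subtype.ext ?_)
      change l _ * l _ * (l _)⁻¹ = (l _)⁻¹
      rw [← map_inv l w0]; exact rel_conj l (by decide +kernel))
  -- the element `g2`
  have cj : ∀ {a b : S3 × S5} {x y : G}, g0 * a * g0⁻¹ = b → σ * l a * σ⁻¹ = x → σ * l b * σ⁻¹ = y →
      σ * l g0 * σ⁻¹ * x * (σ * l g0 * σ⁻¹)⁻¹ = y := fun e1 e2 e3 => by
    rw [← e2, ← e3, ← rel_conj l e1]; group
  have gr := cj (by decide +kernel) h.σr' h.σr'
  have gr' := cj (by decide +kernel) h.σr h.σr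
  have gw := cj (by decide +kernel) h.σz h.σz
  have gs : σ * l g0 * σ⁻¹ * l s0 * (σ * l g0 * σ⁻¹)⁻¹ = l r0 * l s0 :=
    cj (b := r1 1 * s0) (by decide +kernel) h.σs (by rw [map_mul, ← conj_mul, h.σr', h.σs])
  generalize hg2 : σ * l g0 * σ⁻¹ = g2 at gr gr' gw gs
  have mg : ∀ a : G, a * l s0 = l s0 * a → a * l r0 = l r0 * a → g2 * a * g2⁻¹ ∈ C1 (l s0) ∧
      g2 * a * g2⁻¹ * l r0 = l r0 * (g2 * a * g2⁻¹) := fun a e1 e2 => by
    have e3 := comm_conj_both (g := g2) e1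
    have e4 := comm_conj_both (g := g2) e2
    rw [gs] at e3
    rw [gr] at e4
    refine ⟨mem_C1.mpr (mul_left_cancel (a := l r0) ?_), e4⟩
    rw [← mul_assoc, ← e4, mul_assoc, e3, mul_assoc]
  obtain ⟨f, hf, fr, rfl⟩ : ∃ f : C1 (l s0), P4 (l w0) (l (r1 1)) f.1 ∧ f.1 * l r0 = l r0 * f.1 ∧
      χ f = f' := by
    obtain ⟨a, rfl⟩ := χ1 f'
    have a1 := lift a ⟨_, mr⟩ h.nc (by rw [χ3, f3])
    have a2 := lift a ⟨_, mr'⟩ h.nc' f1.2.1
    have a3 : a.1 * a.1 = 1 := by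
      refine (ker (a * a) 1 (by rw [map_mul, f1.1, map_one])).resolve_right fun e => ?_
      refine sq_ne i (χ ⟨_, (mg a (mem_C1.mp a.2) a1).1⟩) ?_
      rw [← map_mul, ← χ3, ← mul_inv_eq_one, ← map_inv, ← map_mul, χ2, ψ2]
      change g2 * a.1 * g2⁻¹ * (g2 * a.1 * g2⁻¹) * (l r0)⁻¹ ∈ _
      rw [conj_mul, show a.1 * a.1 = l s0 from e.trans (one_mul _), gs, mem_C1_iff_conj.mp mr]
      exact mem_zpowers _
    rcases ker (a * (⟨_, mw⟩ * a * ⟨_, mw⟩⁻¹) * (⟨_, mw⟩⁻¹ * a * ⟨_, mw⟩)) 1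
      (by simp only [map_mul, map_inv, map_one]; exact f1.2.2) with e | e
    · exact ⟨a, ⟨a3, a2, e⟩, a1, rfl⟩
    · have a4 : Commute a.1 (l s0) := mem_C1.mp a.2
      refine ⟨a * ⟨_, self_mem_C1 _⟩, ⟨?_, (comm_mul_of a2.symm (mem_C1.mp mr')).symm, ?_⟩,
        (comm_mul_of a1.symm (mem_C1.mp mr)).symm, ?_⟩
      · change a.1 * l s0 * (a.1 * l s0) = 1
        rw [← pow_two, a4.mul_pow, pow_two, pow_two, a3, h.s2, one_mul]
      · exact (prod_mul_central h.s2 (mem_C1.mp mw) a4).trans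
          ((congrArg (· * l s0) e).trans (by simpa using h.s2))
      · rw [map_mul, (χ2 ⟨_, self_mem_C1 _⟩).mpr ((ψ2 _).mpr (mem_zpowers _)), mul_one]
  have uniq : ∀ a b : C1 (l s0), P4 (l w0) (l (r1 1)) a.1 → P4 (l w0) (l (r1 1)) b.1 → χ a = χ b →
      a.1 = b.1 := fun a b ha hb e => (ker a b e).resolve_right fun e' => by
    have := ha.2.2
    rw [e', prod_mul_central h.s2 (mem_C1.mp mw) (mem_C1.mp b.2), hb.2.2, one_mul] at this
    exact h.s1 this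
  have hf2 := hf.conj g2
  rw [gw, gr'] at hf2
  obtain ⟨b1, b2⟩ := mg f (mem_C1.mp f.2) fr
  have fg : g2 * f.1 * g2⁻¹ = f.1 := by
    rcases f4 (χ ⟨_, b1⟩) (by rw [← χ3]; exact rel_mul χ (Subtype.ext b2))
      (P4.map χ (w := ⟨_, mw⟩) (r := ⟨_, mr'⟩)
        ⟨Subtype.ext hf2.1, Subtype.ext hf2.2.1, Subtype.ext hf2.2.2⟩) with e | e
    · exact absurd (uniq _ 1 hf2 ⟨by simp, by simp, by simp⟩ (e.trans (map_one χ).symm))
        (conj_ne_one (fun e' => f2 (by rw [show f = 1 from Subtype.ext e', map_one])) g2)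
    · exact uniq _ f hf2 hf e
  have hf3 := (hf.conj σ).conj (l (1, swap 0 4))
  rw [h.σw, h.σr', rel_conj l (show _ = z0 by decide +kernel),
    rel_conj l (show _ = r0 by decide +kernel)] at hf3
  have c1 := comm_conj_both (g := l (1, swap 0 4)) (comm_conj_both (g := σ) fr)
  have c2 := comm_conj_both (g := l (1, swap 0 4)) (comm_conj_both (g := σ)
    (mul_inv_eq_iff_eq_mul.mp fg).symm)
  rw [h.σr, rel_conj l (show _ = (1, v1) * (1, v2) by decide +kernel)] at c1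
  rw [← hg2, conj_invol h.σ2, rel_conj l (show _ = (1, v2) by decide +kernel)] at c2
  refine conj_ne_one (conj_ne_one (fun e' => f2 ?_) σ) _ (h.no_four ?_ c2 hf3)
  · rw [show f = 1 from Subtype.ext e', map_one]
  · rw [show ((1, v1) : S3 × S5) = (1, v1) * (1, v2) * (1, v2) by decide +kernel, map_mul]
    exact comm_mul_of c1 c2

end Cfg
end S8c
end CfsgH7
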