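import Cfsg.Agent.H7.ThreePrimes
import Cfsg.Prelude.Def_Solvable

set_option autoImplicit false
set_option linter.style.haveILetI false
set_option linter.unusedVariables false

namespace CfsgH7

open scoped Pointwise

/-- A subgroup containing a Sylow `p`-subgroup for every prime `p` dividing the order is the whole group. -/
theorem eq_top_of_sylow_le {A : Type*} [Group A] [Finite A] (K : Subgroup A)
    (h : ∀ p : ℕ, p.Prime → p ∣ Nat.card A → ∃ P : Sylow p A, (P : Subgroup A) ≤ K) : K = ⊤ := by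
  rw [← Subgroup.index_eq_one]
  by_contra h1
  obtain ⟨p, hp, hpd⟩ := Nat.exists_prime_and_dvd h1
  haveI := Fact.mk hp
  obtain ⟨P, hP⟩ := h p hp (hpd.trans K.index_dvd_card)
  exact P.not_dvd_index (hpd.trans (Subgroup.index_dvd_of_le hP))

/-- An `r`-subgroup normalizes a Sylow `p`-subgroup of a normal `r'`-subgroup. -/
theorem exists_sylow_normalized {G : Type*} [Group G] [Finite G] (N : Subgroup G) [N.Normal]
    (R : Subgroup G) (r p : ℕ) [Fact r.Prime] [Fact p.Prime] (hR : IsPGroup r R)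
    (hr : ¬ r ∣ Nat.card N) :
    ∃ P : Sylow p N, R ≤ Subgroup.normalizer (((P : Subgroup N).map N.subtype : Subgroup G) : Set G) := by
  letI : MulAction R (Sylow p N) :=
    MulAction.compHom _ ((MulAut.conjNormal : G →* MulAut N).comp R.subtype)
  obtain ⟨P0⟩ : Nonempty (Sylow p N) := inferInstance
  obtain ⟨P, hP⟩ := hR.nonempty_fixed_point_of_prime_not_dvd_card (Sylow p N)
    (fun h => hr (h.trans ((Sylow.card_dvd_index P0).trans (Subgroup.index_dvd_card _))))
  refine ⟨P, fun g hg => ?_⟩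
  apply Subgroup.mem_normalizer_fintype
  rintro _ ⟨x, hx, rfl⟩
  have h1 : (MulAut.conjNormal g : MulAut N) • P = P := hP ⟨g, hg⟩
  have h2 : (MulAut.conjNormal g : MulAut N) • x ∈ ((MulAut.conjNormal g : MulAut N) • P : Sylow p N) :=
    Subgroup.smul_mem_pointwise_smul _ _ _ hx
  rw [h1] at h2
  exact ⟨_, h2, rfl⟩

/-- Frattini argument in ambient form. -/
theorem frattini_ambient {G : Type*} [Group G] [Finite G] (F R : Subgroup G) [F.Normal] (r : ℕ)
    [Fact r.Prime] (hRF : R ≤ F) (hR : IsPGroup r R) (hi : ¬ r ∣ R.relIndex F) :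
    Subgroup.normalizer (R : Set G) ⊔ F = ⊤ := by
  have := Sylow.normalizer_sup_eq_top ((hR.comap_subtype (K := F)).toSylow hi)
  change Subgroup.normalizer (((R.subgroupOf F).map F.subtype : Subgroup G) : Set G) ⊔ F = ⊤ at this
  rwa [Subgroup.subgroupOf_map_subtype, inf_of_le_left hRF] at this

theorem frobenius_fpf {G : Type*} [Group G] (F H : Subgroup G) (hH : Cfsg.IsFrobeniusComplement H)
    (hker : Cfsg.frobeniusKernel H = (F : Set G)) (y : G) (hy : y ∈ H) (hy1 : y ≠ 1) :
    ∀ f ∈ F, y * f * y⁻¹ = f → f = 1 := by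
  intro f hf hc
  have hfH : f ∈ H := by
    by_contra hfH
    have h1 := hH.2.2 f hfH
    have h2 : y ∈ H ⊓ MulAut.conj f • H := by
      refine ⟨hy, ?_⟩
      have : y = MulAut.conj f • y := by
        change y = f * y * f⁻¹
        rw [eq_mul_inv_iff_mul_eq, ← mul_inv_eq_iff_eq_mul, hc]
      rw [this]
      exact Subgroup.smul_mem_pointwise_smul _ _ _ hy
    rw [h1, Subgroup.mem_bot] at h2
    exact hy1 h2
  have hf' : f ∈ Cfsg.frobeniusKernel H := by rw [hker]; exact hf
  rcases hf' with h | h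
  · exact h
  · exact absurd (by simpa using hfH) (h 1)

/-- Mazurov's lemma, in a form with an element `h` whose non-trivial powers act fixed-point-freely. -/
theorem mazurov_lemma {G : Type*} [Group G] [Finite G] (N : Subgroup G) [N.Normal]
    (Fb : Subgroup (G ⧸ N)) [hFn : Fb.Normal] (h : G ⧸ N) (h1 : h ≠ 1)
    (hfpf : ∀ i, 0 < i → i < orderOf h → ∀ f ∈ Fb, h ^ i * f * (h ^ i)⁻¹ = f → f = 1)
    (hcop : (Nat.card Fb).Coprime (Nat.card N))
    (hnot : ¬ Fb ≤ (Subgroup.centralizer (N : Set G)).map (QuotientGroup.mk' N)) :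
    ∃ p : ℕ, p.Prime ∧ p ∣ Nat.card N ∧ ∃ g : G, orderOf g = p * orderOf h := by
  by_contra hno
  apply hnot
  set m := orderOf h with hm
  have hm0 : 0 < m := orderOf_pos h
  have hm1 : 1 < m := by
    have : m ≠ 1 := fun e => h1 (orderOf_eq_one_iff.1 e)
    omega
  have hA : ∀ g : G, orderOf (g : G ⧸ N) = m → g ^ m = 1 := by
    intro g hg
    by_contra hne
    apply hno
    rw [← hg] at hne ⊢
    exact exists_orderOf_prime_mul N g hne
  have hgood : ∀ f ∈ Fb, orderOf (f * h) = m ∧
      ∀ i, 0 < i → i < m → ∀ e ∈ Fb, (f * h) ^ i * e * ((f * h) ^ i)⁻¹ = e → e = 1 := by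
    intro f hf
    obtain ⟨a, ha⟩ := (fpf_comm_bijective Fb h (fun r hr => hFn.conj_mem r hr h)
      (by simpa using hfpf 1 one_pos hm1)).2 ⟨f, hf⟩
    have ha' : f * h = a * h * (a : G ⧸ N)⁻¹ := by
      have := congrArg Subtype.val ha
      simp only at this
      rw [← this]; group
    rw [ha']
    refine ⟨?_, fun i hi0 him e he hc => ?_⟩
    · exact (orderOf_injective (MulAut.conj (a : G ⧸ N)).toMonoidHom (MulAut.conj (a : G ⧸ N)).injective h)
    · rw [conj_pow] at hc
      have h2 := hfpf i hi0 him ((a : G ⧸ N)⁻¹ * e * a)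
        (Fb.mul_mem (Fb.mul_mem (Fb.inv_mem a.2) he) a.2) (by
          nth_rewrite 2 [← hc]; group)
      have h3 : e = a * ((a : G ⧸ N)⁻¹ * e * a) * (a : G ⧸ N)⁻¹ := by group
      rw [h3, h2]; group
  set F : Subgroup G := Fb.comap (QuotientGroup.mk' N) with hF
  have hNF : N ≤ F := by
    intro x hx
    change (x : G ⧸ N) ∈ Fb
    rw [(QuotientGroup.eq_one_iff x).2 hx]
    exact Fb.one_mem
  have hD : ∀ (r : ℕ) [Fact r.Prime] (R0 : Sylow r F), ¬ r ∣ Nat.card N →
      ∀ y ∈ (R0 : Subgroup F).map F.subtype, ∀ x ∈ N, x * y = y * x := by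
    intro r hr R0 hrN
    set R : Subgroup G := (R0 : Subgroup F).map F.subtype with hR
    have hRr : IsPGroup r R := R0.isPGroup'.map _
    have hRF : R ≤ F := Subgroup.map_subtype_le _
    have hRi : ¬ r ∣ R.relIndex F := by
      rw [Subgroup.relIndex, hR, ← Subgroup.comap_subtype,
        Subgroup.comap_map_eq_self_of_injective F.subtype_injective]
      exact R0.not_dvd_index
    suffices hs : (Subgroup.centralizer (R : Set G)).subgroupOf N = ⊤ by
      intro y hy x hx
      have : (⟨x, hx⟩ : N) ∈ (Subgroup.centralizer (R : Set G)).subgroupOf N := by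
        rw [hs]; trivial
      exact (this y hy).symm
    apply eq_top_of_sylow_le
    intro p hp hpN
    haveI := Fact.mk hp
    obtain ⟨P0, hP0⟩ := exists_sylow_normalized N R r p hRr hrN
    refine ⟨P0, ?_⟩
    set P : Subgroup G := (P0 : Subgroup N).map N.subtype with hP
    have hPp : IsPGroup p P := P0.isPGroup'.map _
    have hPN : P ≤ N := Subgroup.map_subtype_le _
    set G2 := Subgroup.normalizer (P : Set G) with hG2
    have hfr : G2 ⊔ N = ⊤ := Sylow.normalizer_sup_eq_top P0
    have hsN := surjective_comp_subtype_of_sup (QuotientGroup.mk' N) (QuotientGroup.mk'_surjective N)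
      _ N (by rw [QuotientGroup.ker_mk']) hfr
    have hfr2 : Subgroup.normalizer (R.subgroupOf G2 : Set G2) ⊔ F.subgroupOf G2 = ⊤ := by
      apply frattini_ambient _ _ r (Subgroup.comap_mono hRF) hRr.comap_subtype
      change ¬ r ∣ (R.subgroupOf G2).relIndex (F.subgroupOf G2)
      rw [← Subgroup.inf_subgroupOf_right F G2, Subgroup.relIndex_subgroupOf inf_le_right]
      intro hd
      apply hRi
      rw [← Subgroup.relIndex_mul_relIndex R (F ⊓ G2) F (le_inf hRF hP0) inf_le_left]
      exact hd.mul_right _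
    obtain ⟨g, hg⟩ := hsN h
    obtain ⟨f, hf, a, ha, hfa⟩ := Subgroup.mem_sup_of_normal_left.1
      (show g ∈ F.subgroupOf G2 ⊔ Subgroup.normalizer (R.subgroupOf G2 : Set G2) by
        rw [sup_comm, hfr2]; trivial)
    have hπa : ((a : G) : G ⧸ N) = ((f : G) : G ⧸ N)⁻¹ * h := by
      rw [← hg, ← hfa]
      change _ = _ * (((f : G) * (a : G) : G) : G ⧸ N)
      rw [QuotientGroup.mk_mul, inv_mul_cancel_left]
    obtain ⟨ho, hfp⟩ := hgood _ (Fb.inv_mem hf)
    change orderOf (((f : G) : G ⧸ N)⁻¹ * h) = m at ho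
    change ∀ i, 0 < i → i < m → ∀ e ∈ Fb, (((f : G) : G ⧸ N)⁻¹ * h) ^ i * e *
      ((((f : G) : G ⧸ N)⁻¹ * h) ^ i)⁻¹ = e → e = 1 at hfp
    rw [← hπa] at ho hfp
    haveI : (P.subgroupOf G2).Normal := Subgroup.normal_in_normalizer
    have hcent := centralizes_of_norm_pgroup (R.subgroupOf G2) a m hm0
      (fun y hy => (Subgroup.mem_normalizer_iff.1 ha y).1 hy)
      (by
        intro i hi0 him y hy hc
        have h2 := hfp i hi0 him ((y : G) : G ⧸ N) (hRF hy) (by
          rw [← QuotientGroup.mk_pow, ← QuotientGroup.mk_inv, ← QuotientGroup.mk_mul,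
            ← QuotientGroup.mk_mul]
          exact congrArg (fun z : G2 => ((z : G) : G ⧸ N)) hc)
        rw [QuotientGroup.eq_one_iff] at h2
        by_contra hy1
        exact hrN ((prime_dvd_orderOf_of_isPGroup hr.out hRr hy
          (fun e => hy1 (Subtype.ext e))).trans (N.orderOf_dvd_natCard h2)))
      p hp (by
        obtain ⟨k, hk⟩ := (hRr.comap_subtype (K := G2)).exists_card_eq
        intro hd
        rw [Subgroup.comap_subtype] at hk
        rw [hk] at hd
        rw [(Nat.prime_dvd_prime_iff_eq hp hr.out).1 (hp.dvd_of_dvd_pow hd)] at hpN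
        exact hrN hpN)
      _ G2 (MonoidHom.id G2) (P.subgroupOf G2) rfl hPp.comap_subtype (by
        intro x hx
        apply Subtype.ext
        apply hA
        change orderOf ((((x : G) * (a : G) : G)) : G ⧸ N) = m
        rw [QuotientGroup.mk_mul, (QuotientGroup.eq_one_iff (x : G)).2 (hPN hx), one_mul, ho])
    intro x hx y hy
    have hxP : (x : G) ∈ P := ⟨x, hx, rfl⟩
    exact congrArg Subtype.val (hcent ⟨y, hP0 hy⟩ hy ⟨x, Subgroup.le_normalizer hxP⟩ hxP)
  suffices hs : ((Subgroup.centralizer (N : Set G)).map (QuotientGroup.mk' N)).subgroupOf Fb = ⊤ from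
    Subgroup.subgroupOf_eq_top.1 hs
  apply eq_top_of_sylow_le
  intro r hr hrF
  haveI := Fact.mk hr
  have hrN : ¬ r ∣ Nat.card N := fun h =>
    hr.one_lt.ne' (Nat.eq_one_of_dvd_coprimes hcop hrF h)
  obtain ⟨R0⟩ : Nonempty (Sylow r F) := inferInstance
  refine ⟨R0.mapSurjective (MonoidHom.subgroupComap_surjective_of_surjective (QuotientGroup.mk' N) Fb
    (QuotientGroup.mk'_surjective N)), ?_⟩
  rintro _ ⟨y, hy, rfl⟩
  exact ⟨y, fun x hx => hD r R0 hrN y ⟨y, hy, rfl⟩ x hx, rfl⟩

end CfsgH7
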