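import Cfsg.Agent.H7.FB
import Cfsg.Agent.SZ.Pts_b

set_option autoImplicit false
set_option linter.unusedSectionVars false

/-! Top level of S3617: a simple normal subgroup of a doubly transitive group whose point
stabiliser has a centre.  The line groups. -/

namespace CfsgFS

open Cfsg CfsgL CfsgH5 CfsgH6 CfsgFT CfsgSZ CfsgSZ.PS Subgroup
open scoped Pointwise

universe u

/-- Frobenius' theorem modulo a normal subgroup. -/
theorem frob_sub {G : Type u} [Group G] [Finite G] {M E H : Subgroup G} (hE : E ≤ H)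
    (nE : Nrm M E) (ti : ∀ g ∈ M, ∀ h ∈ H, h ∈ M → g⁻¹ * h * g ∈ H → g ∉ H → h ∈ E) :
    ∃ K : Subgroup G, (∀ k, k ∈ K ↔ k ∈ M ∧ (k ∈ E ∨ ∀ g ∈ M, g⁻¹ * k * g ∉ H)) ∧
      ∀ m ∈ M, ∃ k ∈ K, k⁻¹ * m ∈ H := by
  haveI : (E.subgroupOf M).Normal := nE.normal_subgroupOf
  let π := QuotientGroup.mk' (E.subgroupOf M)
  have sπ : Function.Surjective π := QuotientGroup.mk'_surjective _
  have kπ : ∀ x : M, π x = 1 ↔ (x : G) ∈ E := fun x => QuotientGroup.eq_one_iff x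
  have mH : ∀ x : M, π x ∈ (H.subgroupOf M).map π ↔ (x : G) ∈ H := fun x =>
    ⟨fun ⟨y, hy, e⟩ => by
      have : (y : G)⁻¹ * x ∈ E := (kπ (y⁻¹ * x)).1 (by rw [map_mul, map_inv, e, inv_mul_cancel])
      exact (mul_mem_cancel_left (inv_mem (show (y : G) ∈ H from hy))).1 (hE this),
     fun h => ⟨x, h, rfl⟩⟩
  have mC : ∀ g x : M, π x ∈ MulAut.conj (π g) • (H.subgroupOf M).map π ↔
      (g : G)⁻¹ * x * g ∈ H := fun g x => by
    rw [Subgroup.mem_pointwise_smul_iff_inv_smul_mem, ← map_inv, MulAut.smul_def,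
      MulAut.conj_apply, inv_inv, ← map_inv, ← map_mul, ← map_mul, mH]; rfl
  obtain ⟨K, h1, h2, h3⟩ := frobenius_theorem' (H := (H.subgroupOf M).map π) fun g hg => by
    obtain ⟨g, rfl⟩ := sπ g
    refine eq_bot_iff.2 fun x hx => ?_
    obtain ⟨x, rfl⟩ := sπ x
    exact mem_bot.2 ((kπ x).2 (ti g g.2 x ((mH x).1 hx.1) x.2 ((mC g x).1 hx.2)
      fun e => hg ((mH g).2 e)))
  have mK : ∀ x : M, π x ∈ K ↔ (x : G) ∈ E ∨ ∀ g ∈ M, g⁻¹ * x * g ∉ H := fun x => by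
    rw [← SetLike.mem_coe, h1, ← kπ]
    refine or_congr Iff.rfl ⟨fun h g hg e => h (π ⟨g, hg⟩) ((mC ⟨g, hg⟩ x).2 e), fun h g e => ?_⟩
    obtain ⟨g, rfl⟩ := sπ g
    exact h g g.2 ((mC g x).1 e)
  refine ⟨(K.comap π).map M.subtype, fun k => ⟨?_, fun h => ⟨⟨k, h.1⟩, (mK _).2 h.2, rfl⟩⟩,
    fun m hm => ?_⟩
  · rintro ⟨x, hx, rfl⟩
    exact ⟨x.2, (mK x).1 hx⟩
  · obtain ⟨⟨⟨k, hk⟩, ⟨h, hh⟩⟩, e⟩ := h3.2 (π ⟨m, hm⟩)
    obtain ⟨k, rfl⟩ := sπ k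
    refine ⟨k, ⟨k, hk, rfl⟩, (mH (k⁻¹ * ⟨m, hm⟩)).1 ?_⟩
    rw [map_mul, map_inv, ← e]
    simpa using hh

variable {X D : Type u} [Group X] [Finite X] [MulAction X D]

/-- the centre of `T_b`. -/
def ZT (T : Subgroup X) (b : D) : Subgroup X := T ⊓ St X b ⊓ C (T ⊓ St X b)

/-- the top level configuration. -/
structure Top (D : Type u) [MulAction X D] (T : Subgroup X) : Prop where
  two : ∀ a b c d : D, a ≠ b → c ≠ d → ∃ x : X, x • a = c ∧ x • b = d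
  faith : ∀ g : X, (∀ d : D, g • d = d) → g = 1
  nrm : ∀ g : X, cj g T = T
  simp : ∀ M ≤ T, Nrm T M → M = ⊥ ∨ M = T
  nab : ¬ T ≤ C T
  ne : ∀ b : D, ZT T b ≠ ⊥
  sr : ∀ b c : D, ∀ y ∈ ZT T b, y • c = c → c ≠ b → y = 1

theorem cj_ZT {T : Subgroup X} (h : ∀ g : X, cj g T = T) (g : X) (b : D) :
    cj g (ZT T b) = ZT T (g • b) := by
  unfold ZT; rw [cj_inf, cj_C, cj_inf, cj_St, h]

namespace Top

variable {T : Subgroup X} (h : Top D T) {a b c d : D} {z y g : X} {p r : ℕ}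
include h

theorem conj (ht : y ∈ T) (g : X) : g * y * g⁻¹ ∈ T := h.nrm g ▸ conj_mem_cj.2 ht

theorem conjZ (hy : y ∈ ZT T b) (g : X) : g * y * g⁻¹ ∈ ZT T (g • b) :=
  cj_ZT h.nrm g b ▸ conj_mem_cj.2 hy

theorem fix (hy : y ∈ ZT T b) (y1 : y ≠ 1) (hg : g * y = y * g) : g • b = b := by
  by_contra e
  exact y1 (h.sr b _ y hy (smul_of_comm hy.1.2 hg) e)

theorem comm (hy : y ∈ ZT T b) (hg : g ∈ T) (e : g • b = b) : g * y = y * g :=
  mem_C.1 hy.2 g ⟨hg, e⟩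

theorem trans (a b : D) : ∃ t ∈ T, t • a = b := by
  by_cases e : a = b
  · exact ⟨1, one_mem _, by rw [one_smul, e]⟩
  obtain ⟨y, hy, y1⟩ := (bot_or_exists_ne_one _).resolve_left (h.ne a)
  have m := fun q => y1 (h.sr a b y hy q (Ne.symm e))
  obtain ⟨x, x1, x2⟩ := h.two b (y • b) a b (Ne.symm m) e
  exact ⟨_, h.conj hy.1.1 x, by rw [← x1, mul_smul, inv_smul_smul, mul_smul, x2]⟩

theorem card_E (h1 : a ≠ b) (h2 : c ≠ d) :
    Nat.card ↥(T ⊓ St X a ⊓ St X b) = Nat.card ↥(T ⊓ St X c ⊓ St X d) := by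
  obtain ⟨x, rfl, rfl⟩ := h.two a b c d h1 h2
  rw [← cj_St, ← cj_St, ← card_cj x, cj_inf, cj_inf, h.nrm]

theorem E_ne (hne : c ≠ b) : T ⊓ St X b ⊓ St X c ≠ ⊥ := by
  intro e
  obtain ⟨K, h1, h2⟩ := frob_sub (M := T) (E := ⊥) (H := St X b) bot_le (Nrm.bot _)
    fun g hg x hx hx' e1 e2 => by
      have := h.card_E hne.symm (c := b) (d := g • b) (fun q => e2 q.symm)
      rw [e, card_bot, eq_comm, card_eq_one] at this
      refine this ▸ (⟨⟨hx', hx⟩, ?_⟩ : x ∈ T ⊓ St X b ⊓ St X (g • b))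
      rw [mem_St, mul_smul, mul_smul, inv_smul_eq_iff] at e1
      exact e1
  rcases h.simp K (fun k hk => ((h1 k).1 hk).1) (fun t ht k hk => (h1 _).2 ⟨h.conj ((h1 k).1 hk).1 t,
    ((h1 k).1 hk).2.imp (fun q => by rw [mem_bot.1 q]; simp) fun q g hg q' =>
      q (t⁻¹ * g) (mul_mem (inv_mem ht) hg) (by simpa [mul_assoc] using q')⟩) with e1 | e1
  · obtain ⟨t, ht, q⟩ := h.trans b c
    obtain ⟨k, hk, q'⟩ := h2 t ht
    rw [e1, mem_bot] at hk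
    rw [hk, inv_one, one_mul, mem_St, q] at q'
    exact hne q'
  · obtain ⟨y, hy, y1⟩ := (bot_or_exists_ne_one _).resolve_left (h.ne b)
    rcases ((h1 y).1 (e1.ge hy.1.1)).2 with q | q
    · exact y1 (mem_bot.1 q)
    · exact q 1 (one_mem _) (by simpa using hy.1.2)

end Top

end CfsgFS
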