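import Cfsg.Agent.H7.QT1

set_option autoImplicit false
set_option linter.unusedSectionVars false

/-! Top level of S3617: the line groups are `p`-groups. -/

namespace CfsgFS

open Cfsg CfsgL CfsgH5 CfsgH6 CfsgFT CfsgSZ CfsgSZ.PS Subgroup
open scoped Pointwise

universe u

theorem exists_prime_pow_mem {G : Type u} [Group G] {K E : Subgroup G} (n : ℕ) : n ≠ 0 →
    ∀ k ∈ K, k ∉ E → k ^ n ∈ E → ∃ p : ℕ, p.Prime ∧ ∃ k ∈ K, k ∉ E ∧ k ^ p ∈ E := by
  induction n using induction_on_primes with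
  | zero => exact fun h => absurd rfl h
  | one => exact fun _ k _ h1 h2 => absurd (by simpa using h2) h1
  | prime_mul p a hp ih =>
    intro h k hk h1 h2
    by_cases e : k ^ p ∈ E
    · exact ⟨p, hp, k, hk, h1, e⟩
    · exact ih (fun q => h (by rw [q, mul_zero])) _ (pow_mem hk p) e (by rwa [← pow_mul])

theorem nilp_of_pow_mem {G : Type u} [Group G] [Finite G] {K E : Subgroup G} {p : ℕ}
    (hp : p.Prime) (hc : K ≤ C E) (h : ∀ k ∈ K, k ^ p ∈ E) : Group.IsNilpotent K := by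
  haveI := Fact.mk hp
  haveI : (E.subgroupOf K).Normal := (nrm_of_le_C hc).normal_subgroupOf
  have : IsPGroup p (K ⧸ E.subgroupOf K) := fun x => by
    obtain ⟨k, rfl⟩ := QuotientGroup.mk'_surjective _ x
    exact ⟨1, by rw [pow_one, ← map_pow]; exact (QuotientGroup.eq_one_iff _).2 (h k k.2)⟩
  haveI := this.isNilpotent
  refine Subgroup.isNilpotent_of_ker_le_center (QuotientGroup.mk' (E.subgroupOf K))
    (fun x hx => ?_)
  rw [QuotientGroup.ker_mk'] at hx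
  exact mem_center_iff.2 fun y => Subtype.ext (mem_C.1 (hc y.2) x hx).symm

variable {X D : Type u} [Group X] [Finite X] [MulAction X D]

namespace Top

variable {T : Subgroup X} (h : Top D T) {a b c d : D} {z y g : X} {p r : ℕ}
include h

theorem E_eq (hne : c ≠ b) {a a' : D} (e : a ≠ a') (h1 : T ⊓ St X b ⊓ St X c ≤ St X a)
    (h2 : T ⊓ St X b ⊓ St X c ≤ St X a') : T ⊓ St X b ⊓ St X c = T ⊓ St X a ⊓ St X a' :=
  eq_of_le_of_card_ge (le_inf (le_inf (inf_le_left.trans inf_le_left) h1) h2)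
    (h.card_E e hne.symm).le

/-- two-transitivity of `N(E)` on the fixed points of `E`. -/
theorem two_N (hne : c ≠ b) {a a' d d' : D} (e : a ≠ a') (e' : d ≠ d')
    (h1 : T ⊓ St X b ⊓ St X c ≤ St X a) (h2 : T ⊓ St X b ⊓ St X c ≤ St X a')
    (h3 : T ⊓ St X b ⊓ St X c ≤ St X d) (h4 : T ⊓ St X b ⊓ St X c ≤ St X d') :
    ∃ x ∈ N (T ⊓ St X b ⊓ St X c), x • a = d ∧ x • a' = d' := by
  obtain ⟨x, x1, x2⟩ := h.two a a' d d' e e'
  refine ⟨x, mem_N.2 ?_, x1, x2⟩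
  conv_lhs => rw [h.E_eq hne e h1 h2]
  rw [cj_inf, cj_inf, h.nrm, cj_St, cj_St, x1, x2, ← h.E_eq hne e' h3 h4]

theorem line0 (hne : c ≠ b) : ∃ p : ℕ, p.Prime ∧ ∃ P ≤ T, IsPGroup p P ∧ ZT T b ≤ N P ∧
    ∃ u ∈ P, u • b = c := by
  obtain ⟨E, hE⟩ : ∃ E, E = T ⊓ St X b ⊓ St X c := ⟨_, rfl⟩
  have two := @Top.two_N X D _ _ _ T h b c hne
  have eq := @Top.E_eq X D _ _ _ T h b c hne
  rw [← hE] at two eq
  have Eb : E ≤ St X b := hE ▸ inf_le_left.trans inf_le_right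
  have Ec : E ≤ St X c := hE ▸ inf_le_right
  have ET : E ≤ T := hE ▸ inf_le_left.trans inf_le_left
  have ZM : ∀ a, E ≤ St X a → ZT T a ≤ T ⊓ C E := fun a ha y hy =>
    ⟨hy.1.1, mem_C.2 fun e he => h.comm hy (ET he) (ha he)⟩
  have nM : ∀ x ∈ N E, ∀ m ∈ T ⊓ C E, x * m * x⁻¹ ∈ T ⊓ C E := fun x hx m hm =>
    ⟨h.conj hm.1 x, nrm_N_C E x hx m hm.2⟩
  have tr : ∀ a, E ≤ St X a → ∃ m ∈ T ⊓ C E, m • b = a := fun a ha => by
    by_cases e : a = b
    · exact ⟨1, one_mem _, by rw [one_smul, e]⟩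
    obtain ⟨y, hy, y1⟩ := (bot_or_exists_ne_one _).resolve_left (h.ne b)
    have m := fun q => y1 (h.sr b a y hy q e)
    have yM := ZM b Eb hy
    obtain ⟨x, hx, x1, x2⟩ := two (Ne.symm m) (Ne.symm e) ha (le_St_smul ha (C_le_N E yM.2)) Eb ha
    exact ⟨_, nM x hx y yM, by rw [← x1, mul_smul, inv_smul_smul, mul_smul, x2]⟩
  obtain ⟨K, h1, h2⟩ := frob_sub (M := T ⊓ C E) (E := E) (H := St X b) Eb
    (nrm_of_le_C inf_le_right) fun g hg x hx hx' e1 e2 => by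
      rw [eq (fun q => e2 q.symm) Eb (le_St_smul Eb (C_le_N E hg.2))]
      refine ⟨⟨hx'.1, hx⟩, ?_⟩
      rw [mem_St, mul_smul, mul_smul, inv_smul_eq_iff] at e1
      exact e1
  have h3 : ∀ k, k ∈ K ↔ k ∈ T ⊓ C E ∧ (k ∈ E ∨ ∀ a, E ≤ St X a → k • a ≠ a) := fun k => by
    rw [h1]
    refine and_congr Iff.rfl (or_congr Iff.rfl ⟨fun q a ha e => ?_, fun q g hg e => ?_⟩)
    · obtain ⟨m, hm, rfl⟩ := tr a ha
      exact q m hm (by rw [mem_St, mul_smul, mul_smul, e, inv_smul_smul])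
    · rw [mem_St, mul_smul, mul_smul, inv_smul_eq_iff] at e
      exact q _ (le_St_smul Eb (C_le_N E hg.2)) e
  have nK : Nrm (N E) K := fun x hx k hk => (h3 _).2 ⟨nM x hx k ((h3 k).1 hk).1,
    ((h3 k).1 hk).2.imp (conj_mem_of_mem_N hx) fun q a ha e =>
      q _ (le_St_smul ha (inv_mem hx)) (by
        rw [mul_smul, mul_smul, ← eq_inv_smul_iff] at e; exact e)⟩
  have KE : ∀ k ∈ K, k • b = b → k ∈ E := fun k hk e =>
    ((h3 k).1 hk).2.resolve_right fun q => q b Eb e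
  have KC : K ≤ C E := fun k hk => ((h3 k).1 hk).1.2
  obtain ⟨m, hm, e0⟩ := tr c Ec
  obtain ⟨k0, hk0, e1⟩ := h2 m hm
  have e2 : k0 • b = c := by rw [mem_St, mul_smul, inv_smul_eq_iff, e0] at e1; exact e1.symm
  obtain ⟨p, hp, k1, hk1, q1, q2⟩ := exists_prime_pow_mem (K := K) (E := E) (orderOf k0)
    (orderOf_pos k0).ne' k0 hk0 (fun q => hne (e2.symm.trans (Eb q)))
    (by rw [pow_orderOf_eq_one]; exact one_mem _)
  have pw : ∀ k ∈ K, k ^ p ∈ E := fun k hk => by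
    by_cases e : k ∈ E
    · exact pow_mem e p
    obtain ⟨x, hx, x1, x2⟩ := two (fun q => q1 (KE k1 hk1 q.symm)) (fun q => e (KE k hk q.symm))
      Eb (le_St_smul Eb (C_le_N E (KC hk1))) Eb (le_St_smul Eb (C_le_N E (KC hk)))
    have x3 : x⁻¹ • b = b := by rw [inv_smul_eq_iff, x1]
    have w := KE _ (mul_mem (inv_mem hk) (nK x hx k1 hk1))
      (by rw [mul_smul, mul_smul, mul_smul, x3, x2, inv_smul_smul])
    have w2 := conj_mem_of_mem_N hx q2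
    rw [← conj_pow, ← mul_inv_cancel_left k (x * k1 * x⁻¹),
      Commute.mul_pow (mem_C.1 (KC hk) _ w).symm] at w2
    exact (mul_mem_cancel_right (pow_mem w p)).1 w2
  obtain ⟨u, hu, u1, u2⟩ := exists_ppart {p} k0
  have uK : u ∈ K := zpowers_le.2 hk0 hu
  obtain ⟨n, u1⟩ := (piE_single hp).1 u1
  have w := mem_of_pow_mem_of_coprime' ((piE_compl_single hp).1 u2)
    (pw _ (mul_mem (inv_mem uK) hk0))
  haveI := Fact.mk hp
  refine ⟨p, hp, Op p K, fun x hx => ((h3 x).1 (Op_le p K hx)).1.1, isPGroup_Op' hp K,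
    fun y hy => (nK.Op' hp).le_N (C_le_N E (ZM b Eb hy).2), u,
    le_Op_of_nilpotent hp (nilp_of_pow_mem hp KC pw) (zpowers_le.2 uK) (isPGroup_zpowers u1)
      (mem_zpowers u), ?_⟩
  have := Eb w
  rw [mem_St, mul_smul, inv_smul_eq_iff, e2] at this
  exact this.symm

theorem exists_ne (b : D) : ∃ c, c ≠ b := by
  by_contra e
  push Not at e
  obtain ⟨y, -, y1⟩ := (bot_or_exists_ne_one _).resolve_left (h.ne b)
  exact y1 (h.faith y fun d => (e _).trans (e _).symm)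

theorem line (b : D) : ∃ p : ℕ, p.Prime ∧ ∀ a d : D, d ≠ a → ∃ P ≤ T, IsPGroup p P ∧
    ZT T a ≤ N P ∧ ∃ u ∈ P, u • a = d := by
  obtain ⟨c, hc⟩ := h.exists_ne b
  obtain ⟨p, hp, P, p1, p2, p3, u, hu, e⟩ := h.line0 hc
  refine ⟨p, hp, fun a d hd => ?_⟩
  obtain ⟨x, x1, x2⟩ := h.two b c a d hc.symm hd.symm
  refine ⟨cj x P, (cj_mono p1).trans (h.nrm x).le, isPGroup_cj p2 x, ?_, _, conj_mem_cj.2 hu, ?_⟩
  · rw [← x1, ← cj_ZT h.nrm, ← cj_N]; exact cj_mono p3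
  · rw [← x1, mul_smul, inv_smul_smul, mul_smul, e, x2]

theorem ne_r (hp : p.Prime) (hz : z ∈ ZT T b) (z1 : z ≠ 1) (zr : z ^ p = 1) {P : Subgroup X}
    (pP : IsPGroup p P) (hn : z ∈ N P) {u : X} (hu : u ∈ P) (e : u • b ≠ b) : False := by
  haveI := Fact.mk hp
  have q : IsPGroup p ↥(zpowers z ⊔ P) := CfsgH6.Nrm.isPGroup_sup (nrm_zpowers_iff.2 hn)
    (isPGroup_zpowers (k := 1) (by rwa [pow_one])) pP
  have lt : (zpowers z ⊔ P) ⊓ St X b < zpowers z ⊔ P :=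
    lt_of_le_of_ne inf_le_left fun q => e (q.ge (mem_sup_right hu)).2
  obtain ⟨g, hg, g1⟩ := SetLike.exists_of_lt (lt_inf_N_of_nilpotent q.isNilpotent lt)
  have := conj_mem_of_mem_N hg.2 (⟨mem_sup_left (mem_zpowers z), hz.1.2⟩ :
    z ∈ (zpowers z ⊔ P) ⊓ St X b)
  exact conj_ne_one z1 (h.sr _ b _ (h.conjZ hz g) this.2 fun q => g1 ⟨hg.1, q.symm⟩)

theorem cyc (hp : p.Prime) (hr : r.Prime) (pr : p ≠ r) (hz : z ∈ ZT T b) (z1 : z ≠ 1)
    (zr : z ^ r = 1) (hy : y ∈ ZT T b) (yr : y ^ r = 1) {P : Subgroup X}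
    (pP : IsPGroup p P) (hn : ZT T b ≤ N P) {u : X} (hu : u ∈ P) (e : u • b ≠ b) :
    y ∈ zpowers z := by
  haveI := Fact.mk hr
  have AZ : zpowers z ⊔ zpowers y ≤ ZT T b := sup_le (zpowers_le.2 hz) (zpowers_le.2 hy)
  have ab : Ab (zpowers z ⊔ zpowers y) := fun s hs => mem_C.2 fun t ht =>
    h.comm (AZ hs) (AZ ht).1.1 (AZ ht).1.2
  have q : IsPGroup r ↥(zpowers z ⊔ zpowers y) := CfsgH6.Nrm.isPGroup_sup
    (nrm_of_le_C (le_sup_left.trans (ab.trans (C_anti le_sup_right))))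
    (isPGroup_zpowers (k := 1) (by rwa [pow_one])) (isPGroup_zpowers (k := 1) (by rwa [pow_one]))
  by_cases hc : IsCyclic ↥(zpowers z ⊔ zpowers y)
  · exact mem_of_isCyclic_of_pow hc le_sup_left (mem_sup_right (mem_zpowers y))
      (by rw [Nat.card_zpowers, orderOf_eq_prime zr z1, yr])
  · exact absurd (le_of_cent1_le (K := St X b) ab hc (nrm_of_le_N (AZ.trans hn))
      (coprime_of_isPGroup_ne hp hr pr pP q) (fun a ha a1 g hg =>
        h.fix (AZ ha) a1 (mem_C1.1 hg.2)) hu) e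

end Top

end CfsgFS
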