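import Cfsg.Agent.H7.QT2
import Cfsg.Agent.H1.QD
import Cfsg.Agent.L.QH
import Cfsg.Agent.H4.QR3

set_option autoImplicit false
set_option linter.unusedSectionVars false

/-! Top level of S3617: the core statement follows from the theorem on the class `C2`. -/

namespace CfsgFS

open Cfsg CfsgL CfsgH5 CfsgH6 CfsgFT CfsgSZ CfsgSZ.PS Subgroup
open scoped Pointwise commutatorElement

universe u

theorem conj_sq {G : Type u} [Group G] {A : Subgroup G} (ab : Ab A) {y a : G} (hy : y ∈ N A)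
    (ha : a ∈ A) (m : ℕ) : ∃ c ∈ A, (y ^ m)⁻¹ * a * y ^ m * a⁻¹ = y⁻¹ * c * y * c⁻¹ := by
  induction m with
  | zero => exact ⟨1, one_mem _, by simp⟩
  | succ m ih =>
    obtain ⟨c, hc, e⟩ := ih
    have cA : ∀ g ∈ N A, ∀ x ∈ A, g⁻¹ * x * g ∈ A := fun g hg x hx => by
      simpa using conj_mem_of_mem_N (inv_mem hg) hx
    have am := cA _ (pow_mem hy m) a ha
    refine ⟨_, mul_mem hc am, ?_⟩
    have w := mem_C.1 (ab (cA y hy c hc)) _ (mul_mem (cA y hy _ am) (inv_mem am))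
    rw [pow_succ]
    generalize y ^ m = v at *
    calc _ = y⁻¹ * (v⁻¹ * a * v) * y * (v⁻¹ * a * v)⁻¹ * (v⁻¹ * a * v * a⁻¹) := by group
      _ = y⁻¹ * (v⁻¹ * a * v) * y * (v⁻¹ * a * v)⁻¹ * (y⁻¹ * c * y) * c⁻¹ := by rw [e]; group
      _ = _ := by rw [w]; group

variable {X D : Type u} [Group X] [Finite X] [MulAction X D]

namespace Top

variable {T : Subgroup X} (h : Top D T) {a b c d : D} {z y g : X} {p r : ℕ}
include h

theorem conj_eq (hz : z ∈ ZT T b) {t u : X} (ht : t ∈ T) (hu : u ∈ T) (e : u • b = t • b) :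
    t * z * t⁻¹ = u * z * u⁻¹ := by
  have := h.comm hz (mul_mem (inv_mem hu) ht) (by rw [mul_smul, ← e, inv_smul_smul])
  calc _ = u * (u⁻¹ * t * z) * t⁻¹ := by group
    _ = _ := by rw [this]; group

theorem not_fix (hz : z ∈ ZT T b) (z1 : z ≠ 1) (e : ∀ t ∈ T, (t * z * t⁻¹) • b = b) : False := by
  obtain ⟨c, hc⟩ := h.exists_ne b
  obtain ⟨t, ht, rfl⟩ := h.trans b c
  exact conj_ne_one z1 (h.sr _ b _ (h.conjZ hz t) (e t ht) hc.symm)

theorem ne_two [IsSimpleGroup T] (hz : z ∈ ZT T b) (z1 : z ≠ 1) (zz : z * z = 1) : False := by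
  have o : OddInv (⟨z, hz.1.1⟩ : T) := oddInv_of_isolated (Subtype.ext zz) fun g hg => by
    have e : z * (g * z * g⁻¹) = g * z * g⁻¹ * z := congrArg Subtype.val hg.eq
    have e1 := h.fix hz z1 e.symm
    have e2 : (g : X) • b = b := by
      by_contra q
      exact conj_ne_one z1 (h.sr _ b _ (h.conjZ hz g) e1 (Ne.symm q))
    exact Subtype.ext (by
      show (g : X) * z * (g : X)⁻¹ = z
      rw [h.comm hz g.2 e2, mul_inv_cancel_right])
  have n : (Opc 2 (⊤ : Subgroup T)).Normal := ⟨fun n hn g => nrm_Opc 2 ⊤ g trivial n hn⟩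
  rcases n.eq_bot_or_eq_top with e | e
  · refine h.not_fix hz z1 fun t ht => ?_
    have := zstar_aux _ T rfl _ o ⟨t, ht⟩
    rw [e, mem_bot] at this
    have q : t * z * t⁻¹ * z = 1 := congrArg Subtype.val this
    rw [eq_inv_of_mul_eq_one_left q]
    exact (St X b).inv_mem hz.1.2
  · have := pt_eq_one (x := (⟨z, hz.1.1⟩ : T)) (pt_odd_mem (X := ⊤) (by
      rw [← Nat.not_even_iff_odd, even_iff_two_dvd]
      exact (Opc_eq_self Nat.prime_two).1 e) trivial) (Subtype.ext zz)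
    exact z1 (congrArg Subtype.val this)

theorem abel [IsSimpleGroup T] (hp : p.Prime) (p2 : p ≠ 2) (hr : r.Prime) (pr : r ≠ p)
    (hl : ∀ a d : D, d ≠ a → ∃ P ≤ T, IsPGroup r P ∧ ZT T a ≤ N P ∧ ∃ u ∈ P, u • a = d)
    (hz : z ∈ ZT T b) (z1 : z ≠ 1) (zp : z ^ p = 1) {A : Subgroup X} (hA : A ≤ T) (ab : Ab A)
    (hn : z ∈ N A) {a : X} (ha : a ∈ A) : z * a = a * z := by
  by_contra e
  have m : a • b ≠ b := fun q => e (h.comm hz (hA ha) q).symm
  obtain ⟨k, hk⟩ := hp.odd_of_ne_two p2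
  have zk : (z * z) ^ (k + 1) = z := by
    rw [← sq, ← pow_mul, show 2 * (k + 1) = p + 1 by omega, pow_succ, zp, one_mul]
  have key : ∀ t ∈ T, ∃ c ∈ T, z * (t * z * t⁻¹) = c * (z * z) * c⁻¹ := fun t ht => by
    by_cases q : t • b = b
    · exact ⟨1, one_mem _, by rw [h.comm hz ht q]; group⟩
    obtain ⟨x, x1, x2⟩ := h.two b (a • b) b (t • b) m.symm (Ne.symm q)
    obtain ⟨P, -, pP, nP, u, hu, e1⟩ := hl b _ q
    have zx := h.conjZ hz x
    rw [x1] at zx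
    have cy := h.cyc hr hp pr zx (conj_ne_one z1) (by rw [conj_pow, zp]; group) hz zp pP nP hu
      (by rwa [e1])
    have n' : z ∈ N (cj x A) := zpowers_le.2 (cj_N x A ▸ conj_mem_cj.2 hn) cy
    obtain ⟨c, hc, e2⟩ := conj_sq ((cj_mono ab).trans (cj_C x A).le) (mul_mem n' n')
      (conj_mem_cj.2 ha) (k + 1)
    refine ⟨c, ((cj_mono hA).trans (h.nrm x).le) hc, ?_⟩
    rw [h.conj_eq hz ht (h.conj (hA ha) x)
      (by rw [← x2]; conv_lhs => rw [← x1, mul_smul, inv_smul_smul, mul_smul])]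
    rw [zk] at e2
    generalize x * a * x⁻¹ = v at *
    calc _ = z * z * (z⁻¹ * v * z * v⁻¹) := by group
      _ = _ := by rw [e2]; group
  have nt : ⁅(⊤ : Subgroup T), (⊤ : Subgroup T)⁆ = ⊤ :=
    (Normal.eq_bot_or_eq_top inferInstance).resolve_left fun q => h.nab fun s hs => mem_C.2
      fun t ht => congrArg Subtype.val
        (commutator_eq_bot_iff_le_centralizer.1 q (mem_top (⟨s, hs⟩ : T)) ⟨t, ht⟩ trivial)
  obtain ⟨g, q⟩ := ck (z := (⟨z, hz.1.1⟩ : T)) (fun K hK hz' => hK.eq_bot_or_eq_top.resolve_left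
    fun q => z1 (by rw [q, mem_bot] at hz'; exact congrArg Subtype.val hz'))
    (fun g => let ⟨c, hc, q⟩ := key g g.2; ⟨⟨c, hc⟩, Subtype.ext q⟩)
    (x := (⟨z, hz.1.1⟩ : T)⁻¹) (nt.ge trivial)
  rw [mul_inv_cancel] at q
  exact conj_ne_one z1 (congrArg Subtype.val q)

theorem c2 [IsSimpleGroup T] (hp : p.Prime) (p2 : p ≠ 2) (hr : r.Prime) (pr : r ≠ p)
    (hl : ∀ a d : D, d ≠ a → ∃ P ≤ T, IsPGroup r P ∧ ZT T a ≤ N P ∧ ∃ u ∈ P, u • a = d)
    {z : T} (hz : (z : X) ∈ ZT T b) (z1 : z ≠ 1) (zp : z ^ p = 1) :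
    CfsgQ.C2 p r {x : T | ∃ g : T, x = g * z * g⁻¹} := by
  haveI := Fact.mk hr
  have od : ∀ g : T, (g * z * g⁻¹) ^ p = 1 := fun g => by rw [conj_pow, zp]; group
  have H := fun g : T => CfsgQH.heis (p := r) (z := g * z * g⁻¹) fun A _ hn ab a ha =>
    Subtype.ext (h.abel hp p2 hr pr hl (h.conjZ hz g) (fun q => conj_ne_one z1 (Subtype.ext q))
      (congrArg Subtype.val (od g)) (map_subtype_le A)
      (by rintro _ ⟨s, hs, rfl⟩; refine mem_C.2 ?_; rintro _ ⟨t, ht, rfl⟩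
          exact congrArg Subtype.val (ab t ht s hs))
      (mem_normalizer_of_conj_mem (by
        rintro _ ⟨s, hs, rfl⟩
        exact ⟨_, conj_mem_of_mem_N hn hs, rfl⟩)) ⟨a, ha, rfl⟩)
  have pq : ∀ g k : T, ∃ F : Subgroup T, IsPGroup r F ∧ g * z * g⁻¹ ∈ N F ∧
      ∃ u ∈ F, k * z * k⁻¹ = u * (g * z * g⁻¹) * u⁻¹ := fun g k => by
    have zg := h.conjZ hz g
    have e0 : ∀ u : T, (u : X) • (g : X) • b = (k : X) • b →
        k * z * k⁻¹ = u * (g * z * g⁻¹) * u⁻¹ := fun u e => Subtype.ext (by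
      have := h.conj_eq hz k.2 (u * g).2 (by rw [← e, ← mul_smul]; rfl)
      simpa [mul_assoc] using this)
    by_cases q : (k : X) • b = (g : X) • b
    · exact ⟨⊥, IsPGroup.of_bot, mem_normalizer_of_conj_mem fun s hs => by rw [mem_bot.1 hs]; simp, 1,
        one_mem _, e0 1 (by simp [q])⟩
    obtain ⟨P, p1, p2, p3, u, hu, e⟩ := hl _ _ q
    exact ⟨P.subgroupOf T, p2.comap_subtype, mem_normalizer_of_conj_mem fun s hs =>
      conj_mem_of_mem_N (X := P) (p3 zg) hs, ⟨u, p1 hu⟩, hu, e0 _ e⟩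
  refine ⟨hp, p2, hr, pr.symm, ?_, ?_, ?_, ?_, ?_⟩
  · rintro _ ⟨g, rfl⟩ k
    exact ⟨k * g, by group⟩
  · rintro _ ⟨g, rfl⟩
    exact od g
  · rintro _ ⟨g, rfl⟩ _ ⟨k, rfl⟩
    obtain ⟨F, f1, f2, u, hu, e⟩ := pq g k
    refine ⟨F, f1, f2, ?_⟩
    have := mul_mem (conj_mem_of_mem_N (inv_mem f2) hu) (inv_mem hu)
    rw [e]
    convert this using 1
    group
  · rintro _ ⟨g, rfl⟩ _ ⟨k, rfl⟩
    obtain ⟨F, f1, f2, u, hu, e⟩ := pq g k
    refine (H g F f1 f2).2 _ ?_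
    have := commutator_mem_commutator (inv_mem (mem_zpowers (g * z * g⁻¹))) hu
    rw [commutator_comm] at this
    rw [e]
    convert this using 1
    rw [commutatorElement_def]
    group
  · rintro _ ⟨g, rfl⟩ P f1 f2
    exact (H g P f1 f2).1

theorem main [IsSimpleGroup T] (b : D) (hmain : ∀ (p r : ℕ) (G : Type u) [Group G] [Finite G]
    (K : Set G), CfsgQ.C2 p r K → IsPGroup r (CfsgQ.Dl K)) : False := by
  obtain ⟨r, hr, hl⟩ := h.line b
  obtain ⟨p, hp, hd⟩ := Nat.exists_prime_and_dvd (fun q => h.ne b (card_eq_one.1 q))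
  obtain ⟨z, hz, oz⟩ := exists_mem_orderOf_eq hp hd
  have z1 : z ≠ 1 := by rintro rfl; exact hp.one_lt.ne (by simpa using oz)
  have zp : z ^ p = 1 := oz ▸ pow_orderOf_eq_one z
  have p2 : p ≠ 2 := by rintro rfl; exact h.ne_two hz z1 (by rwa [← sq])
  have pr : r ≠ p := by
    rintro rfl
    obtain ⟨c, hc⟩ := h.exists_ne b
    obtain ⟨P, -, pP, nP, u, hu, e⟩ := hl b c hc
    exact h.ne_r hr hz z1 zp pP (nP hz) hu (by rwa [e])
  have c := h.c2 hp p2 hr pr hl (z := ⟨z, hz.1.1⟩) hz (fun q => z1 (congrArg Subtype.val q))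
    (Subtype.ext zp)
  have q := hmain p r T _ c
  have n : (CfsgQ.Dl {x : T | ∃ g : T, x = g * ⟨z, hz.1.1⟩ * g⁻¹}).Normal :=
    ⟨fun n hn g => CfsgQ.conj_mem_Dl (fun x hx => c.conj x hx g) hn⟩
  rcases n.eq_bot_or_eq_top with e | e
  · refine h.not_fix hz z1 fun t ht => ?_
    have := e.le (CfsgQ.mem_Dl (x := ⟨z, hz.1.1⟩) ⟨1, by simp⟩ ⟨⟨t, ht⟩, rfl⟩)
    rw [mem_bot, inv_mul_eq_one] at this
    have q : z = t * z * t⁻¹ := congrArg Subtype.val this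
    rw [← q]
    exact hz.1.2
  · obtain ⟨k, hk⟩ := q ⟨⟨z, hz.1.1⟩, e.ge trivial⟩
    have : z ^ r ^ k = 1 := congrArg (fun x => (x.1.1 : X)) hk
    exact pr ((Nat.prime_dvd_prime_iff_eq hp hr).1
      (hp.dvd_of_dvd_pow (oz ▸ orderOf_dvd_of_pow_eq_one this))).symm

end Top

/-- piece (T) of S3617. -/
theorem core_of_main (hmain : ∀ (p r : ℕ) (G : Type u) [Group G] [Finite G] (K : Set G),
    CfsgQ.C2 p r K → IsPGroup r (CfsgQ.Dl K)) : CfsgQR.Core.{u} := by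
  intro X D _ _ _ _ _ h2 T hT hs hn b z zT z1 zb hz
  have nrm : ∀ g : X, cj g T = T := fun g => cj_eq_of_conj_mem fun x hx => hT.conj_mem x hx g
  have fa : ∀ g : X, (∀ d : D, g • d = d) → g = 1 := fun g hg =>
    eq_of_smul_eq_smul (α := D) fun d => by rw [hg, one_smul]
  have zZ : z ∈ ZT T b := ⟨⟨zT, zb⟩, mem_C.2 fun t ht => hz t ht.1 ht.2⟩
  refine Top.main (D := D) (T := T) ⟨h2, fa, nrm, fun M hM nM => ?_, fun q => hn (ab_iff_isMulCommutative.1 q),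
    fun a e => ?_, fun a c y hy e hne => CfsgQH.semireg T (fun t _ => fa t) h2 hne
      ⟨hy.1.1, hy.1.2, fun t ht q => mem_C.1 hy.2 t ⟨ht, q⟩⟩ e⟩ b hmain
  · exact nM.normal_subgroupOf.eq_bot_or_eq_top.imp
      (fun q => (subgroupOf_eq_bot.1 q).eq_bot_of_le hM) fun q => hM.antisymm (subgroupOf_eq_top.1 q)
  · by_cases q : a = b
    · exact z1 (mem_bot.1 (e.le (q ▸ zZ)))
    obtain ⟨x, x1, -⟩ := h2 b a a b (Ne.symm q) q
    have : x * z * x⁻¹ ∈ ZT T a := by rw [← x1, ← cj_ZT nrm]; exact conj_mem_cj.2 zZ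
    exact conj_ne_one z1 (mem_bot.1 (e.le this))

end CfsgFS
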