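import Cfsg.Agent.H7.ReeGood

/-! Explicit formulas on the seven-dimensional module and the generators of the Ree group. -/

set_option autoImplicit false
set_option maxRecDepth 100000
set_option linter.unusedSimpArgs false
set_option linter.unnecessarySeqFocus false

namespace CfsgH7.Ree

open Matrix Cfsg.Lie CfsgH7.NM3
open scoped Kronecker

variable {K : Type*} [Field K]

/-- The cross product. -/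
def cr (x y : Fin 7 → K) : Fin 7 → K :=
  ![-(x 0 * y 3) - x 1 * y 2 + x 2 * y 1 + x 3 * y 0,
    -(x 0 * y 4) + x 1 * y 3 - x 3 * y 1 + x 4 * y 0,
    x 0 * y 5 + x 2 * y 3 - x 3 * y 2 - x 5 * y 0,
    -(x 0 * y 6) + x 1 * y 5 + x 2 * y 4 - x 4 * y 2 - x 5 * y 1 + x 6 * y 0,
    x 1 * y 6 + x 3 * y 4 - x 4 * y 3 - x 6 * y 1,
    -(x 2 * y 6) + x 3 * y 5 - x 5 * y 3 + x 6 * y 2,
    -(x 3 * y 6) - x 4 * y 5 + x 5 * y 4 + x 6 * y 3]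

/-- The bilinear form. -/
def bf (x y : Fin 7 → K) : K :=
  x 0 * y 6 + x 1 * y 5 + x 2 * y 4 - x 3 * y 3 + x 4 * y 2 + x 5 * y 1 + x 6 * y 0

variable [CharP K 3]

theorem bf_eq (x y : Fin 7 → K) : bf x y = x ⬝ᵥ mG K *ᵥ y := by
  have h : ∀ i j : Fin 7, nG (Enc.e i) (Enc.e j) = ![![0, 0, 0, 0, 0, 0, 1], ![0, 0, 0, 0, 0, 1, 0], ![0, 0, 0, 0, 1, 0, 0], ![0, 0, 0, 2, 0, 0, 0], ![0, 0, 1, 0, 0, 0, 0], ![0, 1, 0, 0, 0, 0, 0], ![1, 0, 0, 0, 0, 0, 0]] i j := by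
    decide +kernel
  simp [bf, mG, cm_apply, h, Matrix.mulVec, dotProduct, Fin.sum_univ_seven]
  grind

theorem cr_eq (x y : Fin 7 → K) : cr x y = mB K *ᵥ fun ij : F77 => x ij.1 * y ij.2 := by
  have h : ∀ k i j : Fin 7, nB (Enc.e k) (Enc.e ((i, j) : F77)) = ![![![0, 0, 0, 2, 0, 0, 0], ![0, 0, 2, 0, 0, 0, 0], ![0, 1, 0, 0, 0, 0, 0], ![1, 0, 0, 0, 0, 0, 0], ![0, 0, 0, 0, 0, 0, 0], ![0, 0, 0, 0, 0, 0, 0], ![0, 0, 0, 0, 0, 0, 0]],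
      ![![0, 0, 0, 0, 2, 0, 0], ![0, 0, 0, 1, 0, 0, 0], ![0, 0, 0, 0, 0, 0, 0], ![0, 2, 0, 0, 0, 0, 0], ![1, 0, 0, 0, 0, 0, 0], ![0, 0, 0, 0, 0, 0, 0], ![0, 0, 0, 0, 0, 0, 0]],
      ![![0, 0, 0, 0, 0, 1, 0], ![0, 0, 0, 0, 0, 0, 0], ![0, 0, 0, 1, 0, 0, 0], ![0, 0, 2, 0, 0, 0, 0], ![0, 0, 0, 0, 0, 0, 0], ![2, 0, 0, 0, 0, 0, 0], ![0, 0, 0, 0, 0, 0, 0]],
      ![![0, 0, 0, 0, 0, 0, 2], ![0, 0, 0, 0, 0, 1, 0], ![0, 0, 0, 0, 1, 0, 0], ![0, 0, 0, 0, 0, 0, 0], ![0, 0, 2, 0, 0, 0, 0], ![0, 2, 0, 0, 0, 0, 0], ![1, 0, 0, 0, 0, 0, 0]],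
      ![![0, 0, 0, 0, 0, 0, 0], ![0, 0, 0, 0, 0, 0, 1], ![0, 0, 0, 0, 0, 0, 0], ![0, 0, 0, 0, 1, 0, 0], ![0, 0, 0, 2, 0, 0, 0], ![0, 0, 0, 0, 0, 0, 0], ![0, 2, 0, 0, 0, 0, 0]],
      ![![0, 0, 0, 0, 0, 0, 0], ![0, 0, 0, 0, 0, 0, 0], ![0, 0, 0, 0, 0, 0, 2], ![0, 0, 0, 0, 0, 1, 0], ![0, 0, 0, 0, 0, 0, 0], ![0, 0, 0, 2, 0, 0, 0], ![0, 0, 1, 0, 0, 0, 0]],
      ![![0, 0, 0, 0, 0, 0, 0], ![0, 0, 0, 0, 0, 0, 0], ![0, 0, 0, 0, 0, 0, 0], ![0, 0, 0, 0, 0, 0, 2], ![0, 0, 0, 0, 0, 2, 0], ![0, 0, 0, 0, 1, 0, 0], ![0, 0, 0, 1, 0, 0, 0]]] k i j := by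
    decide +kernel
  ext k
  fin_cases k <;>
    simp [cr, mB, cm_apply, h, Matrix.mulVec, dotProduct, Fintype.sum_prod_type, Fin.sum_univ_seven] <;>
    grind

theorem Y0_mulVec (t : K) (x : Fin 7 → K) : Y 0 t *ᵥ x =
    ![x 0, x 1, x 2, x 3, x 4, x 5 - t * x 0, x 6 + t * x 1] := by
  have h1 : ∀ i j : Fin 7, nE 0 1 (Enc.e i) (Enc.e j) = ![![0, 0, 0, 0, 0, 0, 0], ![0, 0, 0, 0, 0, 0, 0], ![0, 0, 0, 0, 0, 0, 0], ![0, 0, 0, 0, 0, 0, 0], ![0, 0, 0, 0, 0, 0, 0], ![2, 0, 0, 0, 0, 0, 0], ![0, 1, 0, 0, 0, 0, 0]] i j := by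
    decide +kernel
  have h2 : ∀ i j : Fin 7, nE 0 2 (Enc.e i) (Enc.e j) = ![![0, 0, 0, 0, 0, 0, 0], ![0, 0, 0, 0, 0, 0, 0], ![0, 0, 0, 0, 0, 0, 0], ![0, 0, 0, 0, 0, 0, 0], ![0, 0, 0, 0, 0, 0, 0], ![0, 0, 0, 0, 0, 0, 0], ![0, 0, 0, 0, 0, 0, 0]] i j := by
    decide +kernel
  ext i
  fin_cases i <;>
    simp [Y, mE, cm_apply, h1, h2, Matrix.mulVec, dotProduct, Fin.sum_univ_seven, Matrix.one_apply] <;>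
    grind

theorem Y1_mulVec (t : K) (x : Fin 7 → K) : Y 1 t *ᵥ x =
    ![x 0, x 1, x 2, x 3, x 4 - t * x 0, x 5, x 6 + t * x 2] := by
  have h1 : ∀ i j : Fin 7, nE 1 1 (Enc.e i) (Enc.e j) = ![![0, 0, 0, 0, 0, 0, 0], ![0, 0, 0, 0, 0, 0, 0], ![0, 0, 0, 0, 0, 0, 0], ![0, 0, 0, 0, 0, 0, 0], ![2, 0, 0, 0, 0, 0, 0], ![0, 0, 0, 0, 0, 0, 0], ![0, 0, 1, 0, 0, 0, 0]] i j := by
    decide +kernel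
  have h2 : ∀ i j : Fin 7, nE 1 2 (Enc.e i) (Enc.e j) = ![![0, 0, 0, 0, 0, 0, 0], ![0, 0, 0, 0, 0, 0, 0], ![0, 0, 0, 0, 0, 0, 0], ![0, 0, 0, 0, 0, 0, 0], ![0, 0, 0, 0, 0, 0, 0], ![0, 0, 0, 0, 0, 0, 0], ![0, 0, 0, 0, 0, 0, 0]] i j := by
    decide +kernel
  ext i
  fin_cases i <;>
    simp [Y, mE, cm_apply, h1, h2, Matrix.mulVec, dotProduct, Fin.sum_univ_seven, Matrix.one_apply] <;>
    grind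

theorem Y2_mulVec (t : K) (x : Fin 7 → K) : Y 2 t *ᵥ x =
    ![x 0, x 1, x 2, x 3 + t * x 0, x 4 - t * x 1, x 5 + t * x 2, x 6 + t * x 3 - t ^ 2 * x 0] := by
  have h1 : ∀ i j : Fin 7, nE 2 1 (Enc.e i) (Enc.e j) = ![![0, 0, 0, 0, 0, 0, 0], ![0, 0, 0, 0, 0, 0, 0], ![0, 0, 0, 0, 0, 0, 0], ![1, 0, 0, 0, 0, 0, 0], ![0, 2, 0, 0, 0, 0, 0], ![0, 0, 1, 0, 0, 0, 0], ![0, 0, 0, 1, 0, 0, 0]] i j := by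
    decide +kernel
  have h2 : ∀ i j : Fin 7, nE 2 2 (Enc.e i) (Enc.e j) = ![![0, 0, 0, 0, 0, 0, 0], ![0, 0, 0, 0, 0, 0, 0], ![0, 0, 0, 0, 0, 0, 0], ![0, 0, 0, 0, 0, 0, 0], ![0, 0, 0, 0, 0, 0, 0], ![0, 0, 0, 0, 0, 0, 0], ![2, 0, 0, 0, 0, 0, 0]] i j := by
    decide +kernel
  ext i
  fin_cases i <;>
    simp [Y, mE, cm_apply, h1, h2, Matrix.mulVec, dotProduct, Fin.sum_univ_seven, Matrix.one_apply] <;>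
    grind

theorem Y3_mulVec (t : K) (x : Fin 7 → K) : Y 3 t *ᵥ x =
    ![x 0, x 1, x 2 - t * x 0, x 3 - t * x 1, x 4, x 5 - t * x 3 - t ^ 2 * x 1, x 6 + t * x 4] := by
  have h1 : ∀ i j : Fin 7, nE 3 1 (Enc.e i) (Enc.e j) = ![![0, 0, 0, 0, 0, 0, 0], ![0, 0, 0, 0, 0, 0, 0], ![2, 0, 0, 0, 0, 0, 0], ![0, 2, 0, 0, 0, 0, 0], ![0, 0, 0, 0, 0, 0, 0], ![0, 0, 0, 2, 0, 0, 0], ![0, 0, 0, 0, 1, 0, 0]] i j := by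
    decide +kernel
  have h2 : ∀ i j : Fin 7, nE 3 2 (Enc.e i) (Enc.e j) = ![![0, 0, 0, 0, 0, 0, 0], ![0, 0, 0, 0, 0, 0, 0], ![0, 0, 0, 0, 0, 0, 0], ![0, 0, 0, 0, 0, 0, 0], ![0, 0, 0, 0, 0, 0, 0], ![0, 2, 0, 0, 0, 0, 0], ![0, 0, 0, 0, 0, 0, 0]] i j := by
    decide +kernel
  ext i
  fin_cases i <;>
    simp [Y, mE, cm_apply, h1, h2, Matrix.mulVec, dotProduct, Fin.sum_univ_seven, Matrix.one_apply] <;>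
    grind

theorem Y4_mulVec (t : K) (x : Fin 7 → K) : Y 4 t *ᵥ x =
    ![x 0, x 1 + t * x 0, x 2, x 3 - t * x 2, x 4 - t * x 3 - t ^ 2 * x 2, x 5, x 6 - t * x 5] := by
  have h1 : ∀ i j : Fin 7, nE 4 1 (Enc.e i) (Enc.e j) = ![![0, 0, 0, 0, 0, 0, 0], ![1, 0, 0, 0, 0, 0, 0], ![0, 0, 0, 0, 0, 0, 0], ![0, 0, 2, 0, 0, 0, 0], ![0, 0, 0, 2, 0, 0, 0], ![0, 0, 0, 0, 0, 0, 0], ![0, 0, 0, 0, 0, 2, 0]] i j := by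
    decide +kernel
  have h2 : ∀ i j : Fin 7, nE 4 2 (Enc.e i) (Enc.e j) = ![![0, 0, 0, 0, 0, 0, 0], ![0, 0, 0, 0, 0, 0, 0], ![0, 0, 0, 0, 0, 0, 0], ![0, 0, 0, 0, 0, 0, 0], ![0, 0, 2, 0, 0, 0, 0], ![0, 0, 0, 0, 0, 0, 0], ![0, 0, 0, 0, 0, 0, 0]] i j := by
    decide +kernel
  ext i
  fin_cases i <;>
    simp [Y, mE, cm_apply, h1, h2, Matrix.mulVec, dotProduct, Fin.sum_univ_seven, Matrix.one_apply] <;>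
    grind

theorem Y5_mulVec (t : K) (x : Fin 7 → K) : Y 5 t *ᵥ x =
    ![x 0, x 1, x 2 + t * x 1, x 3, x 4, x 5 - t * x 4, x 6] := by
  have h1 : ∀ i j : Fin 7, nE 5 1 (Enc.e i) (Enc.e j) = ![![0, 0, 0, 0, 0, 0, 0], ![0, 0, 0, 0, 0, 0, 0], ![0, 1, 0, 0, 0, 0, 0], ![0, 0, 0, 0, 0, 0, 0], ![0, 0, 0, 0, 0, 0, 0], ![0, 0, 0, 0, 2, 0, 0], ![0, 0, 0, 0, 0, 0, 0]] i j := by
    decide +kernel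
  have h2 : ∀ i j : Fin 7, nE 5 2 (Enc.e i) (Enc.e j) = ![![0, 0, 0, 0, 0, 0, 0], ![0, 0, 0, 0, 0, 0, 0], ![0, 0, 0, 0, 0, 0, 0], ![0, 0, 0, 0, 0, 0, 0], ![0, 0, 0, 0, 0, 0, 0], ![0, 0, 0, 0, 0, 0, 0], ![0, 0, 0, 0, 0, 0, 0]] i j := by
    decide +kernel
  ext i
  fin_cases i <;>
    simp [Y, mE, cm_apply, h1, h2, Matrix.mulVec, dotProduct, Fin.sum_univ_seven, Matrix.one_apply] <;>
    grind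

theorem Y6_mulVec (t : K) (x : Fin 7 → K) : Y 6 t *ᵥ x =
    ![x 0, x 1 + t * x 2, x 2, x 3, x 4 - t * x 5, x 5, x 6] := by
  have h1 : ∀ i j : Fin 7, nE 6 1 (Enc.e i) (Enc.e j) = ![![0, 0, 0, 0, 0, 0, 0], ![0, 0, 1, 0, 0, 0, 0], ![0, 0, 0, 0, 0, 0, 0], ![0, 0, 0, 0, 0, 0, 0], ![0, 0, 0, 0, 0, 2, 0], ![0, 0, 0, 0, 0, 0, 0], ![0, 0, 0, 0, 0, 0, 0]] i j := by
    decide +kernel
  have h2 : ∀ i j : Fin 7, nE 6 2 (Enc.e i) (Enc.e j) = ![![0, 0, 0, 0, 0, 0, 0], ![0, 0, 0, 0, 0, 0, 0], ![0, 0, 0, 0, 0, 0, 0], ![0, 0, 0, 0, 0, 0, 0], ![0, 0, 0, 0, 0, 0, 0], ![0, 0, 0, 0, 0, 0, 0], ![0, 0, 0, 0, 0, 0, 0]] i j := by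
    decide +kernel
  ext i
  fin_cases i <;>
    simp [Y, mE, cm_apply, h1, h2, Matrix.mulVec, dotProduct, Fin.sum_univ_seven, Matrix.one_apply] <;>
    grind

theorem Y7_mulVec (t : K) (x : Fin 7 → K) : Y 7 t *ᵥ x =
    ![x 0 + t * x 1, x 1, x 2 + t * x 3 - t ^ 2 * x 4, x 3 + t * x 4, x 4, x 5 - t * x 6, x 6] := by
  have h1 : ∀ i j : Fin 7, nE 7 1 (Enc.e i) (Enc.e j) = ![![0, 1, 0, 0, 0, 0, 0], ![0, 0, 0, 0, 0, 0, 0], ![0, 0, 0, 1, 0, 0, 0], ![0, 0, 0, 0, 1, 0, 0], ![0, 0, 0, 0, 0, 0, 0], ![0, 0, 0, 0, 0, 0, 2], ![0, 0, 0, 0, 0, 0, 0]] i j := by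
    decide +kernel
  have h2 : ∀ i j : Fin 7, nE 7 2 (Enc.e i) (Enc.e j) = ![![0, 0, 0, 0, 0, 0, 0], ![0, 0, 0, 0, 0, 0, 0], ![0, 0, 0, 0, 2, 0, 0], ![0, 0, 0, 0, 0, 0, 0], ![0, 0, 0, 0, 0, 0, 0], ![0, 0, 0, 0, 0, 0, 0], ![0, 0, 0, 0, 0, 0, 0]] i j := by
    decide +kernel
  ext i
  fin_cases i <;>
    simp [Y, mE, cm_apply, h1, h2, Matrix.mulVec, dotProduct, Fin.sum_univ_seven, Matrix.one_apply] <;>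
    grind

theorem Y8_mulVec (t : K) (x : Fin 7 → K) : Y 8 t *ᵥ x =
    ![x 0 - t * x 2, x 1 + t * x 3 - t ^ 2 * x 5, x 2, x 3 + t * x 5, x 4 + t * x 6, x 5, x 6] := by
  have h1 : ∀ i j : Fin 7, nE 8 1 (Enc.e i) (Enc.e j) = ![![0, 0, 2, 0, 0, 0, 0], ![0, 0, 0, 1, 0, 0, 0], ![0, 0, 0, 0, 0, 0, 0], ![0, 0, 0, 0, 0, 1, 0], ![0, 0, 0, 0, 0, 0, 1], ![0, 0, 0, 0, 0, 0, 0], ![0, 0, 0, 0, 0, 0, 0]] i j := by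
    decide +kernel
  have h2 : ∀ i j : Fin 7, nE 8 2 (Enc.e i) (Enc.e j) = ![![0, 0, 0, 0, 0, 0, 0], ![0, 0, 0, 0, 0, 2, 0], ![0, 0, 0, 0, 0, 0, 0], ![0, 0, 0, 0, 0, 0, 0], ![0, 0, 0, 0, 0, 0, 0], ![0, 0, 0, 0, 0, 0, 0], ![0, 0, 0, 0, 0, 0, 0]] i j := by
    decide +kernel
  ext i
  fin_cases i <;>
    simp [Y, mE, cm_apply, h1, h2, Matrix.mulVec, dotProduct, Fin.sum_univ_seven, Matrix.one_apply] <;>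
    grind

theorem Y9_mulVec (t : K) (x : Fin 7 → K) : Y 9 t *ᵥ x =
    ![x 0 - t * x 3 - t ^ 2 * x 6, x 1 - t * x 4, x 2 + t * x 5, x 3 - t * x 6, x 4, x 5, x 6] := by
  have h1 : ∀ i j : Fin 7, nE 9 1 (Enc.e i) (Enc.e j) = ![![0, 0, 0, 2, 0, 0, 0], ![0, 0, 0, 0, 2, 0, 0], ![0, 0, 0, 0, 0, 1, 0], ![0, 0, 0, 0, 0, 0, 2], ![0, 0, 0, 0, 0, 0, 0], ![0, 0, 0, 0, 0, 0, 0], ![0, 0, 0, 0, 0, 0, 0]] i j := by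
    decide +kernel
  have h2 : ∀ i j : Fin 7, nE 9 2 (Enc.e i) (Enc.e j) = ![![0, 0, 0, 0, 0, 0, 2], ![0, 0, 0, 0, 0, 0, 0], ![0, 0, 0, 0, 0, 0, 0], ![0, 0, 0, 0, 0, 0, 0], ![0, 0, 0, 0, 0, 0, 0], ![0, 0, 0, 0, 0, 0, 0], ![0, 0, 0, 0, 0, 0, 0]] i j := by
    decide +kernel
  ext i
  fin_cases i <;>
    simp [Y, mE, cm_apply, h1, h2, Matrix.mulVec, dotProduct, Fin.sum_univ_seven, Matrix.one_apply] <;>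
    grind

theorem Y10_mulVec (t : K) (x : Fin 7 → K) : Y 10 t *ᵥ x =
    ![x 0 - t * x 4, x 1, x 2 + t * x 6, x 3, x 4, x 5, x 6] := by
  have h1 : ∀ i j : Fin 7, nE 10 1 (Enc.e i) (Enc.e j) = ![![0, 0, 0, 0, 2, 0, 0], ![0, 0, 0, 0, 0, 0, 0], ![0, 0, 0, 0, 0, 0, 1], ![0, 0, 0, 0, 0, 0, 0], ![0, 0, 0, 0, 0, 0, 0], ![0, 0, 0, 0, 0, 0, 0], ![0, 0, 0, 0, 0, 0, 0]] i j := by
    decide +kernel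
  have h2 : ∀ i j : Fin 7, nE 10 2 (Enc.e i) (Enc.e j) = ![![0, 0, 0, 0, 0, 0, 0], ![0, 0, 0, 0, 0, 0, 0], ![0, 0, 0, 0, 0, 0, 0], ![0, 0, 0, 0, 0, 0, 0], ![0, 0, 0, 0, 0, 0, 0], ![0, 0, 0, 0, 0, 0, 0], ![0, 0, 0, 0, 0, 0, 0]] i j := by
    decide +kernel
  ext i
  fin_cases i <;>
    simp [Y, mE, cm_apply, h1, h2, Matrix.mulVec, dotProduct, Fin.sum_univ_seven, Matrix.one_apply] <;>
    grind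

theorem Y11_mulVec (t : K) (x : Fin 7 → K) : Y 11 t *ᵥ x =
    ![x 0 - t * x 5, x 1 + t * x 6, x 2, x 3, x 4, x 5, x 6] := by
  have h1 : ∀ i j : Fin 7, nE 11 1 (Enc.e i) (Enc.e j) = ![![0, 0, 0, 0, 0, 2, 0], ![0, 0, 0, 0, 0, 0, 1], ![0, 0, 0, 0, 0, 0, 0], ![0, 0, 0, 0, 0, 0, 0], ![0, 0, 0, 0, 0, 0, 0], ![0, 0, 0, 0, 0, 0, 0], ![0, 0, 0, 0, 0, 0, 0]] i j := by
    decide +kernel
  have h2 : ∀ i j : Fin 7, nE 11 2 (Enc.e i) (Enc.e j) = ![![0, 0, 0, 0, 0, 0, 0], ![0, 0, 0, 0, 0, 0, 0], ![0, 0, 0, 0, 0, 0, 0], ![0, 0, 0, 0, 0, 0, 0], ![0, 0, 0, 0, 0, 0, 0], ![0, 0, 0, 0, 0, 0, 0], ![0, 0, 0, 0, 0, 0, 0]] i j := by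
    decide +kernel
  ext i
  fin_cases i <;>
    simp [Y, mE, cm_apply, h1, h2, Matrix.mulVec, dotProduct, Fin.sum_univ_seven, Matrix.one_apply] <;>
    grind

theorem word_U (t T u U v V : K) :
    Y 6 T * Y 7 t * Y 10 (T * t ^ 3 + U) * Y 11 (T ^ 2 * t ^ 3 + V) * Y 8 u * Y 9 v =
      Y 7 t * Y 6 T * Y 8 (t * T + u) * Y 9 (t ^ 2 * T + v) * Y 10 U * Y 11 V := by
  rw [Matrix.ext_iff_mulVec]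
  intro x
  simp only [← Matrix.mulVec_mulVec, Y6_mulVec, Y7_mulVec, Y8_mulVec, Y9_mulVec, Y10_mulVec,
    Y11_mulVec]
  ext i
  fin_cases i <;> simp <;> grind

theorem word_V (t T u U v V : K) :
    Y 5 (-T) * Y 4 (-t) * Y 1 (-(T * t ^ 3 + U)) * Y 0 (-(T ^ 2 * t ^ 3 + V)) * Y 3 (-u) * Y 2 (-v) =
      Y 4 (-t) * Y 5 (-T) * Y 3 (-(t * T + u)) * Y 2 (-(t ^ 2 * T + v)) * Y 1 (-U) * Y 0 (-V) := by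
  rw [Matrix.ext_iff_mulVec]
  intro x
  simp only [← Matrix.mulVec_mulVec, Y0_mulVec, Y1_mulVec, Y2_mulVec, Y3_mulVec, Y4_mulVec,
    Y5_mulVec]
  ext i
  fin_cases i <;> simp <;> grind

end CfsgH7.Ree
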