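import Cfsg.Agent.H7.Loc20
import Cfsg.Agent.H7.Loc21

/-! Frames for `N(J)`: the case `S₃ ≀ 3`, and `S₃ ≀ S₃` without fusion of `σ` into `J`. -/

set_option autoImplicit false

namespace CfsgH7
open Subgroup CfsgH5 CfsgH6 CfsgFT CfsgH8 CfsgH9 Equiv

universe u

variable {G : Type u} [Group G] [Finite G]

namespace W9

noncomputable def PHC (_s0 _s1 _s2 : Bool) (p : A3) : Bool := !p.s
noncomputable def HC : Subgroup W := sub PHC rfl (by decide +kernel)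
noncomputable instance (m : W) : Decidable (m ∈ HC) := inferInstanceAs (Decidable (ap PHC m = true))

def R1 : Subgroup W where
  carrier := {m | m.p = .e0 ∧ m.x0 = .e0}
  one_mem' := ⟨rfl, rfl⟩
  mul_mem' := by
    rintro ⟨a, b, c, p⟩ ⟨a', b', c', p'⟩ ⟨rfl, rfl⟩ ⟨rfl, rfl⟩; exact ⟨rfl, rfl⟩
  inv_mem' := by rintro ⟨a, b, c, p⟩ ⟨rfl, rfl⟩; exact ⟨rfl, rfl⟩
instance (m : W) : Decidable (m ∈ R1) := inferInstanceAs (Decidable (m.p = .e0 ∧ m.x0 = .e0))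

noncomputable def U0l : List W := [1, s0, s1, s2, s0 * s1, s0 * s2, s1 * s2, z0]
noncomputable def U0 : Subgroup W := ofL U0l (by decide +kernel)

theorem Pj.mkFr' {f : W → G} {J : Subgroup G} (h : Pj f J) {H0 : Subgroup W} (le : S0 ≤ H0)
    (ha : H0 ≤ RK f) (hb : N J ≤ RY f H0) (hz : z0 ∈ H0) :
    ∃ F, Fr H0 F J ∧ ∀ j ∈ J0, F j = f j := by
  obtain ⟨K, k1, k2, k3⟩ := exists_compl (J := J) (Y := RY f JZ) (fun j hj => by
      obtain ⟨m, a, rfl⟩ := h.memJ.mp hj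
      exact h.pow_eq a (J0_cube m a)) h.ab (fun g ⟨_, _, b⟩ => h.mN b) (fun g hg k ⟨n, a, b⟩ => by
      obtain ⟨m, -, c⟩ := hb hg
      exact ⟨_, ap_conj _ (by decide +kernel) m n a, (c.mul b).mul c.inv⟩)
    (fun g ⟨n, a, b⟩ => h.of_r (b.mul b) ((by decide +kernel : ∀ n ∈ JZ, n * n ∈ J0) n a))
    fun j hj e => by
      obtain ⟨m, a, rfl⟩ := h.memJ.mp hj
      obtain ⟨g, d⟩ := ha hz
      rw [(by decide +kernel : ∀ j ∈ J0, z0 * j * z0⁻¹ = j → j = 1) m a (h.inj (J0_nrm z0 a) a (by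
        rw [← d m a, e g ⟨z0, by decide, d⟩, mul_inv_cancel_right])), h.one]
  have k4 : ∀ m ∈ H0, ∃ k ∈ K, RR f k m := fun m a => by
    obtain ⟨g, b⟩ := ha a
    obtain ⟨k, c, d⟩ := k3 g (h.mN b)
    exact ⟨k, c, by simpa using (h.rJ (inv_mem d) (one_mem _)).mul b⟩
  choose! κ κ1 κ2 using k4
  have u : ∀ m ∈ H0, ∀ k ∈ K, RR f k m → κ m = k := fun m a k b c =>
    mul_inv_eq_one.mp (k2 _ (mul_mem (κ1 m a) (inv_mem b))
      (h.of_r ((κ2 m a).mul c.inv) (by simp)))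
  have jle : ∀ {m}, m ∈ J0 → m ∈ H0 := fun a => le (J0_le_S0 a)
  have hJ : ∀ j ∈ J0, f (j * (lin j)⁻¹) * κ j = f j := fun j a => by
    rw [u j (jle a) 1 (one_mem _) (h.rJ (one_mem _) a), (lin_eq_one j).mp a]; simp
  refine ⟨fun m => f (m * (lin m)⁻¹) * κ m, ⟨⟨fun {m n} a b => ?_, fun {m} a e => ?_⟩, le,
    h.memJ.trans ⟨fun ⟨m, a, b⟩ => ⟨m, a, (hJ m a).trans b⟩, fun ⟨m, a, b⟩ =>
      ⟨m, a, (hJ m a).symm.trans b⟩⟩, ⟨fun hg => ?_, ?_⟩⟩, hJ⟩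
  · rw [u _ (mul_mem a b) _ (mul_mem (κ1 m a) (κ1 n b)) ((κ2 m a).mul (κ2 n b)), mul_assoc (f _),
      ← mul_assoc (κ m), mul_inv_eq_iff_eq_mul.mp (κ2 m a _ (lin_J n)), ← mul_assoc, ← mul_assoc,
      ← mul_assoc (f _), ← h.mul (lin_J m) (J0_nrm m (lin_J n)), J0_comm (lin_J m) (J0_nrm m (lin_J n)),
      lin_mul]
    congr 3; group
  · have e1 := k2 _ (κ1 m a) (eq_inv_of_mul_eq_one_right e ▸ inv_mem (h.mJ (lin_J m)))
    have k : ∀ j ∈ J0, m * j = j * m := fun j b => mul_inv_eq_iff_eq_mul.mp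
      (h.inj (J0_nrm m b) b (by simpa [e1] using (κ2 m a j b).symm))
    have e2 := cent_J0 m (k _ (by decide)) (k _ (by decide)) (k _ (by decide))
    exact h.inj1 e2 ((hJ m e2).symm.trans e)
  · obtain ⟨m, a, b⟩ := hb hg
    obtain ⟨j, c, e⟩ := h.memJ.mp (h.of_r (b.mul (κ2 m a).inv) (by simp))
    have d : lin m ∈ H0 := by simpa using mul_mem (inv_mem (jle (lin_J m))) a
    refine ⟨j * lin m, mul_mem (jle c) d, ?_⟩
    rw [u _ (mul_mem (jle c) d) _ (κ1 m a) (by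
      have := (h.rJ (one_mem _) (mul_mem c (inv_mem (lin_J m)))).mul (κ2 m a)
      simpa [mul_assoc] using this), lin_mul, (lin_eq_one j).mp c, one_mul,
      (by decide +kernel : ∀ m, lin (lin m) = lin m), mul_inv_cancel_right, e, inv_mul_cancel_right]
  · rintro ⟨m, a, rfl⟩
    exact mul_mem (le_N J (h.mJ (lin_J m))) (k1 (κ1 m a))

variable {F : W → G} {J : Subgroup G}

theorem Fr.secS (h : Fr HC F J) (hall : ∀ j ∈ J0, j ≠ 1 → C1 (F j) ≤ N J) :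
    ∃ (Q : Type u) (_ : Group Q) (_ : Finite Q) (f : W → Q) (hf : PH (HC ⊓ R1) f),
      Sig3 (hf.im (J0 ⊓ R1)) ∧ (∀ q ∈ N (hf.im (J0 ⊓ R1)), ∃ m ∈ HC ⊓ R1, f m = q) ∧
      (⊤ ≤ N (hf.im (J0 ⊓ R1)) → C1 (F s0) ≤ N J) := by
  classical
  have mr : s0 ∈ HC := by decide
  have r2 : F s0 * F s0 = 1 := h.sq mr (by decide)
  obtain ⟨Q, _, _, π, hπ⟩ := exists_sec (X := C1 (F s0)) (Z := zpowers (F s0))
    (zpowers_le.mpr (mem_C1.mpr rfl)) (nrm_of_le_C (C_zpowers _).ge)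
  have hR : ∀ {m}, m ∈ HC ⊓ R1 → F m ∈ C1 (F s0) := fun {m} a => mem_C1.mpr (h.comm a.1 mr
    ((by decide +kernel : ∀ m ∈ R1, m * s0 = s0 * m) m a.2))
  let f : W → Q := fun m => if a : F m ∈ C1 (F s0) then π ⟨_, a⟩ else 1
  have hf : ∀ {m} (a : m ∈ HC ⊓ R1), f m = π ⟨_, hR a⟩ := fun a => dif_pos (hR a)
  have ph : PH (HC ⊓ R1) f := ⟨fun a b => by
    rw [hf a, hf b, hf (mul_mem a b), ← map_mul]
    exact congrArg π (Subtype.ext (h.mul a.1 b.1)), fun {m} a e => by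
    rw [hf a, hπ.ker] at e
    rcases mem_zpowers_order_two' r2 e with e | e
    · exact h.inj1 a.1 e
    · exact absurd (h.inj a.1 mr e ▸ a.2 : s0 ∈ R1) (by decide)⟩
  have k1 : ∀ m ∈ HC, ∀ a : F m ∈ C1 (F s0), ∃ n ∈ HC ⊓ R1, f n = π ⟨_, a⟩ := fun m b a => by
    rcases (by decide +kernel : ∀ m ∈ HC, m * s0 = s0 * m → m ∈ R1 ∨ m * s0 ∈ R1) m b
      (h.comm' b mr (mem_C1.mp a)) with e | e
    · exact ⟨m, ⟨b, e⟩, hf ⟨b, e⟩⟩
    · refine ⟨_, ⟨mul_mem b mr, e⟩, (hf ⟨mul_mem b mr, e⟩).trans (hπ.eq_iff.mpr ?_)⟩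
      change F (m * s0) * (F m)⁻¹ ∈ _
      rw [h.mul b mr, mem_C1_iff_conj.mp a]
      exact mem_zpowers _
  have mc : a1 ∈ HC ⊓ R1 := ⟨h.jle (by decide), (by decide : a1 ∈ R1)⟩
  have k2 : ∀ g : C1 (F s0), π g ∈ N (ph.im (J0 ⊓ R1)) → g.1 ∈ N J := fun g hg => by
    obtain ⟨e, a, b, e1⟩ := ph.mem_im.mp (conj_mem_of_mem_N hg ((ph.mem_im' mc).mpr (by decide)))
    rw [hf mc, hf b, ← map_inv, ← map_mul, ← map_mul, eq_comm, hπ.eq_iff] at e1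
    refine h.ti (h.mJ (show a1 ∈ J0 by decide)) ?_ (hall _ (by decide) (by decide))
    rcases mem_zpowers_order_two' r2 e1 with e1 | e1
    · exact (mul_inv_eq_one.mp e1 : g.1 * F a1 * g.1⁻¹ = F e) ▸ h.mJ a.1
    · have e2 : g.1 * F a1 * g.1⁻¹ = F (s0 * e) := by
        rw [h.mul mr b.1]; exact mul_inv_eq_iff_eq_mul.mp e1
      have e3 := h.pow_eq' (n := 3) (mul_mem mr b.1) (by
        rw [← e2, conj_pow, h.exp _ (h.mJ (by decide))]; group)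
      exact absurd e3 ((by decide +kernel : ∀ e ∈ J0, (s0 * e) ^ 3 ≠ 1) e a.1)
  refine ⟨Q, _, inferInstance, f, ph, fun K h3 hn => eq_bot_iff.mpr fun q hq => ?_, fun q hq => ?_,
    fun e g hg => k2 ⟨g, hg⟩ (e (mem_top _))⟩
  · have hZ : zpowers (F s0) ≤ pre π K := fun z hz => mem_pre.mpr ⟨hπ.le hz, by
      rw [(hπ.ker _).2 hz]; exact one_mem _⟩
    have c3 : ¬ 3 ∣ Nat.card (pre π K) := by
      rw [← hπ.card_img hZ (pre_le _ _), img_pre_of_le (by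
        rw [MonoidHom.range_eq_top.2 hπ.surj]; exact le_top), Nat.card_zpowers,
        orderOf_eq_prime (by rwa [pow_two]) (h.ne mr (by decide))]
      exact fun e => h3 ((Nat.Coprime.dvd_mul_left (by norm_num)).mp e)
    have nj : ∀ j, j ∈ J0 ⊓ R1 → ∀ m ∈ pre π K, F j * m * (F j)⁻¹ ∈ pre π K := fun j hj m hm => by
      obtain ⟨a, b⟩ := mem_pre.mp hm
      have c : j ∈ HC ⊓ R1 := ⟨h.jle hj.1, hj.2⟩
      have := hn _ ((ph.mem_im' c).mpr hj) _ b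
      rw [hf c, ← map_inv, ← map_mul, ← map_mul] at this
      exact mem_pre.mpr ⟨_, this⟩
    have j0 : a1 ∈ HC := h.jle (by decide)
    have j1 : a2 ∈ HC := h.jle (by decide)
    have hle : pre π K ≤ N J := (h.b9 j0 j1 (by decide +kernel)).gen (nj _ (by decide))
      (nj _ (by decide)) c3 (fun m _ e => hall _ (by decide) (by decide) (mem_C1.mpr e))
      (fun m _ e => hall _ (by decide) (by decide) (mem_C1.mpr e))
      (fun m _ e => hall (a1 * a2) (by decide) (by decide) (mem_C1.mpr (by rwa [h.mul j0 j1])))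
      fun m _ e => hall (a1 * a2⁻¹) (by decide +kernel) (by decide +kernel)
        (mem_C1.mpr (by rwa [h.mul j0 (inv_mem j1), h.inv j1]))
    obtain ⟨⟨g, hg⟩, rfl⟩ := hπ.surj q
    have gK := mem_pre.mpr ⟨hg, hq⟩
    obtain ⟨m, a, rfl⟩ := h.memN.mp (hle gK)
    have k : ∀ j ∈ J0 ⊓ R1, m * j = j * m := fun j hj => h.comm' a (h.jle hj.1)
      (h.comm_of_N (h.mJ hj.1) (nj j hj) c3 gK (hle gK))
    rw [mem_bot, hπ.ker]
    rcases (by decide +kernel : ∀ m, m * a1 = a1 * m → m * a2 = a2 * m →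
      m * s0 = s0 * m → (m * m) ^ 3 = 1 ∧ (m * m = 1 → m = 1 ∨ m = s0)) m (k _ (by decide))
      (k _ (by decide)) (h.comm' a mr (mem_C1.mp hg)) with ⟨e1, e2⟩
    rcases e2 (h.sq' a (eq_one_of_pow_of_not_dvd Nat.prime_three (mul_mem gK gK)
      (by rw [← h.mul a a]; exact h.pow_eq (mul_mem a a) e1) c3)) with rfl | rfl
    · change F 1 ∈ _
      rw [h.one]; exact one_mem _
    · exact mem_zpowers _
  · obtain ⟨⟨g, hg⟩, rfl⟩ := hπ.surj q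
    obtain ⟨m, a, rfl⟩ := h.memN.mp (k2 _ hq)
    exact k1 m a hg

theorem Fr.caseC (h : Fr HC F J) (hs : Sig3 J) (hc : C1 (F c0) ≤ N J)
    (hσ : ∀ g, ∀ j ∈ J0, g * F σ0 * g⁻¹ ≠ F j) : N J = ⊤ := by
  have := Fact.mk Nat.prime_two
  have hall : ∀ j ∈ J0, j ≠ 1 → C1 (F j) ≤ N J := fun j hj j1 => h.of_reps [c0, a1 * a2, a0]
    (by
      simp only [List.forall_mem_cons, List.not_mem_nil, false_imp_iff, implies_true, and_true]
      exact ⟨hc, h.im_J ▸ h.toPH.L2 h.hEJ (h.im_J.symm ▸ hs) (h.J_le_C (by decide))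
        (h.hNC (by decide)) (ρ := s0) (y := a0) (by decide +kernel) (by decide +kernel),
        h.im_J ▸ h.toPH.L3 h.hEJ (h.im_J.symm ▸ hs) (h.J_le_C (by decide)) (h.hNC (by decide))
          (b := a0) (x := a1) (y := a2) (ρ := s1) (σ := s2) (by decide +kernel) le_rfl
          (mem_C1.mpr (h.comm (by decide) (by decide) (by decide)))
          (mem_C1.mpr (h.comm (by decide) (by decide) (by decide))) (by decide +kernel)⟩) hj
    ((by decide +kernel : ∀ j ∈ J0, j ≠ 1 → ∃ k ∈ HC, k * j * k⁻¹ ∈ [c0, a1 * a2, a0]) j hj j1)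
  obtain ⟨Q, _, _, f, hf, h1, h2, h3⟩ := h.secS hall
  have hr := h3 (hf.L3 (by decide +kernel) h1 le_top (P := fun _ => True)
    (fun g _ e => by simpa using h2 g e) (b := 1) (x := a1) (y := a2) (ρ := s1) (σ := s2)
    (by decide +kernel) (by rw [hf.one, C1_one]) (mem_top _) (mem_top _) (by decide +kernel))
  have ms : s0 ∈ HC := by decide
  have mz : z0 ∈ HC := by decide
  have cs := h.ctrl hall hσ ms (by decide) hr (by decide +kernel)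
  have mU : ∀ m ∈ U0l, m ∈ HC := by decide +kernel
  have hN : ∀ g ∈ N (h.im U0), ∃ m ∈ HC, F m = g ∧ m * z0 = z0 * m ∧ m ^ 3 ∈ U0l := fun g hg => by
    have k : ∀ x ∈ U0l, g * F x * g⁻¹ ∈ h.im U0 := fun x a =>
      conj_mem_of_mem_N hg ((h.mem_im' (mU x a)).mpr a)
    obtain ⟨m, a, rfl⟩ := h.memN.mp (cs g (h.im_le _ (k s0 (by decide +kernel))))
    have k' : ∀ x ∈ U0l, m * x * m⁻¹ ∈ U0l := fun x b => by
      have := k x b
      rwa [← h.conj' a (mU x b), h.mem_im' (mul_mem (mul_mem a (mU x b)) (inv_mem a))] at this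
    exact ⟨m, a, rfl, (by decide +kernel : ∀ m ∈ HC, m * s0 * m⁻¹ ∈ U0l → m * s1 * m⁻¹ ∈ U0l →
      m * s2 * m⁻¹ ∈ U0l → m * z0 = z0 * m ∧ m ^ 3 ∈ U0l) m a (k' _ (by decide +kernel))
      (k' _ (by decide +kernel)) (k' _ (by decide +kernel))⟩
  have p2 : IsPGroup 2 (h.im U0) := h.isP_im (k := 1) (by change ∀ x ∈ U0l, _; decide +kernel)
  have hS : SylIn 2 (h.im U0) ⊤ := sylIn_of_sylIn_N Nat.prime_two ⟨le_inf le_top (le_N _), p2,
    fun T t1 t2 t3 => le_antisymm (fun g hg => by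
      obtain ⟨m, a, rfl, -, b⟩ := hN g (t1 hg).2
      obtain ⟨k, hk⟩ := t2 ⟨_, hg⟩
      refine mem_of_pow_coprime (Nat.Coprime.pow_right k (by norm_num : Nat.Coprime 3 2)) ?_
        (by rw [show F m ^ 2 ^ k = 1 from congrArg Subtype.val hk]; exact one_mem _)
      rw [← h.pow a]
      exact (h.mem_im' (pow_mem a _)).mpr b) t3⟩
  have ab : h.im U0 ≤ C (h.im U0) := fun y hy => mem_C.mpr fun x hx => by
    obtain ⟨y, a', b', rfl⟩ := h.mem_im.mp hy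
    obtain ⟨x, a, b, rfl⟩ := h.mem_im.mp hx
    exact h.comm b b' ((by decide +kernel : ∀ x ∈ U0l, ∀ y ∈ U0l, x * y = y * x) x a y a')
  have zU : F z0 ∈ h.im U0 := (h.mem_im' mz).mpr (show z0 ∈ U0l by decide +kernel)
  have z2 := h.sq mz (by decide)
  have h4 := CfsgSZ.zstar (mem_top (F z0)) (h.ne mz (by decide)) z2 fun g _ e => by
    obtain ⟨c, hc, e1⟩ := (hS.of_le (le_C1_iff.2 (ab zU)) le_top).exists_le_cj
      (X := zpowers (g * F z0 * g⁻¹)) (zpowers_le.mpr (mem_C1.mpr e.symm))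
      (CfsgH8.isPGroup_zpowers_of_pow (by rw [pow_two]; exact conj_mul_self z2 g))
    have e2 := mem_cj.mp (e1 (mem_zpowers _))
    obtain ⟨n, hn, e3⟩ := hS.fusion_C Nat.prime_two (g := c⁻¹ * g) (ab zU) (mem_top _)
      (ab (by simpa [mul_assoc] using e2))
    obtain ⟨m, a, rfl, b, -⟩ := hN n hn.2
    rw [h.comm a mz b, mul_inv_cancel_right] at e3
    calc _ = c * (c⁻¹ * g * F z0 * (c⁻¹ * g)⁻¹) * c⁻¹ := by group
      _ = _ := by rw [e3, mem_C1_iff_conj.mp hc]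
  refine h.top_of_solv hall hs (fun e => ?_) (nrm_Opc 2 ⊤) (solvable_Opc2 ⊤)
  rw [e, bot_sup_eq, top_inf_eq] at h4
  exact absurd (h.comm' (h.jle (show a0 ∈ J0 by decide)) mz (mem_C1.mp (h4.ge (mem_top _))))
    (by decide)

theorem Fr.caseE (h : Fr (HE true) F J) (hs : Sig3 J) (hc : C1 (F c0) ≤ N J)
    (hσ : ∀ g, ∀ j ∈ J0, g * F σ0 * g⁻¹ ≠ F j) : N J = ⊤ := by
  refine (h.caseB3 hs hc).resolve_right fun ⟨φ⟩ => ?_
  let c : Fin 3 → Perm (Fin 9) := ![ad 0, ad 0 * ad 3, ad 0 * ad 3 * ad 6]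
  let w : Fin 4 → W := ![a0, a0 * a1, c0, σ0]
  have k : ∀ i, ∃ l, IsConj (φ (F (w i))) (c l) := fun i => by
    obtain ⟨a, b⟩ := (by decide +kernel : ∀ i : Fin 4, ![a0, a0 * a1, c0, σ0] i ^ 3 = 1 ∧
      ![a0, a0 * a1, c0, σ0] i ≠ 1) i
    obtain ⟨ρ, -, e | e | e⟩ := cube_conj (π := φ (F (w i)))
      (by rw [← map_pow, h.pow_eq (mT _) a, map_one])
      (by rw [ne_eq, map_eq_one_iff φ φ.injective]; exact h.ne (mT _) b)
    exacts [⟨0, isConj_iff.2 ⟨ρ, e⟩⟩, ⟨1, isConj_iff.2 ⟨ρ, e⟩⟩, ⟨2, isConj_iff.2 ⟨ρ, e⟩⟩]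
  choose l hl using k
  obtain ⟨i, j, ij, e⟩ := Fintype.exists_ne_map_eq_of_card_lt l (by simp)
  obtain ⟨ρ, e1⟩ := isConj_iff.1 ((hl i).trans (e ▸ (hl j).symm))
  obtain ⟨g, rfl⟩ := φ.surjective ρ
  rw [← map_inv, ← map_mul, ← map_mul, φ.injective.eq_iff] at e1
  rcases (by decide +kernel : ∀ i j : Fin 4, i ≠ j → (![a0, a0 * a1, c0, σ0] i = σ0 ∧
      ![a0, a0 * a1, c0, σ0] j ∈ J0) ∨ (![a0, a0 * a1, c0, σ0] j = σ0 ∧
      ![a0, a0 * a1, c0, σ0] i ∈ J0) ∨ (![a0, a0 * a1, c0, σ0] i ∈ J0 ∧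
      ![a0, a0 * a1, c0, σ0] j ∈ J0 ∧ ∀ k, k * ![a0, a0 * a1, c0, σ0] i * k⁻¹ ≠
        ![a0, a0 * a1, c0, σ0] j)) i j ij with ⟨a, b⟩ | ⟨a, b⟩ | ⟨a, b, d⟩
  · exact hσ g _ b (by rwa [show w i = σ0 from a] at e1)
  · rw [show w j = σ0 from a] at e1
    exact hσ g⁻¹ (w i) b (by rw [← e1]; group)
  · obtain ⟨k, -, e2, -⟩ := h.fus a b e1
    exact d k e2

end W9
end CfsgH7
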