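import Cfsg.Agent.H2.O8M2

set_option autoImplicit false
set_option maxRecDepth 100000
set_option linter.style.haveILetI false

/-! Normal subgroups of `Ω⁺(8,2)`. -/

namespace CfsgH2.T3P

open CfsgH3.TC CfsgH9 CfsgH8 Subgroup CfsgFT CfsgH2.Fx CfsgH2.O8

theorem cen_bot {k : Om} (h : ∀ y ∈ D0, k ∈ C1 y) : k = 1 := by
  have m : ∀ w : List ℕ, (∀ a ∈ w, a < 17) → inD (evC w) = true → k ∈ C1 (ev (ext vH) w) :=
    fun w hw e => h _ (mem_D0.2 (by rw [enc_ev hw]; exact e))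
  have mono : ∀ {n : ℕ} {t : NT} {K L : Subgroup Om} {y : Om}, K ≤ L →
      (∀ j, j < n → ∃ g ∈ K, oM.enc (g * y * g⁻¹) = t.get j) →
      ∀ j, j < n → ∃ g ∈ L, oM.enc (g * y * g⁻¹) = t.get j := fun hKL h j hj => by
    obtain ⟨g, hg, e⟩ := h j hj
    exact ⟨g, hKL hg, e⟩
  let y7 := ev (ext vH) [16, 6, 5, 4, 16, 6, 5, 4, 16, 8, 16, 4, 5, 6, 16, 4, 5, 6, 16]
  let y6 := ev (ext vH) [7]
  let y3 := ev (ext vH) [15]
  have l6 : Gen 6 vH ≤ Gen 7 vH ⊓ C1 y7 := le_inf (Gen_mono vH (by norm_num))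
    (Gen_C1 (by norm_num) (by decide) (by decide +kernel))
  have l3 : Gen 3 vH ≤ Gen 7 vH ⊓ C1 y7 ⊓ C1 y6 := le_inf ((Gen_mono vH (by norm_num)).trans l6)
    (Gen_C1 (by norm_num) (by decide) (by decide +kernel))
  have h7 := orb_card (L := Gen 7 vH ⊓ C1 y7) (orb_le (I := o7I) (p := 30190) (orb_mem (k := 512)
    (t := o7T) (P := o7P) (r := 7) (y := y7) (by norm_num) (by norm_num)
    ((enc_ev (by decide)).trans (by decide +kernel)) (by decide +kernel))
    (by decide +kernel)) inf_le_left inf_le_right le_rfl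
  have h6 := orb_card (L := Gen 7 vH ⊓ C1 y7 ⊓ C1 y6) (orb_le (I := o6I) (p := 143) (mono l6
    (orb_mem (k := 27) (t := o6T) (P := o6P) (r := 6) (y := y6) (by norm_num) (by norm_num)
    ((enc_ev (by decide)).trans (by decide +kernel)) (by decide +kernel)))
    (by decide +kernel)) inf_le_left inf_le_right le_rfl
  have h3 := orb_card (L := Gen 7 vH ⊓ C1 y7 ⊓ C1 y6 ⊓ C1 y3) (orb_le (I := o3I) (p := 41) (mono l3
    (orb_mem (k := 8) (t := o3T) (P := o3P) (r := 3) (y := y3) (by norm_num) (by norm_num)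
    ((enc_ev (by decide)).trans (by decide +kernel)) (by decide +kernel)))
    (by decide +kernel)) inf_le_left inf_le_right le_rfl
  rw [card_gen7] at h7
  have hb : Gen 7 vH ⊓ C1 y7 ⊓ C1 y6 ⊓ C1 y3 = ⊥ := eq_bot_of_card_le _ (by omega)
  refine hb.le ⟨⟨⟨om_facts.2.1 ▸ h z0 ⟨1, by simp⟩, m _ (by decide) (by decide +kernel)⟩,
    m _ (by decide) (by decide +kernel)⟩, m _ (by decide) (by decide +kernel)⟩

noncomputable def sW : NT := (.node (.node (.node (.node (.node (.node (.node (.node (.node (.node (.node (.leaf (nat_lit 0)) (.leaf (nat_lit 1))) (.node (.leaf (nat_lit 0)) (.leaf (nat_lit 3)))) (.node (.node (.leaf (nat_lit 2)) (.leaf (nat_lit 1))) (.leaf (nat_lit 0)))) (.node (.node (.node (.leaf (nat_lit 1)) (.leaf (nat_lit 1))) (.leaf (nat_lit 0))) (.node (.node (.leaf (nat_lit 0)) (.leaf (nat_lit 2))) (.leaf (nat_lit 0))))) (.node (.node (.node (.node (.leaf (nat_lit 4)) (.leaf (nat_lit 1))) (.leaf (nat_lit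 0))) (.node (.node (.leaf (nat_lit 1)) (.leaf (nat_lit 2))) (.leaf (nat_lit 0)))) (.node (.node (.node (.leaf (nat_lit 1)) (.leaf (nat_lit 1))) (.leaf (nat_lit 0))) (.node (.node (.leaf (nat_lit 0)) (.leaf (nat_lit 3))) (.leaf (nat_lit 0)))))) (.node (.node (.node (.node (.node (.leaf (nat_lit 3)) (.leaf (nat_lit 1))) (.node (.leaf (nat_lit 0)) (.leaf (nat_lit 5)))) (.node (.node (.leaf (nat_lit 0)) (.leaf (nat_lit 0))) (.leaf (nat_lit 1)))) (.node (.node (.node (.leaf (nat_lit 0)) (.leaf (nat_lit 1))) (.leaf (nat_lit 0))) (.node (.node (.leaf (nat_lit 0)) (.leaf (nat_lit 2))) (.leaf (nat_lit 0))))) (.node (.node (.node (.node (.leaf (nat_lit 0)) (.leaf (nat_lit 0))) (.leaf (nat_lit 0))) (.node (.node (.leaf (nat_lit 0)) (.leaf (nat_lit 2))) (.leaf (nat_lit 0)))) (.node (.node (.node (.leaf (nat_lit 0)) (.leaf (nat_lit 1))) (.leaf (nat_lit 0))) (.node (.node (.leaf (nat_lit 0)) (.leaf (nat_lit 3))) (.leaf (nat_lit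 1))))))) (.node (.node (.node (.node (.node (.node (.leaf (nat_lit 4)) (.leaf (nat_lit 1))) (.node (.leaf (nat_lit 0)) (.leaf (nat_lit 3)))) (.node (.node (.leaf (nat_lit 0)) (.leaf (nat_lit 1))) (.leaf (nat_lit 0)))) (.node (.node (.node (.leaf (nat_lit 1)) (.leaf (nat_lit 1))) (.leaf (nat_lit 1))) (.node (.node (.leaf (nat_lit 0)) (.leaf (nat_lit 3))) (.leaf (nat_lit 0))))) (.node (.node (.node (.node (.leaf (nat_lit 1)) (.leaf (nat_lit 0))) (.leaf (nat_lit 0))) (.node (.node (.leaf (nat_lit 0)) (.leaf (nat_lit 2))) (.leaf (nat_lit 0)))) (.node (.node (.node (.leaf (nat_lit 0)) (.leaf (nat_lit 1))) (.leaf (nat_lit 0))) (.node (.node (.leaf (nat_lit 1)) (.leaf (nat_lit 4))) (.leaf (nat_lit 0)))))) (.node (.node (.node (.node (.node (.leaf (nat_lit 1)) (.leaf (nat_lit 0))) (.leaf (nat_lit 0))) (.node (.node (.leaf (nat_lit 0)) (.leaf (nat_lit 1))) (.leaf (nat_lit 1)))) (.node (.node (.node (.leaf (nat_lit 0))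 (.leaf (nat_lit 1))) (.leaf (nat_lit 0))) (.node (.node (.leaf (nat_lit 0)) (.leaf (nat_lit 1))) (.leaf (nat_lit 0))))) (.node (.node (.node (.node (.leaf (nat_lit 3)) (.leaf (nat_lit 0))) (.leaf (nat_lit 0))) (.node (.node (.leaf (nat_lit 0)) (.leaf (nat_lit 2))) (.leaf (nat_lit 0)))) (.node (.node (.node (.leaf (nat_lit 0)) (.leaf (nat_lit 1))) (.leaf (nat_lit 0))) (.node (.node (.leaf (nat_lit 1)) (.leaf (nat_lit 2))) (.leaf (nat_lit 0)))))))) (.node (.node (.node (.node (.node (.node (.node (.leaf (nat_lit 7)) (.leaf (nat_lit 0))) (.node (.leaf (nat_lit 0)) (.leaf (nat_lit 2)))) (.node (.node (.leaf (nat_lit 0)) (.leaf (nat_lit 0))) (.leaf (nat_lit 0)))) (.node (.node (.node (.leaf (nat_lit 0)) (.leaf (nat_lit 1))) (.leaf (nat_lit 0))) (.node (.node (.leaf (nat_lit 0)) (.leaf (nat_lit 3))) (.leaf (nat_lit 0))))) (.node (.node (.node (.node (.leaf (nat_lit 0)) (.leaf (nat_lit 0))) (.leaf (nat_lit 1))) (.node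 (.node (.leaf (nat_lit 0)) (.leaf (nat_lit 1))) (.leaf (nat_lit 0)))) (.node (.node (.node (.leaf (nat_lit 1)) (.leaf (nat_lit 1))) (.leaf (nat_lit 0))) (.node (.node (.leaf (nat_lit 0)) (.leaf (nat_lit 2))) (.leaf (nat_lit 0)))))) (.node (.node (.node (.node (.node (.leaf (nat_lit 1)) (.leaf (nat_lit 0))) (.leaf (nat_lit 0))) (.node (.node (.leaf (nat_lit 0)) (.leaf (nat_lit 4))) (.leaf (nat_lit 1)))) (.node (.node (.node (.leaf (nat_lit 4)) (.leaf (nat_lit 1))) (.leaf (nat_lit 0))) (.node (.node (.leaf (nat_lit 0)) (.leaf (nat_lit 1))) (.leaf (nat_lit 0))))) (.node (.node (.node (.node (.leaf (nat_lit 0)) (.leaf (nat_lit 4))) (.leaf (nat_lit 0))) (.node (.node (.leaf (nat_lit 0)) (.leaf (nat_lit 4))) (.leaf (nat_lit 0)))) (.node (.node (.node (.leaf (nat_lit 0)) (.leaf (nat_lit 2))) (.leaf (nat_lit 0))) (.node (.node (.leaf (nat_lit 0)) (.leaf (nat_lit 5))) (.leaf (nat_lit 1))))))) (.node (.node (.node (.node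 (.node (.node (.leaf (nat_lit 4)) (.leaf (nat_lit 0))) (.node (.leaf (nat_lit 0)) (.leaf (nat_lit 3)))) (.node (.node (.leaf (nat_lit 1)) (.leaf (nat_lit 1))) (.leaf (nat_lit 0)))) (.node (.node (.node (.leaf (nat_lit 2)) (.leaf (nat_lit 2))) (.leaf (nat_lit 0))) (.node (.node (.leaf (nat_lit 1)) (.leaf (nat_lit 2))) (.leaf (nat_lit 0))))) (.node (.node (.node (.node (.leaf (nat_lit 2)) (.leaf (nat_lit 1))) (.leaf (nat_lit 0))) (.node (.node (.leaf (nat_lit 0)) (.leaf (nat_lit 2))) (.leaf (nat_lit 0)))) (.node (.node (.node (.leaf (nat_lit 0)) (.leaf (nat_lit 1))) (.leaf (nat_lit 0))) (.node (.node (.leaf (nat_lit 0)) (.leaf (nat_lit 4))) (.leaf (nat_lit 0)))))) (.node (.node (.node (.node (.node (.leaf (nat_lit 1)) (.leaf (nat_lit 0))) (.leaf (nat_lit 0))) (.node (.node (.leaf (nat_lit 0)) (.leaf (nat_lit 5))) (.leaf (nat_lit 0)))) (.node (.node (.node (.leaf (nat_lit 0)) (.leaf (nat_lit 2))) (.leaf (nat_lit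 0))) (.node (.node (.leaf (nat_lit 0)) (.leaf (nat_lit 1))) (.leaf (nat_lit 0))))) (.node (.node (.node (.node (.leaf (nat_lit 3)) (.leaf (nat_lit 1))) (.leaf (nat_lit 0))) (.node (.node (.leaf (nat_lit 0)) (.leaf (nat_lit 4))) (.leaf (nat_lit 0)))) (.node (.node (.node (.leaf (nat_lit 0)) (.leaf (nat_lit 0))) (.leaf (nat_lit 0))) (.node (.node (.leaf (nat_lit 0)) (.leaf (nat_lit 5))) (.leaf (nat_lit 0))))))))) (.node (.node (.node (.node (.node (.node (.node (.node (.leaf (nat_lit 6)) (.leaf (nat_lit 0))) (.node (.leaf (nat_lit 1)) (.leaf (nat_lit 2)))) (.node (.node (.leaf (nat_lit 1)) (.leaf (nat_lit 0))) (.leaf (nat_lit 1)))) (.node (.node (.node (.leaf (nat_lit 0)) (.leaf (nat_lit 1))) (.leaf (nat_lit 0))) (.node (.node (.leaf (nat_lit 0)) (.leaf (nat_lit 1))) (.leaf (nat_lit 0))))) (.node (.node (.node (.node (.leaf (nat_lit 0)) (.leaf (nat_lit 0))) (.leaf (nat_lit 0))) (.node (.node (.leaf (nat_lit 0))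 (.leaf (nat_lit 2))) (.leaf (nat_lit 0)))) (.node (.node (.node (.leaf (nat_lit 3)) (.leaf (nat_lit 1))) (.leaf (nat_lit 0))) (.node (.node (.leaf (nat_lit 0)) (.leaf (nat_lit 2))) (.leaf (nat_lit 2)))))) (.node (.node (.node (.node (.node (.leaf (nat_lit 1)) (.leaf (nat_lit 0))) (.node (.leaf (nat_lit 0)) (.leaf (nat_lit 3)))) (.node (.node (.leaf (nat_lit 0)) (.leaf (nat_lit 2))) (.leaf (nat_lit 0)))) (.node (.node (.node (.leaf (nat_lit 0)) (.leaf (nat_lit 2))) (.leaf (nat_lit 0))) (.node (.node (.leaf (nat_lit 0)) (.leaf (nat_lit 2))) (.leaf (nat_lit 1))))) (.node (.node (.node (.node (.leaf (nat_lit 1)) (.leaf (nat_lit 1))) (.leaf (nat_lit 0))) (.node (.node (.leaf (nat_lit 0)) (.leaf (nat_lit 3))) (.leaf (nat_lit 0)))) (.node (.node (.node (.leaf (nat_lit 0)) (.leaf (nat_lit 2))) (.leaf (nat_lit 0))) (.node (.node (.leaf (nat_lit 0)) (.leaf (nat_lit 4))) (.leaf (nat_lit 0))))))) (.node (.node (.node (.node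 (.node (.node (.leaf (nat_lit 7)) (.leaf (nat_lit 1))) (.node (.leaf (nat_lit 0)) (.leaf (nat_lit 5)))) (.node (.node (.leaf (nat_lit 0)) (.leaf (nat_lit 0))) (.leaf (nat_lit 0)))) (.node (.node (.node (.leaf (nat_lit 2)) (.leaf (nat_lit 2))) (.leaf (nat_lit 1))) (.node (.node (.leaf (nat_lit 1)) (.leaf (nat_lit 1))) (.leaf (nat_lit 0))))) (.node (.node (.node (.node (.leaf (nat_lit 2)) (.leaf (nat_lit 0))) (.leaf (nat_lit 0))) (.node (.node (.leaf (nat_lit 0)) (.leaf (nat_lit 3))) (.leaf (nat_lit 0)))) (.node (.node (.node (.leaf (nat_lit 0)) (.leaf (nat_lit 1))) (.leaf (nat_lit 0))) (.node (.node (.leaf (nat_lit 0)) (.leaf (nat_lit 1))) (.leaf (nat_lit 0)))))) (.node (.node (.node (.node (.node (.leaf (nat_lit 0)) (.leaf (nat_lit 0))) (.leaf (nat_lit 0))) (.node (.node (.leaf (nat_lit 0)) (.leaf (nat_lit 1))) (.leaf (nat_lit 1)))) (.node (.node (.node (.leaf (nat_lit 0)) (.leaf (nat_lit 1))) (.leaf (nat_lit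 1))) (.node (.node (.leaf (nat_lit 0)) (.leaf (nat_lit 4))) (.leaf (nat_lit 1))))) (.node (.node (.node (.node (.leaf (nat_lit 3)) (.leaf (nat_lit 1))) (.leaf (nat_lit 0))) (.node (.node (.leaf (nat_lit 0)) (.leaf (nat_lit 5))) (.leaf (nat_lit 0)))) (.node (.node (.node (.leaf (nat_lit 1)) (.leaf (nat_lit 0))) (.leaf (nat_lit 0))) (.node (.node (.leaf (nat_lit 0)) (.leaf (nat_lit 3))) (.leaf (nat_lit 1)))))))) (.node (.node (.node (.node (.node (.node (.node (.leaf (nat_lit 3)) (.leaf (nat_lit 0))) (.node (.leaf (nat_lit 0)) (.leaf (nat_lit 2)))) (.node (.node (.leaf (nat_lit 0)) (.leaf (nat_lit 3))) (.leaf (nat_lit 0)))) (.node (.node (.node (.leaf (nat_lit 0)) (.leaf (nat_lit 1))) (.leaf (nat_lit 0))) (.node (.node (.leaf (nat_lit 0)) (.leaf (nat_lit 3))) (.leaf (nat_lit 0))))) (.node (.node (.node (.node (.leaf (nat_lit 0)) (.leaf (nat_lit 0))) (.leaf (nat_lit 0))) (.node (.node (.leaf (nat_lit 0)) (.leaf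 (nat_lit 5))) (.leaf (nat_lit 0)))) (.node (.node (.node (.leaf (nat_lit 0)) (.leaf (nat_lit 3))) (.leaf (nat_lit 0))) (.node (.node (.leaf (nat_lit 0)) (.leaf (nat_lit 3))) (.leaf (nat_lit 0)))))) (.node (.node (.node (.node (.node (.leaf (nat_lit 2)) (.leaf (nat_lit 0))) (.leaf (nat_lit 0))) (.node (.node (.leaf (nat_lit 0)) (.leaf (nat_lit 3))) (.leaf (nat_lit 0)))) (.node (.node (.node (.leaf (nat_lit 0)) (.leaf (nat_lit 0))) (.leaf (nat_lit 0))) (.node (.node (.leaf (nat_lit 0)) (.leaf (nat_lit 0))) (.leaf (nat_lit 1))))) (.node (.node (.node (.node (.leaf (nat_lit 4)) (.leaf (nat_lit 0))) (.leaf (nat_lit 0))) (.node (.node (.leaf (nat_lit 0)) (.leaf (nat_lit 2))) (.leaf (nat_lit 0)))) (.node (.node (.node (.leaf (nat_lit 0)) (.leaf (nat_lit 2))) (.leaf (nat_lit 0))) (.node (.node (.leaf (nat_lit 0)) (.leaf (nat_lit 2))) (.leaf (nat_lit 0))))))) (.node (.node (.node (.node (.node (.node (.leaf (nat_lit 3))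 (.leaf (nat_lit 1))) (.node (.leaf (nat_lit 0)) (.leaf (nat_lit 5)))) (.node (.node (.leaf (nat_lit 0)) (.leaf (nat_lit 1))) (.leaf (nat_lit 0)))) (.node (.node (.node (.leaf (nat_lit 2)) (.leaf (nat_lit 3))) (.leaf (nat_lit 0))) (.node (.node (.leaf (nat_lit 0)) (.leaf (nat_lit 2))) (.leaf (nat_lit 1))))) (.node (.node (.node (.node (.leaf (nat_lit 1)) (.leaf (nat_lit 1))) (.leaf (nat_lit 1))) (.node (.node (.leaf (nat_lit 0)) (.leaf (nat_lit 2))) (.leaf (nat_lit 0)))) (.node (.node (.node (.leaf (nat_lit 0)) (.leaf (nat_lit 1))) (.leaf (nat_lit 0))) (.node (.node (.leaf (nat_lit 0)) (.leaf (nat_lit 2))) (.leaf (nat_lit 0)))))) (.node (.node (.node (.node (.node (.leaf (nat_lit 1)) (.leaf (nat_lit 0))) (.leaf (nat_lit 0))) (.node (.node (.leaf (nat_lit 1)) (.leaf (nat_lit 1))) (.leaf (nat_lit 0)))) (.node (.node (.node (.leaf (nat_lit 1)) (.leaf (nat_lit 1))) (.leaf (nat_lit 0))) (.node (.node (.leaf (nat_lit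 1)) (.leaf (nat_lit 3))) (.leaf (nat_lit 1))))) (.node (.node (.node (.node (.leaf (nat_lit 0)) (.leaf (nat_lit 1))) (.leaf (nat_lit 0))) (.node (.node (.leaf (nat_lit 0)) (.leaf (nat_lit 2))) (.leaf (nat_lit 0)))) (.node (.node (.node (.leaf (nat_lit 1)) (.leaf (nat_lit 0))) (.leaf (nat_lit 1))) (.node (.node (.leaf (nat_lit 0)) (.leaf (nat_lit 2))) (.leaf (nat_lit 0)))))))))) (.node (.node (.node (.node (.node (.node (.node (.node (.node (.leaf (nat_lit 9)) (.leaf (nat_lit 0))) (.node (.leaf (nat_lit 0)) (.leaf (nat_lit 2)))) (.node (.node (.leaf (nat_lit 0)) (.leaf (nat_lit 1))) (.leaf (nat_lit 1)))) (.node (.node (.node (.leaf (nat_lit 0)) (.leaf (nat_lit 1))) (.leaf (nat_lit 0))) (.node (.node (.leaf (nat_lit 0)) (.leaf (nat_lit 1))) (.leaf (nat_lit 1))))) (.node (.node (.node (.node (.leaf (nat_lit 1)) (.leaf (nat_lit 0))) (.leaf (nat_lit 1))) (.node (.node (.leaf (nat_lit 0)) (.leaf (nat_lit 3))) (.leaf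 (nat_lit 0)))) (.node (.node (.node (.leaf (nat_lit 1)) (.leaf (nat_lit 3))) (.leaf (nat_lit 0))) (.node (.node (.leaf (nat_lit 0)) (.leaf (nat_lit 5))) (.leaf (nat_lit 1)))))) (.node (.node (.node (.node (.node (.leaf (nat_lit 4)) (.leaf (nat_lit 0))) (.node (.leaf (nat_lit 0)) (.leaf (nat_lit 5)))) (.node (.node (.leaf (nat_lit 0)) (.leaf (nat_lit 1))) (.leaf (nat_lit 0)))) (.node (.node (.node (.leaf (nat_lit 0)) (.leaf (nat_lit 2))) (.leaf (nat_lit 0))) (.node (.node (.leaf (nat_lit 0)) (.leaf (nat_lit 2))) (.leaf (nat_lit 1))))) (.node (.node (.node (.node (.leaf (nat_lit 4)) (.leaf (nat_lit 1))) (.leaf (nat_lit 1))) (.node (.node (.leaf (nat_lit 0)) (.leaf (nat_lit 2))) (.leaf (nat_lit 0)))) (.node (.node (.node (.leaf (nat_lit 0)) (.leaf (nat_lit 2))) (.leaf (nat_lit 0))) (.node (.node (.leaf (nat_lit 0)) (.leaf (nat_lit 2))) (.leaf (nat_lit 0))))))) (.node (.node (.node (.node (.node (.node (.leaf (nat_lit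 3)) (.leaf (nat_lit 0))) (.node (.leaf (nat_lit 0)) (.leaf (nat_lit 5)))) (.node (.node (.leaf (nat_lit 0)) (.leaf (nat_lit 4))) (.leaf (nat_lit 0)))) (.node (.node (.node (.leaf (nat_lit 1)) (.leaf (nat_lit 2))) (.leaf (nat_lit 0))) (.node (.node (.leaf (nat_lit 1)) (.leaf (nat_lit 1))) (.leaf (nat_lit 0))))) (.node (.node (.node (.node (.leaf (nat_lit 1)) (.leaf (nat_lit 1))) (.leaf (nat_lit 0))) (.node (.node (.leaf (nat_lit 0)) (.leaf (nat_lit 2))) (.leaf (nat_lit 0)))) (.node (.node (.node (.leaf (nat_lit 0)) (.leaf (nat_lit 1))) (.leaf (nat_lit 0))) (.node (.node (.leaf (nat_lit 0)) (.leaf (nat_lit 2))) (.leaf (nat_lit 0)))))) (.node (.node (.node (.node (.node (.leaf (nat_lit 1)) (.leaf (nat_lit 0))) (.leaf (nat_lit 0))) (.node (.node (.leaf (nat_lit 1)) (.leaf (nat_lit 4))) (.leaf (nat_lit 2)))) (.node (.node (.node (.leaf (nat_lit 0)) (.leaf (nat_lit 1))) (.leaf (nat_lit 0))) (.node (.node (.leaf (nat_lit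 0)) (.leaf (nat_lit 3))) (.leaf (nat_lit 1))))) (.node (.node (.node (.node (.leaf (nat_lit 3)) (.leaf (nat_lit 0))) (.leaf (nat_lit 0))) (.node (.node (.leaf (nat_lit 0)) (.leaf (nat_lit 3))) (.leaf (nat_lit 0)))) (.node (.node (.node (.leaf (nat_lit 0)) (.leaf (nat_lit 0))) (.leaf (nat_lit 0))) (.node (.node (.leaf (nat_lit 0)) (.leaf (nat_lit 5))) (.leaf (nat_lit 1)))))))) (.node (.node (.node (.node (.node (.node (.node (.leaf (nat_lit 6)) (.leaf (nat_lit 1))) (.node (.leaf (nat_lit 0)) (.leaf (nat_lit 2)))) (.node (.node (.leaf (nat_lit 0)) (.leaf (nat_lit 1))) (.leaf (nat_lit 0)))) (.node (.node (.node (.leaf (nat_lit 0)) (.leaf (nat_lit 1))) (.leaf (nat_lit 0))) (.node (.node (.leaf (nat_lit 0)) (.leaf (nat_lit 3))) (.leaf (nat_lit 0))))) (.node (.node (.node (.node (.leaf (nat_lit 0)) (.leaf (nat_lit 0))) (.leaf (nat_lit 0))) (.node (.node (.leaf (nat_lit 0)) (.leaf (nat_lit 3))) (.leaf (nat_lit 0))))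 (.node (.node (.node (.leaf (nat_lit 0)) (.leaf (nat_lit 3))) (.leaf (nat_lit 0))) (.node (.node (.leaf (nat_lit 0)) (.leaf (nat_lit 4))) (.leaf (nat_lit 0)))))) (.node (.node (.node (.node (.node (.leaf (nat_lit 2)) (.leaf (nat_lit 0))) (.leaf (nat_lit 0))) (.node (.node (.leaf (nat_lit 0)) (.leaf (nat_lit 2))) (.leaf (nat_lit 1)))) (.node (.node (.node (.leaf (nat_lit 1)) (.leaf (nat_lit 4))) (.leaf (nat_lit 0))) (.node (.node (.leaf (nat_lit 0)) (.leaf (nat_lit 4))) (.leaf (nat_lit 0))))) (.node (.node (.node (.node (.leaf (nat_lit 4)) (.leaf (nat_lit 0))) (.leaf (nat_lit 0))) (.node (.node (.leaf (nat_lit 0)) (.leaf (nat_lit 2))) (.leaf (nat_lit 0)))) (.node (.node (.node (.leaf (nat_lit 0)) (.leaf (nat_lit 2))) (.leaf (nat_lit 0))) (.node (.node (.leaf (nat_lit 0)) (.leaf (nat_lit 1))) (.leaf (nat_lit 1))))))) (.node (.node (.node (.node (.node (.node (.leaf (nat_lit 4)) (.leaf (nat_lit 1))) (.node (.leaf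 (nat_lit 1)) (.leaf (nat_lit 2)))) (.node (.node (.leaf (nat_lit 0)) (.leaf (nat_lit 0))) (.leaf (nat_lit 1)))) (.node (.node (.node (.leaf (nat_lit 1)) (.leaf (nat_lit 2))) (.leaf (nat_lit 0))) (.node (.node (.leaf (nat_lit 1)) (.leaf (nat_lit 2))) (.leaf (nat_lit 0))))) (.node (.node (.node (.node (.leaf (nat_lit 2)) (.leaf (nat_lit 1))) (.leaf (nat_lit 0))) (.node (.node (.leaf (nat_lit 0)) (.leaf (nat_lit 2))) (.leaf (nat_lit 0)))) (.node (.node (.node (.leaf (nat_lit 0)) (.leaf (nat_lit 1))) (.leaf (nat_lit 0))) (.node (.node (.leaf (nat_lit 0)) (.leaf (nat_lit 5))) (.leaf (nat_lit 0)))))) (.node (.node (.node (.node (.node (.leaf (nat_lit 3)) (.leaf (nat_lit 0))) (.leaf (nat_lit 0))) (.node (.node (.leaf (nat_lit 3)) (.leaf (nat_lit 0))) (.leaf (nat_lit 0)))) (.node (.node (.node (.leaf (nat_lit 1)) (.leaf (nat_lit 0))) (.leaf (nat_lit 0))) (.node (.node (.leaf (nat_lit 0)) (.leaf (nat_lit 3))) (.leaf (nat_lit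 1))))) (.node (.node (.node (.node (.leaf (nat_lit 0)) (.leaf (nat_lit 2))) (.leaf (nat_lit 0))) (.node (.node (.leaf (nat_lit 0)) (.leaf (nat_lit 1))) (.leaf (nat_lit 0)))) (.node (.node (.node (.leaf (nat_lit 2)) (.leaf (nat_lit 0))) (.leaf (nat_lit 0))) (.node (.node (.leaf (nat_lit 0)) (.leaf (nat_lit 3))) (.leaf (nat_lit 0))))))))) (.node (.node (.node (.node (.node (.node (.node (.node (.leaf (nat_lit 4)) (.leaf (nat_lit 1))) (.node (.leaf (nat_lit 0)) (.leaf (nat_lit 2)))) (.node (.node (.leaf (nat_lit 0)) (.leaf (nat_lit 0))) (.leaf (nat_lit 1)))) (.node (.node (.node (.leaf (nat_lit 0)) (.leaf (nat_lit 1))) (.leaf (nat_lit 0))) (.node (.node (.leaf (nat_lit 0)) (.leaf (nat_lit 3))) (.leaf (nat_lit 0))))) (.node (.node (.node (.node (.leaf (nat_lit 1)) (.leaf (nat_lit 0))) (.leaf (nat_lit 0))) (.node (.node (.leaf (nat_lit 0)) (.leaf (nat_lit 2))) (.leaf (nat_lit 0)))) (.node (.node (.node (.leaf (nat_lit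 1)) (.leaf (nat_lit 1))) (.leaf (nat_lit 0))) (.node (.node (.leaf (nat_lit 0)) (.leaf (nat_lit 2))) (.leaf (nat_lit 1)))))) (.node (.node (.node (.node (.node (.leaf (nat_lit 1)) (.leaf (nat_lit 0))) (.node (.leaf (nat_lit 0)) (.leaf (nat_lit 5)))) (.node (.node (.leaf (nat_lit 0)) (.leaf (nat_lit 1))) (.leaf (nat_lit 0)))) (.node (.node (.node (.leaf (nat_lit 0)) (.leaf (nat_lit 2))) (.leaf (nat_lit 0))) (.node (.node (.leaf (nat_lit 0)) (.leaf (nat_lit 1))) (.leaf (nat_lit 0))))) (.node (.node (.node (.node (.leaf (nat_lit 0)) (.leaf (nat_lit 0))) (.leaf (nat_lit 0))) (.node (.node (.leaf (nat_lit 0)) (.leaf (nat_lit 2))) (.leaf (nat_lit 0)))) (.node (.node (.node (.leaf (nat_lit 0)) (.leaf (nat_lit 1))) (.leaf (nat_lit 0))) (.node (.node (.leaf (nat_lit 0)) (.leaf (nat_lit 2))) (.leaf (nat_lit 1))))))) (.node (.node (.node (.node (.node (.node (.leaf (nat_lit 2)) (.leaf (nat_lit 1))) (.node (.leaf (nat_lit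 0)) (.leaf (nat_lit 3)))) (.node (.node (.leaf (nat_lit 1)) (.leaf (nat_lit 1))) (.leaf (nat_lit 0)))) (.node (.node (.node (.leaf (nat_lit 2)) (.leaf (nat_lit 1))) (.leaf (nat_lit 0))) (.node (.node (.leaf (nat_lit 1)) (.leaf (nat_lit 1))) (.leaf (nat_lit 1))))) (.node (.node (.node (.node (.leaf (nat_lit 2)) (.leaf (nat_lit 1))) (.leaf (nat_lit 0))) (.node (.node (.leaf (nat_lit 0)) (.leaf (nat_lit 1))) (.leaf (nat_lit 0)))) (.node (.node (.node (.leaf (nat_lit 0)) (.leaf (nat_lit 1))) (.leaf (nat_lit 0))) (.node (.node (.leaf (nat_lit 0)) (.leaf (nat_lit 2))) (.leaf (nat_lit 0)))))) (.node (.node (.node (.node (.node (.leaf (nat_lit 4)) (.leaf (nat_lit 1))) (.leaf (nat_lit 0))) (.node (.node (.leaf (nat_lit 0)) (.leaf (nat_lit 1))) (.leaf (nat_lit 1)))) (.node (.node (.node (.leaf (nat_lit 0)) (.leaf (nat_lit 0))) (.leaf (nat_lit 0))) (.node (.node (.leaf (nat_lit 0)) (.leaf (nat_lit 2))) (.leaf (nat_lit 0)))))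 (.node (.node (.node (.node (.leaf (nat_lit 1)) (.leaf (nat_lit 1))) (.leaf (nat_lit 0))) (.node (.node (.leaf (nat_lit 0)) (.leaf (nat_lit 2))) (.leaf (nat_lit 0)))) (.node (.node (.node (.leaf (nat_lit 0)) (.leaf (nat_lit 0))) (.leaf (nat_lit 0))) (.node (.node (.leaf (nat_lit 1)) (.leaf (nat_lit 3))) (.leaf (nat_lit 3)))))))) (.node (.node (.node (.node (.node (.node (.node (.leaf (nat_lit 4)) (.leaf (nat_lit 0))) (.node (.leaf (nat_lit 0)) (.leaf (nat_lit 2)))) (.node (.node (.leaf (nat_lit 0)) (.leaf (nat_lit 0))) (.leaf (nat_lit 0)))) (.node (.node (.node (.leaf (nat_lit 1)) (.leaf (nat_lit 0))) (.leaf (nat_lit 0))) (.node (.node (.leaf (nat_lit 0)) (.leaf (nat_lit 3))) (.leaf (nat_lit 0))))) (.node (.node (.node (.node (.leaf (nat_lit 1)) (.leaf (nat_lit 0))) (.leaf (nat_lit 0))) (.node (.node (.leaf (nat_lit 0)) (.leaf (nat_lit 1))) (.leaf (nat_lit 0)))) (.node (.node (.node (.leaf (nat_lit 0)) (.leaf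 (nat_lit 0))) (.leaf (nat_lit 1))) (.node (.node (.leaf (nat_lit 0)) (.leaf (nat_lit 3))) (.leaf (nat_lit 0)))))) (.node (.node (.node (.node (.node (.leaf (nat_lit 1)) (.leaf (nat_lit 1))) (.leaf (nat_lit 0))) (.node (.node (.leaf (nat_lit 0)) (.leaf (nat_lit 1))) (.leaf (nat_lit 1)))) (.node (.node (.node (.leaf (nat_lit 0)) (.leaf (nat_lit 0))) (.leaf (nat_lit 0))) (.node (.node (.leaf (nat_lit 0)) (.leaf (nat_lit 0))) (.leaf (nat_lit 0))))) (.node (.node (.node (.node (.leaf (nat_lit 1)) (.leaf (nat_lit 1))) (.leaf (nat_lit 0))) (.node (.node (.leaf (nat_lit 0)) (.leaf (nat_lit 3))) (.leaf (nat_lit 0)))) (.node (.node (.node (.leaf (nat_lit 0)) (.leaf (nat_lit 1))) (.leaf (nat_lit 0))) (.node (.node (.leaf (nat_lit 0)) (.leaf (nat_lit 2))) (.leaf (nat_lit 1))))))) (.node (.node (.node (.node (.node (.node (.leaf (nat_lit 15)) (.leaf (nat_lit 2))) (.node (.leaf (nat_lit 0)) (.leaf (nat_lit 4)))) (.node (.node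 (.leaf (nat_lit 0)) (.leaf (nat_lit 2))) (.leaf (nat_lit 1)))) (.node (.node (.node (.leaf (nat_lit 1)) (.leaf (nat_lit 1))) (.leaf (nat_lit 0))) (.node (.node (.leaf (nat_lit 0)) (.leaf (nat_lit 2))) (.leaf (nat_lit 0))))) (.node (.node (.node (.node (.leaf (nat_lit 1)) (.leaf (nat_lit 0))) (.leaf (nat_lit 0))) (.node (.node (.leaf (nat_lit 0)) (.leaf (nat_lit 2))) (.leaf (nat_lit 0)))) (.node (.node (.node (.leaf (nat_lit 0)) (.leaf (nat_lit 2))) (.leaf (nat_lit 0))) (.node (.node (.leaf (nat_lit 0)) (.leaf (nat_lit 4))) (.leaf (nat_lit 1)))))) (.node (.node (.node (.node (.node (.leaf (nat_lit 4)) (.leaf (nat_lit 0))) (.leaf (nat_lit 0))) (.node (.node (.leaf (nat_lit 1)) (.leaf (nat_lit 1))) (.leaf (nat_lit 0)))) (.node (.node (.node (.leaf (nat_lit 0)) (.leaf (nat_lit 1))) (.leaf (nat_lit 0))) (.node (.node (.leaf (nat_lit 0)) (.leaf (nat_lit 2))) (.leaf (nat_lit 0))))) (.node (.node (.node (.node (.leaf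 (nat_lit 0)) (.leaf (nat_lit 0))) (.leaf (nat_lit 0))) (.node (.node (.leaf (nat_lit 0)) (.leaf (nat_lit 2))) (.leaf (nat_lit 1)))) (.node (.node (.node (.leaf (nat_lit 1)) (.leaf (nat_lit 0))) (.leaf (nat_lit 0))) (.node (.node (.leaf (nat_lit 0)) (.leaf (nat_lit 5))) (.leaf (nat_lit 0))))))))))) (.node (.node (.node (.node (.node (.node (.node (.node (.node (.node (.leaf (nat_lit 15)) (.leaf (nat_lit 1))) (.node (.leaf (nat_lit 0)) (.leaf (nat_lit 2)))) (.node (.node (.leaf (nat_lit 1)) (.leaf (nat_lit 2))) (.leaf (nat_lit 0)))) (.node (.node (.node (.leaf (nat_lit 0)) (.leaf (nat_lit 0))) (.leaf (nat_lit 0))) (.node (.node (.leaf (nat_lit 0)) (.leaf (nat_lit 3))) (.leaf (nat_lit 1))))) (.node (.node (.node (.node (.leaf (nat_lit 3)) (.leaf (nat_lit 1))) (.leaf (nat_lit 0))) (.node (.node (.leaf (nat_lit 1)) (.leaf (nat_lit 1))) (.leaf (nat_lit 0)))) (.node (.node (.node (.leaf (nat_lit 3)) (.leaf (nat_lit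 1))) (.leaf (nat_lit 0))) (.node (.node (.leaf (nat_lit 0)) (.leaf (nat_lit 2))) (.leaf (nat_lit 1)))))) (.node (.node (.node (.node (.node (.leaf (nat_lit 1)) (.leaf (nat_lit 1))) (.node (.leaf (nat_lit 0)) (.leaf (nat_lit 5)))) (.node (.node (.leaf (nat_lit 0)) (.leaf (nat_lit 0))) (.leaf (nat_lit 0)))) (.node (.node (.node (.leaf (nat_lit 1)) (.leaf (nat_lit 2))) (.leaf (nat_lit 0))) (.node (.node (.leaf (nat_lit 0)) (.leaf (nat_lit 2))) (.leaf (nat_lit 0))))) (.node (.node (.node (.node (.leaf (nat_lit 4)) (.leaf (nat_lit 1))) (.leaf (nat_lit 0))) (.node (.node (.leaf (nat_lit 0)) (.leaf (nat_lit 2))) (.leaf (nat_lit 0)))) (.node (.node (.node (.leaf (nat_lit 0)) (.leaf (nat_lit 2))) (.leaf (nat_lit 0))) (.node (.node (.leaf (nat_lit 0)) (.leaf (nat_lit 3))) (.leaf (nat_lit 0))))))) (.node (.node (.node (.node (.node (.node (.leaf (nat_lit 3)) (.leaf (nat_lit 2))) (.node (.leaf (nat_lit 0)) (.leaf (nat_lit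 4)))) (.node (.node (.leaf (nat_lit 0)) (.leaf (nat_lit 1))) (.leaf (nat_lit 0)))) (.node (.node (.node (.leaf (nat_lit 1)) (.leaf (nat_lit 1))) (.leaf (nat_lit 0))) (.node (.node (.leaf (nat_lit 0)) (.leaf (nat_lit 1))) (.leaf (nat_lit 0))))) (.node (.node (.node (.node (.leaf (nat_lit 1)) (.leaf (nat_lit 0))) (.leaf (nat_lit 0))) (.node (.node (.leaf (nat_lit 0)) (.leaf (nat_lit 2))) (.leaf (nat_lit 0)))) (.node (.node (.node (.leaf (nat_lit 0)) (.leaf (nat_lit 1))) (.leaf (nat_lit 0))) (.node (.node (.leaf (nat_lit 0)) (.leaf (nat_lit 5))) (.leaf (nat_lit 0)))))) (.node (.node (.node (.node (.node (.leaf (nat_lit 4)) (.leaf (nat_lit 0))) (.leaf (nat_lit 0))) (.node (.node (.leaf (nat_lit 0)) (.leaf (nat_lit 1))) (.leaf (nat_lit 1)))) (.node (.node (.node (.leaf (nat_lit 0)) (.leaf (nat_lit 1))) (.leaf (nat_lit 1))) (.node (.node (.leaf (nat_lit 0)) (.leaf (nat_lit 2))) (.leaf (nat_lit 0))))) (.node (.node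 (.node (.node (.leaf (nat_lit 1)) (.leaf (nat_lit 0))) (.leaf (nat_lit 0))) (.node (.node (.leaf (nat_lit 0)) (.leaf (nat_lit 2))) (.leaf (nat_lit 0)))) (.node (.node (.node (.leaf (nat_lit 0)) (.leaf (nat_lit 0))) (.leaf (nat_lit 1))) (.node (.node (.leaf (nat_lit 1)) (.leaf (nat_lit 2))) (.leaf (nat_lit 1)))))))) (.node (.node (.node (.node (.node (.node (.node (.leaf (nat_lit 2)) (.leaf (nat_lit 1))) (.node (.leaf (nat_lit 0)) (.leaf (nat_lit 3)))) (.node (.node (.leaf (nat_lit 0)) (.leaf (nat_lit 1))) (.leaf (nat_lit 0)))) (.node (.node (.node (.leaf (nat_lit 0)) (.leaf (nat_lit 1))) (.leaf (nat_lit 0))) (.node (.node (.leaf (nat_lit 0)) (.leaf (nat_lit 3))) (.leaf (nat_lit 0))))) (.node (.node (.node (.node (.leaf (nat_lit 0)) (.leaf (nat_lit 1))) (.leaf (nat_lit 0))) (.node (.node (.leaf (nat_lit 0)) (.leaf (nat_lit 1))) (.leaf (nat_lit 0)))) (.node (.node (.node (.leaf (nat_lit 0)) (.leaf (nat_lit 1)))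 (.leaf (nat_lit 0))) (.node (.node (.leaf (nat_lit 0)) (.leaf (nat_lit 3))) (.leaf (nat_lit 0)))))) (.node (.node (.node (.node (.node (.leaf (nat_lit 2)) (.leaf (nat_lit 0))) (.leaf (nat_lit 0))) (.node (.node (.leaf (nat_lit 0)) (.leaf (nat_lit 1))) (.leaf (nat_lit 0)))) (.node (.node (.node (.leaf (nat_lit 1)) (.leaf (nat_lit 2))) (.leaf (nat_lit 0))) (.node (.node (.leaf (nat_lit 0)) (.leaf (nat_lit 3))) (.leaf (nat_lit 0))))) (.node (.node (.node (.node (.leaf (nat_lit 0)) (.leaf (nat_lit 0))) (.leaf (nat_lit 0))) (.node (.node (.leaf (nat_lit 0)) (.leaf (nat_lit 3))) (.leaf (nat_lit 0)))) (.node (.node (.node (.leaf (nat_lit 0)) (.leaf (nat_lit 2))) (.leaf (nat_lit 0))) (.node (.node (.leaf (nat_lit 0)) (.leaf (nat_lit 5))) (.leaf (nat_lit 0))))))) (.node (.node (.node (.node (.node (.node (.leaf (nat_lit 1)) (.leaf (nat_lit 1))) (.node (.leaf (nat_lit 0)) (.leaf (nat_lit 2)))) (.node (.node (.leaf (nat_lit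 1)) (.leaf (nat_lit 1))) (.leaf (nat_lit 0)))) (.node (.node (.node (.leaf (nat_lit 1)) (.leaf (nat_lit 1))) (.leaf (nat_lit 0))) (.node (.node (.leaf (nat_lit 0)) (.leaf (nat_lit 2))) (.leaf (nat_lit 0))))) (.node (.node (.node (.node (.leaf (nat_lit 2)) (.leaf (nat_lit 1))) (.leaf (nat_lit 0))) (.node (.node (.leaf (nat_lit 0)) (.leaf (nat_lit 2))) (.leaf (nat_lit 0)))) (.node (.node (.node (.leaf (nat_lit 0)) (.leaf (nat_lit 0))) (.leaf (nat_lit 0))) (.node (.node (.leaf (nat_lit 0)) (.leaf (nat_lit 5))) (.leaf (nat_lit 0)))))) (.node (.node (.node (.node (.node (.leaf (nat_lit 3)) (.leaf (nat_lit 0))) (.leaf (nat_lit 0))) (.node (.node (.leaf (nat_lit 0)) (.leaf (nat_lit 4))) (.leaf (nat_lit 0)))) (.node (.node (.node (.leaf (nat_lit 4)) (.leaf (nat_lit 1))) (.leaf (nat_lit 0))) (.node (.node (.leaf (nat_lit 0)) (.leaf (nat_lit 1))) (.leaf (nat_lit 1))))) (.node (.node (.node (.node (.leaf (nat_lit 1)) (.leaf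 (nat_lit 1))) (.leaf (nat_lit 0))) (.node (.node (.leaf (nat_lit 0)) (.leaf (nat_lit 0))) (.leaf (nat_lit 0)))) (.node (.node (.node (.leaf (nat_lit 1)) (.leaf (nat_lit 0))) (.leaf (nat_lit 0))) (.node (.node (.leaf (nat_lit 0)) (.leaf (nat_lit 5))) (.leaf (nat_lit 0))))))))) (.node (.node (.node (.node (.node (.node (.node (.node (.leaf (nat_lit 9)) (.leaf (nat_lit 1))) (.node (.leaf (nat_lit 0)) (.leaf (nat_lit 3)))) (.node (.node (.leaf (nat_lit 0)) (.leaf (nat_lit 0))) (.leaf (nat_lit 0)))) (.node (.node (.node (.leaf (nat_lit 0)) (.leaf (nat_lit 1))) (.leaf (nat_lit 0))) (.node (.node (.leaf (nat_lit 0)) (.leaf (nat_lit 3))) (.leaf (nat_lit 0))))) (.node (.node (.node (.node (.leaf (nat_lit 4)) (.leaf (nat_lit 0))) (.leaf (nat_lit 1))) (.node (.node (.leaf (nat_lit 0)) (.leaf (nat_lit 4))) (.leaf (nat_lit 0)))) (.node (.node (.node (.leaf (nat_lit 1)) (.leaf (nat_lit 1))) (.leaf (nat_lit 1))) (.node (.node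 (.leaf (nat_lit 0)) (.leaf (nat_lit 3))) (.leaf (nat_lit 1)))))) (.node (.node (.node (.node (.node (.leaf (nat_lit 0)) (.leaf (nat_lit 0))) (.node (.leaf (nat_lit 0)) (.leaf (nat_lit 2)))) (.node (.node (.leaf (nat_lit 0)) (.leaf (nat_lit 0))) (.leaf (nat_lit 1)))) (.node (.node (.node (.leaf (nat_lit 0)) (.leaf (nat_lit 3))) (.leaf (nat_lit 0))) (.node (.node (.leaf (nat_lit 0)) (.leaf (nat_lit 1))) (.leaf (nat_lit 1))))) (.node (.node (.node (.node (.leaf (nat_lit 0)) (.leaf (nat_lit 0))) (.leaf (nat_lit 0))) (.node (.node (.leaf (nat_lit 0)) (.leaf (nat_lit 3))) (.leaf (nat_lit 0)))) (.node (.node (.node (.leaf (nat_lit 0)) (.leaf (nat_lit 1))) (.leaf (nat_lit 0))) (.node (.node (.leaf (nat_lit 1)) (.leaf (nat_lit 3))) (.leaf (nat_lit 0))))))) (.node (.node (.node (.node (.node (.node (.leaf (nat_lit 2)) (.leaf (nat_lit 2))) (.node (.leaf (nat_lit 0)) (.leaf (nat_lit 4)))) (.node (.node (.leaf (nat_lit 4))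 (.leaf (nat_lit 1))) (.leaf (nat_lit 1)))) (.node (.node (.node (.leaf (nat_lit 1)) (.leaf (nat_lit 1))) (.leaf (nat_lit 0))) (.node (.node (.leaf (nat_lit 2)) (.leaf (nat_lit 1))) (.leaf (nat_lit 0))))) (.node (.node (.node (.node (.leaf (nat_lit 1)) (.leaf (nat_lit 0))) (.leaf (nat_lit 0))) (.node (.node (.leaf (nat_lit 0)) (.leaf (nat_lit 1))) (.leaf (nat_lit 0)))) (.node (.node (.node (.leaf (nat_lit 0)) (.leaf (nat_lit 1))) (.leaf (nat_lit 0))) (.node (.node (.leaf (nat_lit 0)) (.leaf (nat_lit 4))) (.leaf (nat_lit 1)))))) (.node (.node (.node (.node (.node (.leaf (nat_lit 4)) (.leaf (nat_lit 0))) (.leaf (nat_lit 1))) (.node (.node (.leaf (nat_lit 1)) (.leaf (nat_lit 1))) (.leaf (nat_lit 1)))) (.node (.node (.node (.leaf (nat_lit 0)) (.leaf (nat_lit 1))) (.leaf (nat_lit 0))) (.node (.node (.leaf (nat_lit 0)) (.leaf (nat_lit 5))) (.leaf (nat_lit 1))))) (.node (.node (.node (.node (.leaf (nat_lit 1)) (.leaf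 (nat_lit 0))) (.leaf (nat_lit 0))) (.node (.node (.leaf (nat_lit 0)) (.leaf (nat_lit 3))) (.leaf (nat_lit 1)))) (.node (.node (.node (.leaf (nat_lit 0)) (.leaf (nat_lit 0))) (.leaf (nat_lit 0))) (.node (.node (.leaf (nat_lit 0)) (.leaf (nat_lit 4))) (.leaf (nat_lit 1)))))))) (.node (.node (.node (.node (.node (.node (.node (.leaf (nat_lit 9)) (.leaf (nat_lit 1))) (.node (.leaf (nat_lit 0)) (.leaf (nat_lit 2)))) (.node (.node (.leaf (nat_lit 0)) (.leaf (nat_lit 1))) (.leaf (nat_lit 0)))) (.node (.node (.node (.leaf (nat_lit 0)) (.leaf (nat_lit 1))) (.leaf (nat_lit 0))) (.node (.node (.leaf (nat_lit 0)) (.leaf (nat_lit 4))) (.leaf (nat_lit 0))))) (.node (.node (.node (.node (.leaf (nat_lit 1)) (.leaf (nat_lit 0))) (.leaf (nat_lit 0))) (.node (.node (.leaf (nat_lit 0)) (.leaf (nat_lit 3))) (.leaf (nat_lit 0)))) (.node (.node (.node (.leaf (nat_lit 0)) (.leaf (nat_lit 0))) (.leaf (nat_lit 1))) (.node (.node (.leaf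 (nat_lit 0)) (.leaf (nat_lit 4))) (.leaf (nat_lit 0)))))) (.node (.node (.node (.node (.node (.leaf (nat_lit 2)) (.leaf (nat_lit 0))) (.leaf (nat_lit 0))) (.node (.node (.leaf (nat_lit 0)) (.leaf (nat_lit 2))) (.leaf (nat_lit 0)))) (.node (.node (.node (.leaf (nat_lit 0)) (.leaf (nat_lit 0))) (.leaf (nat_lit 0))) (.node (.node (.leaf (nat_lit 0)) (.leaf (nat_lit 0))) (.leaf (nat_lit 0))))) (.node (.node (.node (.node (.leaf (nat_lit 1)) (.leaf (nat_lit 0))) (.leaf (nat_lit 0))) (.node (.node (.leaf (nat_lit 0)) (.leaf (nat_lit 2))) (.leaf (nat_lit 0)))) (.node (.node (.node (.leaf (nat_lit 0)) (.leaf (nat_lit 1))) (.leaf (nat_lit 1))) (.node (.node (.leaf (nat_lit 0)) (.leaf (nat_lit 2))) (.leaf (nat_lit 0))))))) (.node (.node (.node (.node (.node (.node (.leaf (nat_lit 9)) (.leaf (nat_lit 1))) (.node (.leaf (nat_lit 0)) (.leaf (nat_lit 5)))) (.node (.node (.leaf (nat_lit 0)) (.leaf (nat_lit 1))) (.leaf (nat_lit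 0)))) (.node (.node (.node (.leaf (nat_lit 1)) (.leaf (nat_lit 1))) (.leaf (nat_lit 0))) (.node (.node (.leaf (nat_lit 0)) (.leaf (nat_lit 3))) (.leaf (nat_lit 0))))) (.node (.node (.node (.node (.leaf (nat_lit 1)) (.leaf (nat_lit 1))) (.leaf (nat_lit 1))) (.node (.node (.leaf (nat_lit 0)) (.leaf (nat_lit 2))) (.leaf (nat_lit 1)))) (.node (.node (.node (.leaf (nat_lit 0)) (.leaf (nat_lit 2))) (.leaf (nat_lit 0))) (.node (.node (.leaf (nat_lit 0)) (.leaf (nat_lit 2))) (.leaf (nat_lit 0)))))) (.node (.node (.node (.node (.node (.leaf (nat_lit 3)) (.leaf (nat_lit 1))) (.leaf (nat_lit 1))) (.node (.node (.leaf (nat_lit 1)) (.leaf (nat_lit 2))) (.leaf (nat_lit 0)))) (.node (.node (.node (.leaf (nat_lit 1)) (.leaf (nat_lit 0))) (.leaf (nat_lit 0))) (.node (.node (.leaf (nat_lit 1)) (.leaf (nat_lit 5))) (.leaf (nat_lit 1))))) (.node (.node (.node (.node (.leaf (nat_lit 0)) (.leaf (nat_lit 0))) (.leaf (nat_lit 0))) (.node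 (.node (.leaf (nat_lit 1)) (.leaf (nat_lit 2))) (.leaf (nat_lit 0)))) (.node (.node (.node (.leaf (nat_lit 1)) (.leaf (nat_lit 1))) (.leaf (nat_lit 0))) (.node (.node (.leaf (nat_lit 0)) (.leaf (nat_lit 5))) (.leaf (nat_lit 0)))))))))) (.node (.node (.node (.node (.node (.node (.node (.node (.node (.leaf (nat_lit 7)) (.leaf (nat_lit 0))) (.node (.leaf (nat_lit 0)) (.leaf (nat_lit 3)))) (.node (.node (.leaf (nat_lit 1)) (.leaf (nat_lit 1))) (.leaf (nat_lit 0)))) (.node (.node (.node (.leaf (nat_lit 0)) (.leaf (nat_lit 3))) (.leaf (nat_lit 0))) (.node (.node (.leaf (nat_lit 0)) (.leaf (nat_lit 1))) (.leaf (nat_lit 0))))) (.node (.node (.node (.node (.leaf (nat_lit 1)) (.leaf (nat_lit 0))) (.leaf (nat_lit 0))) (.node (.node (.leaf (nat_lit 1)) (.leaf (nat_lit 1))) (.leaf (nat_lit 0)))) (.node (.node (.node (.leaf (nat_lit 1)) (.leaf (nat_lit 1))) (.leaf (nat_lit 0))) (.node (.node (.leaf (nat_lit 0)) (.leaf (nat_lit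 2))) (.leaf (nat_lit 1)))))) (.node (.node (.node (.node (.node (.leaf (nat_lit 1)) (.leaf (nat_lit 0))) (.node (.leaf (nat_lit 0)) (.leaf (nat_lit 5)))) (.node (.node (.leaf (nat_lit 0)) (.leaf (nat_lit 1))) (.leaf (nat_lit 0)))) (.node (.node (.node (.leaf (nat_lit 0)) (.leaf (nat_lit 1))) (.leaf (nat_lit 0))) (.node (.node (.leaf (nat_lit 0)) (.leaf (nat_lit 3))) (.leaf (nat_lit 0))))) (.node (.node (.node (.node (.leaf (nat_lit 1)) (.leaf (nat_lit 1))) (.leaf (nat_lit 0))) (.node (.node (.leaf (nat_lit 0)) (.leaf (nat_lit 2))) (.leaf (nat_lit 0)))) (.node (.node (.node (.leaf (nat_lit 0)) (.leaf (nat_lit 3))) (.leaf (nat_lit 0))) (.node (.node (.leaf (nat_lit 1)) (.leaf (nat_lit 4))) (.leaf (nat_lit 0))))))) (.node (.node (.node (.node (.node (.node (.leaf (nat_lit 2)) (.leaf (nat_lit 1))) (.node (.leaf (nat_lit 0)) (.leaf (nat_lit 5)))) (.node (.node (.leaf (nat_lit 0)) (.leaf (nat_lit 0))) (.leaf (nat_lit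 0)))) (.node (.node (.node (.leaf (nat_lit 0)) (.leaf (nat_lit 1))) (.leaf (nat_lit 0))) (.node (.node (.leaf (nat_lit 1)) (.leaf (nat_lit 1))) (.leaf (nat_lit 0))))) (.node (.node (.node (.node (.leaf (nat_lit 2)) (.leaf (nat_lit 0))) (.leaf (nat_lit 0))) (.node (.node (.leaf (nat_lit 0)) (.leaf (nat_lit 2))) (.leaf (nat_lit 0)))) (.node (.node (.node (.leaf (nat_lit 0)) (.leaf (nat_lit 1))) (.leaf (nat_lit 0))) (.node (.node (.leaf (nat_lit 0)) (.leaf (nat_lit 3))) (.leaf (nat_lit 0)))))) (.node (.node (.node (.node (.node (.leaf (nat_lit 1)) (.leaf (nat_lit 0))) (.leaf (nat_lit 0))) (.node (.node (.leaf (nat_lit 1)) (.leaf (nat_lit 1))) (.leaf (nat_lit 0)))) (.node (.node (.node (.leaf (nat_lit 0)) (.leaf (nat_lit 0))) (.leaf (nat_lit 0))) (.node (.node (.leaf (nat_lit 0)) (.leaf (nat_lit 2))) (.leaf (nat_lit 0))))) (.node (.node (.node (.node (.leaf (nat_lit 1)) (.leaf (nat_lit 1))) (.leaf (nat_lit 0))) (.node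 (.node (.leaf (nat_lit 0)) (.leaf (nat_lit 2))) (.leaf (nat_lit 0)))) (.node (.node (.node (.leaf (nat_lit 0)) (.leaf (nat_lit 0))) (.leaf (nat_lit 0))) (.node (.node (.leaf (nat_lit 0)) (.leaf (nat_lit 2))) (.leaf (nat_lit 1)))))))) (.node (.node (.node (.node (.node (.node (.node (.leaf (nat_lit 4)) (.leaf (nat_lit 0))) (.node (.leaf (nat_lit 0)) (.leaf (nat_lit 4)))) (.node (.node (.leaf (nat_lit 0)) (.leaf (nat_lit 1))) (.leaf (nat_lit 0)))) (.node (.node (.node (.leaf (nat_lit 0)) (.leaf (nat_lit 2))) (.leaf (nat_lit 0))) (.node (.node (.leaf (nat_lit 0)) (.leaf (nat_lit 3))) (.leaf (nat_lit 0))))) (.node (.node (.node (.node (.leaf (nat_lit 0)) (.leaf (nat_lit 0))) (.leaf (nat_lit 0))) (.node (.node (.leaf (nat_lit 0)) (.leaf (nat_lit 3))) (.leaf (nat_lit 0)))) (.node (.node (.node (.leaf (nat_lit 0)) (.leaf (nat_lit 3))) (.leaf (nat_lit 1))) (.node (.node (.leaf (nat_lit 0)) (.leaf (nat_lit 2))) (.leaf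 (nat_lit 0)))))) (.node (.node (.node (.node (.node (.leaf (nat_lit 7)) (.leaf (nat_lit 0))) (.leaf (nat_lit 0))) (.node (.node (.leaf (nat_lit 0)) (.leaf (nat_lit 1))) (.leaf (nat_lit 1)))) (.node (.node (.node (.leaf (nat_lit 1)) (.leaf (nat_lit 2))) (.leaf (nat_lit 0))) (.node (.node (.leaf (nat_lit 0)) (.leaf (nat_lit 0))) (.leaf (nat_lit 0))))) (.node (.node (.node (.node (.leaf (nat_lit 1)) (.leaf (nat_lit 0))) (.leaf (nat_lit 0))) (.node (.node (.leaf (nat_lit 0)) (.leaf (nat_lit 1))) (.leaf (nat_lit 0)))) (.node (.node (.node (.leaf (nat_lit 0)) (.leaf (nat_lit 2))) (.leaf (nat_lit 0))) (.node (.node (.leaf (nat_lit 0)) (.leaf (nat_lit 2))) (.leaf (nat_lit 1))))))) (.node (.node (.node (.node (.node (.node (.leaf (nat_lit 3)) (.leaf (nat_lit 1))) (.node (.leaf (nat_lit 0)) (.leaf (nat_lit 5)))) (.node (.node (.leaf (nat_lit 0)) (.leaf (nat_lit 0))) (.leaf (nat_lit 0)))) (.node (.node (.node (.leaf (nat_lit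 2)) (.leaf (nat_lit 2))) (.leaf (nat_lit 0))) (.node (.node (.leaf (nat_lit 1)) (.leaf (nat_lit 2))) (.leaf (nat_lit 0))))) (.node (.node (.node (.node (.leaf (nat_lit 1)) (.leaf (nat_lit 2))) (.leaf (nat_lit 0))) (.node (.node (.leaf (nat_lit 0)) (.leaf (nat_lit 2))) (.leaf (nat_lit 0)))) (.node (.node (.node (.leaf (nat_lit 0)) (.leaf (nat_lit 1))) (.leaf (nat_lit 0))) (.node (.node (.leaf (nat_lit 0)) (.leaf (nat_lit 5))) (.leaf (nat_lit 1)))))) (.node (.node (.node (.node (.node (.leaf (nat_lit 3)) (.leaf (nat_lit 0))) (.leaf (nat_lit 0))) (.node (.node (.leaf (nat_lit 1)) (.leaf (nat_lit 1))) (.leaf (nat_lit 0)))) (.node (.node (.node (.leaf (nat_lit 1)) (.leaf (nat_lit 0))) (.leaf (nat_lit 0))) (.node (.node (.leaf (nat_lit 1)) (.leaf (nat_lit 4))) (.leaf (nat_lit 2))))) (.node (.node (.node (.node (.leaf (nat_lit 0)) (.leaf (nat_lit 1))) (.leaf (nat_lit 0))) (.node (.node (.leaf (nat_lit 0)) (.leaf (nat_lit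 1))) (.leaf (nat_lit 0)))) (.node (.node (.node (.leaf (nat_lit 2)) (.leaf (nat_lit 0))) (.leaf (nat_lit 0))) (.node (.node (.leaf (nat_lit 0)) (.leaf (nat_lit 3))) (.leaf (nat_lit 1))))))))) (.node (.node (.node (.node (.node (.node (.node (.node (.leaf (nat_lit 3)) (.leaf (nat_lit 1))) (.node (.leaf (nat_lit 0)) (.leaf (nat_lit 4)))) (.node (.node (.leaf (nat_lit 0)) (.leaf (nat_lit 0))) (.leaf (nat_lit 1)))) (.node (.node (.node (.leaf (nat_lit 0)) (.leaf (nat_lit 0))) (.leaf (nat_lit 0))) (.node (.node (.leaf (nat_lit 0)) (.leaf (nat_lit 3))) (.leaf (nat_lit 0))))) (.node (.node (.node (.node (.leaf (nat_lit 1)) (.leaf (nat_lit 0))) (.leaf (nat_lit 1))) (.node (.node (.leaf (nat_lit 0)) (.leaf (nat_lit 1))) (.leaf (nat_lit 0)))) (.node (.node (.node (.leaf (nat_lit 1)) (.leaf (nat_lit 3))) (.leaf (nat_lit 0))) (.node (.node (.leaf (nat_lit 0)) (.leaf (nat_lit 0))) (.leaf (nat_lit 2)))))) (.node (.node (.node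 (.node (.node (.leaf (nat_lit 3)) (.leaf (nat_lit 0))) (.leaf (nat_lit 0))) (.node (.node (.leaf (nat_lit 0)) (.leaf (nat_lit 1))) (.leaf (nat_lit 0)))) (.node (.node (.node (.leaf (nat_lit 4)) (.leaf (nat_lit 2))) (.leaf (nat_lit 0))) (.node (.node (.leaf (nat_lit 0)) (.leaf (nat_lit 2))) (.leaf (nat_lit 0))))) (.node (.node (.node (.node (.leaf (nat_lit 0)) (.leaf (nat_lit 1))) (.leaf (nat_lit 0))) (.node (.node (.leaf (nat_lit 0)) (.leaf (nat_lit 2))) (.leaf (nat_lit 0)))) (.node (.node (.node (.leaf (nat_lit 0)) (.leaf (nat_lit 2))) (.leaf (nat_lit 0))) (.node (.node (.leaf (nat_lit 0)) (.leaf (nat_lit 3))) (.leaf (nat_lit 0))))))) (.node (.node (.node (.node (.node (.node (.leaf (nat_lit 6)) (.leaf (nat_lit 2))) (.node (.leaf (nat_lit 0)) (.leaf (nat_lit 2)))) (.node (.node (.leaf (nat_lit 1)) (.leaf (nat_lit 2))) (.leaf (nat_lit 0)))) (.node (.node (.node (.leaf (nat_lit 1)) (.leaf (nat_lit 2))) (.leaf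 (nat_lit 0))) (.node (.node (.leaf (nat_lit 0)) (.leaf (nat_lit 1))) (.leaf (nat_lit 0))))) (.node (.node (.node (.node (.leaf (nat_lit 2)) (.leaf (nat_lit 0))) (.leaf (nat_lit 0))) (.node (.node (.leaf (nat_lit 0)) (.leaf (nat_lit 2))) (.leaf (nat_lit 0)))) (.node (.node (.node (.leaf (nat_lit 1)) (.leaf (nat_lit 1))) (.leaf (nat_lit 0))) (.node (.node (.leaf (nat_lit 0)) (.leaf (nat_lit 5))) (.leaf (nat_lit 0)))))) (.node (.node (.node (.node (.node (.leaf (nat_lit 4)) (.leaf (nat_lit 0))) (.leaf (nat_lit 0))) (.node (.node (.leaf (nat_lit 0)) (.leaf (nat_lit 4))) (.leaf (nat_lit 0)))) (.node (.node (.node (.leaf (nat_lit 0)) (.leaf (nat_lit 1))) (.leaf (nat_lit 0))) (.node (.node (.leaf (nat_lit 0)) (.leaf (nat_lit 2))) (.leaf (nat_lit 1))))) (.node (.node (.node (.node (.leaf (nat_lit 4)) (.leaf (nat_lit 0))) (.leaf (nat_lit 0))) (.node (.node (.leaf (nat_lit 0)) (.leaf (nat_lit 4))) (.leaf (nat_lit 0))))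 (.node (.node (.node (.leaf (nat_lit 0)) (.leaf (nat_lit 1))) (.leaf (nat_lit 0))) (.node (.node (.leaf (nat_lit 0)) (.leaf (nat_lit 4))) (.leaf (nat_lit 0)))))))) (.node (.node (.node (.node (.node (.node (.node (.leaf (nat_lit 1)) (.leaf (nat_lit 1))) (.node (.leaf (nat_lit 0)) (.leaf (nat_lit 3)))) (.node (.node (.leaf (nat_lit 0)) (.leaf (nat_lit 1))) (.leaf (nat_lit 0)))) (.node (.node (.node (.leaf (nat_lit 0)) (.leaf (nat_lit 0))) (.leaf (nat_lit 0))) (.node (.node (.leaf (nat_lit 0)) (.leaf (nat_lit 4))) (.leaf (nat_lit 0))))) (.node (.node (.node (.node (.leaf (nat_lit 3)) (.leaf (nat_lit 1))) (.leaf (nat_lit 0))) (.node (.node (.leaf (nat_lit 0)) (.leaf (nat_lit 1))) (.leaf (nat_lit 0)))) (.node (.node (.node (.leaf (nat_lit 0)) (.leaf (nat_lit 1))) (.leaf (nat_lit 0))) (.node (.node (.leaf (nat_lit 0)) (.leaf (nat_lit 5))) (.leaf (nat_lit 0)))))) (.node (.node (.node (.node (.node (.leaf (nat_lit 6))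 (.leaf (nat_lit 0))) (.leaf (nat_lit 0))) (.node (.node (.leaf (nat_lit 0)) (.leaf (nat_lit 0))) (.leaf (nat_lit 0)))) (.node (.node (.node (.leaf (nat_lit 0)) (.leaf (nat_lit 0))) (.leaf (nat_lit 0))) (.node (.node (.leaf (nat_lit 0)) (.leaf (nat_lit 0))) (.leaf (nat_lit 0))))) (.node (.node (.node (.node (.leaf (nat_lit 3)) (.leaf (nat_lit 0))) (.leaf (nat_lit 0))) (.node (.node (.leaf (nat_lit 0)) (.leaf (nat_lit 4))) (.leaf (nat_lit 1)))) (.node (.node (.node (.leaf (nat_lit 0)) (.leaf (nat_lit 1))) (.leaf (nat_lit 0))) (.node (.node (.leaf (nat_lit 0)) (.leaf (nat_lit 2))) (.leaf (nat_lit 0))))))) (.node (.node (.node (.node (.node (.node (.leaf (nat_lit 4)) (.leaf (nat_lit 2))) (.node (.leaf (nat_lit 0)) (.leaf (nat_lit 5)))) (.node (.node (.leaf (nat_lit 0)) (.leaf (nat_lit 1))) (.leaf (nat_lit 1)))) (.node (.node (.node (.leaf (nat_lit 1)) (.leaf (nat_lit 1))) (.leaf (nat_lit 0))) (.node (.node (.leaf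 (nat_lit 0)) (.leaf (nat_lit 2))) (.leaf (nat_lit 0))))) (.node (.node (.node (.node (.leaf (nat_lit 1)) (.leaf (nat_lit 0))) (.leaf (nat_lit 0))) (.node (.node (.leaf (nat_lit 0)) (.leaf (nat_lit 1))) (.leaf (nat_lit 0)))) (.node (.node (.node (.leaf (nat_lit 0)) (.leaf (nat_lit 1))) (.leaf (nat_lit 0))) (.node (.node (.leaf (nat_lit 0)) (.leaf (nat_lit 2))) (.leaf (nat_lit 1)))))) (.node (.node (.node (.node (.node (.leaf (nat_lit 3)) (.leaf (nat_lit 0))) (.leaf (nat_lit 0))) (.node (.node (.leaf (nat_lit 0)) (.leaf (nat_lit 1))) (.leaf (nat_lit 0)))) (.node (.node (.node (.leaf (nat_lit 3)) (.leaf (nat_lit 1))) (.leaf (nat_lit 1))) (.node (.node (.leaf (nat_lit 0)) (.leaf (nat_lit 1))) (.leaf (nat_lit 0))))) (.node (.node (.node (.node (.leaf (nat_lit 1)) (.leaf (nat_lit 0))) (.leaf (nat_lit 0))) (.node (.node (.leaf (nat_lit 0)) (.leaf (nat_lit 5))) (.leaf (nat_lit 0)))) (.node (.node (.node (.leaf (nat_lit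 1)) (.leaf (nat_lit 1))) (.leaf (nat_lit 0))) (.node (.node (.leaf (nat_lit 0)) (.leaf (nat_lit 3))) (.leaf (nat_lit 1))))))))))))


/-- check of the commutators -/
noncomputable def sF (j : ℕ) : Bool :=
  frcA (dT.get j) fun c => bor (Nat.beq c (cE.get 8)) (frcA (sW.get j) fun i =>
    band (Nat.blt i 1575) (frcA (dT.get i) fun y => inD (oM.mul (oM.mul y (oM.mul (cE.get 8) c))
      (oM.mul y (oM.mul c (cE.get 8))))))

theorem s_chk_0 : allR 0 400 sF = true := by decide +kernel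

theorem s_chk_1 : allR 400 400 sF = true := by decide +kernel

theorem s_chk_2 : allR 800 400 sF = true := by decide +kernel

theorem s_chk_3 : allR 1200 375 sF = true := by decide +kernel

theorem s_chk : allLt 1575 sF = true := by
  have h0 := s_chk_0
  have h1 : allR 0 800 sF = true := allR_append (lo := 0) (a := 400) (b := 400) h0 s_chk_1
  have h2 : allR 0 1200 sF = true := allR_append (lo := 0) (a := 800) (b := 400) h1 s_chk_2
  have h3 : allR 0 1575 sF = true := allR_append (lo := 0) (a := 1200) (b := 375) h2 s_chk_3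
  exact allLt_of_allR_zero h3


theorem z0_sq : z0 * z0 = 1 := oM.enc_inj (by
  rw [oM.enc_mul, oM.enc_one, z0, enc_ext 8 (by norm_num)]; decide +kernel)

theorem D0_inv {y : Om} (hy : y ∈ D0) : y⁻¹ = y := by
  obtain ⟨g, rfl⟩ := hy
  rw [mul_inv_rev, mul_inv_rev, inv_inv, inv_eq_of_mul_eq_one_right z0_sq, mul_assoc]

/-- a normal subgroup which does not contain the root elements is trivial -/
theorem normal_bot {K : Subgroup Om} (hK : K.Normal) (hz : z0 ∉ K) : K = ⊥ := by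
  have h1 : ∀ k ∈ K, k * z0 * k⁻¹ = z0 := fun k hk => by
    have hc : k * z0 * k⁻¹ ∈ D0 := ⟨k, rfl⟩
    have hm : z0 * (k * z0 * k⁻¹) ∈ K := by
      have := mul_mem (hK.conj_mem k hk z0) (inv_mem hk)
      rwa [D0_inv ⟨1, by simp⟩, show z0 * k * z0 * k⁻¹ = z0 * (k * z0 * k⁻¹) by group] at this
    generalize k * z0 * k⁻¹ = c at hc hm
    obtain ⟨j, hj, e⟩ := D0_idx hc
    have h := allLt_iff.1 s_chk j hj
    have ez : oM.enc z0 = cE.get 8 := enc_ext 8 (by norm_num)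
    simp only [sF, frcA_eq', bor_iff, band_iff] at h
    rw [← e, ← ez] at h
    rcases h with h | ⟨h2, h⟩
    · exact oM.enc_inj (Nat.eq_of_beq_eq_true h)
    obtain ⟨g, -, eg⟩ := d_mem _ (Nat.blt_eq.mp h2)
    have hy : g * z0 * g⁻¹ ∈ D0 := ⟨g, rfl⟩
    generalize g * z0 * g⁻¹ = y at eg hy
    rw [← eg, ← oM.enc_mul, ← oM.enc_mul, ← oM.enc_mul, ← oM.enc_mul, ← oM.enc_mul] at h
    obtain ⟨a, ea⟩ := mem_D0.2 h
    have := mul_mem (hK.conj_mem _ hm y) (inv_mem hm)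
    rw [D0_inv hy, mul_inv_rev, D0_inv hc, D0_inv ⟨1, by simp⟩, mul_assoc, ← ea] at this
    exact absurd (by simpa [mul_assoc] using hK.conj_mem _ this a⁻¹) hz
  refine eq_bot_iff.2 fun k hk => cen_bot ?_
  rintro _ ⟨g, rfl⟩
  rw [mem_C1_iff_conj]
  calc _ = g * (g⁻¹ * k * g⁻¹⁻¹ * z0 * (g⁻¹ * k * g⁻¹⁻¹)⁻¹) * g⁻¹ := by group
    _ = _ := by rw [h1 _ (hK.conj_mem k hk _)]

end CfsgH2.T3P
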