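import Cfsg.Agent.H7.MatGeom

/-! The Frobenius complement `SL(2,5).2` in `GL(4,7)`. -/

set_option autoImplicit false
set_option maxRecDepth 100000

namespace CfsgH7.TwoS5

open CfsgH9
open scoped MatrixGroups

theorem MM_ok : MatOK 4 7 15 60 147 10 50215281387552580265382770776518519464852049702248698118143 1152921504606846975 1671567705561385363844179281686772484226569438860566658582408894316575 53919893334301279589335457421731967307155347168829526320300764954625 :=
  ⟨by norm_num, by norm_num, by norm_num, by norm_num, by norm_num, by decide +kernel, by decide +kernel, by decide +kernel,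
    by decide +kernel, by norm_num, by decide +kernel⟩

noncomputable def MM : Model (GL (Fin 4) (ZMod 7)) :=
  matModel 4 7 (nat_lit 15) (nat_lit 60) (nat_lit 147) (nat_lit 10) (nat_lit 50215281387552580265382770776518519464852049702248698118143) (nat_lit 1152921504606846975) (nat_lit 1671567705561385363844179281686772484226569438860566658582408894316575) (nat_lit 53919893334301279589335457421731967307155347168829526320300764954625) MM_ok (Units.coeHom _) Units.val_injective

theorem enc_eq (x : GL (Fin 4) (ZMod 7)) :
    MM.enc x = encMat 4 7 15 (x : Matrix (Fin 4) (Fin 4) (ZMod 7)) := by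
  delta MM matModel
  dsimp only
  rw [Units.coeHom_apply]

noncomputable def c_s0 : NT := (.node (.leaf (nat_lit 161759680053128315128805575198543119511150653256266853792177922768900)) (.leaf (nat_lit 161762971062244490176733480918277777397617443192301597913792703987712)))

noncomputable def c_t0 : NT := (.node (.node (.node (.node (.node (.node (.node (.node (.leaf (nat_lit 53919893334301279589335457421731967307155347168829526320300764954625)) (.leaf (nat_lit 161769553331557844509906863515978505512758089278741707536074205757440))) (.node (.leaf (nat_lit 9873228218845339867148665540072921352911633722111854276734255110)) (.leaf (nat_lit 215686155606526135121448634838948742273182809708143958009022464950275)))) (.node (.node (.leaf (nat_lit 215687801161294140368726356881961170369589663125153674080459493081088)) (.leaf (nat_lit 215689446665854526472314138665458085907293271441075520471268673650694))) (.node (.leaf (nat_lit 161769553331554779378519547350365191776559501346677207398771721437185)) (.leaf (nat_lit 269601112226285130615967309162548286483368300080485111442540268126208))))) (.node (.node (.node (.leaf (nat_lit 269602757831279144672814192789326890751220192958530037635403493801985))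 (.leaf (nat_lit 4936563890310043528829519463283264683803285632494219770103595011))) (.node (.leaf (nat_lit 161761325708329948235803439756712577856186600273375930250959817572353)) (.leaf (nat_lit 215681219042635825171455910239334333208298889774941554754823844298752)))) (.node (.node (.leaf (nat_lit 4936563897972521233158833086646102185374599590097320360569470980)) (.leaf (nat_lit 161767907826992860732624274182657940602184354821823004199979873075206))) (.leaf (nat_lit 215689446414768924561306042310273790504869186916284206453316061921283))))) (.node (.node (.node (.node (.leaf (nat_lit 53929766562520124929202606087272040228508258538099115133877367242752)) (.leaf (nat_lit 4936664327003034637715535057228292517817867180280550315295670276))) (.node (.leaf (nat_lit 107849659947030556064235618928016099137265432362969547178458778599428)) (.leaf (nat_lit 269602757781057733256334378360552066284481462515682871686334135795714)))) (.node (.node (.leaf (nat_lit 323521005811673544611848874289368060455508145112911576669086606753792)) (.leaf (nat_lit 107849659846598460793589592682616770897896402402988942125604144349184))) (.node (.leaf (nat_lit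 323527587578820292562859181983232896608806246363422703389286191988739)) (.leaf (nat_lit 107839786819262195801200730469537180677309855444853337040418762686465))))) (.node (.node (.node (.leaf (nat_lit 161762971012027676293640034807590132824525146154913191398915723853824)) (.leaf (nat_lit 6582319531700898878477015028530798888036516078851997923322888195))) (.node (.leaf (nat_lit 161762971112452109133351211250988573226554407087615806497977406717957)) (.leaf (nat_lit 8227573003420100376430534956004896253688511706447621057878786048)))) (.node (.node (.leaf (nat_lit 161764616617018625406174666560279782253659975453464130408605301080064)) (.leaf (nat_lit 215682864647623709246139330572016361680496349363970565632127567790083))) (.leaf (nat_lit 6582319539363376582806328651893636389607830036455098513788764164)))))) (.node (.node (.node (.node (.node (.leaf (nat_lit 215682864597406895363045884461331375482265983743721285035582143201283)) (.leaf (nat_lit 161759680053120652651099818375883546575687976958483667171570427625475))) (.node (.leaf (nat_lit 53921538989518237511446387301550969202637054623492676551442297815043)) (.leaf (nat_lit 107839786919694291071846756714936508632725150689249962913077619851269))))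 (.node (.node (.leaf (nat_lit 269601112176063719246251265123942062933938601605318687823307514904578)) (.leaf (nat_lit 53919893484951721238615795753794901310385972921012791114986548101126))) (.node (.leaf (nat_lit 9873027346992320870766512658276622025863053423536002145001308166)) (.leaf (nat_lit 53921538838861666020299606272244137283645221011937965029025873199104))))) (.node (.node (.node (.leaf (nat_lit 3291009114642552388467122131795091952624656320246741592713592832)) (.leaf (nat_lit 53924829847977840974699970863188462492370599645122271842493739991043))) (.node (.leaf (nat_lit 215689446364553643314056192155186907323547324769792948000921152061446)) (.leaf (nat_lit 6582068447631249570984357984057938659454963392134857124026056707)))) (.node (.node (.leaf (nat_lit 161764616617012495424011202961290205777978031324887222961198898282500)) (.leaf (nat_lit 161761325758546761978594155800653831659977249187272582555039338364929))) (.leaf (nat_lit 323529233234020393034013450498687978564570051958415118483510031220740))))) (.node (.node (.node (.node (.leaf (nat_lit 53923184343417454684039979152886829657001906537002467352233145106436)) (.leaf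 (nat_lit 3291009123837525633662542394231105883200949393839718191442526212))) (.node (.leaf (nat_lit 53926475553407015199731371529008571513402912577296980080895807520771)) (.leaf (nat_lit 1645655210828080244487182575103695766765030831521979270372065281)))) (.node (.node (.leaf (nat_lit 53924829998632879876755508476193902839475336398645255625265543020547)) (.leaf (nat_lit 53923184644718337982600655817006051158400860218485091645666137047044))) (.node (.leaf (nat_lit 215682864396545769812835563617581007165022751760084790834972455960577)) (.leaf (nat_lit 323525942124479785146374368335557538813190257500314090122752850657285))))) (.node (.node (.node (.leaf (nat_lit 215681218891980786035552974284260442538402751489836950393447025508352)) (.leaf (nat_lit 107839786819256065819032985083912014209238466520445043170476426264582))) (.node (.leaf (nat_lit 215689446464991868566865681999585116107229857394635212479912990670854)) (.leaf (nat_lit 323521005510369596462517759182650046234682670667333161373178588626945)))) (.node (.node (.leaf (nat_lit 107843077828369175922652920411297648235056728405751263121319380746243)) (.leaf (nat_lit 215682864597403830325197527362497887388859594555097088836658555650052)))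 (.leaf (nat_lit 53923184494067896286545128982565769294813867840873118756618358587394))))))) (.node (.node (.node (.node (.node (.node (.leaf (nat_lit 161762971062244490176733480918277777397617443192301597913792703987712)) (.leaf (nat_lit 107848014342048802018479433020057664873503649064844868721731812065281))) (.node (.leaf (nat_lit 215686155355439000714899672638466219051900881503071807634332446687238)) (.leaf (nat_lit 161767907525691977434063597518538719100785401140340379906546881134598)))) (.node (.node (.leaf (nat_lit 8227522795801190528179844530796337091967767398551611807268732932)) (.leaf (nat_lit 4936664323938043555983583115939734945499797864883105335729094661))) (.node (.leaf (nat_lit 323522651165572761784442466140713225505834826121709219251777133740033)) (.leaf (nat_lit 150655039135902936259976196027027495959398579515961219481600))))) (.node (.node (.node (.leaf (nat_lit 215681218891983851166940290449873756274601339686353973571449641795590)) (.leaf (nat_lit 53928121057958206283313042084565501912547417553168379730704193388549))) (.node (.leaf (nat_lit 323519360206682595546090858591658746017917440001900762207541123874818))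 (.leaf (nat_lit 9873178002031597077859695064294960757829797403494955197663444998)))) (.node (.node (.leaf (nat_lit 323529233234021925389257295485800658757327133762607137627971571056640)) (.leaf (nat_lit 161759680304206254562109342152978473742670516409037313104603764523014))) (.leaf (nat_lit 107849659896819872163305636416320689090194743468313913630952628846597))))) (.node (.node (.node (.node (.leaf (nat_lit 215686155455871095985545698883874851603286671423039353647645646159875)) (.leaf (nat_lit 323519360005815340013717074148908167441594517325665886486849845723136))) (.node (.leaf (nat_lit 53929766411868150924692695157919175392064150461798830446549873623046)) (.leaf (nat_lit 8227573004952595917296641595078072682693490829355026093782990851)))) (.node (.node (.leaf (nat_lit 269607694344948043253090873655237381623805771599737336724726359392261)) (.leaf (nat_lit 323525942275122564317950377092652276491153974311943258713466750435332))) (.node (.leaf (nat_lit 161764616717444590694657229206689533733393326833744442325082619150337)) (.leaf (nat_lit 161759680304204722066567048929321769846797654218459108224911091433475))))) (.node (.node (.node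 (.leaf (nat_lit 6582219102670385473920313057948608555593248496739218500844847107)) (.leaf (nat_lit 161761325658114666707948129555254503704561953678415363191155617497092))) (.node (.leaf (nat_lit 9873027351589807493364222789494628983723295273826479983005171713)) (.leaf (nat_lit 215686155355434403228277074710554286053278175941956773636066571911172)))) (.node (.node (.leaf (nat_lit 50216813883093446110687644857046031488511792450146014330880)) (.leaf (nat_lit 215686155606520005139285171239959165797500865315106457070383682027520))) (.leaf (nat_lit 161769553080469177607817035339534642568094439510570601565071324905477)))))) (.node (.node (.node (.node (.node (.leaf (nat_lit 323525942224905750668704329324045045211685504634385925344955820212228)) (.leaf (nat_lit 107849659695946486648768388374581863631271510287401282174786350514181))) (.node (.leaf (nat_lit 323521005510372661453599491091035191826379817097935887108367701835776)) (.leaf (nat_lit 6582068450696240652716309925346496231773032707532302103592632322)))) (.node (.node (.leaf (nat_lit 3291310424720824194339206520098544436983173724278807453323329540)) (.leaf (nat_lit 8227522788138712823850530907433499590396453440948511216802856963)))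 (.node (.leaf (nat_lit 323529233033159267343506108753181298471915806043798461361087462932480)) (.leaf (nat_lit 215687801111075793943322565022348865634246852937671397131309455343618))))) (.node (.node (.node (.leaf (nat_lit 269601112326718758382154201383918258677003697533318883495784801697794)) (.leaf (nat_lit 323519360156458119185293082862454737846162708387371104086918755778561))) (.node (.leaf (nat_lit 215679573387421932240435275797615513882843324127313193491871192580100)) (.leaf (nat_lit 161764616516581932648906042386959216703660145817117141796481021411329)))) (.node (.node (.leaf (nat_lit 161767907575907258868382802800151906898849368432801708277751326277635)) (.leaf (nat_lit 9873077563806344268369850675390489092057132548171190366269243398))) (.leaf (nat_lit 4936814982042170540651490131118962413956152284884911692114460676))))) (.node (.node (.node (.node (.leaf (nat_lit 215689446515208682309656398043526370194974240759655250719261545660422)) (.leaf (nat_lit 323524296820786654481631402313424528263992679998644370226580308525060))) (.node (.leaf (nat_lit 53921538838863198375543451346467774220724156378401131475905034616835)) (.leaf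 (nat_lit 53921538989516705156202542314438289009879972554848134366280626012160)))) (.node (.node (.leaf (nat_lit 161769553180902805374003927560904614842861950993637103174697386967040)) (.leaf (nat_lit 107839786869472879702126431194599658782330763557833449685353406398470))) (.node (.leaf (nat_lit 269599466872381315956755401169926778710762092833071235887240358920193)) (.leaf (nat_lit 1645705427641823033776153050881940315581318273524813618477072385))))) (.node (.node (.node (.leaf (nat_lit 3291310417058346490009892896735706935411859766675706862857453571)) (.leaf (nat_lit 3291310415525850949143786257662530506406880650685830854594396160))) (.node (.leaf (nat_lit 269607694344944978308781475971630203957468119370712640170915126181894)) (.leaf (nat_lit 161759680304213917039812244349584205860728230247087095689837329547264)))) (.node (.node (.leaf (nat_lit 7662477704329618516363598662434577141251605745387962369)) (.leaf (nat_lit 161767907827000523257095228773852565899935887270281750860749194002432))) (.leaf (nat_lit 161761325758552891960757619399643408176227726343270686955987011698692)))))))) (.node (.node (.node (.node (.node (.node (.node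 (.leaf (nat_lit 161759680053128315128805575198543119511150653256266853792177922768900)) (.leaf (nat_lit 269607694395166389631725185437000011258531794557964520403922415910917))) (.node (.leaf (nat_lit 215679573638506001655902506351053737153953001387288634545211856388100)) (.leaf (nat_lit 4936814978977179458919538189830404841638082969487466712547885061)))) (.node (.node (.leaf (nat_lit 215682864346321293405271162915698737294178922009785114618626022932480)) (.leaf (nat_lit 215687800910208538457718260221883874206004715601631234598052091232260))) (.node (.leaf (nat_lit 107849659997253499929492528637690661567792540688093546486980963139584)) (.leaf (nat_lit 215679573387423464735976141904254587059272328841984730777711571828736))))) (.node (.node (.node (.leaf (nat_lit 215689446464985738584702218400595539874933114689760494014234351534083)) (.leaf (nat_lit 200873385514537248041738825742885633212311015299650211020800))) (.node (.leaf (nat_lit 1645504560386430964148850512169976489874107560961749425240211462)) (.leaf (nat_lit 53928121057956673834533092395389979383068666147389623100380199124994)))) (.node (.node (.leaf (nat_lit 323521005711235319359039384444979155983842372448056252904255212552192))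 (.leaf (nat_lit 107848014442480897289125459439686881766679378517348309283887227437061))) (.leaf (nat_lit 53924830149278724039413249098125618551794367080065525377272671010819))))) (.node (.node (.node (.node (.leaf (nat_lit 9873228214247853244550955408854914395051014082502746867113295873)) (.leaf (nat_lit 161761325607897852965157413337083361246964605536448398664773568364548))) (.node (.leaf (nat_lit 53919893334304344580417189330117112898852493599432252055489878163456)) (.leaf (nat_lit 161761325507467290049749522870238528432013702550396001429892316037121)))) (.node (.node (.leaf (nat_lit 269599466822164502073661955059239134137669795795682829372363378786305)) (.leaf (nat_lit 161767907525699639958534552109726698461382105045951311771487313199104))) (.node (.leaf (nat_lit 161767907626124072751476248910839551471941665470190114792628306411523)) (.leaf (nat_lit 323522651165581956710926745404848968668092174885641557869841164107781))))) (.node (.node (.node (.leaf (nat_lit 53919893535168535121709241864482545883478269958401197629863528235014)) (.leaf (nat_lit 107848014392259485872645645010912057299940648074501143334817869430790))) (.node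 (.leaf (nat_lit 215679573638507534151443372457692810330382006101959018909547628625920)) (.leaf (nat_lit 53921538838864731011381338180629282875333702126718215896700219883526)))) (.node (.node (.leaf (nat_lit 215679573387431127213679044100860319177330042944487036403645268819969)) (.leaf (nat_lit 53929766411865085933610963510870887595652695655667081260434624512000))) (.leaf (nat_lit 8227573012615073621625955218440910184264804786958126684248866820)))))) (.node (.node (.node (.node (.node (.leaf (nat_lit 269607694395169454622806917388941299816104112627279917848901982486532)) (.leaf (nat_lit 269602757881489828526980404780181283177657191968186312248489551167494))) (.node (.leaf (nat_lit 161764616767667534559914138916364096447874169609991827322575717072900)) (.leaf (nat_lit 161769553281334900504344369331292401490083027972566169918437540921348)))) (.node (.node (.leaf (nat_lit 161769553180899740242616611308171040050324749803767038061516968624129)) (.leaf (nat_lit 107839786869477477188753310604251522434494785069000682316532195262469))) (.node (.leaf (nat_lit 323527587528603478679765735872538606098559120783186482078580322992131)) (.leaf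 (nat_lit 323521005811670479620767142642319772659088024990957352615456591118337))))) (.node (.node (.node (.leaf (nat_lit 323525942074259906506046588702113329499366473952965655592948692221956)) (.leaf (nat_lit 3291009116175047929333228770868268381629635436236617600976650243))) (.node (.leaf (nat_lit 53919893535171600112790973772867691475175416389003923365052641443845)) (.leaf (nat_lit 161759680053129847624345013796145982589618552987112807558001272750080)))) (.node (.node (.leaf (nat_lit 323527587729470734258914708817673178756346973192158062213603004645381)) (.leaf (nat_lit 269607694445380138570509233994751565681180131726182634922404600709122))) (.leaf (nat_lit 161769553080472242458593182598673041204671700253757493651553432797188))))) (.node (.node (.node (.node (.leaf (nat_lit 251085601911008096529404879744222689637610276925549490241539)) (.leaf (nat_lit 53924829948416066227509460707586671276053132269964536321485578600451))) (.node (.leaf (nat_lit 161769553281331835653568221854362654524658662884302310782572454641669)) (.leaf (nat_lit 53929766512303311186420453355259792067318468320522405025266018713600)))) (.node (.node (.leaf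 (nat_lit 269599466822159904587035075649587270485505774284515596741184589922306)) (.leaf (nat_lit 53924830048842031515992023353996423039740217912459739800390839828482))) (.node (.leaf (nat_lit 215682864396538107288364609026386381867271219047173521133503003066368)) (.leaf (nat_lit 323525942024043092389105744162236973263190427675066677588319728107524))))) (.node (.node (.node (.leaf (nat_lit 107843077828372240913734652363238936792629046475066660566298947321858)) (.leaf (nat_lit 269599466922591999857681101894986598440921069528920293064375695245318))) (.node (.leaf (nat_lit 1645655215425566867084892706321702724625650471131086679993024518)) (.leaf (nat_lit 215689446615640777580302424463155586804196235496582782305447794868227)))) (.node (.node (.leaf (nat_lit 161767907575914921299320507228222586370664491669060615338093795442692)) (.leaf (nat_lit 269601112477370732526975405387050860870450966463518345101048815878147))) (.leaf (nat_lit 323529233033156202352424376844796152880218659613195735625898349723649))))))) (.node (.node (.node (.node (.node (.node (.leaf (nat_lit 301300883298560676664125867722507516675453825024530915000320)) (.leaf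 (nat_lit 323529233033157734988262263678957661534836870941787817954908433481732))) (.node (.leaf (nat_lit 161761325557684104073145699134780862143867569591955660498952689582081)) (.leaf (nat_lit 107843077778158491974950603805487382369980709306848546047816762523653)))) (.node (.node (.leaf (nat_lit 1645805865867075843265997439786411981353983128848578449871273985)) (.leaf (nat_lit 215682864647620644208290973473185531961951891592485495351535535783940))) (.node (.leaf (nat_lit 323521005661018505616257231712966907538698847779356156860374829826048)) (.leaf (nat_lit 215681219143066388086866655201565906846489140779273687318667930435587))))) (.node (.node (.node (.leaf (nat_lit 323522651165580424262146795715673446138613423479862801239517169844226)) (.leaf (nat_lit 8227522786606217282984424268360323161391474318041106180898652160))) (.node (.leaf (nat_lit 323525942174696599029467814446242525011420623120563370719298275246085)) (.leaf (nat_lit 161761325808769705984153795489965157546291654116746974516905301311492)))) (.node (.node (.leaf (nat_lit 161762971263102550735862069940765920081704247386267562516357790695427)) (.leaf (nat_lit 215681218942203730041115468468946546561077813060465011051783822311427)))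 (.leaf (nat_lit 53929766512295648708716123780299571434539870962368823283816587231238))))) (.node (.node (.node (.node (.leaf (nat_lit 1645504564983917586746560643387983447734349411252227263244075009)) (.leaf (nat_lit 161764616516575802666742578787969640227969535919364812518543360819203))) (.node (.leaf (nat_lit 215686155506094039850802608593549414033813779748163352709869709885446)) (.leaf (nat_lit 161762971212894931872783299023289410372320618023942005294588246458370)))) (.node (.node (.leaf (nat_lit 53919893484954786229697527662180046902083119351615516850175661309957)) (.leaf (nat_lit 323519360156465781662997412480971101444825142964512355692664143740930))) (.node (.leaf (nat_lit 53929766361651336901287955842775389520869691072580790149419980980230)) (.leaf (nat_lit 215681219143069452937642802460704305483057735942185581496935139835906))))) (.node (.node (.node (.leaf (nat_lit 323524296670131615345728466271230376537757928455734200889325555712004)) (.leaf (nat_lit 215687800859993257070165680217835302931035880900823234991197612277760))) (.node (.leaf (nat_lit 269599466872375185974587655784301612242690703908671012467830270656518))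 (.leaf (nat_lit 3064991081731908385145591697146695055248775889245175814)))) (.node (.node (.leaf (nat_lit 161767907626131735182413953338907572568894857289309895934639220031492)) (.leaf (nat_lit 269601112276497347012438157345321339723544493242592654359042981953539))) (.leaf (nat_lit 323521005711232254367957652493037867426270054643193378253685173321729)))))) (.node (.node (.node (.node (.node (.leaf (nat_lit 53928121057955141292231310132624213354966433903577984377509728321542)) (.leaf (nat_lit 323521005661015440625175499804581761947001701348753431125185716617217))) (.node (.leaf (nat_lit 215687800960425352340811706332571518779097012639019641112929071366148)) (.leaf (nat_lit 107839786769045381918107284358852194479079489824604056443873338097665)))) (.node (.node (.leaf (nat_lit 269599466771943090703941629538902284287275408664266316144639165333506)) (.leaf (nat_lit 215681218942196067423105554418974784336151262721259890754929305911298))) (.node (.leaf (nat_lit 107843077778150829544018608324642017839161176566283042893863730675716)) (.leaf (nat_lit 53929766562512462451498276468755676629854489805685384477047009738758))))) (.node (.node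 (.node (.leaf (nat_lit 215689446565423963837511708244984444346598887354615817779065745735683)) (.leaf (nat_lit 215681219042638890302843226492067908000836091229264142908704394608646))) (.node (.leaf (nat_lit 269601112376940169751870245117622177153264438365589715803917086916608)) (.leaf (nat_lit 107843077878593652236678361828608744093692721662318540799306237050881)))) (.node (.node (.leaf (nat_lit 53926475402751976063828435486814419787168161034386810743641054707715)) (.leaf (nat_lit 53921538989509042678498212695921925411226203822434403709450268508166))) (.leaf (nat_lit 215682864346328955929742117506886716654775626179848569524266586963969))))) (.node (.node (.node (.node (.leaf (nat_lit 323519360005807677536012744530391803842932083012977157921804589727750)) (.leaf (nat_lit 269607694445377073532655167948695421021640083459004160735423131385859))) (.node (.leaf (nat_lit 100442822739432087772310142025690439798559911381294320386052)) (.leaf (nat_lit 53929766361648271910206223934390243929181209957800539281745634295808)))) (.node (.node (.leaf (nat_lit 323524296569705650291079029228634462298738940076272345360887894245379)) (.leaf (nat_lit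 53924830099058845399085469464681409237970583532709020396936264417282))) (.node (.leaf (nat_lit 107843077878590587292368964145001566427355069433293844245495003840514)) (.leaf (nat_lit 6582219105735376555652264999237166127911317812136663480411422722))))) (.node (.node (.node (.leaf (nat_lit 215679573638509066646982811055295673408849906097249425265538862415875)) (.leaf (nat_lit 53926475653832980254380808571604485752421900956750765158801220829188))) (.node (.leaf (nat_lit 161762971313319364618955516051453564654796544423655969031234770829315)) (.leaf (nat_lit 323519360206674933068386528973142382419255005424759510601795735912449)))) (.node (.node (.leaf (nat_lit 215687801010643698672676538776949537678840223009089175675633116774405)) (.leaf (nat_lit 323529233234018860398175563577415513165629987332004411892782457847809))) (.leaf (nat_lit 107849659746167898018484432413188087180701208989237837960957648863236)))))))))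

noncomputable def c_P0 : NT := (.node (.node (.node (.node (.node (.node (.node (.node (.leaf (nat_lit 0)) (.leaf (nat_lit 159))) (.node (.leaf (nat_lit 69)) (.leaf (nat_lit 273)))) (.node (.node (.leaf (nat_lit 31)) (.leaf (nat_lit 211))) (.node (.leaf (nat_lit 112)) (.leaf (nat_lit 357))))) (.node (.node (.node (.leaf (nat_lit 15)) (.leaf (nat_lit 182))) (.node (.leaf (nat_lit 89)) (.leaf (nat_lit 309)))) (.node (.node (.leaf (nat_lit 49)) (.leaf (nat_lit 239))) (.leaf (nat_lit 135))))) (.node (.node (.node (.node (.leaf (nat_lit 7)) (.leaf (nat_lit 170))) (.node (.leaf (nat_lit 79)) (.leaf (nat_lit 289)))) (.node (.node (.leaf (nat_lit 40)) (.leaf (nat_lit 224))) (.node (.leaf (nat_lit 124)) (.leaf (nat_lit 382))))) (.node (.node (.node (.leaf (nat_lit 23)) (.leaf (nat_lit 194))) (.node (.leaf (nat_lit 100)) (.leaf (nat_lit 329)))) (.node (.node (.leaf (nat_lit 59)) (.leaf (nat_lit 255))) (.leaf (nat_lit 147)))))) (.node (.node (.node (.node (.node (.leaf (nat_lit 3)) (.leaf (nat_lit 165))) (.node (.leaf (nat_lit 73)) (.leaf (nat_lit 280)))) (.node (.node (.leaf (nat_lit 36)) (.leaf (nat_lit 216))) (.node (.leaf (nat_lit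 120)) (.leaf (nat_lit 368))))) (.node (.node (.node (.leaf (nat_lit 19)) (.leaf (nat_lit 188))) (.node (.leaf (nat_lit 96)) (.leaf (nat_lit 322)))) (.node (.node (.leaf (nat_lit 53)) (.leaf (nat_lit 248))) (.leaf (nat_lit 142))))) (.node (.node (.node (.node (.leaf (nat_lit 11)) (.leaf (nat_lit 176))) (.node (.leaf (nat_lit 83)) (.leaf (nat_lit 299)))) (.node (.node (.leaf (nat_lit 44)) (.leaf (nat_lit 233))) (.node (.leaf (nat_lit 130)) (.leaf (nat_lit 425))))) (.node (.node (.node (.leaf (nat_lit 27)) (.leaf (nat_lit 205))) (.node (.leaf (nat_lit 106)) (.leaf (nat_lit 340)))) (.node (.node (.leaf (nat_lit 64)) (.leaf (nat_lit 262))) (.leaf (nat_lit 153))))))) (.node (.node (.node (.node (.node (.node (.leaf (nat_lit 1)) (.leaf (nat_lit 163))) (.node (.leaf (nat_lit 71)) (.leaf (nat_lit 276)))) (.node (.node (.leaf (nat_lit 34)) (.leaf (nat_lit 214))) (.node (.leaf (nat_lit 116)) (.leaf (nat_lit 361))))) (.node (.node (.node (.leaf (nat_lit 17)) (.leaf (nat_lit 186))) (.node (.leaf (nat_lit 92)) (.leaf (nat_lit 316)))) (.node (.node (.leaf (nat_lit 51)) (.leaf (nat_lit 242))) (.leaf (nat_lit 139))))) (.node (.node (.node (.node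 (.leaf (nat_lit 9)) (.leaf (nat_lit 173))) (.node (.leaf (nat_lit 81)) (.leaf (nat_lit 292)))) (.node (.node (.leaf (nat_lit 42)) (.leaf (nat_lit 231))) (.node (.leaf (nat_lit 127)) (.leaf (nat_lit 410))))) (.node (.node (.node (.leaf (nat_lit 25)) (.leaf (nat_lit 200))) (.node (.leaf (nat_lit 103)) (.leaf (nat_lit 337)))) (.node (.node (.leaf (nat_lit 62)) (.leaf (nat_lit 259))) (.leaf (nat_lit 149)))))) (.node (.node (.node (.node (.node (.leaf (nat_lit 5)) (.leaf (nat_lit 167))) (.node (.leaf (nat_lit 75)) (.leaf (nat_lit 283)))) (.node (.node (.leaf (nat_lit 38)) (.leaf (nat_lit 221))) (.node (.leaf (nat_lit 122)) (.leaf (nat_lit 373))))) (.node (.node (.node (.leaf (nat_lit 21)) (.leaf (nat_lit 191))) (.node (.leaf (nat_lit 98)) (.leaf (nat_lit 326)))) (.node (.node (.leaf (nat_lit 56)) (.leaf (nat_lit 253))) (.leaf (nat_lit 145))))) (.node (.node (.node (.node (.leaf (nat_lit 13)) (.leaf (nat_lit 179))) (.node (.leaf (nat_lit 86)) (.leaf (nat_lit 301)))) (.node (.node (.leaf (nat_lit 47)) (.leaf (nat_lit 236))) (.node (.leaf (nat_lit 132)) (.leaf (nat_lit 432))))) (.node (.node (.node (.leaf (nat_lit 29)) (.leaf (nat_lit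 208))) (.node (.leaf (nat_lit 109)) (.leaf (nat_lit 350)))) (.node (.node (.leaf (nat_lit 67)) (.leaf (nat_lit 265))) (.leaf (nat_lit 155)))))))) (.node (.node (.node (.node (.node (.node (.node (.leaf (nat_lit 0)) (.leaf (nat_lit 160))) (.node (.leaf (nat_lit 70)) (.leaf (nat_lit 274)))) (.node (.node (.leaf (nat_lit 32)) (.leaf (nat_lit 212))) (.node (.leaf (nat_lit 115)) (.leaf (nat_lit 359))))) (.node (.node (.node (.leaf (nat_lit 16)) (.leaf (nat_lit 185))) (.node (.leaf (nat_lit 90)) (.leaf (nat_lit 314)))) (.node (.node (.leaf (nat_lit 50)) (.leaf (nat_lit 241))) (.leaf (nat_lit 138))))) (.node (.node (.node (.node (.leaf (nat_lit 8)) (.leaf (nat_lit 171))) (.node (.leaf (nat_lit 80)) (.leaf (nat_lit 291)))) (.node (.node (.leaf (nat_lit 41)) (.leaf (nat_lit 225))) (.node (.leaf (nat_lit 125)) (.leaf (nat_lit 398))))) (.node (.node (.node (.leaf (nat_lit 24)) (.leaf (nat_lit 197))) (.node (.leaf (nat_lit 101)) (.leaf (nat_lit 334)))) (.node (.node (.leaf (nat_lit 60)) (.leaf (nat_lit 257))) (.leaf (nat_lit 148)))))) (.node (.node (.node (.node (.node (.leaf (nat_lit 4)) (.leaf (nat_lit 166))) (.node (.leaf (nat_lit 74))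 (.leaf (nat_lit 281)))) (.node (.node (.leaf (nat_lit 37)) (.leaf (nat_lit 218))) (.node (.leaf (nat_lit 121)) (.leaf (nat_lit 371))))) (.node (.node (.node (.leaf (nat_lit 20)) (.leaf (nat_lit 189))) (.node (.leaf (nat_lit 97)) (.leaf (nat_lit 324)))) (.node (.node (.leaf (nat_lit 55)) (.leaf (nat_lit 251))) (.leaf (nat_lit 144))))) (.node (.node (.node (.node (.leaf (nat_lit 12)) (.leaf (nat_lit 178))) (.node (.leaf (nat_lit 85)) (.leaf (nat_lit 300)))) (.node (.node (.leaf (nat_lit 45)) (.leaf (nat_lit 234))) (.node (.leaf (nat_lit 131)) (.leaf (nat_lit 430))))) (.node (.node (.node (.leaf (nat_lit 28)) (.leaf (nat_lit 207))) (.node (.leaf (nat_lit 107)) (.leaf (nat_lit 343)))) (.node (.node (.leaf (nat_lit 66)) (.leaf (nat_lit 263))) (.leaf (nat_lit 154))))))) (.node (.node (.node (.node (.node (.node (.leaf (nat_lit 2)) (.leaf (nat_lit 164))) (.node (.leaf (nat_lit 72)) (.leaf (nat_lit 278)))) (.node (.node (.leaf (nat_lit 35)) (.leaf (nat_lit 215))) (.node (.leaf (nat_lit 117)) (.leaf (nat_lit 363))))) (.node (.node (.node (.leaf (nat_lit 18)) (.leaf (nat_lit 187))) (.node (.leaf (nat_lit 95)) (.leaf (nat_lit 321)))) (.node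 (.node (.leaf (nat_lit 52)) (.leaf (nat_lit 244))) (.leaf (nat_lit 140))))) (.node (.node (.node (.node (.leaf (nat_lit 10)) (.leaf (nat_lit 175))) (.node (.leaf (nat_lit 82)) (.leaf (nat_lit 298)))) (.node (.node (.leaf (nat_lit 43)) (.leaf (nat_lit 232))) (.node (.leaf (nat_lit 129)) (.leaf (nat_lit 418))))) (.node (.node (.node (.leaf (nat_lit 26)) (.leaf (nat_lit 201))) (.node (.leaf (nat_lit 105)) (.leaf (nat_lit 339)))) (.node (.node (.leaf (nat_lit 63)) (.leaf (nat_lit 260))) (.leaf (nat_lit 151)))))) (.node (.node (.node (.node (.node (.leaf (nat_lit 6)) (.leaf (nat_lit 168))) (.node (.leaf (nat_lit 77)) (.leaf (nat_lit 287)))) (.node (.node (.leaf (nat_lit 39)) (.leaf (nat_lit 223))) (.node (.leaf (nat_lit 123)) (.leaf (nat_lit 381))))) (.node (.node (.node (.leaf (nat_lit 22)) (.leaf (nat_lit 193))) (.node (.leaf (nat_lit 99)) (.leaf (nat_lit 327)))) (.node (.node (.leaf (nat_lit 58)) (.leaf (nat_lit 254))) (.leaf (nat_lit 146))))) (.node (.node (.node (.node (.leaf (nat_lit 14)) (.leaf (nat_lit 180))) (.node (.leaf (nat_lit 88)) (.leaf (nat_lit 303)))) (.node (.node (.leaf (nat_lit 48)) (.leaf (nat_lit 237))) (.node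 (.leaf (nat_lit 133)) (.leaf (nat_lit 437))))) (.node (.node (.node (.leaf (nat_lit 30)) (.leaf (nat_lit 209))) (.node (.leaf (nat_lit 111)) (.leaf (nat_lit 352)))) (.node (.node (.leaf (nat_lit 68)) (.leaf (nat_lit 267))) (.leaf (nat_lit 157)))))))))

noncomputable def c_H0 : NT := (.node (.node (.node (.node (.node (.node (.node (.node (.node (.leaf (nat_lit 1)) (.leaf (nat_lit 163))) (.node (.leaf (nat_lit 74)) (.leaf (nat_lit 14)))) (.node (.node (.leaf (nat_lit 60)) (.leaf (nat_lit 186))) (.node (.leaf (nat_lit 134)) (.leaf (nat_lit 48))))) (.node (.node (.node (.leaf (nat_lit 33)) (.leaf (nat_lit 189))) (.node (.leaf (nat_lit 129)) (.leaf (nat_lit 43)))) (.node (.node (.leaf (nat_lit 84)) (.leaf (nat_lit 223))) (.leaf (nat_lit 168))))) (.node (.node (.node (.node (.leaf (nat_lit 17)) (.leaf (nat_lit 71))) (.node (.leaf (nat_lit 117)) (.leaf (nat_lit 218)))) (.node (.node (.leaf (nat_lit 73)) (.leaf (nat_lit 215))) (.node (.leaf (nat_lit 158)) (.leaf (nat_lit 120))))) (.node (.node (.node (.leaf (nat_lit 47)) (.leaf (nat_lit 201))) (.node (.leaf (nat_lit 140)) (.leaf (nat_lit 238)))) (.node (.node (.leaf (nat_lit 96)) (.leaf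 (nat_lit 228))) (.leaf (nat_lit 127)))))) (.node (.node (.node (.node (.node (.leaf (nat_lit 9)) (.leaf (nat_lit 176))) (.node (.leaf (nat_lit 85)) (.leaf (nat_lit 206)))) (.node (.node (.leaf (nat_lit 67)) (.leaf (nat_lit 182))) (.node (.leaf (nat_lit 154)) (.leaf (nat_lit 16))))) (.node (.node (.node (.leaf (nat_lit 40)) (.leaf (nat_lit 112))) (.node (.leaf (nat_lit 135)) (.leaf (nat_lit 41)))) (.node (.node (.leaf (nat_lit 80)) (.leaf (nat_lit 221))) (.leaf (nat_lit 171))))) (.node (.node (.node (.node (.leaf (nat_lit 25)) (.leaf (nat_lit 196))) (.node (.leaf (nat_lit 114)) (.leaf (nat_lit 229)))) (.node (.node (.leaf (nat_lit 79)) (.leaf (nat_lit 216))) (.node (.leaf (nat_lit 164)) (.leaf (nat_lit 225))))) (.node (.node (.node (.leaf (nat_lit 54)) (.leaf (nat_lit 28))) (.node (.leaf (nat_lit 137)) (.leaf (nat_lit 239)))) (.node (.node (.leaf (nat_lit 100)) (.leaf (nat_lit 208))) (.leaf (nat_lit 180))))))) (.node (.node (.node (.node (.node (.node (.leaf (nat_lit 5)) (.leaf (nat_lit 187))) (.node (.leaf (nat_lit 110)) (.leaf (nat_lit 20)))) (.node (.node (.leaf (nat_lit 63)) (.leaf (nat_lit 213))) (.node (.leaf (nat_lit 0))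 (.leaf (nat_lit 200))))) (.node (.node (.node (.leaf (nat_lit 36)) (.leaf (nat_lit 202))) (.node (.leaf (nat_lit 131)) (.leaf (nat_lit 219)))) (.node (.node (.leaf (nat_lit 88)) (.leaf (nat_lit 204))) (.leaf (nat_lit 6))))) (.node (.node (.node (.node (.leaf (nat_lit 21)) (.leaf (nat_lit 194))) (.node (.leaf (nat_lit 121)) (.leaf (nat_lit 4)))) (.node (.node (.leaf (nat_lit 37)) (.leaf (nat_lit 220))) (.node (.leaf (nat_lit 161)) (.leaf (nat_lit 12))))) (.node (.node (.node (.leaf (nat_lit 51)) (.leaf (nat_lit 2))) (.node (.leaf (nat_lit 143)) (.leaf (nat_lit 181)))) (.node (.node (.leaf (nat_lit 98)) (.leaf (nat_lit 18))) (.leaf (nat_lit 179)))))) (.node (.node (.node (.node (.node (.leaf (nat_lit 13)) (.leaf (nat_lit 160))) (.node (.leaf (nat_lit 115)) (.leaf (nat_lit 53)))) (.node (.node (.leaf (nat_lit 59)) (.leaf (nat_lit 39))) (.node (.leaf (nat_lit 153)) (.leaf (nat_lit 166))))) (.node (.node (.node (.leaf (nat_lit 44)) (.leaf (nat_lit 205))) (.node (.leaf (nat_lit 101)) (.leaf (nat_lit 156)))) (.node (.node (.leaf (nat_lit 66)) (.leaf (nat_lit 132))) (.leaf (nat_lit 174))))) (.node (.node (.node (.node (.leaf (nat_lit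 29)) (.leaf (nat_lit 192))) (.node (.leaf (nat_lit 105)) (.leaf (nat_lit 230)))) (.node (.node (.leaf (nat_lit 82)) (.leaf (nat_lit 106))) (.node (.leaf (nat_lit 128)) (.leaf (nat_lit 62))))) (.node (.node (.node (.leaf (nat_lit 57)) (.leaf (nat_lit 210))) (.node (.leaf (nat_lit 148)) (.leaf (nat_lit 167)))) (.node (.node (.leaf (nat_lit 104)) (.leaf (nat_lit 45))) (.leaf (nat_lit 149)))))))) (.node (.node (.node (.node (.node (.node (.node (.leaf (nat_lit 3)) (.leaf (nat_lit 142))) (.node (.leaf (nat_lit 108)) (.leaf (nat_lit 124)))) (.node (.node (.leaf (nat_lit 61)) (.leaf (nat_lit 212))) (.node (.leaf (nat_lit 152)) (.leaf (nat_lit 77))))) (.node (.node (.node (.leaf (nat_lit 34)) (.leaf (nat_lit 177))) (.node (.leaf (nat_lit 103)) (.leaf (nat_lit 235)))) (.node (.node (.leaf (nat_lit 86)) (.leaf (nat_lit 139))) (.leaf (nat_lit 111))))) (.node (.node (.node (.node (.leaf (nat_lit 19)) (.leaf (nat_lit 193))) (.node (.leaf (nat_lit 119)) (.leaf (nat_lit 231)))) (.node (.node (.leaf (nat_lit 75)) (.leaf (nat_lit 184))) (.node (.leaf (nat_lit 46)) (.leaf (nat_lit 122))))) (.node (.node (.node (.leaf (nat_lit 49)) (.leaf (nat_lit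 169))) (.node (.leaf (nat_lit 141)) (.leaf (nat_lit 236)))) (.node (.node (.leaf (nat_lit 64)) (.leaf (nat_lit 138))) (.leaf (nat_lit 178)))))) (.node (.node (.node (.node (.node (.leaf (nat_lit 11)) (.leaf (nat_lit 72))) (.node (.leaf (nat_lit 113)) (.leaf (nat_lit 199)))) (.node (.node (.leaf (nat_lit 69)) (.leaf (nat_lit 90))) (.node (.leaf (nat_lit 150)) (.leaf (nat_lit 30))))) (.node (.node (.node (.leaf (nat_lit 42)) (.leaf (nat_lit 203))) (.node (.leaf (nat_lit 136)) (.leaf (nat_lit 170)))) (.node (.node (.leaf (nat_lit 92)) (.leaf (nat_lit 145))) (.leaf (nat_lit 173))))) (.node (.node (.node (.node (.leaf (nat_lit 27)) (.leaf (nat_lit 107))) (.node (.leaf (nat_lit 125)) (.leaf (nat_lit 234)))) (.node (.node (.leaf (nat_lit 81)) (.leaf (nat_lit 130))) (.node (.leaf (nat_lit 165)) (.leaf (nat_lit 211))))) (.node (.node (.node (.leaf (nat_lit 55)) (.leaf (nat_lit 209))) (.node (.leaf (nat_lit 146)) (.leaf (nat_lit 198)))) (.node (.node (.leaf (nat_lit 102)) (.leaf (nat_lit 191))) (.leaf (nat_lit 175))))))) (.node (.node (.node (.node (.node (.node (.leaf (nat_lit 7)) (.leaf (nat_lit 188))) (.node (.leaf (nat_lit 56)) (.leaf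 (nat_lit 226)))) (.node (.node (.leaf (nat_lit 65)) (.leaf (nat_lit 214))) (.node (.leaf (nat_lit 126)) (.leaf (nat_lit 83))))) (.node (.node (.node (.leaf (nat_lit 38)) (.leaf (nat_lit 185))) (.node (.leaf (nat_lit 133)) (.leaf (nat_lit 87)))) (.node (.node (.leaf (nat_lit 68)) (.leaf (nat_lit 157))) (.leaf (nat_lit 155))))) (.node (.node (.node (.node (.leaf (nat_lit 23)) (.leaf (nat_lit 195))) (.node (.leaf (nat_lit 95)) (.leaf (nat_lit 8)))) (.node (.node (.leaf (nat_lit 78)) (.leaf (nat_lit 26))) (.node (.leaf (nat_lit 162)) (.leaf (nat_lit 197))))) (.node (.node (.node (.leaf (nat_lit 22)) (.leaf (nat_lit 159))) (.node (.leaf (nat_lit 144)) (.leaf (nat_lit 172)))) (.node (.node (.leaf (nat_lit 93)) (.leaf (nat_lit 227))) (.leaf (nat_lit 24)))))) (.node (.node (.node (.node (.node (.leaf (nat_lit 15)) (.leaf (nat_lit 97))) (.node (.leaf (nat_lit 116)) (.leaf (nat_lit 233)))) (.node (.node (.leaf (nat_lit 50)) (.leaf (nat_lit 217))) (.node (.leaf (nat_lit 109)) (.leaf (nat_lit 224))))) (.node (.node (.node (.leaf (nat_lit 32)) (.leaf (nat_lit 10))) (.node (.leaf (nat_lit 94)) (.leaf (nat_lit 237)))) (.node (.node (.leaf (nat_lit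 52)) (.leaf (nat_lit 91))) (.leaf (nat_lit 147))))) (.node (.node (.node (.node (.leaf (nat_lit 31)) (.leaf (nat_lit 190))) (.node (.leaf (nat_lit 76)) (.leaf (nat_lit 123)))) (.node (.node (.leaf (nat_lit 70)) (.leaf (nat_lit 222))) (.node (.leaf (nat_lit 151)) (.leaf (nat_lit 89))))) (.node (.node (.node (.leaf (nat_lit 58)) (.leaf (nat_lit 207))) (.node (.leaf (nat_lit 118)) (.leaf (nat_lit 35)))) (.node (.node (.leaf (nat_lit 99)) (.leaf (nat_lit 232))) (.leaf (nat_lit 183))))))))) (.node (.node (.node (.node (.node (.node (.node (.node (.leaf (nat_lit 2)) (.leaf (nat_lit 185))) (.node (.leaf (nat_lit 107)) (.leaf (nat_lit 232)))) (.node (.node (.leaf (nat_lit 44)) (.leaf (nat_lit 211))) (.node (.leaf (nat_lit 151)) (.leaf (nat_lit 237))))) (.node (.node (.node (.leaf (nat_lit 29)) (.leaf (nat_lit 200))) (.node (.leaf (nat_lit 121)) (.leaf (nat_lit 178)))) (.node (.node (.leaf (nat_lit 85)) (.leaf (nat_lit 180))) (.leaf (nat_lit 169))))) (.node (.node (.node (.node (.leaf (nat_lit 18)) (.leaf (nat_lit 192))) (.node (.leaf (nat_lit 118)) (.leaf (nat_lit 233)))) (.node (.node (.leaf (nat_lit 74)) (.leaf (nat_lit 218))) (.node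 (.leaf (nat_lit 159)) (.leaf (nat_lit 60))))) (.node (.node (.node (.leaf (nat_lit 48)) (.leaf (nat_lit 171))) (.node (.leaf (nat_lit 7)) (.leaf (nat_lit 217)))) (.node (.node (.leaf (nat_lit 88)) (.leaf (nat_lit 143))) (.leaf (nat_lit 177)))))) (.node (.node (.node (.node (.node (.leaf (nat_lit 10)) (.leaf (nat_lit 190))) (.node (.leaf (nat_lit 104)) (.leaf (nat_lit 187)))) (.node (.node (.leaf (nat_lit 68)) (.leaf (nat_lit 216))) (.node (.leaf (nat_lit 155)) (.leaf (nat_lit 110))))) (.node (.node (.node (.leaf (nat_lit 41)) (.leaf (nat_lit 23))) (.node (.leaf (nat_lit 119)) (.leaf (nat_lit 236)))) (.node (.node (.leaf (nat_lit 91)) (.leaf (nat_lit 226))) (.leaf (nat_lit 172))))) (.node (.node (.node (.node (.leaf (nat_lit 26)) (.leaf (nat_lit 197))) (.node (.leaf (nat_lit 124)) (.leaf (nat_lit 220)))) (.node (.node (.leaf (nat_lit 80)) (.leaf (nat_lit 47))) (.node (.leaf (nat_lit 92)) (.leaf (nat_lit 146))))) (.node (.node (.node (.leaf (nat_lit 40)) (.leaf (nat_lit 140))) (.node (.leaf (nat_lit 145)) (.leaf (nat_lit 54)))) (.node (.node (.leaf (nat_lit 101)) (.leaf (nat_lit 67))) (.leaf (nat_lit 9))))))) (.node (.node (.node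 (.node (.node (.node (.leaf (nat_lit 6)) (.leaf (nat_lit 183))) (.node (.leaf (nat_lit 111)) (.leaf (nat_lit 108)))) (.node (.node (.leaf (nat_lit 64)) (.leaf (nat_lit 210))) (.node (.leaf (nat_lit 153)) (.leaf (nat_lit 84))))) (.node (.node (.node (.leaf (nat_lit 37)) (.leaf (nat_lit 196))) (.node (.leaf (nat_lit 132)) (.leaf (nat_lit 49)))) (.node (.node (.leaf (nat_lit 89)) (.leaf (nat_lit 224))) (.leaf (nat_lit 165))))) (.node (.node (.node (.node (.leaf (nat_lit 22)) (.leaf (nat_lit 144))) (.node (.leaf (nat_lit 122)) (.leaf (nat_lit 51)))) (.node (.node (.leaf (nat_lit 77)) (.leaf (nat_lit 193))) (.node (.leaf (nat_lit 115)) (.leaf (nat_lit 73))))) (.node (.node (.node (.leaf (nat_lit 52)) (.leaf (nat_lit 208))) (.node (.leaf (nat_lit 133)) (.leaf (nat_lit 239)))) (.node (.node (.leaf (nat_lit 99)) (.leaf (nat_lit 230))) (.leaf (nat_lit 13)))))) (.node (.node (.node (.node (.node (.leaf (nat_lit 14)) (.leaf (nat_lit 116))) (.node (.leaf (nat_lit 3)) (.leaf (nat_lit 203)))) (.node (.node (.leaf (nat_lit 71)) (.leaf (nat_lit 179))) (.node (.leaf (nat_lit 156)) (.leaf (nat_lit 98))))) (.node (.node (.node (.leaf (nat_lit 45))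 (.leaf (nat_lit 206))) (.node (.leaf (nat_lit 138)) (.leaf (nat_lit 42)))) (.node (.node (.leaf (nat_lit 94)) (.leaf (nat_lit 214))) (.leaf (nat_lit 175))))) (.node (.node (.node (.node (.leaf (nat_lit 30)) (.leaf (nat_lit 161))) (.node (.leaf (nat_lit 127)) (.leaf (nat_lit 213)))) (.node (.node (.leaf (nat_lit 57)) (.leaf (nat_lit 27))) (.node (.leaf (nat_lit 166)) (.leaf (nat_lit 205))))) (.node (.node (.node (.leaf (nat_lit 0)) (.leaf (nat_lit 125))) (.node (.leaf (nat_lit 149)) (.leaf (nat_lit 102)))) (.node (.node (.leaf (nat_lit 105)) (.leaf (nat_lit 231))) (.leaf (nat_lit 182)))))))) (.node (.node (.node (.node (.node (.node (.node (.leaf (nat_lit 4)) (.leaf (nat_lit 186))) (.node (.leaf (nat_lit 109)) (.leaf (nat_lit 63)))) (.node (.node (.leaf (nat_lit 62)) (.leaf (nat_lit 25))) (.node (.leaf (nat_lit 148)) (.leaf (nat_lit 228))))) (.node (.node (.node (.leaf (nat_lit 35)) (.leaf (nat_lit 201))) (.node (.leaf (nat_lit 130)) (.leaf (nat_lit 234)))) (.node (.node (.leaf (nat_lit 87)) (.leaf (nat_lit 209))) (.leaf (nat_lit 82))))) (.node (.node (.node (.node (.leaf (nat_lit 20)) (.leaf (nat_lit 11))) (.node (.leaf (nat_lit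 120)) (.leaf (nat_lit 194)))) (.node (.node (.leaf (nat_lit 76)) (.leaf (nat_lit 219))) (.node (.leaf (nat_lit 160)) (.leaf (nat_lit 86))))) (.node (.node (.node (.leaf (nat_lit 50)) (.leaf (nat_lit 129))) (.node (.leaf (nat_lit 142)) (.leaf (nat_lit 195)))) (.node (.node (.leaf (nat_lit 97)) (.leaf (nat_lit 229))) (.leaf (nat_lit 15)))))) (.node (.node (.node (.node (.node (.leaf (nat_lit 12)) (.leaf (nat_lit 191))) (.node (.leaf (nat_lit 114)) (.leaf (nat_lit 222)))) (.node (.node (.leaf (nat_lit 70)) (.leaf (nat_lit 31))) (.node (.leaf (nat_lit 136)) (.leaf (nat_lit 235))))) (.node (.node (.node (.leaf (nat_lit 43)) (.leaf (nat_lit 204))) (.node (.leaf (nat_lit 137)) (.leaf (nat_lit 55)))) (.node (.node (.leaf (nat_lit 93)) (.leaf (nat_lit 227))) (.leaf (nat_lit 164))))) (.node (.node (.node (.node (.leaf (nat_lit 28)) (.leaf (nat_lit 198))) (.node (.leaf (nat_lit 126)) (.leaf (nat_lit 168)))) (.node (.node (.leaf (nat_lit 1)) (.leaf (nat_lit 36))) (.node (.leaf (nat_lit 135)) (.leaf (nat_lit 154))))) (.node (.node (.node (.leaf (nat_lit 56)) (.leaf (nat_lit 131))) (.node (.leaf (nat_lit 147)) (.leaf (nat_lit 100)))) (.node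 (.node (.leaf (nat_lit 103)) (.leaf (nat_lit 61))) (.leaf (nat_lit 181))))))) (.node (.node (.node (.node (.node (.node (.leaf (nat_lit 8)) (.leaf (nat_lit 189))) (.node (.leaf (nat_lit 112)) (.leaf (nat_lit 117)))) (.node (.node (.leaf (nat_lit 66)) (.leaf (nat_lit 215))) (.node (.leaf (nat_lit 96)) (.leaf (nat_lit 223))))) (.node (.node (.node (.leaf (nat_lit 39)) (.leaf (nat_lit 174))) (.node (.leaf (nat_lit 134)) (.leaf (nat_lit 33)))) (.node (.node (.leaf (nat_lit 90)) (.leaf (nat_lit 225))) (.leaf (nat_lit 170))))) (.node (.node (.node (.node (.leaf (nat_lit 24)) (.leaf (nat_lit 162))) (.node (.leaf (nat_lit 123)) (.leaf (nat_lit 75)))) (.node (.node (.leaf (nat_lit 65)) (.leaf (nat_lit 221))) (.node (.leaf (nat_lit 163)) (.leaf (nat_lit 79))))) (.node (.node (.node (.leaf (nat_lit 53)) (.leaf (nat_lit 152))) (.node (.leaf (nat_lit 5)) (.leaf (nat_lit 188)))) (.node (.node (.leaf (nat_lit 69)) (.leaf (nat_lit 212))) (.leaf (nat_lit 141)))))) (.node (.node (.node (.node (.node (.leaf (nat_lit 16)) (.leaf (nat_lit 21))) (.node (.leaf (nat_lit 81)) (.leaf (nat_lit 78)))) (.node (.node (.leaf (nat_lit 72)) (.leaf (nat_lit 17)))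 (.node (.leaf (nat_lit 157)) (.leaf (nat_lit 113))))) (.node (.node (.node (.leaf (nat_lit 46)) (.leaf (nat_lit 207))) (.node (.leaf (nat_lit 139)) (.leaf (nat_lit 34)))) (.node (.node (.leaf (nat_lit 95)) (.leaf (nat_lit 38))) (.leaf (nat_lit 176))))) (.node (.node (.node (.node (.leaf (nat_lit 32)) (.leaf (nat_lit 199))) (.node (.leaf (nat_lit 128)) (.leaf (nat_lit 58)))) (.node (.node (.leaf (nat_lit 83)) (.leaf (nat_lit 19))) (.node (.leaf (nat_lit 167)) (.leaf (nat_lit 238))))) (.node (.node (.node (.leaf (nat_lit 59)) (.leaf (nat_lit 173))) (.node (.leaf (nat_lit 150)) (.leaf (nat_lit 158)))) (.node (.node (.leaf (nat_lit 106)) (.leaf (nat_lit 202))) (.leaf (nat_lit 184))))))))))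

noncomputable def c_lv1 : List (ℕ × NT) := []

noncomputable def c_lv0 : List (ℕ × NT) := (nat_lit 240, c_t0) :: c_lv1

theorem c_valid0 : MM.Valid 2 c_s0 := by
  intro a ha
  interval_cases a
  · obtain ⟨x, hx⟩ := exists_GL_of_check MM_ok (mask := 32767) (a := 161759680053128315128805575198543119511150653256266853792177922768900) (b := 323522651165572761784442466140713225505834826121709219251777133740033) (by decide +kernel)
    exact ⟨x, (enc_eq x).trans (hx.trans (by decide +kernel)), isOfFinOrder_of_finite _⟩
  · obtain ⟨x, hx⟩ := exists_GL_of_check MM_ok (mask := 32767) (a := 161762971062244490176733480918277777397617443192301597913792703987712) (b := 3291310417058346490009892896735706935411859766675706862857453571) (by decide +kernel)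
    exact ⟨x, (enc_eq x).trans (hx.trans (by decide +kernel)), isOfFinOrder_of_finite _⟩


theorem c_le0 : ⊥ ≤ MM.gen 2 c_s0 := bot_le

theorem c_chain1 : MM.Chain ⊥ c_lv1 := MM.chain_bot

theorem c_tree0 : allLt 240 (MM.treeF 2 c_s0 c_t0 c_P0) = true := by decide +kernel

theorem c_sch0_0 : allR 0 300 (MM.schF 2 c_s0 240 c_t0 c_lv1 c_H0) = true := by decide +kernel

theorem c_sch0_1 : allR 300 180 (MM.schF 2 c_s0 240 c_t0 c_lv1 c_H0) = true := by decide +kernel

theorem c_sch0 : allLt (240 * 2) (MM.schF 2 c_s0 240 c_t0 c_lv1 c_H0) = true := by
  have h0 := c_sch0_0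
  have h1 : allR 0 480 (MM.schF 2 c_s0 240 c_t0 c_lv1 c_H0) = true := allR_append (lo := 0) (a := 300) (b := 180) h0 c_sch0_1
  exact allLt_of_allR_zero h1

theorem c_chain0 : MM.Chain (MM.gen 2 c_s0) c_lv0 :=
  Model.chain_cons (by norm_num) c_valid0 c_chain1 c_le0 (by norm_num) c_tree0 c_sch0

theorem c_tmem0 : ∀ j, j < 240 → MM.Mem (MM.gen 2 c_s0) (c_t0.get j) :=
  Model.mem_of_treeF (by norm_num) (fun _ ha => c_valid0.mem_gen ha) c_tree0

/-- The group. -/
noncomputable abbrev H : Subgroup (GL (Fin 4) (ZMod 7)) := MM.gen 2 c_s0

theorem enc_neg : MM.enc (-1) = 323519360005807677536012744530391803842932083012977157921804589727750 := by decide +kernel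

theorem chk_all : allLt 240 (fun i => fpfChk MM 7 147 10 1671567705561385363844179281686772484226569438860566658582408894316575 4 [1, 2, 3, 4, 5, 6] [2, 4] 323519360005807677536012744530391803842932083012977157921804589727750 (MM.elt c_lv0 i)) = true := by
  decide +kernel

theorem cases_H (g : GL (Fin 4) (ZMod 7)) (hg : g ∈ H) :
    g = 1 ∨ (∃ k ∈ [1, 2, 3, 4, 5, 6], g ^ k = -1) ∨
      ∃ k ∈ [2, 4], ∑ i ∈ Finset.range (k + 1), (g : Matrix (Fin 4) (Fin 4) (ZMod 7)) ^ i = 0 := by
  have h := c_chain0.forall (by decide +kernel) chk_all g hg
  rw [← enc_neg] at h
  exact of_fpfChk MM_ok (Units.coeHom _) Units.val_injective 4 _ _ (by decide) (by decide) _ _ h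

theorem neg_one_mem : (-1 : GL (Fin 4) (ZMod 7)) ∈ H := by
  apply Model.mem_of_Mem (M := MM)
  have h := c_chain0.1 15
  rw [enc_neg]
  convert h using 1
  decide +kernel

theorem exists_order_3 : ∃ g : H, orderOf g = 3 := by
  obtain ⟨x, hx, e⟩ := c_chain0.1 41
  refine ⟨⟨x, hx⟩, ?_⟩
  rw [Subgroup.orderOf_mk]
  refine Model.orderOf_eq_of_ordIs (M := MM) (fuel := 5) (ds := [1]) (by norm_num) (by norm_num) (by decide) ?_
  rw [e]
  decide +kernel

theorem exists_order_5 : ∃ g : H, orderOf g = 5 := by
  obtain ⟨x, hx, e⟩ := c_chain0.1 2
  refine ⟨⟨x, hx⟩, ?_⟩
  rw [Subgroup.orderOf_mk]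
  refine Model.orderOf_eq_of_ordIs (M := MM) (fuel := 5) (ds := [1]) (by norm_num) (by norm_num) (by decide) ?_
  rw [e]
  decide +kernel

theorem exists_order_8 : ∃ g : H, orderOf g = 8 := by
  obtain ⟨x, hx, e⟩ := c_chain0.1 1
  refine ⟨⟨x, hx⟩, ?_⟩
  rw [Subgroup.orderOf_mk]
  refine Model.orderOf_eq_of_ordIs (M := MM) (fuel := 5) (ds := [4]) (by norm_num) (by norm_num) (by decide) ?_
  rw [e]
  decide +kernel

theorem exists_order_10 : ∃ g : H, orderOf g = 10 := by
  obtain ⟨x, hx, e⟩ := c_chain0.1 32
  refine ⟨⟨x, hx⟩, ?_⟩
  rw [Subgroup.orderOf_mk]
  refine Model.orderOf_eq_of_ordIs (M := MM) (fuel := 5) (ds := [5, 2]) (by norm_num) (by norm_num) (by decide) ?_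
  rw [e]
  decide +kernel

theorem exists_order_12 : ∃ g : H, orderOf g = 12 := by
  obtain ⟨x, hx, e⟩ := c_chain0.1 10
  refine ⟨⟨x, hx⟩, ?_⟩
  rw [Subgroup.orderOf_mk]
  refine Model.orderOf_eq_of_ordIs (M := MM) (fuel := 5) (ds := [6, 4]) (by norm_num) (by norm_num) (by decide) ?_
  rw [e]
  decide +kernel

end CfsgH7.TwoS5
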