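import Cfsg.Agent.H3.U3Def

/-! Interfaces for the recognition of `PSU₃(q)` by order and spectrum (S3424). -/

set_option autoImplicit false

namespace CfsgV3

open Cfsg CfsgL CfsgH5 CfsgH6 CfsgFT CfsgSZ CfsgH8 CfsgB0 CfsgU3 Subgroup

universe u

/-- `r` is the characteristic, `d = gcd(3, q + 1)`, `m = (q² - q + 1) / d` -/
structure Par (q r d m : ℕ) : Prop where
  pr : r.Prime
  pw : ∃ k, q = r ^ k
  q3 : 3 ≤ q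
  hd : d = Nat.gcd 3 (q + 1)
  hm : d * m + q = q ^ 2 + 1

/-- what is used of order and spectrum -/
structure Sp (G : Type*) [Group G] (q r d m : ℕ) : Prop where
  par : Par q r d m
  card : Nat.card G = ord q m
  exm : ∃ x : G, orderOf x = m
  cc : ∀ g : G, (orderOf g).Coprime m ∨ g ^ m = 1
  exh : ∃ g : G, d * orderOf g = q ^ 2 - 1

/-- the non-trivial elements of the conjugates of the cyclic subgroup of order `m` -/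
def TT {G : Type*} [Group G] (m : ℕ) (g : G) : Prop := g ≠ 1 ∧ g ^ m = 1

/-- a cyclic Hall subgroup of order `m` containing the centralisers of its elements, `|N : T| = 3` -/
structure CC (G : Type u) [Group G] (m n : ℕ) : Prop where
  card : Nat.card G = m * n
  cop : m.Coprime n
  exm : ∃ x : G, orderOf x = m
  cc : ∀ g : G, (orderOf g).Coprime m ∨ g ^ m = 1
  three : n ≡ 3 [MOD m]
  big : 7 ≤ m
  even : 2 ∣ n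

/-- the characters not vanishing on `T#`: `1, χ, ψ` and the exceptional ones (`θ` one of them) -/
structure XD (G : Type u) [Group G] [Finite G] (m : ℕ) (χ ψ θ : IrrCharacter G) (ε₁ ε₂ δ : ℤ) :
    Prop where
  sgn : (ε₁ = 1 ∨ ε₁ = -1) ∧ (ε₂ = 1 ∨ ε₂ = -1) ∧ (δ = 1 ∨ δ = -1)
  ne : χ ≠ triv G ∧ ψ ≠ triv G ∧ χ ≠ ψ
  vT : ∀ y, TT m y → χ.1 y = ε₁ ∧ ψ.1 y = ε₂ ∧ θ.1 y ≠ θ.1 1
  rel : ∀ g, ¬ TT m g → 1 + ε₁ * χ.1 g + ε₂ * ψ.1 g = δ * θ.1 g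
  cong : (m : ℤ) ∣ ε₁ * dg χ - 1 ∧ (m : ℤ) ∣ ε₂ * dg ψ - 1
  only : ∀ φ : IrrCharacter G, ¬ m ∣ dg φ → φ = triv G ∨ φ = χ ∨ φ = ψ ∨ dg φ = dg θ
  cmf : ∀ g g' : G, ¬ TT m g → ¬ TT m g' → ∃ k : ℕ, (g * g = 1 → g' * g' = 1 → k = 0) ∧
    ((k * (Nat.card (C1 g) * Nat.card (C1 g')) : ℕ) : ℂ) = Nat.card G *
      (1 + ε₁ * (χ.1 g * χ.1 g') / dg χ + ε₂ * (ψ.1 g * ψ.1 g') / dg ψ - δ * (θ.1 g * θ.1 g') / dg θ)

/-- the characters `1, a, s, h` of degrees `1, q² - q, q³, (q - 1)(q + 1)²` -/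
structure DU (G : Type u) [Group G] [Finite G] (q r d m : ℕ) (a s h : IrrCharacter G) : Prop where
  par : Par q r d m
  card : Nat.card G = ord q m
  deg : dg a = q * (q - 1) ∧ dg s = q ^ 3 ∧ dg h = (q - 1) * (q + 1) ^ 2
  int : ∀ χ ∈ [a, s, h], ∀ g, ¬ TT m g → χ.1 g = iv g χ
  rel : ∀ g, ¬ TT m g → 1 + iv g h = iv g a + iv g s
  xp : ∀ g, TT m g → a.1 g = -1 ∧ s.1 g = -1
  cop : ∀ g : G, ¬ TT m g → (orderOf g).Coprime m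
  cp : ∀ g : G, g ≠ 1 → ¬ TT m g → (Nat.card (C1 g)).Coprime m
  np : 3 * {g : G | TT m g}.ncard = q ^ 3 * ((q - 1) * (q + 1) ^ 2) * (m - 1)
  str : ∀ g g' : G, ¬ TT m g → ¬ TT m g' →
    ∃ k : ℕ, ((k * (Nat.card (C1 g) * Nat.card (C1 g')) : ℕ) : ℤ) = sc q m a s h g g'
  inv : ∀ t : G, orderOf t = 2 → sc q m a s h t t = 0
  uniq : ∀ χ : IrrCharacter G, dg χ = q ^ 3 → χ = s

/-- the doubly transitive action on the Sylow `r`-subgroups `Q i`; `Zs` are the transvections -/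
structure TI (G Ω : Type u) [Group G] [MulAction G Ω] (q r d m : ℕ) (Q : Ω → Subgroup G)
    (Zs : Set G) : Prop where
  par : Par q r d m
  card : Nat.card G = ord q m
  cardΩ : Nat.card Ω = q ^ 3 + 1
  cardQ : ∀ i, Nat.card (Q i) = q ^ 3
  conj : ∀ (g : G) i, ∀ x ∈ Q i, g * x * g⁻¹ ∈ Q (g • i)
  fix : ∀ i, ∀ x ∈ Q i, x • i = i
  reg : ∀ i, ∀ x ∈ Q i, ∀ o, o ≠ i → x • o = o → x = 1
  trans : ∀ i o : Ω, ∃ g : G, g • i = o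
  Z1 : 1 ∉ Zs
  Zcj : ∀ z ∈ Zs, ∀ z', z' ∈ Zs ↔ IsConj z z'
  Zc : ∀ z ∈ Zs, d * Nat.card (C1 z) = q ^ 3 * (q + 1)
  Zq : ∀ i, (Zs ∩ Q i).ncard = q - 1
  cen : ∀ i, ∀ x ∈ Q i, x ≠ 1 → x ∉ Zs → Nat.card (C1 x) ∣ q ^ 2
  big : ∀ i, ∀ R ≤ Q i, q * (q - 1) < Nat.card R → Zs ∩ Q i ⊆ R
  inv : r ≠ 2 → ∀ t : G, orderOf t = 2 → {i : Ω | t • i = i}.ncard = q + 1
  c3 : d = 3 → ∀ g : G, orderOf g = 3 → (∀ i : Ω, g • i ≠ i) → Nat.card (C1 g) ≤ (q + 1) ^ 2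

/-- the structure of the stabiliser `Q H` of `i` (odd `q`); `j` is the involution of `H` -/
structure UB (G Ω : Type u) [Group G] [MulAction G Ω] (q r d m : ℕ) (i o : Ω) (Q Z H : Subgroup G)
    (j : G) : Prop where
  par : Par q r d m
  odd : r ≠ 2
  card : Nat.card G = ord q m
  ne : o ≠ i
  cardΩ : Nat.card Ω = q ^ 3 + 1
  cardQ : Nat.card Q = q ^ 3
  cardZ : Nat.card Z = q
  cardH : d * Nat.card H = q ^ 2 - 1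
  fix : ∀ x ∈ Q, x • i = i
  reg : ∀ x ∈ Q, x • o = o → x = 1
  tr : ∀ w : Ω, w ≠ i → ∃ x ∈ Q, x • o = w
  trans : ∃ g : G, g • i = o
  nrm : ∀ g : G, g • i = i → ∀ x ∈ Q, g * x * g⁻¹ ∈ Q
  memH : ∀ g : G, g ∈ H ↔ g • i = i ∧ g • o = o
  Z_le : Z ≤ Q
  Zn : ∀ g ∈ H, ∀ z ∈ Z, g * z * g⁻¹ ∈ Z
  Zc : ∀ z ∈ Z, ∀ x ∈ Q, x * z = z * x
  comm : ∀ x ∈ Q, ∀ y ∈ Q, x * y * x⁻¹ * y⁻¹ ∈ Z
  pw : ∀ x ∈ Q, x ^ r ∈ Z
  nab : ∃ x ∈ Q, ∃ y ∈ Q, x * y ≠ y * x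
  cen : ∀ x ∈ Q, x ∉ Z → Nat.card (C1 x) ∣ q ^ 2
  free : ∀ g ∈ H, ∀ x ∈ Q, x ∉ Z → g * x * g⁻¹ * x⁻¹ ∈ Z → g = 1
  H0 : ∀ z ∈ Z, z ≠ 1 → d * Nat.card ↥(H ⊓ C1 z) = q + 1
  jH : j ∈ H
  j2 : orderOf j = 2
  juniq : ∀ t ∈ H, t * t = 1 → t = 1 ∨ t = j
  jZ : ∀ x ∈ Q, j * x = x * j ↔ x ∈ Z
  jinv : ∀ x ∈ Q, x * (j * x * j⁻¹) ∈ Z
  fixn : ∀ t : G, orderOf t = 2 → {w : Ω | t • w = w}.ncard = q + 1
  inv : ∀ s t : G, orderOf s = 2 → orderOf t = 2 → IsConj s t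
  c3 : d = 3 → ∀ g : G, orderOf g = 3 → (∀ i : Ω, g • i ≠ i) → Nat.card (C1 g) ≤ (q + 1) ^ 2

/-- coordinates on `Q` -/
structure UX (G Ω : Type u) [Group G] [MulAction G Ω] {E : Type} [Field E] (σ : E →+* E)
    (i o : Ω) (Q : Subgroup G) (x y : G → E) : Prop where
  ne : o ≠ i
  fix : ∀ a ∈ Q, a • i = i
  tr : ∀ w : Ω, w ≠ i → ∃ a ∈ Q, a • o = w
  reg : ∀ a ∈ Q, a • o = o → a = 1
  trans : ∃ g : G, g • i = o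
  nrm : ∀ g : G, g • i = i → ∀ a ∈ Q, g * a * g⁻¹ ∈ Q
  x_mul : ∀ a ∈ Q, ∀ b ∈ Q, x (a * b) = x a + x b
  y_mul : ∀ a ∈ Q, ∀ b ∈ Q, y (a * b) = y a + y b + σ (x a) * x b
  her : ∀ a ∈ Q, y a + σ (y a) = x a * σ (x a)
  ext : ∀ a ∈ Q, ∀ b ∈ Q, x a = x b → y a = y b → a = b
  sur : ∀ u v : E, v + σ v = u * σ u → ∃ a ∈ Q, x a = u ∧ y a = v

/-- coordinates on `Q` and `H ≅ M` -/
structure UD (G Ω : Type u) [Group G] [MulAction G Ω] {E : Type} [Field E] (σ : E →+* E)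
    (M : Subgroup Eˣ) (i o : Ω) (Q : Subgroup G) (x y : G → E) (η : M →* G) : Prop
    extends UX G Ω σ i o Q x y where
  memH : ∀ g : G, g ∈ η.range ↔ g • i = i ∧ g • o = o
  inv : ∀ s t : G, orderOf s = 2 → orderOf t = 2 → IsConj s t
  x_η : ∀ μ : M, ∀ a ∈ Q, x (η μ * a * (η μ)⁻¹) = (μ.1 : E) * x a
  y_η : ∀ μ : M, ∀ a ∈ Q, y (η μ * a * (η μ)⁻¹) = (μ.1 : E) * σ μ.1 * y a

/-- points `(a, b)` of the affine part of the unital, and the action of an involution `τ` swapping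
`∞` and `(0, 0)` (case `3 ∣ q + 1`); `M` is the group of cubes -/
structure WT {E : Type} [Field E] (σ : E →+* E) (M : Subgroup Eˣ) (A B : E → E → E) : Prop where
  her : ∀ a b, b + σ b = a * σ a → b ≠ 0 → B a b + σ (B a b) = A a b * σ (A a b) ∧ B a b ≠ 0
  inv : ∀ a b, b + σ b = a * σ a → b ≠ 0 → A (A a b) (B a b) = a ∧ B (A a b) (B a b) = b
  zero : ∀ b, b + σ b = 0 → b ≠ 0 → A 0 b = 0
  eqv : ∀ μ ∈ M, ∀ a b, b + σ b = a * σ a → b ≠ 0 →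
    σ μ * A (μ * a) (μ * σ μ * b) = A a b ∧ μ * σ μ * B (μ * a) (μ * σ μ * b) = B a b
  /-- `t y t = τ(y) t k τ(y⁻¹)⁻¹` for `y = (a, b)`, evaluated at `0` and at `τ(u, v)` -/
  fe : ∀ a b, b + σ b = a * σ a → b ≠ 0 → ∃ k ∈ M,
    A a b + A (-(k * A (-a) (σ b))) (k * σ k * σ (B (-a) (σ b))) = 0 ∧
    ∀ u v a₂ b₂, v + σ v = u * σ u → v ≠ 0 → b + v + σ a * u ≠ 0 → a₂ = k * (A u v - A (-a) (σ b)) →
      b₂ = k * σ k * (σ (B (-a) (σ b)) + B u v - σ (A (-a) (σ b)) * A u v) → b₂ ≠ 0 ∧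
      A (a + u) (b + v + σ a * u) = A a b + A a₂ b₂ ∧
      B (a + u) (b + v + σ a * u) = B a b + B a₂ b₂ + σ (A a b) * A a₂ b₂
  good : ∃ a b, ∃ ν ∈ M, b + σ b = a * σ a ∧ a ≠ 0 ∧ A a b = -(ν * a) ∧ B a b = ν * σ ν * σ b

end CfsgV3
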