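import Cfsg.Agent.H7.V3Wb
import Cfsg.Agent.H7.V3B
import Cfsg.Agent.H9.V3Wa
import Cfsg.Agent.H9.V3G
import Cfsg.Agent.H1.V3CO
import Cfsg.Agent.H1.V3C
import Cfsg.Agent.H2.V3DU
import Cfsg.Agent.H6.V3Q2
import Cfsg.Agent.H6.V3E8
import Cfsg.Agent.H6.V3ID
import Cfsg.Agent.H6.V3S
import Cfsg.Agent.H8.V3TI

/-! Recognition of `PSU₃(q)` by order and spectrum: assembly. -/

set_option autoImplicit false

namespace CfsgV3

open Cfsg Subgroup CfsgL CfsgH5 CfsgH6 CfsgFT CfsgSZ CfsgU3 Matrix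
open scoped MatrixGroups

universe u

theorem mem_SU_congr {F K : Type*} [Field F] [Field K] (e : F ≃+* K) (q : ℕ) {A : SL(3, F)}
    (h : A ∈ SU 3 F q) : CfsgH3.slCongr e A ∈ SU 3 K q := by
  intro u v
  obtain ⟨u, rfl⟩ : ∃ u' : Fin 3 → F, e ∘ u' = u := ⟨e.symm ∘ u, by ext; simp⟩
  obtain ⟨v, rfl⟩ : ∃ v' : Fin 3 → F, e ∘ v' = v := ⟨e.symm ∘ v, by ext; simp⟩
  have h1 := congrArg e (h u v)
  have h2 : ∀ w : Fin 3 → F, slToMat 3 K (CfsgH3.slCongr e A) *ᵥ (e ∘ w) =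
      e ∘ (slToMat 3 F A *ᵥ w) := fun w => by
    ext i
    simp [slToMat, CfsgH3.slCongr, mulVec, dotProduct]
  rw [h2, h2]
  simpa [hermForm] using h1

theorem psu3_congr {F K : Type*} [Field F] [Field K] [Fintype F] [Fintype K]
    (h : Fintype.card F = Fintype.card K) (q : ℕ) : Nonempty (PSU 3 F q ≃* PSU 3 K q) := by
  let e := FiniteField.ringEquivOfCardEq h
  refine ⟨CfsgH3.quotCenterCongr (((CfsgH3.slCongr e).subgroupMap (SU 3 F q)).trans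
    (MulEquiv.subgroupCongr (le_antisymm ?_ fun B hB => ?_)))⟩
  · rintro _ ⟨A, hA, rfl⟩
    exact mem_SU_congr e q hA
  · refine ⟨_, mem_SU_congr e.symm q hB, ?_⟩
    ext i j
    simp [CfsgH3.slCongr]

/-- the Weyl element when `H ≅ M` has index three in `Eˣ` -/
theorem UD.wey3 {G Ω : Type u} [Group G] [MulAction G Ω] {E : Type} [Field E] [Fintype E]
    {q : ℕ} {σ : E →+* E} {M : Subgroup Eˣ} {i o : Ω} {Q : Subgroup G} {x y : G → E} {η : M →* G}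
    (h : UD G Ω σ M i o Q x y η) (hq : Fintype.card E = q ^ 2) (hσ : ∀ u, σ u = u ^ q) (ho : Odd q)
    (h3 : 3 ∣ q + 1) (h5 : 5 ≤ q) (hM : 3 * Nat.card M = q ^ 2 - 1)
    (hg : ∃ g : G, ∃ a ∈ Q, x a ≠ 0 ∧ g • i = o ∧ g • o = a • o ∧ g • a • o = i) :
    ∃ w, Wey G Ω i o Q x y w := by
  obtain ⟨w, A, B, wi, wo, W, hw⟩ := h.wt hq hσ ho h3 h5 hM hg
  obtain ⟨κ, k0, k1, hκ⟩ := W.form hq hσ ho h3 h5 hM
  have k2 : -κ⁻¹ ≠ 0 := neg_ne_zero.mpr (inv_ne_zero k0)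
  obtain ⟨μ, m1, m2⟩ := (fm_of hq hσ ho h3 h5 hM).fix (-κ⁻¹) (by simp [k1]) k2
  obtain ⟨fi, fo⟩ := (h.memH (η ⟨μ, m1⟩)).1 ⟨_, rfl⟩
  have x1 : x 1 = 0 := by simpa using h.x_mul 1 (one_mem _) 1 (one_mem _)
  have y1 : y 1 = 0 := by simpa [x1] using h.y_mul 1 (one_mem _) 1 (one_mem _)
  refine ⟨η ⟨μ, m1⟩ * w, by rw [mul_smul, wi, fo], by rw [mul_smul, wo, fi], fun a ha a1 => ?_⟩
  obtain ⟨b, hb, b1, b2, b3⟩ := hw a ha a1
  have y0 : y a ≠ 0 := fun e => a1 (h.ext a ha 1 (one_mem _)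
    (by simpa [e, x1] using (h.her a ha).symm) (by rw [e, y1]))
  obtain ⟨d1, d2⟩ := hκ _ _ (h.her a ha) y0
  refine ⟨_, h.nrm _ fi b hb, ?_, ?_, ?_⟩
  · rw [mul_smul, b1, mul_smul, mul_smul, inv_smul_eq_iff.mpr fo.symm]
  · rw [h.x_η _ b hb, b2, d1, m2]
    field_simp
  · rw [h.y_η _ b hb, b3, d2, m2, map_neg, map_inv₀, k1]
    field_simp

theorem Sp.iso {G : Type u} [Group G] [Finite G] {q r d m : ℕ} (h : Sp G q r d m) {F : Type} [Field F]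
    [Fintype F] (hF : Fintype.card F = q ^ 2) : Nonempty (G ≃* PSU 3 F q) := by
  obtain ⟨_, a, s, c, D⟩ := h.du
  obtain ⟨Ω, _, Q, Zs, T⟩ := D.ti
  by_cases hr : r = 2
  · subst hr
    exact T.even hF
  obtain ⟨i, o, Z, H, j, B⟩ := T.base hr
  have hc := B.cyc h.exh
  obtain ⟨E, _, _, σ, M, x, y, η, hq, hσ, hM, U⟩ := B.coord hc
  have ho := h.par.odd hr
  have q3 := h.par.q3
  obtain ⟨w, hw⟩ : ∃ w, Wey G Ω i o (Q i) x y w := by
    rcases h.par.d_cases with ⟨rfl, -⟩ | ⟨rfl, e⟩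
    · refine U.wey1 (eq_top_of_card_eq _ ?_) hq hσ ho q3
      rw [Nat.card_units, Nat.card_eq_fintype_card (α := E), hq, ← hM, one_mul]
    obtain ⟨g, a, a1, a2, a3⟩ := B.good hc
    refine U.wey3 hq hσ ho (by omega) (by obtain ⟨t, rfl⟩ := ho; omega) hM ⟨g, a, a1, fun x0 => ?_, a3⟩
    have l1 : Q i ≤ C1 a := fun b hb => mem_C1.2 (U.ext _ (mul_mem hb a1) _ (mul_mem a1 hb)
      (by rw [U.x_mul b hb a a1, U.x_mul a a1 b hb, add_comm])
      (by rw [U.y_mul b hb a a1, U.y_mul a a1 b hb, x0]; simp [add_comm]))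
    have l2 := (card_le_of_le l1).trans (Nat.le_of_dvd (pow_pos (by omega) 2) (B.cen a a1 a2))
    rw [B.cardQ] at l2
    exact absurd l2 (not_le.mpr (Nat.pow_lt_pow_right (by omega) (by omega)))
  obtain ⟨e1⟩ := U.toUX.iso (sig_sig hq hσ) (kgen hq hσ) hw
  obtain ⟨e2⟩ := psu_of_uk hq hσ
  exact (psu3_congr (hq.trans hF.symm) q).map fun e3 => e1.trans (e2.trans e3)

theorem psu3_rec {G : Type u} [Group G] [Finite G] {F : Type*} [Field F] [Fintype F] {q : ℕ}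
    (hF : Fintype.card F = q ^ 2)
    (e : Set.range (orderOf : G → ℕ) = Set.range (orderOf : PSU 3 F q → ℕ))
    (c : Nat.card G = Nat.card (PSU 3 F q)) : Nonempty (G ≃* PSU 3 F q) := by
  obtain ⟨p, hp, n, pp, hn⟩ := FiniteField.card' F
  obtain ⟨k, -, hk⟩ := (Nat.dvd_prime_pow pp).mp (show q ∣ p ^ (n : ℕ) by
    rw [← hn, hF]; exact dvd_pow_self q two_ne_zero)
  have := Fact.mk pp
  have := Fintype.ofFinite (GaloisField p n)
  have hE : Fintype.card (GaloisField p n) = q ^ 2 := by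
    rw [← Nat.card_eq_fintype_card, GaloisField.card p n n.ne_zero, ← hn, hF]
  obtain ⟨f⟩ := psu3_congr (hE.trans hF.symm) q
  have e' : Set.range (orderOf : G → ℕ) = Set.range (orderOf : PSU 3 (GaloisField p n) q → ℕ) := by
    rw [e]
    ext t
    exact ⟨fun ⟨g, h⟩ => ⟨f.symm g, (f.symm.orderOf_eq g).trans h⟩,
      fun ⟨g, h⟩ => ⟨f g, (f.orderOf_eq g).trans h⟩⟩
  have c' := c.trans (Nat.card_congr f.toEquiv).symm
  have q2 := two_le_q hE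
  refine Nonempty.map (fun g : G ≃* _ => g.trans f) ?_
  rcases q2.eq_or_lt with rfl | q3
  · exact rec_two hE e' c'
  obtain ⟨d, m, P⟩ := exists_par pp hk q3
  exact ((sp_psu P hE).transfer e' c').iso hE

end CfsgV3
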