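import Cfsg.Agent.H7.V3Par
import Cfsg.Agent.H3.U3W

/-! S3424: the cubes in a field of order `q²`, `3 ∣ q + 1`. -/

set_option autoImplicit false

namespace CfsgV3

open CfsgU3 Subgroup

variable {E : Type} [Field E] {σ : E →+* E}

/-- facts on the group `P` of non-zero cubes -/
structure FM (σ : E →+* E) (P : E → Prop) : Prop where
  ss : ∀ u, σ (σ u) = u
  two : (2 : E) ≠ 0
  ex : ∃ u : E, u ≠ 0 ∧ u + σ u = 0
  ne : ∀ u, P u → u ≠ 0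
  mul : ∀ u v, P u → P v → P (u * v)
  inv : ∀ u, P u → P u⁻¹
  sig : ∀ u, P u → P (σ u)
  fix : ∀ t, σ t = t → t ≠ 0 → P t
  tr0 : ∀ t, t + σ t = 0 → t ≠ 0 → P t
  nrm : ∀ t, σ t = t → t ≠ 0 → ∃ μ, P μ ∧ μ * σ μ = t
  cube : ∀ u, u ≠ 0 → P (u ^ 3)
  alt : (∃ u, P u ∧ σ u ≠ u ∧ u + σ u ≠ 0) ∨ ((5 : E) = 0 ∧ ∀ u, σ u = u ^ 5)

theorem mem_M_iff [Fintype E] {q : ℕ} (hq : Fintype.card E = q ^ 2) {M : Subgroup Eˣ}
    (hM : 3 * Nat.card M = q ^ 2 - 1) (μ : Eˣ) : μ ∈ M ↔ μ ^ Nat.card M = 1 := by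
  have c : Nat.card Eˣ = 3 * Nat.card M := by rw [Nat.card_units, Nat.card_eq_fintype_card, hq, hM]
  have k := IsCyclic.card_powMonoidHom_ker Eˣ (Nat.card M)
  rw [c, Nat.gcd_mul_left_left] at k
  rw [eq_of_le_of_card_ge (H := M) (K := (powMonoidHom (Nat.card M) : Eˣ →* Eˣ).ker)
    (fun μ hμ => congrArg Subtype.val (pow_card_eq_one' (x := (⟨μ, hμ⟩ : M)))) k.le, k]
  rfl

theorem fm_of [Fintype E] {q : ℕ} (hq : Fintype.card E = q ^ 2) (hσ : ∀ u, σ u = u ^ q) (ho : Odd q)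
    (h3 : 3 ∣ q + 1) (h5 : 5 ≤ q) {M : Subgroup Eˣ} (hM : 3 * Nat.card M = q ^ 2 - 1) :
    FM σ fun u => ∃ μ ∈ M, (μ : E) = u := by
  have F := ff_of hq hσ ho (by omega)
  obtain ⟨s, rfl⟩ : ∃ s, q = 6 * s + 5 := ⟨(q - 5) / 6, by have := Nat.odd_iff.mp ho; omega⟩
  have cM : Nat.card M = (6 * s + 4) * 2 * (s + 1) := by
    rw [show (6 * s + 5) ^ 2 = 3 * ((6 * s + 4) * 2 * (s + 1)) + 1 by ring] at hM
    omega
  have k : ∀ u : E, u ≠ 0 → u ^ ((6 * s + 4) * 2 * (s + 1)) = 1 → ∃ μ ∈ M, (μ : E) = u := fun u u0 e =>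
    ⟨Units.mk0 u u0, (mem_M_iff hq hM _).mpr (Units.ext (by simpa [cM] using e)), rfl⟩
  have f1 : ∀ t : E, σ t = t → t ≠ 0 → t ^ (6 * s + 4) = 1 := fun t e t0 =>
    mul_right_cancel₀ t0 (by rw [← pow_succ, ← hσ, e, one_mul])
  have cb : ∀ u : E, u ≠ 0 → ∃ μ ∈ M, (μ : E) = u ^ 3 := fun u u0 => k _ (pow_ne_zero 3 u0) (by
    rw [← pow_mul, ← cM, hM, ← hq]; exact FiniteField.pow_card_sub_one_eq_one u u0)
  refine ⟨F.ss, F.two, F.ex, fun _ ⟨μ, _, e⟩ => e ▸ μ.ne_zero,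
    fun _ _ ⟨μ, a, e⟩ ⟨ν, b, f⟩ => ⟨μ * ν, mul_mem a b, by simp [e, f]⟩,
    fun _ ⟨μ, a, e⟩ => ⟨μ⁻¹, inv_mem a, by simp [e]⟩,
    fun _ ⟨μ, a, e⟩ => ⟨μ ^ (6 * s + 5), pow_mem a _, by simp [e, hσ]⟩,
    fun t e t0 => k t t0 (by rw [mul_assoc, pow_mul, f1 t e t0, one_pow]),
    fun t e t0 => k t t0 ?_, fun t e t0 => ?_, cb, ?_⟩
  · rw [mul_comm _ 2, pow_mul, pow_mul, f1 _ (by
      rw [map_pow, eq_neg_of_add_eq_zero_right e, neg_sq]) (pow_ne_zero 2 t0), one_pow]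
  · obtain ⟨u, hu⟩ := F.nrm (t ^ (2 * s + 1))⁻¹ (by rw [map_inv₀, map_pow, e])
    refine ⟨_, cb u fun f => pow_ne_zero _ t0 (inv_eq_zero.mp (by rw [← hu, f, zero_mul])), ?_⟩
    rw [map_pow, ← mul_pow, hu, inv_pow, ← pow_mul]
    exact inv_eq_of_mul_eq_one_right (by rw [← pow_succ, ← f1 t e t0]; congr 1; ring)
  · rcases Nat.eq_zero_or_pos s with rfl | s0
    · refine .inr ⟨?_, hσ⟩
      have := FiniteField.cast_card_eq_zero E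
      rw [hq, Nat.cast_pow] at this
      simpa using pow_eq_zero_iff two_ne_zero |>.mp this
    · obtain ⟨g, hg⟩ := IsCyclic.exists_ofOrder_eq_natCard (α := M)
      refine .inl ⟨g.1.1, ⟨g.1, g.2, rfl⟩, not_or.mp fun e => ?_⟩
      have : (g.1.1 ^ 2) ^ (6 * s + 4) = 1 := f1 _ (by
        rw [map_pow]
        rcases e with e | e
        · rw [e]
        · rw [eq_neg_of_add_eq_zero_right e, neg_sq]) (pow_ne_zero 2 g.1.ne_zero)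
      have := Nat.le_of_dvd (by omega) (orderOf_dvd_of_pow_eq_one (x := g) (n := 2 * (6 * s + 4))
        (Subtype.ext (Units.ext (by simpa [pow_mul] using this))))
      rw [hg, cM] at this
      nlinarith

end CfsgV3
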