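import Cfsg.Agent.H7.V3Wb2

/-! S3424: the Weyl element, `3 ∣ q + 1`. -/

set_option autoImplicit false

namespace CfsgV3

open CfsgU3 WT

universe u

variable {E : Type} [Field E] {σ : E →+* E} {M : Subgroup Eˣ} {A B : E → E → E} {κ a D e : E}

theorem Lin.smul (h : WT σ M A B) (F : FM σ (PM M)) (l : Lin σ A κ a e) (a0 : a ≠ 0) {μ : E}
    (m : PM M μ) : Lin σ A κ (μ * a) (μ * σ μ * e) := fun b hb => by
  have m0 := F.ne _ m
  have m1 : σ μ ≠ 0 := (map_ne_zero σ).mpr m0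
  have e1 : b / (μ * σ μ) + σ (b / (μ * σ μ)) = a * σ a := by
    simp only [map_div₀, map_mul, F.ss] at hb ⊢
    field_simp
    linear_combination hb
  have a1 := (h.eqv' m e1 (b_ne e1 a0)).1
  have a2 := l _ e1
  rw [mul_div_cancel₀ _ (mul_ne_zero m0 m1)] at a1
  rw [← a1] at a2
  generalize A (μ * a) b = X at a2 ⊢
  field_simp at a2
  linear_combination a2

theorem Lin.uniq (F : FM σ (PM M)) {e' : E} (l : Lin σ A κ a e) (l' : Lin σ A κ a e') (k0 : κ ≠ 0)
    (a0 : a ≠ 0) : e = e' := by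
  have two := F.two
  have h1 : a * σ a / 2 + σ (a * σ a / 2) = a * σ a := by
    rw [map_div₀, map_mul, F.ss, map_ofNat]; field_simp; norm_num
  have a1 := l _ h1
  exact add_left_cancel (mul_left_cancel₀ (left_ne_zero_of_mul (a1 ▸ mul_ne_zero k0 a0))
    (a1.trans (l' _ h1).symm))

namespace WG

variable (w : WG σ M A B κ a D e) (h : WT σ M A B) (F : FM σ (PM M))
include w h

theorem tau {a' e' b : E} (l : Lin σ A κ a' e') (a0 : a' ≠ 0) (hb : b + σ b = a' * σ a') :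
    Lin σ A κ (A a' b) (κ ^ 2 / (b + e') - B a' b) := fun b' hb' => by
  have k0 := w.k0
  have a1 := l b hb
  have D0 : b + e' ≠ 0 := right_ne_zero_of_mul (a1 ▸ mul_ne_zero k0 a0)
  by_cases f : b' = B a' b
  · rw [f, (h.inv a' b hb (b_ne hb a0)).1]
    field_simp
    linear_combination -κ * a1
  have f0 := sub_ne_zero.mpr f
  have t0 : b' - B a' b + σ (b' - B a' b) = 0 := by
    rw [map_sub]; linear_combination hb' - (h.her a' b hb (b_ne hb a0)).1
  have t1 : κ ^ 2 / (b' - B a' b) + σ (κ ^ 2 / (b' - B a' b)) = 0 := by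
    rw [map_div₀, map_pow, w.k1, eq_neg_of_add_eq_zero_right t0, div_neg, add_neg_cancel]
  have a2 := w.rel _ t1 (div_ne_zero (pow_ne_zero 2 k0) f0) a' b hb a0
  have a3 := l (κ ^ 2 / (b' - B a' b) + b) (by rw [map_add]; linear_combination hb + t1)
  rw [div_div_cancel₀ (pow_ne_zero 2 k0), sub_add_cancel] at a2
  generalize A a' (κ ^ 2 / (b' - B a' b) + b) = X at a2 a3
  generalize A (A a' b) b' = Y at a2
  generalize A a' b = Z at a1
  generalize B a' b = W at *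
  field_simp at a2 a3 ⊢
  refine mul_left_cancel₀ f0 ?_
  linear_combination -(b' - W) * κ * a1 + κ * a3 - ((b' - W) * (b + e') + κ ^ 2) * a2

omit h in
theorem herβ {β : E} (t : β + σ β = 0) : D - e + β + σ (D - e + β) = a * σ a := by
  rw [map_add]; linear_combination w.her + t

omit h in
theorem Dβ {β : E} (t : β + σ β = 0) : D + β ≠ 0 ∧ A a (D - e + β) = κ * a / (D + β) := by
  have a1 := w.lin _ (w.herβ t)
  rw [show D - e + β + e = D + β by ring] at a1
  have := right_ne_zero_of_mul (a1 ▸ mul_ne_zero w.k0 w.a0)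
  exact ⟨this, eq_div_of_mul_eq this a1⟩

omit h in
theorem T_ne : D + σ D ≠ 0 := fun f => (w.Dβ (β := -D) (by rw [map_neg]; linear_combination -f)).1
  (add_neg_cancel D)

theorem Lβ {β : E} (t : β + σ β = 0) :
    Lin σ A κ (κ * a / (D + β)) (κ ^ 2 / (D + β) - B a (D - e + β)) := by
  have := w.tau h w.lin w.a0 (w.herβ t)
  rwa [(w.Dβ t).2, show D - e + β + e = D + β by ring] at this

include F

omit h in
theorem cover {u : E} (hu : u + σ u ≠ 0) : ∃ β t, β + σ β = 0 ∧ σ t = t ∧ t ≠ 0 ∧ D + β = t * u := by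
  have : σ ((D + σ D) / (u + σ u)) = (D + σ D) / (u + σ u) := by
    simp only [map_div₀, map_add, F.ss, add_comm]
  refine ⟨(D + σ D) / (u + σ u) * u - D, _, ?_, this, div_ne_zero w.T_ne hu, by ring⟩
  rw [map_sub, map_mul, this]
  field_simp
  ring

omit h in
theorem Bβ' {β : E} (t : β + σ β = 0) :
    (κ ^ 2 / (D + β) - B a (D - e + β)) * (D + β) * (β ^ 2 + D * σ D) = -κ ^ 2 * e * (β - D) := by
  have d := (w.Dβ t).1
  rw [sub_mul, div_mul_cancel₀ _ d]
  by_cases f : β = 0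
  · have D0 := F.ne _ w.pD
    have D1 : σ D ≠ 0 := (map_ne_zero σ).mpr D0
    rw [f, add_zero, w.B0]
    field_simp
    ring
  · exact w.Bβ β t f

theorem e_zero : e = 0 := by
  by_contra e0
  have k0 := w.k0
  have a0 := w.a0
  have N1 : ∀ u, PM M u → u + σ u ≠ 0 → ∃ t, σ t = t ∧ t ≠ 0 ∧ D = t * u := fun u pu hu => by
    obtain ⟨β, t, t1, t2, t3, t4⟩ := w.cover F hu
    refine ⟨t, t2, t3, ?_⟩
    have d := (w.Dβ t1).1
    have d' : σ D - β ≠ 0 := by
      have := (map_ne_zero σ).mpr d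
      rwa [map_add, eq_neg_of_add_eq_zero_right t1, ← sub_eq_add_neg] at this
    have a1 := (w.lin.smul h F a0 (F.mul _ _ (F.fix κ w.k1 k0) (F.inv _ (t4 ▸ F.mul _ _ (F.fix t t2 t3) pu)))).uniq
      F (by rw [mul_right_comm, ← div_eq_mul_inv]; exact w.Lβ h t1) k0 (by simp [k0, a0, d])
    have a2 := w.Bβ' F t1
    rw [← a1, map_mul, map_inv₀, map_add, w.k1, eq_neg_of_add_eq_zero_right t1, ← sub_eq_add_neg] at a2
    field_simp at a2
    rw [← t4, (mul_eq_zero.mp (show β * (D + σ D) = 0 by linear_combination a2)).resolve_right w.T_ne,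
      add_zero]
  have two := F.two
  obtain ⟨t, t1, -, t2⟩ := N1 1 (F.fix 1 (map_one σ) one_ne_zero) (by rw [map_one]; norm_num [two])
  have D1 : σ D = D := by rw [t2, mul_one, t1]
  have D0 := F.ne _ w.pD
  rcases F.alt with ⟨u, u1, u2, u3⟩ | ⟨c5, hσ⟩
  · obtain ⟨t, t1, t0, t2⟩ := N1 u u1 u3
    rw [t2, map_mul, t1] at D1
    exact u2 (mul_left_cancel₀ t0 D1)
  obtain ⟨β, b1, b2⟩ : ∃ β, β + σ β = 0 ∧ β ^ 2 = 2 * D ^ 2 := by
    obtain ⟨δ, d0, d1⟩ := F.ex
    have a1 : D ^ 4 = 1 := mul_left_cancel₀ D0 (by rw [← pow_succ', ← hσ, D1, mul_one])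
    have a2 : δ ^ 4 = -1 := mul_left_cancel₀ d0 (by rw [← pow_succ', ← hσ]; linear_combination d1)
    rcases mul_eq_zero.mp (show (δ ^ 2 - 2 * D ^ 2) * ((2 * δ) ^ 2 - 2 * D ^ 2) = 0 by
      linear_combination 4 * a1 + 4 * a2 - 2 * δ ^ 2 * D ^ 2 * c5) with f | f
    · exact ⟨δ, d1, sub_eq_zero.mp f⟩
    · exact ⟨2 * δ, by rw [map_mul, map_ofNat]; linear_combination 2 * d1, sub_eq_zero.mp f⟩
  have b3 : σ β = -β := eq_neg_of_add_eq_zero_right b1
  have b0 : β ≠ 0 := fun f => mul_ne_zero two (pow_ne_zero 2 D0) (by rw [← b2, f]; ring)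
  obtain ⟨k, pk, k1, k2⟩ := w.fe
  have k3 : σ k = -D / κ := by rw [D1] at k1; field_simp; exact mul_right_cancel₀ D0 (by linear_combination k1)
  obtain rfl : k = -D / κ := by rw [← F.ss k, k3, map_div₀, map_neg, D1, w.k1]
  have n := w.her
  rw [map_sub, D1, w.e1] at n
  have p2 : PM M 2 := F.fix 2 (map_ofNat σ 2) two
  have h2 : D - e + (D - e + β) + σ a * a + σ (D - e + (D - e + β) + σ a * a) = 2 * a * σ (2 * a) := by
    simp only [map_add, map_sub, map_mul, F.ss, D1, w.e1, b3, map_ofNat]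
    linear_combination 2 * n
  obtain ⟨s1, s2⟩ := k2 a _ _ _ (w.herβ b1) (b_ne (w.herβ b1) a0) (b_ne h2 (mul_ne_zero two a0)) rfl rfl
  have s3 := w.lin.smul h F a0 p2 _ h2
  obtain ⟨d1, d2⟩ := w.Dβ b1
  have d3 : 2 * D + β ≠ 0 := fun f => mul_ne_zero two (mul_ne_zero two D0) (by
    have := congrArg σ f
    rw [map_add, map_mul, map_ofNat, D1, b3, map_zero] at this
    linear_combination f + this)
  have d4 : D - β ≠ 0 := by simpa [D1, b3, sub_eq_add_neg] using (map_ne_zero σ).mpr d1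
  rw [← two_mul] at s2
  rw [s2, map_ofNat] at s3
  rw [d2, k3, D1, show -D / κ * (κ * a / (D + β) + κ / D * a) = -((2 * D + β) / (D + β)) * a by
    field_simp; ring] at s1 s3
  obtain ⟨μ, γ, m1, g1, m2⟩ : ∃ μ γ, PM M μ ∧ γ + σ γ = 0 ∧
      -((2 * D + β) / (D + β)) * a = μ * (κ * a / (D + γ)) := by
    have pk := F.inv _ (F.mul _ _ (F.fix (-1) (by simp) (by simp)) (F.fix κ w.k1 k0))
    by_cases f : (D + β) / (2 * D + β) + σ ((D + β) / (2 * D + β)) = 0
    · refine ⟨_, 0, F.mul _ _ pk (F.mul _ _ (F.inv _ (F.tr0 _ f (div_ne_zero d1 d3))) w.pD), by simp, ?_⟩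
      rw [add_zero]
      field_simp
    · obtain ⟨γ, t, t1, t2, t3, t4⟩ := w.cover F f
      refine ⟨_, γ, F.mul _ _ pk (F.fix t t2 t3), t1, ?_⟩
      rw [t4]
      field_simp
  have g2 : σ γ = -γ := eq_neg_of_add_eq_zero_right g1
  have g3 := (w.Dβ g1).1
  have g4 : D - γ ≠ 0 := by simpa [D1, g2, sub_eq_add_neg] using (map_ne_zero σ).mpr g3
  have s4 := (w.Lβ h g1).smul h F (by simp [k0, a0, g3]) m1
  rw [← m2] at s4
  have s5 := s4 _ s1
  have s6 := w.Bβ' F g1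
  have s7 := w.Bβ' F b1
  have s8 : μ * σ μ * κ ^ 2 = -2 * (D - γ) * (D + γ) := by
    have m3 := congrArg σ m2
    simp only [map_mul, map_neg, map_div₀, map_add, map_ofNat, D1, b3, g2, w.k1, ← sub_eq_add_neg] at m3
    have a1 : σ a ≠ 0 := (map_ne_zero σ).mpr a0
    field_simp at m2 m3
    refine mul_left_cancel₀ (pow_ne_zero 2 D0) ?_
    linear_combination (D + β) * μ * κ * m3 - (2 * D - β) * (D - γ) * m2 -
      (μ * σ μ * κ ^ 2 - (D - γ) * (D + γ)) * b2
  rw [D1] at s6 s7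
  generalize κ ^ 2 / (D + γ) - B a (D - e + γ) = eγ at s5 s6
  generalize B a (D - e + β) = g at s3 s5 s7
  generalize A _ _ = X at s3 s5
  generalize μ * σ μ = N at s5 s8
  have s9 : X * D * (4 * D + β) = -(κ * a * (2 * D + β)) := by
    field_simp at s3
    linear_combination s3 + (κ * a + X * D) * n
  have three : (3 : E) ≠ 0 := fun f => two (by linear_combination c5 - f)
  have s10 : N * eγ * (D + β) = -(e * β) := by
    have X0 : X ≠ 0 := fun f => mul_ne_zero (mul_ne_zero k0 a0) d3 (by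
      rw [f] at s9; linear_combination s9)
    rw [sub_mul, div_mul_cancel₀ _ d1] at s7
    have a1 : (D ^ 2 * g + κ ^ 2 * (D - e + N * eγ)) * (D + β) + κ ^ 2 * D * (a * σ a) =
        κ ^ 2 * D * (4 * D + β) := by
      field_simp at s5
      refine mul_left_cancel₀ X0 ?_
      linear_combination s5 - κ ^ 2 * s9
    refine mul_left_cancel₀ (mul_ne_zero three (pow_ne_zero 2 k0)) ?_
    linear_combination 3 * a1 + s7 + 3 * κ ^ 2 * D * n - (κ ^ 2 - g * (D + β)) * b2 +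
      κ ^ 2 * e * (2 * D + β) * c5
  have t3 : σ (γ / β) = γ / β := by rw [map_div₀, g2, b3, neg_div_neg_eq]
  obtain ⟨s, rfl⟩ : ∃ s, γ = s * β := ⟨γ / β, by field_simp⟩
  rw [mul_div_cancel_right₀ _ b0, hσ] at t3
  have s11 : 2 * s ^ 2 - 4 * s + 1 = 0 := by
    have a1 : 2 * (D - s * β) ^ 2 * (D + β) = β * ((s * β) ^ 2 + D ^ 2) := by
      refine mul_left_cancel₀ (mul_ne_zero (pow_ne_zero 2 k0) e0) ?_
      linear_combination -κ ^ 2 * ((s * β) ^ 2 + D ^ 2) * s10 +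
        eγ * ((s * β) ^ 2 + D ^ 2) * (D + β) * s8 - 2 * (D - s * β) * (D + β) * s6
    refine mul_left_cancel₀ (mul_ne_zero (pow_ne_zero 2 D0) d3) ?_
    linear_combination a1 - (-4 * s * D + 2 * s ^ 2 * D + s ^ 2 * β) * b2
  exact one_ne_zero (α := E) (by
    linear_combination (4 * s + 1) * t3 + (-4 - 15 * s - 13 * s ^ 2 - 7 * s ^ 3 - 12 * s ^ 4) * s11 -
      (-1 + 7 * s ^ 2 + 3 * s ^ 3 - 2 * s ^ 4 + 7 * s ^ 5 - 4 * s ^ 6) * c5)

theorem lin0 {a' : E} (a0 : a' ≠ 0) : Lin σ A κ a' 0 := by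
  obtain rfl := w.e_zero h F
  have k0 := w.k0
  have a1 := w.a0
  by_cases f : PM M (a / a')
  · simpa [a1] using w.lin.smul h F a1 (F.inv _ f)
  obtain ⟨δ, d0, d1⟩ := F.ex
  have u0 := div_ne_zero a1 a0
  have pδ := F.tr0 δ d1 d0
  have key : ∀ ε β t, PM M ε → β + σ β = 0 → σ t = t → t ≠ 0 → D + β = t * (a / a' * ε) →
      β ^ 2 + D * σ D ≠ 0 → Lin σ A κ a' 0 := fun ε β t p1 t1 t2 t3 t4 t5 => by
    have a2 := w.Bβ' F t1
    have d := (w.Dβ t1).1
    have e0 := F.ne _ p1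
    have a3 := (w.Lβ h t1).smul h F (by simp [k0, a1, d])
      (F.mul _ _ (F.mul _ _ (F.fix t t2 t3) p1) (F.inv _ (F.fix κ w.k1 k0)))
    rw [mul_zero, zero_mul, mul_eq_zero, mul_eq_zero, or_iff_left t5, or_iff_left d] at a2
    rwa [a2, mul_zero, t4, show t * ε * κ⁻¹ * (κ * a / (t * (a / a' * ε))) = a' by field_simp] at a3
  obtain ⟨β, t, t1, t2, t3, t4⟩ := w.cover F (u := a / a' * 1) fun e => f (F.tr0 _ (by simpa using e) u0)
  obtain ⟨β', t', s1, s2, s3, s4⟩ := w.cover F (u := a / a' * δ) fun e => f (F.fix _ (by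
    rw [map_mul, eq_neg_of_add_eq_zero_right d1] at e
    exact mul_right_cancel₀ d0 (by linear_combination -e)) u0)
  by_cases g : β ^ 2 + D * σ D = 0
  swap
  · exact key 1 β t (F.fix 1 (map_one σ) one_ne_zero) t1 t2 t3 t4 g
  refine key δ β' t' pδ s1 s2 s3 s4 fun g' => f ?_
  rcases mul_eq_zero.mp (show (β - β') * (β + β') = 0 by linear_combination g - g') with e | e
  · have e1 : t = t' * δ := mul_right_cancel₀ u0 (by linear_combination s4 - t4 + e)
    rw [e1, map_mul, s2, eq_neg_of_add_eq_zero_right d1] at t2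
    exact absurd (by linear_combination -t2) (mul_ne_zero F.two (mul_ne_zero s3 d0))
  · have e1 : a / a' = (a / a') ^ 3 * (t * t' * δ) * (D * (D + σ D))⁻¹ := by
      rw [show D * (D + σ D) = (D + β) * (D + β') by linear_combination g - (D + β) * e, t4, s4]
      field_simp
    rw [e1]
    exact F.mul _ _ (F.mul _ _ (F.cube _ u0) (F.mul _ _ (F.mul _ _ (F.fix t t2 t3) (F.fix t' s2 s3)) pδ))
      (F.inv _ (F.mul _ _ w.pD (F.fix _ (by rw [map_add, F.ss, add_comm]) w.T_ne)))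

end WG

variable [Fintype E] {q : ℕ}

theorem WT.form (h : WT σ M A B) (hq : Fintype.card E = q ^ 2) (hσ : ∀ u, σ u = u ^ q) (ho : Odd q)
    (h3 : 3 ∣ q + 1) (h5 : 5 ≤ q) (hM : 3 * Nat.card M = q ^ 2 - 1) : ∃ κ, κ ≠ 0 ∧ σ κ = κ ∧
      ∀ a b, b + σ b = a * σ a → b ≠ 0 → A a b = κ * a / b ∧ B a b = κ ^ 2 / b := by
  have F := fm_of hq hσ ho h3 h5 hM
  obtain ⟨κ, a, D, e, w⟩ := h.exists_WG F
  refine ⟨κ, w.k0, w.k1, fun a' b hb b0 => ?_⟩
  by_cases a0 : a' = 0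
  · subst a0
    exact ⟨by rw [h.zero b (by simpa using hb) b0]; simp, w.zc b (by simpa using hb) b0⟩
  have l := w.lin0 h F a0
  have := (w.tau h l a0 hb).uniq F (w.lin0 h F (h.A_ne hb a0)) w.k0 (h.A_ne hb a0)
  exact ⟨eq_div_of_mul_eq b0 (by simpa using l b hb), by rw [add_zero] at this; linear_combination -this⟩

end CfsgV3
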