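import Cfsg.Agent.H7.V3Wa0

/-! S3424: the functional equations of the Weyl element, `3 ∣ q + 1`; the subgroup `SL₂(q)`. -/

set_option autoImplicit false

namespace CfsgV3

variable {E : Type} [Field E] {σ : E →+* E} {M : Subgroup Eˣ} {A B : E → E → E}

/-- membership in `M` -/
abbrev PM (M : Subgroup Eˣ) (u : E) : Prop := ∃ μ ∈ M, (μ : E) = u

/-- the first coordinate of the images of the block of `a` -/
def Lin (σ : E →+* E) (A : E → E → E) (κ a e : E) : Prop :=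
  ∀ b, b + σ b = a * σ a → A a b * (b + e) = κ * a

namespace WT

variable (h : WT σ M A B) (F : FM σ (PM M))
include h F

omit F in
theorem eqv' {μ a b : E} (hμ : PM M μ) (e : b + σ b = a * σ a) (b0 : b ≠ 0) :
    σ μ * A (μ * a) (μ * σ μ * b) = A a b ∧ μ * σ μ * B (μ * a) (μ * σ μ * b) = B a b := by
  obtain ⟨μ, m, rfl⟩ := hμ
  exact h.eqv μ m a b e b0

omit h F in
theorem b_ne {a b : E} (e : b + σ b = a * σ a) (a0 : a ≠ 0) : b ≠ 0 := fun f =>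
  mul_ne_zero a0 ((map_ne_zero σ).mpr a0) (by rw [← e, f, map_zero, add_zero])

omit F in
theorem A_ne {a b : E} (e : b + σ b = a * σ a) (a0 : a ≠ 0) : A a b ≠ 0 := fun f => by
  obtain ⟨e1, e2⟩ := h.her a b e (b_ne e a0)
  have := (h.inv a b e (b_ne e a0)).1
  rw [f, h.zero _ (by simpa [f] using e1) e2] at this
  exact a0 this.symm

theorem exists_c : ∃ c, c ≠ 0 ∧ σ c = c ∧ ∀ γ, γ + σ γ = 0 → γ ≠ 0 → B 0 γ = c / γ := by
  obtain ⟨δ, d0, d1⟩ := F.ex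
  obtain ⟨e1, e2⟩ := h.her 0 δ (by simpa using d1) d0
  rw [h.zero δ d1 d0, zero_mul] at e1
  refine ⟨B 0 δ * δ, mul_ne_zero e2 d0, by
    rw [map_mul, eq_neg_of_add_eq_zero_right e1, eq_neg_of_add_eq_zero_right d1]; ring, fun γ g1 g0 => ?_⟩
  obtain ⟨μ, m1, m2⟩ := F.nrm (γ / δ) (by
    rw [map_div₀, eq_neg_of_add_eq_zero_right g1, eq_neg_of_add_eq_zero_right d1, neg_div_neg_eq])
    (div_ne_zero g0 d0)
  have := (h.eqv' m1 (by simpa using d1 : δ + σ δ = 0 * σ 0) d0).2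
  rw [m2, mul_zero, div_mul_cancel₀ _ d0] at this
  rw [← this]
  field_simp

/-- the relations coming from `SL₂(q)` -/
theorem exists_R : ∃ κ c, κ ≠ 0 ∧ σ κ = κ ∧ c ≠ 0 ∧ σ c = c ∧ (∀ γ, γ + σ γ = 0 → γ ≠ 0 → B 0 γ = c / γ) ∧
    ∀ γ, γ + σ γ = 0 → γ ≠ 0 → ∀ u v, v + σ v = u * σ u → u ≠ 0 →
      γ * A u (γ + v) = κ * A (A u v) (c / γ + B u v) ∧
      -γ ^ 2 * (B u (γ + v) - c / γ) = κ ^ 2 * B (A u v) (c / γ + B u v) := by
  obtain ⟨c, c0, c1, hc⟩ := h.exists_c F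
  have tr : ∀ γ, γ + σ γ = 0 → c / γ + σ (c / γ) = 0 := fun γ g1 => by
    rw [map_div₀, c1, eq_neg_of_add_eq_zero_right g1, div_neg, add_neg_cancel]
  have hr : ∀ γ, γ + σ γ = 0 → ∀ u v, v + σ v = u * σ u → γ + v + σ (γ + v) = u * σ u :=
    fun γ g1 u v e => by rw [map_add]; linear_combination e + g1
  have R2 : ∀ γ, γ + σ γ = 0 → γ ≠ 0 → ∃ k, PM M k ∧ ∀ u v, v + σ v = u * σ u → u ≠ 0 →
      σ k * A u (γ + v) = A (A u v) (c / γ + B u v) ∧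
      k * σ k * (B u (γ + v) - c / γ) = B (A u v) (c / γ + B u v) := fun γ g1 g0 => by
    obtain ⟨k, k1, -, k2⟩ := h.fe 0 γ (by simpa using g1) g0
    have g2 : σ γ = -γ := eq_neg_of_add_eq_zero_right g1
    have g3 : -γ + σ (-γ) = 0 := by rw [map_neg]; linear_combination -g1
    refine ⟨k, ⟨k, k1, rfl⟩, fun u v e u0 => ?_⟩
    obtain ⟨-, a1, a2⟩ := k2 u v _ _ e (b_ne e u0) (by simpa using b_ne (hr γ g1 u v e) u0) rfl rfl
    simp only [neg_zero, g2, h.zero _ g3 (neg_ne_zero.mpr g0), h.zero _ g1 g0, hc _ g3 (neg_ne_zero.mpr g0),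
      hc _ g1 g0, map_zero, zero_mul, zero_add, add_zero, sub_zero, map_div₀, c1, map_neg, neg_neg] at a1 a2
    have e2 := hr _ (tr γ g1) _ _ (h.her u v e (b_ne e u0)).1
    obtain ⟨b1, b2⟩ := h.eqv' ⟨k, k1, rfl⟩ e2 (b_ne e2 (h.A_ne e u0))
    exact ⟨by rw [a1, b1], by rw [a2, add_sub_cancel_left, b2]⟩
  choose! k k1 k2 using R2
  obtain ⟨δ, d0, d1⟩ := F.ex
  have two := F.two
  have h1 : (1 / 2 : E) + σ (1 / 2) = 1 * σ 1 := by
    rw [map_div₀, map_one, map_ofNat]; field_simp; norm_num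
  have K1 : ∀ t, σ t = t → t ≠ 0 → σ (k (t * δ)) = t * σ (k δ) := fun t t1 t0 => by
    obtain ⟨μ, m1, rfl⟩ := F.nrm t t1 t0
    have m0 := F.ne μ m1
    have m2 : σ μ ≠ 0 := (map_ne_zero σ).mpr m0
    have e1 : μ * σ μ * (1 / 2) + σ (μ * σ μ * (1 / 2)) = μ * 1 * σ (μ * 1) := by
      rw [map_mul _ _ (1 / 2), t1, ← mul_add, h1]; simp
    have a1 := (k2 _ (by rw [map_mul, t1]; linear_combination μ * σ μ * d1) (mul_ne_zero t0 d0) _ _ e1
      (by simpa using m0)).1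
    have a2 := (k2 δ d1 d0 _ _ h1 one_ne_zero).1
    have e2 := hr δ d1 _ _ h1
    have a3 := (h.eqv' m1 e2 (b_ne e2 one_ne_zero)).1
    obtain ⟨a4, a5⟩ := h.eqv' m1 h1 (b_ne h1 one_ne_zero)
    have e3 := hr _ (tr δ d1) _ _ (h.her _ _ h1 (b_ne h1 one_ne_zero)).1
    have a6 := (h.eqv' (F.inv _ (F.sig _ m1)) e3 (b_ne e3 (h.A_ne h1 one_ne_zero))).1
    rw [← mul_add, show A (μ * 1) (μ * σ μ * (1 / 2)) = (σ μ)⁻¹ * A 1 (1 / 2) by rw [← a4]; field_simp,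
      show c / (μ * σ μ * δ) + B (μ * 1) (μ * σ μ * (1 / 2)) = (σ μ)⁻¹ * σ (σ μ)⁻¹ * (c / δ + B 1 (1 / 2)) by
        rw [← a5, map_inv₀, F.ss]; field_simp] at a1
    rw [← a1, ← a2, ← a3, map_inv₀, F.ss] at a6
    have := h.A_ne e2 one_ne_zero
    rw [← a3] at this
    have := right_ne_zero_of_mul this
    generalize A (μ * 1) (μ * σ μ * (δ + 1 / 2)) = X at a6 this
    field_simp at a6
    linear_combination a6
  have K2 : σ (k (-δ)) = k δ := by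
    have d2 : -δ + σ (-δ) = 0 := by rw [map_neg]; linear_combination -d1
    have e2 := hr δ d1 _ _ h1
    have a1 := (k2 _ d2 (neg_ne_zero.mpr d0) _ _ e2 one_ne_zero).1
    obtain ⟨a2, a3⟩ := k2 δ d1 d0 _ _ h1 one_ne_zero
    have e3 := hr _ (tr δ d1) _ _ (h.her _ _ h1 (b_ne h1 one_ne_zero)).1
    have a0 := h.A_ne h1 one_ne_zero
    have a4 := (h.inv _ _ e3 (b_ne e3 a0)).1
    have e4 := hr _ (tr _ d2) _ _ (h.her _ _ e2 (b_ne e2 one_ne_zero)).1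
    have a5 := (h.eqv' (F.sig _ (k1 δ d1 d0)) e4 (b_ne e4 (h.A_ne e2 one_ne_zero))).1
    rw [F.ss, ← a1, a2, neg_add_cancel_left, show σ (k δ) * k δ * (c / -δ + B 1 (δ + 1 / 2)) =
      k δ * σ (k δ) * (B 1 (δ + 1 / 2) - c / δ) by ring, a3, a4] at a5
    exact (mul_right_cancel₀ a0 a5).symm
  have k0 : σ (k δ) ≠ 0 := (map_ne_zero σ).mpr (F.ne _ (k1 δ d1 d0))
  have K3 : k δ = -σ (k δ) := by
    have := K1 (-1) (by simp) (by simp)
    rwa [neg_one_mul, neg_one_mul, K2] at this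
  have d2 : σ δ = -δ := eq_neg_of_add_eq_zero_right d1
  refine ⟨δ / σ (k δ), c, div_ne_zero d0 k0, by
    rw [map_div₀, F.ss, d2]; nth_rewrite 1 [K3]; rw [neg_div_neg_eq], c0, c1, hc,
    fun γ g1 g0 u v e u0 => ?_⟩
  have t1 : σ (γ / δ) = γ / δ := by rw [map_div₀, eq_neg_of_add_eq_zero_right g1, d2, neg_div_neg_eq]
  have a1 := K1 _ t1 (div_ne_zero g0 d0)
  rw [div_mul_cancel₀ _ d0] at a1
  have a2 : k γ = -(γ / δ * σ (k δ)) := by
    rw [← F.ss (k γ), a1, map_mul, t1, F.ss]; nth_rewrite 1 [K3]; ring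
  obtain ⟨b1, b2⟩ := k2 γ g1 g0 u v e u0
  rw [← b1, ← b2, a1]
  nth_rewrite 1 [a2]
  constructor <;> field_simp

end WT

end CfsgV3
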