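import Cfsg.Agent.H7.V3Wb1

/-! S3424: the functional equations of the Weyl element, `3 ∣ q + 1`; the block of a good point. -/

set_option autoImplicit false

namespace CfsgV3

variable {E : Type} [Field E] {σ : E →+* E} {M : Subgroup Eˣ} {A B : E → E → E}

/-- the data extracted from a good point `(a, D - e)` -/
structure WG (σ : E →+* E) (M : Subgroup Eˣ) (A B : E → E → E) (κ a D e : E) : Prop where
  k0 : κ ≠ 0
  k1 : σ κ = κ
  zc : ∀ γ, γ + σ γ = 0 → γ ≠ 0 → B 0 γ = κ ^ 2 / γ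
  rel : ∀ γ, γ + σ γ = 0 → γ ≠ 0 → ∀ u v, v + σ v = u * σ u → u ≠ 0 →
    γ * A u (γ + v) = κ * A (A u v) (κ ^ 2 / γ + B u v)
  a0 : a ≠ 0
  pD : PM M D
  e1 : σ e = e
  her : D - e + σ (D - e) = a * σ a
  lin : Lin σ A κ a e
  B0 : B a (D - e) = κ ^ 2 / (D * σ D) * (σ D - e)
  Bβ : ∀ β, β + σ β = 0 → β ≠ 0 →
    (κ ^ 2 - B a (D - e + β) * (D + β)) * (β ^ 2 + D * σ D) = -κ ^ 2 * e * (β - D)
  fe : ∃ k, PM M k ∧ σ k * κ * σ D = -D ^ 2 ∧ ∀ u v a₂ b₂, v + σ v = u * σ u → v ≠ 0 →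
    D - e + v + σ a * u ≠ 0 → a₂ = k * (A u v + κ / σ D * a) →
    b₂ = k * σ k * (κ ^ 2 / (D * σ D) * (σ D - e) + B u v + κ / D * σ a * A u v) →
    b₂ + σ b₂ = a₂ * σ a₂ ∧ A (a + u) (D - e + v + σ a * u) = κ / D * a + A a₂ b₂

namespace WT

variable (h : WT σ M A B) (F : FM σ (PM M))
include h F

theorem exists_WG : ∃ κ a D e, WG σ M A B κ a D e := by
  obtain ⟨κ, c, k0, k1, c0, c1, hc, R⟩ := h.exists_R F
  obtain ⟨a, b, ν', n1, e, a0, g1, g2⟩ := h.good
  have pν : PM M ν' := ⟨ν', n1, rfl⟩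
  generalize (ν' : E) = ν at pν g1 g2
  have n0 := F.ne _ pν
  have n2 : σ ν ≠ 0 := (map_ne_zero σ).mpr n0
  have b0 := b_ne e a0
  have m1 : PM M (-1) := F.fix _ (by simp) (by simp)
  have e' : σ b + σ (σ b) = -a * σ (-a) := by rw [F.ss, map_neg]; linear_combination e
  have e'' : σ b + σ (σ b) = a * σ a := by rw [e', map_neg]; ring
  obtain ⟨i1, i2⟩ := h.inv a b e b0
  obtain ⟨i3, i4⟩ := h.eqv' pν e' ((map_ne_zero σ).mpr b0)
  rw [g1, g2, ← mul_neg] at i1 i2
  rw [i1] at i3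
  rw [i2] at i4
  obtain ⟨k', k2, k3, k4⟩ := h.fe a b e b0
  have pk : PM M k' := ⟨k', k2, rfl⟩
  generalize (k' : E) = k at pk k3 k4
  have k5 := F.ne _ pk
  have k6 : σ k ≠ 0 := (map_ne_zero σ).mpr k5
  rw [← i3, ← i4, g1] at k3 k4
  simp only [map_mul, F.ss] at k3 k4
  have k7 : σ k * ν ^ 2 = σ ν := by
    have := (h.eqv' (F.mul _ _ pk (F.sig _ pν)) e' ((map_ne_zero σ).mpr b0)).1
    rw [← i3, map_mul, F.ss, show k * σ ν * -a = -(k * (σ ν * a)) by ring,
      show k * σ ν * (σ k * ν) * σ b = k * σ k * (σ ν * ν * σ b) by ring,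
      eq_neg_of_add_eq_zero_right k3] at this
    exact mul_right_cancel₀ a0 (by linear_combination this)
  have k8 : k * σ ν ^ 2 = ν := by simpa [F.ss] using congrArg σ k7
  have key : ∀ β, β + σ β = 0 → β ≠ 0 → ∃ f g f' g', f = A a (b + β) ∧ g = B a (b + β) ∧
      f' = A a (σ b + c / (β * (ν * σ ν))) ∧ σ ν * f = -(ν * σ ν * a) - ν * f' ∧
      g = ν * σ ν * σ b + g' + ν * σ a * f' ∧ σ ν * β * f = -κ * f' ∧
      -β ^ 2 * (g - c / β) * (ν * σ ν) = κ ^ 2 * g' := fun β t1 t0 => by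
    have t2 : σ β = -β := eq_neg_of_add_eq_zero_right t1
    have e2 : b + β + σ (b + β) = a * σ a := by rw [map_add]; linear_combination e + t1
    have e3 : σ b + c / (β * (ν * σ ν)) + σ (σ b + c / (β * (ν * σ ν))) = a * σ a := by
      simp only [map_add, map_div₀, map_mul, F.ss, c1, t2]
      field_simp
      linear_combination β * ν * σ ν * e
    obtain ⟨-, a1, a2⟩ := k4 0 β _ _ (by simpa using t1) t0 (by simpa using b_ne e2 a0) rfl rfl
    obtain ⟨a3, a4⟩ := h.eqv' (F.mul _ _ m1 (F.mul _ _ pk (F.sig _ pν))) e3 (b_ne e3 a0)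
    obtain ⟨a5, a6⟩ := R β t1 t0 a b e a0
    obtain ⟨a7, a8⟩ := h.eqv' (F.mul _ _ m1 pν) e3 (b_ne e3 a0)
    simp only [h.zero β t1 t0, hc β t1 t0, add_zero, mul_zero, sub_zero, g2, map_neg, map_mul] at a1 a2
    simp only [map_mul, map_neg, map_one, F.ss] at a3 a4 a7 a8
    rw [show -1 * (k * σ ν) * a = k * (0 - σ ν * a) by ring, show -1 * (k * σ ν) * (-1 * (σ k * ν)) *
      (σ b + c / (β * (ν * σ ν))) = k * σ k * (σ ν * ν * σ b + c / β) by field_simp] at a3 a4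
    rw [show -1 * ν * a = -(ν * a) by ring, show -1 * ν * (-1 * σ ν) * (σ b + c / (β * (ν * σ ν))) =
      c / β + ν * σ ν * σ b by field_simp; ring] at a7 a8
    rw [g1, g2, add_comm β] at a5 a6
    generalize A (k * (0 - σ ν * a)) (k * σ k * (σ ν * ν * σ b + c / β)) = X at a1 a2 a3
    generalize B (k * (0 - σ ν * a)) (k * σ k * (σ ν * ν * σ b + c / β)) = Y at a2 a4
    have a9 : σ ν * X = -ν * A a (σ b + c / (β * (ν * σ ν))) := by
      linear_combination -ν * a3 - X * k7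
    have a10 : Y = B a (σ b + c / (β * (ν * σ ν))) := by
      rw [← a4]
      refine mul_left_cancel₀ (mul_ne_zero n0 n2) ?_
      linear_combination -Y * (k * σ ν ^ 2) * k7 - Y * σ ν * k8
    refine ⟨_, _, _, B a (σ b + c / (β * (ν * σ ν))), rfl, rfl, rfl, by linear_combination σ ν * a1 + a9,
      by linear_combination a2 + a10 - σ a * a9, by linear_combination σ ν * a5 - κ * a7,
      by linear_combination ν * σ ν * a6 + κ ^ 2 * a8⟩
  have lin : Lin σ A κ a (-κ / ν - b) := fun b' hb' => by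
    by_cases f : b' = b
    · rw [f, g1]; field_simp; ring
    obtain ⟨f, g, f', g', rfl, -, -, a1, -, a2, -⟩ := key (b' - b) (by
      rw [map_sub]; linear_combination hb' - e) (sub_ne_zero.mpr f)
    rw [add_sub_cancel] at a1 a2
    field_simp
    refine mul_left_cancel₀ n2 ?_
    linear_combination -κ * a1 + ν * a2
  have e1 : σ (-κ / ν - b) = -κ / ν - b := by
    have a1 := lin _ e''
    have a2 := (h.eqv' m1 e'' ((map_ne_zero σ).mpr b0)).1
    simp only [map_neg, map_one, mul_neg, neg_mul, one_mul, neg_neg, ← i3] at a2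
    rw [← a2] at a1
    rw [map_sub, map_div₀, map_neg, k1]
    field_simp at a1 ⊢
    linear_combination a1
  obtain ⟨δ, d0, d1⟩ := F.ex
  have cκ : c = κ ^ 2 := by
    obtain ⟨f, g, f', g', rfl, -, rfl, -, -, a2, -⟩ := key δ d1 d0
    have d2 : σ δ = -δ := eq_neg_of_add_eq_zero_right d1
    have e2 : b + δ + σ (b + δ) = a * σ a := by rw [map_add]; linear_combination e + d1
    have a3 := lin _ e2
    have a4 := lin (σ b + c / (δ * (ν * σ ν))) (by
      simp only [map_add, map_div₀, map_mul, F.ss, c1, d2]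
      field_simp
      linear_combination δ * ν * σ ν * e)
    have a5 := h.A_ne e2 a0
    rw [← e1, map_sub, map_div₀, map_neg, k1] at a4
    generalize A a (b + δ) = f at a2 a3 a5
    generalize A a (σ b + c / (δ * (ν * σ ν))) = f' at a2 a4
    field_simp at a3 a4
    refine mul_left_cancel₀ (mul_ne_zero a5 (mul_ne_zero d0 n2)) ?_
    linear_combination (c - δ * ν * κ) * a2 - κ * a4 + κ * δ * σ ν * a3
  subst cκ
  obtain ⟨D, hD⟩ : ∃ D, D = -κ / ν := ⟨_, rfl⟩
  have pD : PM M D := by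
    rw [hD, div_eq_mul_inv]
    exact F.mul _ _ (F.fix _ (by rw [map_neg, k1]) (neg_ne_zero.mpr k0)) (F.inv _ pν)
  have D0 := F.ne _ pD
  have D1 : σ D ≠ 0 := (map_ne_zero σ).mpr D0
  obtain rfl : ν = -κ / D := by rw [hD]; field_simp
  rw [← hD] at lin e1
  obtain ⟨e0, rfl⟩ : ∃ e0, b = D - e0 := ⟨D - b, by ring⟩
  rw [sub_sub_cancel] at lin e1
  simp only [map_div₀, map_neg, k1, map_sub, e1] at k4 k7 key g2
  refine ⟨κ, a, D, e0, k0, k1, hc, fun γ t1 t0 u v e u0 => (R γ t1 t0 u v e u0).1, a0, pD, e1, e, lin,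
    by rw [g2]; field_simp, fun β t1 t0 => ?_, k, pk, ?_, fun u v a₂ b₂ r1 r2 r3 r4 r5 => ?_⟩
  · obtain ⟨f, g, f', g', rfl, rfl, -, -, a1, a2, a3⟩ := key β t1 t0
    have a4 := lin (D - e0 + β) (by rw [map_add]; linear_combination e + t1)
    rw [map_sub, e1] at e
    generalize A a (D - e0 + β) = f at a2 a4
    generalize B a (D - e0 + β) = g at a1 a3
    field_simp at a1 a2 a3
    linear_combination -(D + β) * (a1 - a3 - κ * σ a * a2) + κ * σ a * β * a4 - κ ^ 2 * β * e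
  · field_simp at k7 ⊢
    linear_combination k7
  · obtain ⟨s1, s2⟩ := h.her u v r1 r2
    refine ⟨?_, ?_⟩
    · rw [map_sub, e1] at e
      simp only [r4, r5, map_mul, map_add, map_sub, map_div₀, map_pow, F.ss, k1, e1]
      field_simp
      linear_combination D * σ D * s1 + κ ^ 2 * e
    · rw [(k4 u v a₂ b₂ r1 r2 r3 (by rw [r4]; ring) (by rw [r5]; field_simp; ring)).2.1]
      ring

end WT

end CfsgV3
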