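import Cfsg.Agent.H7.V3Xb

/-! S3424: the exceptional characters. -/

set_option autoImplicit false
set_option linter.unusedSectionVars false

namespace CfsgV3

open Finset Cfsg CfsgL CfsgH5 CfsgH6 CfsgFT CfsgSZ CfsgB0 Subgroup
open scoped ComplexConjugate

universe u

variable {G : Type u} [Group G] [Finite G] {m n : ℕ}

theorem two_sq {α : Type*} [DecidableEq α] {S : Finset α} {f : α → ℤ} (h0 : ∀ a ∈ S, f a ≠ 0)
    (h : ∑ a ∈ S, f a * f a = 2) : ∃ a b, a ≠ b ∧ S = {a, b} ∧ (f a = 1 ∨ f a = -1) ∧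
      (f b = 1 ∨ f b = -1) := by
  have p : ∀ a ∈ S, 1 ≤ f a * f a := fun a ha => mul_self_pos.mpr (h0 a ha)
  have c := card_nsmul_le_sum S _ 1 p
  rw [h, nsmul_eq_mul, mul_one] at c
  have k : ∀ z w : ℤ, 1 ≤ w → z ≠ 0 → z * z + w = 2 → z = 1 ∨ z = -1 := fun z w h1 h2 h3 => by
    have : -1 ≤ z := by nlinarith
    have : z ≤ 1 := by nlinarith
    omega
  obtain e | e | e : S.card = 0 ∨ S.card = 1 ∨ S.card = 2 := by omega
  · simp [card_eq_zero.mp e] at h
  · obtain ⟨a, rfl⟩ := card_eq_one.mp e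
    rw [sum_singleton] at h
    have : -1 ≤ f a := by nlinarith
    have : f a ≤ 1 := by nlinarith
    generalize f a = z at *
    interval_cases z <;> omega
  · obtain ⟨a, b, ne, rfl⟩ := card_eq_two.mp e
    rw [sum_pair ne] at h
    exact ⟨a, b, ne, rfl, k _ _ (p b (by simp)) (h0 a (by simp)) h,
      k _ _ (p a (by simp)) (h0 b (by simp)) (by linarith)⟩

namespace CC

variable (h : CC G m n)
include h

/-- the exceptional characters `E` -/
theorem exc [NeZero m] {x : G} (hx : orderOf x = m) (hp : x ^ m = 1) :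
    ∃ (E : Finset (IrrCharacter G)) (θ : IrrCharacter G) (c ε : ℤ), (ε = 1 ∨ ε = -1) ∧ θ ∈ E ∧
      triv G ∉ E ∧ 3 * E.card + 1 = m ∧ (∀ χ ∈ E, ∀ g, ¬ TT m g → χ.1 g = θ.1 g) ∧
      (∀ χ, χ ∉ E → ∀ j, j ≠ 0 → Dm m x j χ = Dm m x 1 χ) ∧ Dm m x 1 θ = c - ε ∧
      Dm m x (-1) θ = c ∧ (∀ χ ∈ E, χ ≠ θ → Dm m x 1 χ = c) ∧
      ∑ χ ∈ E, χ.1 x = ∑ χ ∈ E, Dm m x 1 χ := by
  classical
  have := Fintype.ofFinite G
  have o1 := h.one_ne hx hp
  let J := {j : ZMod m // j ≠ 0}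
  let s : Setoid J := ⟨fun j l => ∃ a : Ux hp, j.1 = (a.1 : ZMod m) * l.1, fun _ => ⟨1, by simp⟩,
    fun ⟨a, e⟩ => ⟨a⁻¹, by simp [e]⟩, fun ⟨a, e⟩ ⟨b, f⟩ => ⟨a * b, by simp [e, f, mul_assoc]⟩⟩
  have sD : ∀ j l : J, ∑ χ : IrrCharacter G, Dm m x j χ * Dm m x l χ =
      3 + if (⟦l⟧ : Quotient s) = ⟦j⟧ then 1 else 0 := fun j l => by
    rw [h.sum_D hx hp j.2 l.2]
    congr 2
    rw [eq_comm (a := ⟦l⟧), Quotient.eq]; rfl
  have hD : ∀ j : J, Dm m x (⟦j⟧ : Quotient s).out.1 = Dm m x j := fun j => by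
    have h1 : ∑ χ : IrrCharacter G, (Dm m x j χ - Dm m x (⟦j⟧ : Quotient s).out.1 χ) ^ 2 = 0 := by
      have : ∀ a b : ℤ, (a - b) ^ 2 = a * a + b * b - 2 * (a * b) := fun a b => by ring
      simp only [this, sum_sub_distrib, sum_add_distrib, ← mul_sum, sD, Quotient.out_eq, if_true]
      ring
    rw [sum_eq_zero_iff_of_nonneg fun _ _ => sq_nonneg _] at h1
    ext χ
    exact (sub_eq_zero.mp (pow_eq_zero_iff two_ne_zero |>.mp (h1 χ (mem_univ _)))).symm
  let i₀ : Quotient s := ⟦⟨1, o1⟩⟧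
  let i₁ : Quotient s := ⟦⟨-1, neg_ne_zero.mpr o1⟩⟧
  have h01 : i₁ ≠ i₀ := fun e => by
    obtain ⟨a, ha⟩ := Quotient.exact e
    exact h.neg_ne hx hp a (by simpa using ha.symm)
  have hD0 : Dm m x i₀.out.1 = Dm m x 1 := hD _
  let v : Quotient s → IrrCharacter G → ℤ := fun q χ => Dm m x i₀.out.1 χ - Dm m x q.out.1 χ
  let θ : Quotient s → G → ℂ := fun q => ∑ χ : IrrCharacter G, (v q χ : ℂ) • χ.1
  have hv : ∀ q χ, classInner (θ q) χ.1 = v q χ := fun q χ => inner_sum_irr_smul _ χ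
  have hg : ∀ q, IsGeneralizedCharacter G (θ q) := fun q =>
    gen_sum _ _ fun χ _ => gen_int_smul _ (gen_of_irr χ.2)
  have hs : ∀ q q' : Quotient s, ∑ χ, Dm m x q.out.1 χ * Dm m x q'.out.1 χ =
      3 + if q' = q then 1 else 0 := fun q q' => by
    simpa only [Quotient.out_eq] using sD q.out q'.out
  have hin : ∀ q q', classInner (θ q) (θ q') = ((1 - (if q' = i₀ then 1 else 0) -
      (if i₀ = q then 1 else 0) + if q' = q then 1 else 0 : ℤ) : ℂ) := fun q q' => by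
    rw [inner_eq_sum_irr (gen_class (hg q))]
    simp only [hv, map_intCast, ← Int.cast_mul, ← Int.cast_sum, v, sub_mul, mul_sub,
      sum_sub_distrib, hs, if_true]
    congr 1
    ring
  have hr : ∀ q g, ¬ TT m g → θ q g = 0 := fun q g hg => by
    simp only [θ, v, Finset.sum_apply, Pi.smul_apply, smul_eq_mul, Int.cast_sub, sub_mul,
      sum_sub_distrib, h.sum_reg hx hp _ hg, sub_zero]
  obtain ⟨ε, X, hε, hX, hθ⟩ := coherent_equal_degree i₀ i₁ h01 θ hg (by simp [θ, v])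
    (fun q => hr q 1 not_TT_one) (fun q hq => by simp [hin, hq, hq.symm])
    fun q q' h1 h2 h3 => by simp [hin, h1.symm, h2, h3.symm]
  have ε2 : ε * ε = 1 := by rcases hε with rfl | rfl <;> rfl
  have hv' : ∀ q χ, Dm m x q.out.1 χ = Dm m x 1 χ -
      ε * ((if X q = χ then 1 else 0) - if X i₀ = χ then 1 else 0) := fun q χ => by
    have e := hv q χ
    rw [hθ, CfsgL.inner_smul_left, CfsgL.inner_sub_left, inner_Irr, inner_Irr] at e
    have e' : v q χ = ε * ((if X q = χ then 1 else 0) - if X i₀ = χ then 1 else 0) := by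
      rw [← Int.cast_inj (α := ℂ), ← e]
      push_cast
      rfl
    simp only [v, hD0] at e'
    omega
  have hm : ∀ q, q ≠ i₀ → Dm m x 1 (X q) = Dm m x 1 (X i₀) + ε := fun q hq => by
    have e := hs i₀ q
    have e0 := hs i₀ i₀
    simp only [hv' q, hD0, mul_sub, sum_sub_distrib, mul_ite, mul_one, mul_zero, sum_ite_eq,
      mem_univ, if_true, if_neg hq] at e e0
    linear_combination ε * e0 - ε * e - (Dm m x 1 (X q) - Dm m x 1 (X i₀)) * ε2
  obtain ⟨c, hc⟩ : ∃ c, c = Dm m x 1 (X i₀) + ε := ⟨_, rfl⟩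
  have hX' : ∀ q (j : J), Dm m x j (X q) = c - if (⟦j⟧ : Quotient s) = q then ε else 0 :=
    fun q j => by
      rw [← hD, hv']
      simp only [hX.eq_iff]
      by_cases e : i₀ = q
      · subst e
        rw [if_pos rfl, hc]
        split_ifs <;> ring
      · rw [hm q (Ne.symm e), if_neg e, hc]
        split_ifs <;> ring
  have ne : ∀ χ, χ ∉ univ.image X → ∀ j, j ≠ 0 → Dm m x j χ = Dm m x 1 χ := fun χ hχ j hj => by
    have : ∀ q, X q ≠ χ := fun q e => hχ (mem_image.mpr ⟨q, mem_univ _, e⟩)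
    simp [← hD ⟨j, hj⟩, hv', this]
  have sm : ∀ j, j ≠ 0 → ∑ q, Dm m x j (X q) = Fintype.card (Quotient s) * c - ε := fun j hj => by
    simp [hX' _ ⟨j, hj⟩, sum_sub_distrib]
  refine ⟨univ.image X, X i₀, c, ε, hε, mem_image_of_mem _ (mem_univ _), fun e => ?_, ?_,
    fun χ hχ g hg' => ?_, ne, by omega, (hX' i₀ ⟨-1, neg_ne_zero.mpr o1⟩).trans (by rw [if_neg h01, sub_zero]),
    fun χ hχ f => ?_, ?_⟩
  · obtain ⟨q, -, hq⟩ := mem_image.mp e
    obtain ⟨q', hq'⟩ : ∃ q', q' ≠ q := by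
      by_cases e : q = i₀
      exacts [⟨i₁, e ▸ h01⟩, ⟨i₀, Ne.symm e⟩]
    have e1 := hX' q q.out
    have e2 := hX' q q'.out
    rw [hq, Dm_triv hp q.out.2, Quotient.out_eq, if_pos rfl] at e1
    rw [hq, Dm_triv hp q'.out.2, Quotient.out_eq, if_neg hq'] at e2
    omega
  · have e := card_eq_sum_card_fiberwise (f := fun j : J => (⟦j⟧ : Quotient s)) (s := univ) (t := univ)
      fun _ _ => mem_univ _
    rw [sum_congr rfl fun q _ => (?_ : _ = 3), sum_const, card_univ, card_univ, smul_eq_mul,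
      Fintype.card_subtype_compl, ZMod.card, Fintype.card_subtype_eq] at e
    · rw [card_image_of_injective _ hX, card_univ]
      have := h.big
      omega
    rw [← h.card_U hx hp, Nat.card_eq_fintype_card, ← card_univ, eq_comm]
    refine card_bij (fun a _ => ⟨(a.1 : ZMod m) * q.out.1, by simpa using q.out.2⟩)
      (fun a _ => mem_filter.mpr ⟨mem_univ _, (Quotient.sound (s := s) ⟨a, rfl⟩).trans q.out_eq⟩)
      (fun a _ b _ e => h.U_free hx hp q.out.2 (congrArg Subtype.val e)) fun j hj => ?_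
    obtain ⟨a, ha⟩ := Quotient.exact ((mem_filter.mp hj).2.trans q.out_eq.symm)
    exact ⟨a, mem_univ _, Subtype.ext ha.symm⟩
  · obtain ⟨q, -, rfl⟩ := mem_image.mp hχ
    have e := hr q g hg'
    rw [hθ] at e
    have e0 : (ε : ℂ) ≠ 0 := by rcases hε with rfl | rfl <;> simp
    simpa [sub_eq_zero, e0] using e
  · obtain ⟨q, -, rfl⟩ := mem_image.mp hχ
    rw [hm q fun e => f (by rw [e]), hc]
  · rw [sum_image hX.injOn, sum_image hX.injOn, sm 1 o1, ← (Dm_const hp (F := fun j => ∑ q, Dm m x j (X q))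
      (by simp [Dm]) sm o1).1]
    nth_rewrite 1 [← pw_one hp]
    simp only [Dm_val hp _ o1, sum_neg_distrib, Int.cast_sum, sum_mul]
    rw [sum_comm]

set_option maxHeartbeats 800000 in
theorem exists_XD : ∃ χ ψ θ ε₁ ε₂ δ, XD G m χ ψ θ ε₁ ε₂ δ := by
  classical
  have := Fintype.ofFinite G
  have b := h.big
  have : NeZero m := ⟨by omega⟩
  obtain ⟨x, hx⟩ := h.exm
  have hp : x ^ m = 1 := hx ▸ pow_orderOf_eq_one x
  have o1 := h.one_ne hx hp
  obtain ⟨E, θ, c, ε, hε, m0, t0, cE, ag, ne, d1, d2, d3, sx⟩ := h.exc hx hp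
  let S := univ.filter fun χ => χ ≠ triv G ∧ χ ∉ E ∧ Dm m x 1 χ ≠ 0
  have spl : ∀ {R : Type} [CommRing R] (F : IrrCharacter G → R), ∑ χ, Dm m x 1 χ * F χ =
      F (triv G) + ∑ χ ∈ S, Dm m x 1 χ * F χ + ∑ χ ∈ E, Dm m x 1 χ * F χ := fun F => by
    rw [← sum_subset (subset_univ (insert (triv G) (S ∪ E))) (by
      intro χ _ hχ
      simp only [S, mem_insert, mem_union, mem_filter, mem_univ, true_and, not_or, not_and,
        not_not] at hχ
      rw [hχ.2.1 hχ.1 hχ.2.2, Int.cast_zero, zero_mul]), sum_insert (by simp [S, t0]), sum_union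
      (disjoint_left.mpr fun χ hχ => (mem_filter.mp hχ).2.2.1), Dm_triv hp o1, Int.cast_one, one_mul,
      add_assoc]
  obtain ⟨t, ht⟩ : ∃ t : ℕ, E.card = t + 1 := ⟨E.card - 1, by omega⟩
  have sE : ∀ F : ℤ → ℤ, ∑ χ ∈ E, F (Dm m x 1 χ) = F (c - ε) + t * F c := fun F => by
    rw [← add_sum_erase _ _ m0, d1, sum_congr rfl fun χ hχ => by
      rw [d3 χ (mem_of_mem_erase hχ) (ne_of_mem_erase hχ)], sum_const, card_erase_of_mem m0, ht]
    simp
  have spl2 : ∀ F : IrrCharacter G → ℂ, (∀ χ ∈ E, F χ = F θ) → ∑ χ, Dm m x 1 χ * F χ =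
      F (triv G) + ∑ χ ∈ S, Dm m x 1 χ * F χ + (c - ε + t * c : ℤ) * F θ := fun F hF => by
    rw [spl, sum_congr (s₁ := E) rfl fun χ hχ => by rw [hF χ hχ], ← sum_mul E, ← Int.cast_sum,
      sE fun z => z]
  have nrm := h.sum_D hx hp o1 o1
  rw [if_pos ⟨1, by simp⟩] at nrm
  have n2 := spl (Dm m x 1)
  simp only [Int.cast_id] at n2
  rw [nrm, Dm_triv hp o1, sE fun z => z * z] at n2
  have p2 : 0 ≤ ∑ χ ∈ S, Dm m x 1 χ * Dm m x 1 χ := sum_nonneg fun _ _ => mul_self_nonneg _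
  have od := h.m_odd
  have key : ∑ χ ∈ S, Dm m x 1 χ * Dm m x 1 χ = 2 ∧ (c - ε + t * c = 1 ∨ c - ε + t * c = -1) := by
    have t1 : (1 : ℤ) ≤ t := by omega
    have c1 : c = 0 ∨ c = ε := by
      have a1 : c * c ≤ t * (c * c) := le_mul_of_one_le_left (mul_self_nonneg c) t1
      have a2 : -1 ≤ c := by nlinarith
      have a3 : c ≤ 1 := by nlinarith
      rcases hε with rfl | rfl <;> interval_cases c <;> omega
    rcases c1 with rfl | rfl
    · rcases hε with rfl | rfl <;> omega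
    have cc : c * c = 1 := by rcases hε with rfl | rfl <;> rfl
    rw [sub_self, cc] at n2
    obtain rfl | rfl | rfl : t = 1 ∨ t = 2 ∨ t = 3 := by omega
    · omega
    · exact absurd od (by rw [← cE, ht]; decide)
    · exfalso
      have s0 : S = ∅ := eq_empty_of_forall_notMem fun χ hχ => (mem_filter.mp hχ).2.2.2
        (mul_self_eq_zero.mp ((sum_eq_zero_iff_of_nonneg fun _ _ => mul_self_nonneg _).mp
          (by omega) χ hχ))
      have := spl2 (fun χ => χ.1 1) fun χ hχ => ag χ hχ 1 not_TT_one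
      rw [h.sum_reg hx hp 1 not_TT_one, s0, sum_empty, triv_apply, dg_cast] at this
      have : (0 : ℤ) = 1 + 0 + (c - c + (3 : ℕ) * c) * dg θ := by exact_mod_cast this
      rcases hε with rfl | rfl <;> omega
  obtain ⟨χ, ψ', ne', hS, e1, e2⟩ := two_sq (fun χ hχ => (mem_filter.mp hχ).2.2.2) key.1
  have mχ := (mem_filter.mp (hS.ge (mem_insert_self χ {ψ'}))).2
  have mψ := (mem_filter.mp (hS.ge (mem_insert_of_mem (mem_singleton_self ψ')))).2
  have k2 := key.2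
  generalize c - ε + t * c = δ at spl2 k2
  simp only [hS, sum_pair ne'] at spl2
  have cst := fun φ (hφ : φ ∉ E) {i : ZMod m} (hi : i ≠ 0) =>
    Dm_const hp (F := fun j => Dm m x j φ) (by simp [Dm]) (ne φ hφ) hi
  have dg' : ∀ φ, φ ∉ E → (m : ℤ) ∣ dg φ - Dm m x 1 φ := fun φ hφ => by
    rw [Dm_deg hp, (cst φ hφ o1).2]
    exact ⟨Mu m φ.1 x 0 - Dm m x 1 φ, by ring⟩
  have cg : ∀ φ, φ ∉ E → (Dm m x 1 φ = 1 ∨ Dm m x 1 φ = -1) → (m : ℤ) ∣ Dm m x 1 φ * dg φ - 1 :=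
    fun φ hφ e => by
      have := (dg' φ hφ).mul_left (Dm m x 1 φ)
      rcases e with e | e <;> rw [e] at this ⊢ <;> exact this.trans (dvd_of_eq (by ring))
  refine ⟨χ, ψ', θ, _, _, -δ, ⟨e1, e2, by omega⟩, ⟨mχ.1, mψ.1, ne'⟩, fun y hy => ?_, fun g hg => ?_,
    ⟨cg χ mχ.2.1 e1, cg ψ' mψ.2.1 e2⟩, fun φ hφ => ?_, fun g g' hg hg' => ?_⟩
  · obtain ⟨g, hg⟩ := h.exists_conj hx hy
    obtain ⟨i, hi⟩ := (h.mem_zp hx hp).mp hg
    have i0 : i ≠ 0 := fun e => hy.1 (by simpa [e] using hi.symm)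
    have cl : ∀ φ : IrrCharacter G, φ.1 y = φ.1 (x ^ i.val) := fun φ => by
      rw [hi, (gen_class (gen_of_irr φ.2)) y g]
    refine ⟨by rw [cl, Dm_val hp _ i0, (cst χ mχ.2.1 i0).1],
      by rw [cl, Dm_val hp _ i0, (cst ψ' mψ.2.1 i0).1], fun e => ?_⟩
    rw [cl] at e
    have a1 := Dm_ker hp θ (j := 1) (by simpa using i0) e
    have a2 := Dm_ker hp θ (j := -1) (by simpa using i0) e
    simp only [Dm, a1, a2] at d1 d2
    omega
  · have := spl2 (fun φ => φ.1 g) fun φ hφ => ag φ hφ g hg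
    rw [h.sum_reg hx hp 1 hg, triv_apply] at this
    push_cast
    linear_combination -this
  · by_cases e : φ ∈ E
    · exact .inr (.inr (.inr (dg_eq ((ag φ e 1 not_TT_one).trans (dg_cast θ)))))
    by_cases f : φ = triv G
    · exact .inl f
    have : φ ∈ S := mem_filter.mpr ⟨mem_univ _, f, e, fun f' => hφ (by
      simpa [f', Int.natCast_dvd_natCast] using dg' φ e)⟩
    rw [hS, mem_insert, mem_singleton] at this
    exact this.elim (fun f => .inr (.inl f)) fun f => .inr (.inr (.inl f))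
  · have e := class_mult_formula g⁻¹ g'⁻¹ x
    refine ⟨Nat.card {p : G × G // IsConj g⁻¹ p.1 ∧ IsConj g'⁻¹ p.2 ∧ p.1 * p.2 = x},
      fun a1 a2 => ?_, ?_⟩
    · refine Nat.card_eq_zero.mpr (.inl ⟨fun ⟨⟨a, a'⟩, b1, b2, b3⟩ => ?_⟩)
      have k : ∀ {g a : G}, g * g = 1 → IsConj g⁻¹ a → a⁻¹ = a := fun {g a} e c => by
        obtain ⟨z, rfl⟩ := isConj_iff.mp c
        rw [inv_eq_of_mul_eq_one_left e, mul_inv_rev, mul_inv_rev, inv_inv,
          inv_eq_of_mul_eq_one_left e, mul_assoc]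
      obtain ⟨u, hu⟩ := (h.isConj_pw hx hp o1 (-1)).mp (by
        rw [pw_neg hp, pw_one hp, ← b3, mul_inv_rev, k a1 b1, k a2 b2]
        exact isConj_iff.mpr ⟨a, by simp [mul_assoc]⟩)
      exact h.neg_ne hx hp u (by simpa using hu.symm)
    have c0 : (Nat.card (C1 g) : ℂ) ≠ 0 := Nat.cast_ne_zero.mpr Nat.card_pos.ne'
    have c1 : (Nat.card (C1 g') : ℂ) ≠ 0 := Nat.cast_ne_zero.mpr Nat.card_pos.ne'
    have ci : ∀ g : G, centralizer {g⁻¹} = C1 g := fun g => by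
      ext z
      rw [mem_centralizer_singleton_iff, mem_C1]
      exact Commute.inv_right_iff
    let F : IrrCharacter G → ℂ := fun φ => φ.1 g * φ.1 g' / dg φ
    have hF : ∀ φ ∈ E, F φ = F θ := fun φ hφ => by
      simp only [F, ag φ hφ g hg, ag φ hφ g' hg', dg_eq ((ag φ hφ 1 not_TT_one).trans (dg_cast θ))]
    have e3 : ∑ φ : IrrCharacter G, φ.1 x * F φ = ∑ φ, Dm m x 1 φ * F φ := by
      have a1 : ∑ φ ∈ E, φ.1 x * F φ = (∑ φ ∈ E, φ.1 x) * F θ := by
        rw [sum_mul]; exact sum_congr rfl fun φ hφ => by rw [hF φ hφ]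
      have a2 : ∑ φ ∈ E, Dm m x 1 φ * F φ = (∑ φ ∈ E, (Dm m x 1 φ : ℂ)) * F θ := by
        rw [sum_mul]; exact sum_congr rfl fun φ hφ => by rw [hF φ hφ]
      rw [← sum_add_sum_compl E, ← sum_add_sum_compl E, a1, a2, sx, Int.cast_sum]
      congr 1
      refine sum_congr rfl fun φ hφ => ?_
      rw [← (cst φ (mem_compl.mp hφ) o1).1, ← Dm_val hp _ o1, pw_one hp]
    simp only [irr_conj_eq, inv_inv, ci, dg_cast] at e
    rw [sum_congr rfl fun φ _ => (by simp only [F]; ring : _ = φ.1 x * F φ), e3, spl2 F hF] at e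
    simp only [F, triv_apply, dg_triv] at e
    push_cast
    rw [e]
    field_simp
    ring

end CC

end CfsgV3
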