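import Cfsg.Agent.H7.V3Par
import Cfsg.Agent.H2.TICount

/-! S3424: a cyclic Hall subgroup containing the centralisers of its elements. -/

set_option autoImplicit false
set_option linter.unusedSectionVars false

namespace CfsgV3

open Cfsg CfsgL CfsgH5 CfsgH6 CfsgFT Subgroup

universe u

variable {G : Type u} [Group G] [Finite G] {m n : ℕ}

theorem TT.conj {y y' : G} (h : TT m y) (c : IsConj y y') : TT m y' := by
  obtain ⟨g, rfl⟩ := isConj_iff.mp c
  exact ⟨by simpa using h.1, by rw [conj_pow, h.2]; simp⟩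

theorem TT.inv {y : G} (h : TT m y) : TT m y⁻¹ := ⟨inv_ne_one.mpr h.1, by rw [inv_pow, h.2, inv_one]⟩

theorem TT_inv {y : G} : TT m y⁻¹ ↔ TT m y := ⟨fun h => inv_inv y ▸ h.inv, TT.inv⟩

theorem not_TT_one : ¬ TT m (1 : G) := fun h => h.1 rfl

theorem TT.of_mem {x y : G} (hx : orderOf x = m) (hy : y ∈ zpowers x) (h1 : y ≠ 1) : TT m y :=
  ⟨h1, orderOf_dvd_iff_pow_eq_one.mp (hx ▸ orderOf_dvd_of_mem_zpowers hy)⟩

theorem TT.not_coprime {y : G} (h : TT m y) : ¬ (orderOf y).Coprime m := fun c =>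
  h.1 (orderOf_eq_one_iff.mp (Nat.Coprime.eq_one_of_dvd c (orderOf_dvd_of_pow_eq_one h.2)))

theorem TT.exists_prime {y : G} (h : TT m y) : ∃ (p k : ℕ), p.Prime ∧ p ∣ m ∧ orderOf (y ^ k) = p := by
  obtain ⟨p, hp, hd⟩ := Nat.exists_prime_and_dvd (mt orderOf_eq_one_iff.mp h.1)
  exact ⟨p, orderOf y / p, hp, hd.trans (orderOf_dvd_of_pow_eq_one h.2),
    orderOf_pow_orderOf_div (orderOf_pos y).ne' hd⟩

namespace CC

variable (h : CC G m n)
include h

theorem cop' {g : G} (e : ¬ TT m g) : (orderOf g).Coprime m := by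
  by_cases f : g = 1
  · simp [f]
  · exact (h.cc g).resolve_right fun f' => e ⟨f, f'⟩

theorem m_odd : Odd m :=
  Nat.odd_iff.mpr (Nat.odd_iff.mp (Nat.coprime_two_right.mp (h.cop.coprime_dvd_right h.even)))

theorem tt_of_prime {p : ℕ} (hp : p.Prime) (hm : p ∣ m) {g : G} (e : p ∣ orderOf g) : TT m g := by
  by_contra f
  exact hp.ne_one (Nat.eq_one_of_dvd_coprimes (h.cop' f) e hm)

theorem cen_pow {y g : G} (hy : TT m y) (c : Commute g y) : g ^ m = 1 := by
  rcases h.cc (g * y) with e | e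
  · rcases h.cc g with f | f
    · refine absurd ?_ hy.not_coprime
      have : y ^ (orderOf g * orderOf (g * y)) = 1 := by
        have := c.mul_pow (orderOf g * orderOf (g * y))
        rwa [mul_comm, pow_mul, pow_orderOf_eq_one, one_pow, mul_comm, pow_mul, pow_orderOf_eq_one,
          one_pow, one_mul, eq_comm] at this
      exact (f.mul_left e).coprime_dvd_left (orderOf_dvd_of_pow_eq_one this)
    · exact f
  · rwa [c.mul_pow, hy.2, mul_one] at e

theorem cp {g : G} (h1 : g ≠ 1) (e : ¬ TT m g) : (Nat.card (C1 g)).Coprime m := by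
  refine Nat.coprime_of_dvd fun p hp h2 h3 => ?_
  have := Fact.mk hp
  obtain ⟨y, hy⟩ := exists_prime_orderOf_dvd_card' p h2
  rw [← orderOf_coe] at hy
  exact e ⟨h1, h.cen_pow (h.tt_of_prime hp h3 hy.symm.dvd) (mem_C1.mp y.2).symm⟩

theorem card_C1 {y : G} (hy : TT m y) : Nat.card (C1 y) ∣ m := by
  refine Nat.Coprime.dvd_of_dvd_mul_right (Nat.coprime_of_dvd fun p hp h2 h3 => ?_)
    (h.card ▸ card_subgroup_dvd_card _)
  have := Fact.mk hp
  obtain ⟨g, hg⟩ := exists_prime_orderOf_dvd_card' p h2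
  rw [← orderOf_coe] at hg
  exact hp.ne_one (Nat.eq_one_of_dvd_coprimes h.cop
    (hg ▸ orderOf_dvd_of_pow_eq_one (h.cen_pow hy (mem_C1.mp g.2))) h3)

variable {x : G} (hx : orderOf x = m)
include hx

theorem C1_eq {y : G} (hy : y ∈ zpowers x) (h1 : y ≠ 1) : C1 y = zpowers x :=
  (eq_of_le_of_card_ge (fun g hg => mem_C1.mpr ((ab_zpowers x).comm hg hy)) (by
    rw [Nat.card_zpowers, hx]
    exact Nat.le_of_dvd (by have := h.big; omega) (h.card_C1 (TT.of_mem hx hy h1)))).symm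

theorem x_ne : x ≠ 1 := fun e => by
  have := h.big
  rw [e, orderOf_one] at hx
  omega

theorem pgroup_le {p : ℕ} (hp : p.Prime) {P : Subgroup G} (hP : IsPGroup p P) {y : G} (h0 : y ∈ P)
    (hy : y ∈ zpowers x) (h1 : y ≠ 1) : P ≤ zpowers x := by
  have := Fact.mk hp
  have : Nontrivial P := ⟨⟨y, h0⟩, 1, fun e => h1 (congrArg Subtype.val e)⟩
  have := hP.center_nontrivial
  obtain ⟨⟨z, hz⟩, z1⟩ := exists_ne (1 : center P)
  have z2 : z.1 ≠ 1 := fun e => z1 (Subtype.ext (Subtype.ext e))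
  have z3 : ∀ g ∈ P, g ∈ C1 z.1 := fun g hg =>
    mem_C1.mpr (congrArg Subtype.val (mem_center_iff.mp hz ⟨g, hg⟩))
  rw [← h.C1_eq hx (h.C1_eq hx hy h1 ▸ mem_C1_comm.mp (z3 y h0)) z2]
  exact z3

theorem exists_conj {y : G} (hy : TT m y) : ∃ g : G, g * y * g⁻¹ ∈ zpowers x := by
  obtain ⟨p, k, hp, h1, h2⟩ := hy.exists_prime
  have := Fact.mk hp
  have h3 : orderOf (x ^ (orderOf x / p)) = p := orderOf_pow_orderOf_div (orderOf_pos x).ne' (hx ▸ h1)
  have pg : ∀ z : G, orderOf z = p → IsPGroup p (zpowers z) := fun z e =>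
    IsPGroup.of_card (n := 1) (by rw [Nat.card_zpowers, e, pow_one])
  have ne : ∀ z : G, orderOf z = p → z ≠ 1 := fun z e f => hp.ne_one (by rw [← e, f, orderOf_one])
  obtain ⟨P, p1, p2⟩ := exists_sylIn_ge le_top (pg _ h3)
  obtain ⟨g, -, hg⟩ := p2.exists_le_cj le_top (pg _ h2)
  have h4 := h.pgroup_le hx hp p2.isPGroup (p1 (mem_zpowers _)) (pow_mem (mem_zpowers x) _) (ne _ h3)
    (mem_cj.mp (hg (mem_zpowers _)))
  refine ⟨g⁻¹, ?_⟩
  rw [← h.C1_eq hx h4 (fun f => ne _ h2 (by rw [← mul_inv_cancel_right (y ^ k) g⁻¹, inv_inv,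
    ← mul_inv_cancel_left g (y ^ k * g⁻¹ * g)]; simpa [mul_assoc] using congrArg (g * · * g⁻¹) f)), mem_C1, inv_inv]
  simpa [mul_assoc] using congrArg (g⁻¹ * · * g) (Commute.self_pow y k).eq

theorem mem_N {g y : G} (hy : y ∈ zpowers x) (h1 : y ≠ 1) (e : g * y * g⁻¹ ∈ zpowers x) :
    g ∈ N (zpowers x) := by
  rw [CfsgFT.mem_N, ← h.C1_eq hx hy h1, cj_C1, h.C1_eq hx e (by simpa using h1), h.C1_eq hx hy h1]

theorem conjSet_eq : CfsgH2.conjSet (zpowers x) = {g : G | TT m g} := by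
  ext y
  refine ⟨fun ⟨h1, g, hg⟩ => ?_, fun e => ⟨e.1, h.exists_conj hx e⟩⟩
  exact (TT.of_mem hx hg (by simpa using h1)).conj (isConj_iff.mpr ⟨g, rfl⟩).symm

theorem card_N_le : Nat.card (N (zpowers x)) ≤ m * (m - 1) := by
  have c0 : Nat.card (zpowers x) = m := by rw [Nat.card_zpowers, hx]
  rw [← card_mul_relIndex (le_normalizer (H := zpowers x)), c0]
  refine Nat.mul_le_mul_left m ?_
  conv_lhs => rw [← h.C1_eq hx (mem_zpowers x) (h.x_ne hx)]
  rw [h.C1_eq hx (mem_zpowers x) (h.x_ne hx)]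
  nth_rewrite 1 [← h.C1_eq hx (mem_zpowers x) (h.x_ne hx)]
  rw [CfsgH8.Mat.relIndex_C1_eq, ← c0]
  refine (Set.ncard_le_ncard (s := {b : G | ∃ g ∈ N (zpowers x), g * x * g⁻¹ = b})
    (t := (zpowers x \ {1} : Set G)) ?_).trans
    (Set.ncard_diff_singleton_of_mem (zpowers x).one_mem).le
  rintro _ ⟨g, hg, rfl⟩
  exact ⟨conj_mem_of_mem_N hg (mem_zpowers x), by simpa using h.x_ne hx⟩

theorem card_N : Nat.card (N (zpowers x)) = m * 3 ∧ 3 * {g : G | TT m g}.ncard = n * (m - 1) := by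
  have b := h.big
  have c0 : Nat.card (zpowers x) = m := by rw [Nat.card_zpowers, hx]
  have e1 := CfsgH2.card_conjSet_mul (zpowers x) fun g y hy h1 e => h.mem_N hx hy h1 e
  obtain ⟨e, he⟩ := c0 ▸ card_dvd_of_le (le_normalizer (H := zpowers x))
  obtain ⟨f, hf⟩ := card_subgroup_dvd_card (N (zpowers x))
  rw [h.conjSet_eq hx, he, c0, h.card] at e1
  rw [he, h.card, mul_assoc] at hf
  replace hf := Nat.eq_of_mul_eq_mul_left (by omega) hf
  have e0 : 0 < e := Nat.pos_of_ne_zero fun f => Nat.card_pos.ne' (by rw [he, f, mul_zero])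
  have e2 : {g : G | TT m g}.ncard = f * (m - 1) :=
    Nat.eq_of_mul_eq_mul_left (Nat.mul_pos (by omega : 0 < m) e0) (by rw [mul_comm, e1, hf]; ring)
  have s1 : (zpowers x \ {1} : Set G).ncard = m - 1 := by
    rw [Set.ncard_diff_singleton_of_mem (zpowers x).one_mem, ← c0]; rfl
  have s2 : (zpowers x \ {1} : Set G) ⊆ {g : G | TT m g} := fun y hy => TT.of_mem hx hy.1 hy.2
  have e3 := card_dvd_ncard_of_free (E := zpowers x) (A := {g : G | TT m g} \ (zpowers x \ {1}))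
    (fun t ht a ha => ⟨TT.conj ha.1 (isConj_iff.mpr ⟨t, rfl⟩), fun f => ha.2 ⟨by
      simpa [mul_assoc] using mul_mem (mul_mem (inv_mem ht) f.1) ht, ha.1.1⟩⟩)
    fun t ht a ha e => by
      by_contra t1
      exact ha.2 ⟨h.C1_eq hx ht t1 ▸ mem_C1_iff_conj'.mpr e, ha.1.1⟩
  rw [Set.ncard_diff s2, s1, e2, c0, ← Nat.sub_one_mul] at e3
  have f0 : 0 < f := Nat.pos_of_ne_zero fun f => by
    have := Nat.card_pos (α := G); rw [h.card, hf, f] at this; simp at this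
  have e4 : f ≡ 1 [MOD m] := ((Nat.modEq_iff_dvd' f0).mpr
    (((Nat.coprime_self_sub_right (by omega)).mpr (by simp)).dvd_of_dvd_mul_right e3)).symm
  have e5 : e ≡ 3 [MOD m] := by simpa using ((e4.mul_left e).symm.trans (hf ▸ h.three))
  have e6 : e < m := by
    have := h.card_N_le hx
    rw [he] at this
    exact lt_of_mul_lt_mul_left (this.trans_lt (by nlinarith [Nat.sub_lt (by omega : 0 < m) one_pos]))
      (Nat.zero_le m)
  obtain rfl : e = 3 := Nat.ModEq.eq_of_lt_of_lt e5 e6 (by omega)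
  exact ⟨he, by rw [e2, hf]; ring⟩

omit hx

theorem np : 3 * {g : G | TT m g}.ncard = n * (m - 1) :=
  h.exm.elim fun _ hx => (h.card_N hx).2

theorem nrm (K : Subgroup G) [K.Normal] (hK : ∀ y ∈ K, ¬ TT m y) {s : ℕ} (hs : s.Prime) :
    s ^ (Nat.card K).factorization s ≡ 1 [MOD m] := by
  obtain ⟨x, hx⟩ := h.exm
  have c0 : Nat.card (zpowers x) = m := by rw [Nat.card_zpowers, hx]
  obtain ⟨P, p1, p2⟩ := exists_sylIn_nrm_of_coprime (M := K) (A := zpowers x) (fun g _ y hy => ‹K.Normal›.conj_mem y hy g)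
    (c0 ▸ Nat.coprime_of_dvd fun p hp h2 h3 => by
      have := Fact.mk hp
      obtain ⟨y, hy⟩ := exists_prime_orderOf_dvd_card' p h2
      rw [← orderOf_coe] at hy
      exact hK _ y.2 (h.tt_of_prime hp h3 hy.symm.dvd)) (.inr inferInstance) hs
  rw [← p1.card_eq_pow hs, ← c0]
  refine ((Nat.modEq_iff_dvd' Nat.card_pos).mpr (SemiReg.card_dvd (semiReg_iff.mpr
    fun e he e1 k hk c => ?_) p2)).symm
  by_contra f
  exact hK k (p1.le hk) (TT.of_mem hx (h.C1_eq hx he e1 ▸ mem_C1.mpr c) f)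

theorem top (hc : commutator G = ⊤) (K : Subgroup G) [hK : K.Normal] {y : G} (y1 : TT m y)
    (y2 : y ∈ K) : K = ⊤ := by
  obtain ⟨x, hx⟩ := h.exm
  obtain ⟨g, hg⟩ := h.exists_conj hx y1
  have a1 := y1.conj (isConj_iff.mpr ⟨g, rfl⟩)
  have a2 := hK.conj_mem y y2 g
  generalize g * y * g⁻¹ = z at hg a1 a2
  obtain ⟨p, k, hp, h1, h2⟩ := a1.exists_prime
  have ne : z ^ k ≠ 1 := fun f => hp.ne_one (by rw [← h2, f, orderOf_one])
  obtain ⟨P, p1, p2⟩ := exists_sylIn_ge (p := p) (zpowers_le.mpr (pow_mem a2 k))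
    (IsPGroup.of_card (n := 1) (by rw [Nat.card_zpowers, h2, pow_one]))
  have l := h.pgroup_le hx hp p2.isPGroup (p1 (mem_zpowers _)) (pow_mem hg k) ne
  have e1 := frattini_arg hp p2 (normalIn_top.mpr hK)
  have e2 : (N (zpowers x)).map (QuotientGroup.mk' K) = ⊤ := by
    rw [eq_top_iff, ← map_top_of_surjective _ (QuotientGroup.mk'_surjective K), ← e1, Subgroup.map_sup,
      QuotientGroup.map_mk'_self, bot_sup_eq]
    exact map_mono fun t ht => h.mem_N hx (pow_mem hg k) ne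
      (l (conj_mem_of_mem_N ht.2 (p1 (mem_zpowers _))))
  have e3 : ⁅N (zpowers x), N (zpowers x)⁆ ≤ zpowers x := by
    rw [commutator_le]
    intro a ha b hb
    obtain ⟨i, hi⟩ := mem_zpowers_iff.mp (conj_mem_of_mem_N (inv_mem ha) (mem_zpowers x))
    obtain ⟨j, hj⟩ := mem_zpowers_iff.mp (conj_mem_of_mem_N (inv_mem hb) (mem_zpowers x))
    have : (a * b)⁻¹ * x * (a * b) = (b * a)⁻¹ * x * (b * a) := by
      calc _ = b⁻¹ * (a⁻¹ * x * a⁻¹⁻¹) * b⁻¹⁻¹ := by group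
        _ = a⁻¹ * (b⁻¹ * x * b⁻¹⁻¹) * a⁻¹⁻¹ := by
          rw [← hi, ← conj_zpow, ← hj, ← conj_zpow, ← hi, ← zpow_mul, ← zpow_mul, mul_comm]
        _ = _ := by group
    rw [← h.C1_eq hx (mem_zpowers x) (h.x_ne hx), mem_C1_iff_conj, commutatorElement_def]
    calc _ = a * b * ((b * a)⁻¹ * x * (b * a)) * (a * b)⁻¹ := by group
      _ = x := by rw [← this]; group
  have e4 : ⁅(⊤ : Subgroup (G ⧸ K)), (⊤ : Subgroup (G ⧸ K))⁆ = ⊤ := by
    rw [← map_top_of_surjective _ (QuotientGroup.mk'_surjective K), ← Subgroup.map_commutator,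
      ← commutator_def, hc]
  have e5 : (zpowers x).map (QuotientGroup.mk' K) = ⊤ := by
    rw [eq_top_iff, ← e4, ← e2, ← Subgroup.map_commutator]
    exact map_mono e3
  rw [← e5, ← Subgroup.map_commutator, commutator_eq_bot_iff_le_centralizer.mpr (ab_zpowers x),
    Subgroup.map_bot, e5] at e4
  rw [eq_top_iff]
  exact fun t _ => (QuotientGroup.eq_one_iff t).mp (mem_bot.mp (e4.ge (mem_top _)))

end CC

end CfsgV3
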