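import Cfsg.Agent.H7.V3Xa

/-! S3424: generalised characters supported on the conjugates of `T#`. -/

set_option autoImplicit false
set_option linter.unusedSectionVars false

namespace CfsgV3

open Finset Cfsg CfsgL CfsgH5 CfsgH6 CfsgFT CfsgSZ CfsgB0 Subgroup
open scoped ComplexConjugate

universe u

variable {G : Type u} [Group G] [Finite G] {m n : ℕ} [NeZero m]

/-- differences of eigenvalue multiplicities -/
noncomputable def Dm (m : ℕ) [NeZero m] (x : G) (j : ZMod m) (χ : IrrCharacter G) : ℤ :=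
  (Mu m χ.1 x 0 : ℤ) - Mu m χ.1 x j

/-- the automiser -/
def Ux {x : G} (hx : x ^ m = 1) : Subgroup (ZMod m)ˣ where
  carrier := {u | ∃ g, g * x * g⁻¹ = x ^ (u : ZMod m).val}
  one_mem' := ⟨1, by simp [pw_one hx]⟩
  mul_mem' := by
    rintro a b ⟨g, hg⟩ ⟨k, hk⟩
    refine ⟨g * k, ?_⟩
    rw [Units.val_mul, pw_mul hx, ← hg, conj_pow, ← hk]; group
  inv_mem' := by
    rintro a ⟨g, hg⟩
    refine ⟨g⁻¹, ?_⟩
    have : (x ^ (a : ZMod m).val) ^ ((a⁻¹ : (ZMod m)ˣ) : ZMod m).val = x := by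
      rw [← pw_mul hx, Units.mul_inv, pw_one hx]
    rw [← hg, conj_pow] at this
    nth_rewrite 1 [← this]
    group

section

variable {x : G} (hp : x ^ m = 1)
include hp

theorem Dm_cast (j : ZMod m) (χ : IrrCharacter G) :
    (m : ℂ) * Dm m x j χ = ∑ i : ZMod m, χ.1 (x ^ i.val) * (1 - ψ (-(i * j))) := by
  have h1 := mu_cast (irr_isChar χ.2) hp 0
  have h2 := mu_cast (irr_isChar χ.2) hp j
  simp only [mul_zero, neg_zero, AddChar.map_zero_eq_one, mul_one] at h1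
  simp only [Dm, mul_sub, mul_one, sum_sub_distrib, h1, h2, Int.cast_sub, Int.cast_natCast]

theorem Dm_triv {j : ZMod m} (hj : j ≠ 0) : Dm m x j (triv G) = 1 := by
  have := Dm_cast hp j (triv G)
  simp only [triv_apply, one_mul, sum_sub_distrib, ← mul_neg, sum_ψ, neg_eq_zero, if_neg hj,
    sum_const, card_univ, ZMod.card, nsmul_eq_mul, mul_one, sub_zero] at this
  exact_mod_cast mul_left_cancel₀ (NeZero.ne (m : ℂ)) (this.trans (mul_one _).symm)

theorem Dm_val (χ : IrrCharacter G) {i : ZMod m} (hi : i ≠ 0) :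
    χ.1 (x ^ i.val) = -∑ j : ZMod m, Dm m x j χ * ψ (i * j) := by
  have h1 := sum_ψ i
  simp only [if_neg hi, mul_comm _ i] at h1
  simp only [Dm, Int.cast_sub, Int.cast_natCast, sub_mul, sum_sub_distrib, ← mul_sum,
    h1, mul_zero, zero_sub, neg_neg, (isMu_Mu (irr_isChar χ.2) hp).1 i]

theorem Dm_deg (χ : IrrCharacter G) : (dg χ : ℤ) = m * Mu m χ.1 x 0 - ∑ j : ZMod m, Dm m x j χ := by
  rw [dg_eq (sum_mu (irr_isChar χ.2) hp)]
  simp [Dm, sum_sub_distrib]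

/-- values of a function which is constant off `0` -/
theorem Dm_const {F : ZMod m → ℤ} {c : ℤ} (h0 : F 0 = 0) (hc : ∀ j, j ≠ 0 → F j = c) {i : ZMod m}
    (hi : i ≠ 0) : -∑ j : ZMod m, (F j : ℂ) * ψ (i * j) = c ∧ ∑ j, F j = m * c - c := by
  have h1 := sum_ψ i
  simp only [if_neg hi, mul_comm _ i] at h1
  have e : ∀ j, F j = c - if j = 0 then c else 0 := fun j => by
    split_ifs with f
    · rw [f, h0, sub_self]
    · rw [hc j f, sub_zero]
  constructor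
  · simp [e, sub_mul, sum_sub_distrib, ← mul_sum, h1]
  · simp [e, sum_sub_distrib]

theorem Dm_ker (χ : IrrCharacter G) {i j : ZMod m} (hi : i * j ≠ 0) (e : χ.1 (x ^ i.val) = χ.1 1) :
    Mu m χ.1 x j = 0 := by
  rw [(isMu_Mu (irr_isChar χ.2) hp).1 i, sum_mu (irr_isChar χ.2) hp, eq_comm, ← sub_eq_zero] at e
  have n1 : ∀ k : ZMod m, ‖ψ k‖ = 1 := fun k => by rw [ZMod.stdAddChar_apply, Circle.norm_coe]
  have r1 : ∀ k : ZMod m, (ψ k).re ≤ 1 := fun k => (Complex.re_le_norm _).trans (n1 k).le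
  have e1 : ∑ l, (Mu m χ.1 x l : ℝ) * (1 - (ψ (i * l)).re) = 0 := by
    simpa [mul_sub, sum_sub_distrib] using congrArg Complex.re e
  have e2 := (sum_eq_zero_iff_of_nonneg fun l _ => mul_nonneg (Nat.cast_nonneg _)
    (sub_nonneg.mpr (r1 _))).mp e1 j (mem_univ _)
  refine Nat.cast_eq_zero.mp ((mul_eq_zero.mp e2).resolve_right fun f => hi ?_)
  have f1 : (ψ (i * j)).re = 1 := by linarith
  have f2 : (ψ (i * j)).im = 0 := by
    have := Complex.sq_norm (ψ (i * j))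
    rw [n1, Complex.normSq_apply, f1] at this
    nlinarith
  exact ZMod.injective_stdAddChar ((Complex.ext f1 f2).trans (ψ (N := m)).map_zero_eq_one.symm)

end

namespace CC

variable (h : CC G m n) {x : G} (hx : orderOf x = m) (hp : x ^ m = 1)
include h hx

theorem pw_inj {i j : ZMod m} (e : x ^ i.val = x ^ j.val) : i = j :=
  ZMod.val_injective m (pow_injOn_Iio_orderOf (by simpa [hx] using i.val_lt)
    (by simpa [hx] using j.val_lt) e)

theorem pw_ne {i : ZMod m} (hi : i ≠ 0) : x ^ i.val ≠ 1 := fun e =>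
  hi (h.pw_inj hx (by simpa using e))

include hp

theorem mem_zp {y : G} : y ∈ zpowers x ↔ ∃ i : ZMod m, x ^ i.val = y := by
  constructor
  · intro hy
    obtain ⟨n, rfl⟩ := (mem_powers_iff_mem_zpowers.mpr hy : y ∈ Submonoid.powers x)
    exact ⟨n, pw_nat hp n⟩
  · rintro ⟨i, rfl⟩
    exact pow_mem (mem_zpowers x) _

theorem mem_N' {g : G} (hg : g ∈ N (zpowers x)) :
    ∃ a : Ux hp, g * x * g⁻¹ = x ^ (a.1 : ZMod m).val := by
  obtain ⟨i, hi⟩ := (h.mem_zp hx hp).mp (conj_mem_of_mem_N hg (mem_zpowers x))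
  obtain ⟨j, hj⟩ := (h.mem_zp hx hp).mp (conj_mem_of_mem_N (inv_mem hg) (mem_zpowers x))
  have : i * j = 1 := h.pw_inj hx (by rw [pw_mul hp, hi, conj_pow, hj, pw_one hp]; group)
  exact ⟨⟨Units.mkOfMulEqOne i j this, g, hi.symm⟩, hi.symm⟩

theorem isConj_pw {i : ZMod m} (hi : i ≠ 0) (j : ZMod m) :
    IsConj (x ^ j.val) (x ^ i.val) ↔ ∃ a : Ux hp, j = (a.1 : ZMod m) * i := by
  rw [isConj_comm, isConj_iff]
  constructor
  · rintro ⟨g, hg⟩
    obtain ⟨a, ha⟩ := h.mem_N' hx hp (h.mem_N hx (pow_mem (mem_zpowers x) _) (h.pw_ne hx hi)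
      (hg ▸ pow_mem (mem_zpowers x) _))
    exact ⟨a, h.pw_inj hx (by rw [pw_mul hp, ← ha, conj_pow, hg])⟩
  · rintro ⟨⟨a, g, hg⟩, rfl⟩
    exact ⟨g, by rw [pw_mul hp, ← hg, conj_pow]⟩

theorem U_free {a b : Ux hp} {i : ZMod m} (hi : i ≠ 0) (e : (a.1 : ZMod m) * i = b.1 * i) : a = b := by
  obtain ⟨g, hg⟩ := (b⁻¹ * a).2
  have e1 : g ∈ C1 (x ^ i.val) := mem_C1_iff_conj.mpr (by
    rw [← conj_pow, hg, ← pw_mul hp, Subgroup.coe_mul, Subgroup.coe_inv, Units.val_mul, mul_assoc, e, Units.inv_mul_cancel_left])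
  rw [h.C1_eq hx (pow_mem (mem_zpowers x) _) (h.pw_ne hx hi),
    ← h.C1_eq hx (mem_zpowers x) (h.x_ne hx), mem_C1_iff_conj, hg] at e1
  exact (inv_mul_eq_one.mp (Subtype.ext (Units.ext (h.pw_inj hx (e1.trans (pw_one hp).symm))))).symm

theorem card_U : Nat.card (Ux hp) = 3 := by
  have e := card_mul_relIndex (le_normalizer (H := zpowers x))
  rw [(h.card_N hx).1, Nat.card_zpowers, hx] at e
  rw [← Nat.eq_of_mul_eq_mul_left (NeZero.pos m) e]
  nth_rewrite 1 [← h.C1_eq hx (mem_zpowers x) (h.x_ne hx)]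
  rw [CfsgH8.Mat.relIndex_C1_eq]
  refine Nat.card_congr (Equiv.ofBijective (fun a : Ux hp => (⟨x ^ (a.1 : ZMod m).val, ?_⟩ :
    {b : G // ∃ g ∈ N (zpowers x), g * x * g⁻¹ = b})) ⟨fun a b e => ?_, ?_⟩)
  · obtain ⟨g, hg⟩ := a.2
    exact ⟨g, h.mem_N hx (mem_zpowers x) (h.x_ne hx) (hg ▸ pow_mem (mem_zpowers x) _), hg⟩
  · exact Subtype.ext (Units.ext (h.pw_inj hx (congrArg Subtype.val e)))
  · rintro ⟨_, g, hg, rfl⟩
    obtain ⟨a, ha⟩ := h.mem_N' hx hp hg
    exact ⟨a, Subtype.ext ha.symm⟩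

theorem one_ne : (1 : ZMod m) ≠ 0 := fun e => h.x_ne hx (by rw [← pw_one hp, e]; simp)

theorem neg_ne (a : Ux hp) : (a.1 : ZMod m) ≠ -1 := fun e => by
  have e1 : (a.1 : ZMod m) ^ 3 = 1 := by
    rw [← Units.val_pow_eq_pow_val, ← Subgroup.coe_pow, ← h.card_U hx hp, pow_card_eq_one']; rfl
  have e2 : ((2 : ℕ) : ZMod m) = 0 := by rw [e] at e1; push_cast; linear_combination -e1
  have := Nat.le_of_dvd two_pos ((ZMod.natCast_eq_zero_iff _ _).mp e2)
  have := h.big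
  omega

open Classical in
theorem orth {i : ZMod m} (hi : i ≠ 0) (y : G) : ∑ χ : IrrCharacter G, χ.1 (x ^ i.val) * χ.1 y =
    if IsConj y⁻¹ (x ^ i.val) then (m : ℂ) else 0 := by
  have := Fintype.ofFinite G
  have e0 := second_orth (x ^ i.val) y⁻¹
  simp only [CfsgSZ.irr_conj_eq, inv_inv] at e0
  rw [e0]
  split_ifs with e
  · have := card_C1_isConj e
    rw [h.C1_eq hx (pow_mem (mem_zpowers x) _) (h.pw_ne hx hi), Nat.card_zpowers, hx] at this
    exact congrArg Nat.cast this.symm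
  · rfl

theorem sum_reg (j : ZMod m) {g : G} (hg : ¬ TT m g) :
    ∑ χ : IrrCharacter G, Dm m x j χ * χ.1 g = 0 := by
  classical
  refine mul_left_cancel₀ (NeZero.ne (m : ℂ)) ?_
  rw [mul_sum, sum_congr rfl fun χ _ => by rw [← mul_assoc, Dm_cast hp j χ, sum_mul], sum_comm,
    mul_zero]
  refine sum_eq_zero fun i _ => ?_
  by_cases hi : i = 0
  · simp [hi]
  simp only [mul_right_comm _ (1 - ψ _), ← sum_mul]
  rw [h.orth hx hp hi, if_neg fun c => hg (TT_inv.mp ((TT.of_mem hx (pow_mem (mem_zpowers x) _)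
    (h.pw_ne hx hi)).conj c.symm)), zero_mul]

open Classical in
theorem sum_D {j l : ZMod m} (hj : j ≠ 0) (hl : l ≠ 0) : ∑ χ : IrrCharacter G, Dm m x j χ * Dm m x l χ =
    3 + if ∃ a : Ux hp, j = (a.1 : ZMod m) * l then 1 else 0 := by
  have p0 := NeZero.ne (m : ℂ)
  rw [← Int.cast_inj (α := ℂ)]
  refine mul_left_cancel₀ p0 (mul_left_cancel₀ p0 ?_)
  have e1 : ∀ χ : IrrCharacter G, (m : ℂ) * (m * (Dm m x j χ * Dm m x l χ)) =
      ∑ i : ZMod m, ∑ k : ZMod m, (1 - ψ (-(i * j))) * (1 - ψ (-(k * l))) *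
        (χ.1 (x ^ i.val) * χ.1 (x ^ k.val)) := fun χ => by
    rw [show (m : ℂ) * (m * (Dm m x j χ * Dm m x l χ)) = (m * Dm m x j χ) * (m * Dm m x l χ) by ring,
      Dm_cast hp, Dm_cast hp, sum_mul_sum]
    exact sum_congr rfl fun _ _ => sum_congr rfl fun _ _ => by ring
  have e2 : ∀ i : ZMod m, ∑ χ : IrrCharacter G, ∑ k : ZMod m, (1 - ψ (-(i * j))) * (1 - ψ (-(k * l))) *
      (χ.1 (x ^ i.val) * χ.1 (x ^ k.val)) =
      m * ∑ a : Ux hp, (1 - ψ (-(i * j))) * (1 - ψ (i * ((a.1 : ZMod m) * l))) := fun i => by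
    by_cases hi : i = 0
    · simp [hi]
    rw [sum_comm]
    simp only [← mul_sum, h.orth hx hp hi, ← pw_neg hp, h.isConj_pw hx hp hi]
    simp only [mul_ite, mul_zero, ← sum_filter, mul_sum]
    symm
    refine sum_bij (fun (a : Ux hp) _ => -((a.1 : ZMod m) * i))
      (fun a _ => mem_filter.mpr ⟨mem_univ _, by exact ⟨a, neg_neg _⟩⟩)
      (fun a _ b _ e => h.U_free hx hp hi (neg_injective e)) (fun k hk => ?_) fun a _ => ?_
    · obtain ⟨a, ha⟩ := (mem_filter.mp hk).2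
      exact ⟨a, mem_univ _, by rw [← ha, neg_neg]⟩
    · rw [mul_comm]; congr 4; ring
  have e3 : ∀ a : Ux hp, ∑ i : ZMod m, (1 - ψ (-(i * j))) * (1 - ψ (i * ((a.1 : ZMod m) * l))) =
      m * (1 + if j = (a.1 : ZMod m) * l then 1 else 0) := fun a => by
    have : ∀ i : ZMod m, (1 - ψ (-(i * j))) * (1 - ψ (i * ((a.1 : ZMod m) * l))) =
        1 - ψ (i * -j) - ψ (i * ((a.1 : ZMod m) * l)) + ψ (i * ((a.1 : ZMod m) * l - j)) := fun i => by
      rw [mul_sub i, sub_eq_add_neg (i * _), AddChar.map_add_eq_mul, mul_neg]; ring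
    rw [sum_congr rfl fun i _ => this i]
    simp only [sum_add_distrib, sum_sub_distrib, sum_ψ, neg_eq_zero, hj, hl, Units.mul_right_eq_zero,
      if_false, sub_eq_zero, eq_comm (a := j)]
    split_ifs <;> simp [mul_add]
  push_cast
  rw [mul_sum, mul_sum, sum_congr rfl fun χ _ => e1 χ, sum_comm, sum_congr rfl fun i _ => e2 i,
    ← mul_sum, sum_comm, sum_congr rfl fun a _ => e3 a, ← mul_sum, sum_add_distrib]
  congr 3
  · simp [← Nat.card_eq_fintype_card, h.card_U hx hp]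
  split_ifs with e
  · obtain ⟨a, ha⟩ := e
    rw [sum_eq_single a (fun b _ hb => if_neg fun f => hb (h.U_free hx hp hl (f.symm.trans ha)))
      (by simp), if_pos ha]
  · exact sum_eq_zero fun a _ => if_neg fun f => e ⟨a, f⟩

end CC

end CfsgV3
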