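import Cfsg.Agent.H6.VC0
import Cfsg.Agent.H7.SE9

set_option autoImplicit false
set_option linter.unusedSectionVars false

/-! The V-case from its conclusion on `VN` configurations (helper for S3332). -/

namespace CfsgH7SE

open Subgroup CfsgH5 CfsgH6 CfsgFT CfsgSZ CfsgSZ.PS CfsgSE

universe u

variable {G Ω : Type u} [Group G] [Finite G] [MulAction G Ω]

/-- a `2`-group of the stabiliser transitive on the other points kills the odd core. -/
theorem Opc_le_of_two {a b : Ω} {T : Subgroup G} (h2 : IsPGroup 2 T) (hT : T ≤ St G a)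
    (hb : b ≠ a) (tr : ∀ c : Ω, c ≠ a → ∃ t ∈ T, t • b = c) : Opc 2 (St G a) ≤ St G b := by
  have hW : Opc 2 (St G a) ≤ St G a := Opi_le _ _
  have e1 : Orb (St G a) b = Orb T b := Set.Subset.antisymm
    (fun c ⟨g, hg, e⟩ => tr c fun q => hb (MulAction.injective g (by
      show g • b = g • a
      rw [e, q]; exact (show g • a = a from hg).symm))) (Orb_mono hT b)
  have e2 : (St G b).relIndex (St G a) = (St G b).relIndex T := by
    rw [← ncard_Orb, ← ncard_Orb, e1]
  have n : Nrm (St G a ⊓ St G b) (Opc 2 (St G a)) := (nrm_Opi _ _).mono inf_le_left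
  have e3 : (St G b).relIndex (St G a ⊓ St G b ⊔ Opc 2 (St G a)) =
      (St G b).relIndex (Opc 2 (St G a)) := by
    rw [← ncard_Orb, ← ncard_Orb]
    congr 1
    refine Set.Subset.antisymm (fun c ⟨g, hg, e⟩ => ?_) (Orb_mono le_sup_right b)
    obtain ⟨d, hd, w, hw, rfl⟩ := (mem_sup_nrm n).1 hg
    refine ⟨d * w * d⁻¹, n d hd w hw, ?_⟩
    rw [← e, mul_smul, show d⁻¹ • b = b from inv_mem (show d ∈ St G b from hd.2)]
  have hM : St G a ⊓ St G b ⊔ Opc 2 (St G a) ≤ St G a := sup_le inf_le_left hW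
  have d1 : (St G b).relIndex (St G a ⊓ St G b ⊔ Opc 2 (St G a)) ∣ (St G b).relIndex (St G a) := by
    have := relIndex_inf_mul_relIndex (St G b) (St G a ⊓ St G b ⊔ Opc 2 (St G a)) (St G a)
    have e4 : St G b ⊓ (St G a ⊓ St G b ⊔ Opc 2 (St G a)) = St G b ⊓ St G a :=
      le_antisymm (inf_le_inf_left _ hM) (le_inf inf_le_left ((inf_comm _ _).le.trans le_sup_left))
    rw [inf_eq_left.2 hM, e4, inf_relIndex_right] at this
    exact Dvd.intro _ this
  rw [e3, e2] at d1
  have c : (Nat.card T).Coprime (Nat.card (Opc 2 (St G a))) := by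
    obtain ⟨k, hk⟩ := exists_card_eq_pow Nat.prime_two h2
    rw [hk]
    exact Nat.Coprime.pow_left k (Nat.coprime_two_left.2 (odd_Opc' _))
  exact relIndex_eq_one.1 (Nat.eq_one_of_dvd_coprimes c (d1.trans (relIndex_dvd_card _ _))
    (relIndex_dvd_card _ _))

/-- the conclusion of the V-case on `VN` configurations. -/
def VConcl (G Ω : Type u) [Group G] [MulAction G Ω] : Prop :=
  ∀ V : Ω → Subgroup G, VN V → ∀ a : Ω, ∃ T : Subgroup G, IsPGroup 2 T ∧ T ≤ St G a ∧
    ∀ b c : Ω, b ≠ a → c ≠ a → ∃ t ∈ T, t • b = c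

theorem vc_of_concl (h : VConcl G Ω) : VC G Ω := by
  intro S fa so cm B hB h16 a b hab
  let V : Ω → Subgroup G := fun c =>
    { carrier := {s | s * s = 1 ∧ s • c = c}
      one_mem' := ⟨one_mul _, one_smul _ _⟩
      inv_mem' := fun {s} hs => by rw [pt_inv hs.1]; exact hs
      mul_mem' := fun {s t} hs ht => ⟨by
        by_cases s1 : s = 1
        · rw [s1, one_mul]; exact ht.1
        by_cases t1 : t = 1
        · rw [t1, mul_one]; exact hs.1
        have := cm c s t ⟨hs.1, s1⟩ ⟨ht.1, t1⟩ hs.2 ht.2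
        calc s * t * (s * t) = s * (t * s) * t := by group
          _ = (s * s) * (t * t) := by rw [← this]; group
          _ = 1 := by rw [hs.1, ht.1, mul_one], by rw [mul_smul, ht.2, hs.2]⟩ }
  have mV : ∀ c s, s ∈ V c ↔ s * s = 1 ∧ s • c = c := fun _ _ => Iff.rfl
  obtain ⟨z, hz, z1⟩ := exists_ne_one_of_rk (show 8 ≤ Nat.card B by omega)
  have zi : Iv z := ⟨sq_of_elAb hB hz, z1⟩
  obtain ⟨e, he⟩ := S.ex z zi
  have hV : VN V :=
    { se := S
      mem := mV
      card := fun c => by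
        obtain ⟨g, rfl⟩ := S.trans e c
        refine h16.trans ((card_cj g B).symm.le.trans (card_le_of_le ?_))
        rintro _ ⟨x, hx, rfl⟩
        exact (mV _ _).2 ⟨pt_sq_conj (sq_of_elAb hB hx) g,
          conj_smul (S.smul_eq zi he (hB.1 x hx z hz)) g⟩
      pts := fun c => by
        by_cases q : a = c
        · exact ⟨b, q ▸ hab.symm⟩
        · exact ⟨a, q⟩
      solv := so
      faith := fa }
  obtain ⟨T, t2, tl, tr⟩ := h V hV a
  refine hV.eq_bot fun c => ?_
  by_cases q : c = a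
  · rw [q]; exact Opi_le _ _
  · exact Opc_le_of_two t2 tl q fun d hd => tr c d q hd

end CfsgH7SE
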