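import Cfsg.Agent.H7.V3Def
import Cfsg.Agent.H3.U3TI

/-! Interfaces for the recognition of `PSL₃(q)` by order and spectrum (S3422). -/

set_option autoImplicit false

namespace CfsgW3

open Cfsg CfsgL CfsgH5 CfsgH6 CfsgFT CfsgSZ CfsgH8 CfsgB0 Subgroup
open CfsgV3 (TT)
open CfsgU3 (RE)

universe u

/-- `r` is the characteristic, `d = gcd(3, q - 1)`, `m = (q² + q + 1) / d`, `e = (q - 1) / d` -/
structure Par (q r d m e : ℕ) : Prop where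
  pr : r.Prime
  pw : ∃ k, q = r ^ k
  q2 : 2 ≤ q
  hd : d = Nat.gcd 3 (q - 1)
  hm : d * m = q ^ 2 + q + 1
  he : d * e + 1 = q

/-- the order of `PSL₃(q)` -/
abbrev ord (q m : ℕ) : ℕ := q ^ 3 * m * ((q - 1) ^ 2 * (q + 1))

/-- what is used of order and spectrum -/
structure Sp (G : Type*) [Group G] (q r d m e : ℕ) : Prop where
  par : Par q r d m e
  card : Nat.card G = ord q m
  exm : ∃ x : G, orderOf x = m
  cc : ∀ g : G, (orderOf g).Coprime m ∨ g ^ m = 1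
  exy : ∃ g : G, orderOf g = (q + 1) * e
  exr : ∃ g : G, orderOf g = r * e
  mix : ∀ g : G, r ∣ orderOf g → g ^ (r ^ 2 * e) = 1

/-- `|G|` times the class multiplication sum at an element of order `m` -/
noncomputable def sc {G : Type u} [Group G] (q m : ℕ) (a s h : IrrCharacter G) (g g' : G) : ℤ :=
  (ord q m : ℕ) - iv g a * iv g' a * (q ^ 2 * m * (q - 1) ^ 2 : ℕ) +
    iv g s * iv g' s * (m * ((q - 1) ^ 2 * (q + 1)) : ℕ) - iv g h * iv g' h * (q ^ 3 * m : ℕ)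

/-- the characters `1, a, s, h` of degrees `1, q² + q, q³, (q - 1)²(q + 1)` -/
structure DL (G : Type u) [Group G] [Finite G] (q r d m e : ℕ) (a s h : IrrCharacter G) : Prop where
  par : Par q r d m e
  card : Nat.card G = ord q m
  deg : dg a = q * (q + 1) ∧ dg s = q ^ 3 ∧ dg h = (q - 1) ^ 2 * (q + 1)
  int : ∀ χ ∈ [a, s, h], ∀ g, ¬ TT m g → χ.1 g = iv g χ
  rel : ∀ g, ¬ TT m g → 1 + iv g s = iv g a + iv g h
  xp : ∀ g, TT m g → a.1 g = -1 ∧ s.1 g = 1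
  cop : ∀ g : G, ¬ TT m g → (orderOf g).Coprime m
  cp : ∀ g : G, g ≠ 1 → ¬ TT m g → (Nat.card (C1 g)).Coprime m
  cT : ∀ g : G, TT m g → ¬ r ∣ Nat.card (C1 g)
  np : 3 * {g : G | TT m g}.ncard = q ^ 3 * ((q - 1) ^ 2 * (q + 1)) * (m - 1)
  str : ∀ g g' : G, ¬ TT m g → ¬ TT m g' →
    ∃ k : ℕ, ((k * (Nat.card (C1 g) * Nat.card (C1 g')) : ℕ) : ℤ) = sc q m a s h g g'

/-- the transvections `Zs` among the `r`-elements -/
structure VZ (G : Type u) [Group G] (q r d m e : ℕ) (Zs : Set G) : Prop where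
  par : Par q r d m e
  card : Nat.card G = ord q m
  Zr : ∀ z ∈ Zs, RE r z
  Zcj : ∀ z ∈ Zs, ∀ g : G, g * z * g⁻¹ ∈ Zs
  Zpow : ∀ z ∈ Zs, ∀ i : ℕ, ¬ r ∣ i → z ^ i ∈ Zs
  Zn : Zs.ncard = (q ^ 2 + q + 1) * (q ^ 2 - 1)
  Rn : {g : G | RE r g}.ncard = q ^ 6 - 1
  cu : ∀ g : G, RE r g → g ∉ Zs → Nat.card (C1 g) ∣ q ^ 2
  cz : ∀ z ∈ Zs, ∃ n ≤ d, Nat.card (C1 z) * n = q ^ 3 * (q - 1)
  res : ∀ R : Subgroup G, IsPGroup r R → Nat.card R ∣ q ^ 2 + q + q * (Zs ∩ R).ncard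
  res2 : ∀ R : Subgroup G, IsPGroup r R → q ^ 2 + q + q * (Zs ∩ R).ncard ≤ Nat.card R + q ^ 3

/-- neither trivial, nor in a conjugate of `T`, nor an `r`-element -/
def NN {G : Type*} [Group G] (r m : ℕ) (g : G) : Prop := g ≠ 1 ∧ ¬ TT m g ∧ ¬ RE r g

/-- the values `σ` of the Steinberg character -/
structure VS (G : Type u) [Group G] (q r d m e : ℕ) (σ : G → ℤ) : Prop where
  cj : ∀ g x : G, σ (x * g * x⁻¹) = σ g
  one : σ 1 = q ^ 3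
  vT : ∀ g : G, TT m g → σ g = 1 ∧ ¬ r ∣ Nat.card (C1 g)
  cong : ∀ p : ℕ, p.Prime → ∀ g : G, (p : ℤ) ∣ σ g - σ (g ^ p)
  cA : ∀ g, NN r m g → (Nat.card (C1 g) : ℤ) ∣ d * (q - 1) * (q - σ g)
  cB : ∀ g, NN r m g → ∃ k : ℕ, (k : ℤ) * Nat.card (C1 g) ^ 2 =
    (q - 1) ^ 2 * ((q - σ g) * ((q ^ 2 - q - 1) * σ g + q * (q ^ 2 + q - 1)))
  cS : ∀ g, NN r m g → (Nat.card (C1 g) : ℤ) ∣ (q - 1) ^ 2 * (q + 1) * σ g
  a0 : ∀ g, NN r m g → ∀ t : ℕ, t.Prime → t ≠ 2 → t ∣ q + 1 → t ∣ orderOf g → σ g = -1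
  mom : ∑ᶠ g ∈ {g | NN r m g}, σ g * (σ g - 1) = Nat.card G - q ^ 6 + q ^ 3

/-- the homology group `K` -/
structure HL (G : Type u) [Group G] (q r e : ℕ) (K : Subgroup G) : Prop where
  e2 : 2 ≤ e
  cardK : Nat.card K = e
  nrm : ∀ k ∈ K, k ≠ 1 → ∀ x : G, x * k * x⁻¹ ∈ K → x ∈ C K
  cardL : Nat.card (C K) = q * (q ^ 2 - 1) * e
  cov : ∀ g : G, g ≠ 1 → ¬ r ∣ orderOf g → r ∣ Nat.card (C1 g) → ∃ x : G, x * g * x⁻¹ ∈ K

/-- centralisers of transvections are `r`-closed, and `E` is a group of `q²` elations -/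
structure FL (G : Type u) [Group G] (q r : ℕ) (Zs : Set G) (E : Subgroup G) : Prop where
  clo : ∀ z ∈ Zs, ∃ P : Subgroup G, Nat.card P = q ^ 3 ∧ P ≤ C1 z ∧ ∀ x ∈ C1 z, RE r x → x ∈ P
  cardE : Nat.card E = q ^ 2
  comm : E ≤ C E
  sub : ∀ x ∈ E, x ≠ 1 → x ∈ Zs

/-- transitive actions of degree `q² + q + 1` are doubly transitive -/
def Two (G : Type u) [Group G] (q : ℕ) : Prop :=
  ∀ (X : Type u) [MulAction G X], Nat.card X = q ^ 2 + q + 1 → (∀ a b : X, ∃ g : G, g • a = b) →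
    ∀ a b c d : X, a ≠ b → c ≠ d → ∃ g : G, g • a = c ∧ g • b = d

end CfsgW3
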