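import Cfsg.Agent.H7.W3H
import Cfsg.Agent.H1.W3DU
import Cfsg.Agent.H6.W3S
import Cfsg.Agent.H8.W3Val
import Cfsg.Agent.H8.W3Pr
import Cfsg.Agent.L.W3ID
import Cfsg.Agent.L.W3Q
import Cfsg.Agent.H5.W3Loc
import Cfsg.Agent.H9.W3Fin

/-! Recognition of `PSL₃(q)` by order and spectrum: assembly. -/

set_option autoImplicit false

namespace CfsgW3

open Cfsg CfsgFT Subgroup

universe u


theorem psl3_rec {G : Type u} [Group G] [Finite G] {F : Type*} [Field F] [Fintype F]
    (e : Set.range (orderOf : G → ℕ) =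
      Set.range (orderOf : Matrix.ProjectiveSpecialLinearGroup (Fin 3) F → ℕ))
    (c : Nat.card G = Nat.card (Matrix.ProjectiveSpecialLinearGroup (Fin 3) F)) :
    Nonempty (G ≃* Matrix.ProjectiveSpecialLinearGroup (Fin 3) F) := by
  obtain ⟨r, -, n, hr, hn⟩ := FiniteField.card' F
  have q2 : 2 ≤ Fintype.card F := Fintype.one_lt_card
  obtain ⟨d, m, w, P⟩ := exists_par hr hn q2
  have S0 := sp_psl P rfl
  have S := S0.transfer e c
  have := S.simple
  by_cases h : Fintype.card F = 2 ∨ Fintype.card F = 4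
  · have := S0.simple
    exact S.small S0 h
  obtain ⟨a, s, h', D⟩ := S.dl fun f => h (.inr f)
  obtain ⟨Zs, V⟩ : ∃ Zs, VZ G (Fintype.card F) r d m w Zs := ⟨_, D.vz⟩
  obtain ⟨E, L⟩ : ∃ E, FL G (Fintype.card F) r Zs E := by
    by_cases f : Fintype.card F = r
    · rw [f] at V q2 h ⊢
      exact V.fl (by omega)
    · obtain ⟨K, H⟩ := S.hl D.vs f fun f => h (.inr f)
      exact H.fl V
  exact L.psl V (D.two (by omega)) (L.index V) rfl

end CfsgW3
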