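import Cfsg.Agent.H7.W3H2

/-! S3422 (HOM): the homologies. -/

set_option autoImplicit false
set_option linter.unusedSectionVars false

namespace CfsgW3

open Finset Cfsg CfsgL CfsgH5 CfsgH6 CfsgFT CfsgSZ CfsgH8 CfsgB0 Subgroup
open CfsgV3 (TT)
open CfsgU3 (RE ti_dc ti_eq)

universe u

variable {G : Type u} [Group G] [Finite G] {q r d m e t i c : ℕ} {σ : G → ℤ} {y x : G}

theorem mem_zp {w : G} (hx : x ∈ zpowers y) (hw : w * x * w⁻¹ ∈ zpowers y) : w ∈ N (zpowers x) :=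
  mem_N_of_cj_le (by
    rw [cj_zpowers]
    exact le_of_isCyclic_of_card_dvd inferInstance (zpowers_le.mpr hx) (zpowers_le.mpr hw)
      (by rw [Nat.card_zpowers, Nat.card_zpowers, orderOf_conj']))

theorem tau_eq {g w : G} (hw : w * g * w⁻¹ ∈ zpowers y) :
    {v ∈ (Set.univ : Set G) | v * g * v⁻¹ ∈ zpowers y}.ncard = Nat.card (N (zpowers (w * g * w⁻¹))) := by
  rw [← Set.ncard_image_of_injective _ (mul_left_injective w⁻¹), ← Nat.card_coe_set_eq]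
  congr 2
  ext v
  refine ⟨?_, fun f => ⟨v * w, ⟨trivial, ?_⟩, by simp⟩⟩
  · rintro ⟨v, hv, rfl⟩
    exact mem_zp hw (by simpa [mul_assoc] using hv.2)
  · simpa [mul_assoc] using zpowers_le.mpr hw (conj_mem_of_mem_N f (mem_zpowers _))

namespace HY

variable (h : HY q r d m e σ y t i c)
include h

omit h in
theorem nn_cj {g : G} (f : NN r m g) (w : G) : NN r m (w * g * w⁻¹) :=
  ⟨by simpa using f.1, fun f' => f.2.1 ⟨f.1, by simpa [conj_pow] using f'.2⟩,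
    fun f' => f.2.2 (f'.conj (isConj_iff.mpr ⟨w⁻¹, by group⟩))⟩

theorem tau {g : G} (hg : NN r m g) : ({v ∈ (Set.univ : Set G) | v * g * v⁻¹ ∈ zpowers y}.ncard : ℤ) =
    ((q + 1) * e : ℕ) * (σ g * (σ g - 1)) := by
  classical
  have a := ti_dc {g | NN r m g} (Set.univ : Set G) fun g v => v * g * v⁻¹ ∈ zpowers y
  rw [ti_eq (m := (q + 1) * e - 1) (A := Set.univ) fun v _ => by
    rw [← Set.ncard_image_of_injective _ (MulAut.conj v).injective, ← h.cY]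
    refine Eq.trans ?_ (Set.ncard_diff_singleton_of_mem (s := (zpowers y : Set G)) (one_mem _))
    congr 1
    ext x
    refine ⟨?_, fun f => ⟨v⁻¹ * x * v⁻¹⁻¹, ⟨nn_cj (h.nn f.1 f.2) _, by simpa [mul_assoc] using f.1⟩,
      by simp [mul_assoc]⟩⟩
    rintro ⟨x, hx, rfl⟩
    exact ⟨hx.2, by simpa using hx.1.1⟩, Set.ncard_univ] at a
  have b := h.vs.mom
  obtain ⟨A, hA⟩ := (Set.toFinite {g : G | NN r m g}).exists_finset_coe
  have hg' : g ∈ A := by rw [← mem_coe, hA]; exact hg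
  rw [← hA, finsum_mem_coe_finset] at a b
  refine (sum_eq_sum_iff_of_le (s := A) (g := fun g => (((q + 1) * e : ℕ) : ℤ) * (σ g * (σ g - 1)))
    (f := fun g => ({v ∈ (Set.univ : Set G) | v * g * v⁻¹ ∈ zpowers y}.ncard : ℤ))
    (fun g hg => ?_)).mp ?_ g hg'
  · rw [← mem_coe, hA] at hg
    by_cases f : ∃ w, w * g * w⁻¹ ∈ zpowers y
    · obtain ⟨w, hw⟩ := f
      rw [tau_eq hw, ← h.vs.cj g w]
      exact (h.bound hw (nn_cj hg w).1).1
    · rw [Set.eq_empty_of_forall_notMem (s := {v ∈ _ | _}) fun v hv => f ⟨v, hv.2⟩, Set.ncard_empty]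
      exact mul_nonneg (Int.natCast_nonneg _) (by rcases le_or_gt (σ g) 0 with f | f <;> nlinarith)
  · rw [← mul_sum, b, ← Nat.cast_sum, a, h.sp.card, h.sp.par.ord_eq, Nat.cast_mul, Nat.cast_sub h.pos]
    push_cast [h.sp.par.cast1]
    ring

theorem cNq (hx : x ∈ zpowers y) (x1 : x ≠ 1) :
    (Nat.card (N (zpowers x)) : ℤ) = ((q + 1) * e : ℕ) * (σ x * (σ x - 1)) := by
  rw [← h.tau (h.nn hx x1), tau_eq (w := 1) (by simpa using hx)]
  simp

theorem val {g : G} (hg : NN r m g) : σ g = 0 ∨ σ g = 1 ∨ (σ g = -1 ∨ σ g = q) ∧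
    ∃ w, w * g * w⁻¹ ∈ zpowers y := by
  by_cases f : ∃ w, w * g * w⁻¹ ∈ zpowers y
  · refine .inr (.inr ⟨?_, f⟩)
    obtain ⟨w, hw⟩ := f
    have x1 := (nn_cj hg w).1
    rw [← h.vs.cj g w]
    rcases h.tri hw x1 with s | s | s
    exacts [.inr s, .inl s, absurd (h.cNq hw x1) ((h.bound hw x1).2 s).ne]
  have a := h.tau hg
  rw [Set.eq_empty_of_forall_notMem (s := {v ∈ _ | _}) fun v hv => f ⟨v, hv.2⟩, Set.ncard_empty,
    Nat.cast_zero, eq_comm, mul_eq_zero, mul_eq_zero, or_iff_right (Int.natCast_pos.mpr h.pos).ne', sub_eq_zero] at a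
  exact a.imp_right .inl

theorem nz (n : ℕ) : ∀ g : G, orderOf g = n → ¬ r ∣ n → σ g = q ^ 3 ∨ σ g = 1 ∨ σ g = -1 ∨ σ g = q := by
  induction n using Nat.strong_induction_on with
  | _ n ih =>
  intro g hn hr
  by_cases g1 : g = 1
  · exact .inl (g1 ▸ h.vs.one)
  by_cases f : TT m g
  · exact .inr (.inl (h.vs.vT g f).1)
  rcases h.val ⟨g1, f, h.nre (hn ▸ hr)⟩ with s | s | s
  swap
  · exact .inr (.inl s)
  swap
  · exact .inr (.inr s.1)
  exfalso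
  obtain ⟨p, hp, k, hk⟩ := Nat.exists_prime_and_dvd (mt orderOf_eq_one_iff.mp g1)
  have k0 : 0 < k := Nat.pos_of_mul_pos_left (hk ▸ orderOf_pos g)
  have o : orderOf (g ^ p) = k := by
    rw [orderOf_pow_of_dvd hp.ne_zero ⟨k, hk⟩, hk, Nat.mul_div_cancel_left _ hp.pos]
  have a := h.vs.cong p hp g
  rw [s, zero_sub, dvd_neg] at a
  have b : ¬ (p : ℤ) ∣ q := fun f => by
    obtain ⟨l, hl⟩ := h.sp.par.pw
    rw [Int.natCast_dvd_natCast, hl] at f
    exact hr (by rw [← hn, hk, (Nat.prime_dvd_prime_iff_eq hp h.sp.par.pr).mp (hp.dvd_of_dvd_pow f)]; simp)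
  have hp' := Nat.prime_iff_prime_int.mp hp
  rcases ih k (by rw [← hn, hk]; exact lt_mul_of_one_lt_left k0 hp.one_lt) _ o
    (fun f => hr (by rw [← hn, hk]; exact f.mul_left p)) with s | s | s | s <;> rw [s] at a
  exacts [b (hp'.dvd_of_dvd_pow a), hp'.not_dvd_one a, hp'.not_dvd_one (dvd_neg.mp a), b a]

theorem hom {g : G} (g1 : g ≠ 1) (hr : ¬ r ∣ orderOf g) (hc : r ∣ Nat.card (C1 g)) :
    σ g = q ∧ ∃ w, w * g * w⁻¹ ∈ zpowers (y ^ (q + 1)) := by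
  have f : NN r m g := ⟨g1, fun f => (h.vs.vT g f).2 hc, h.nre hr⟩
  have hp' := Nat.prime_iff_prime_int.mp h.sp.par.pr
  have a := (Int.natCast_dvd_natCast.mpr hc).trans (h.vs.cS g f)
  rw [← h.sp.par.cast_c0, hp'.dvd_mul, Int.natCast_dvd_natCast,
    or_iff_right fun f => h.sp.par.not_dvd_r (f.mul_left m)] at a
  have q5 : (5 : ℤ) ≤ q := by exact_mod_cast h.q5
  have b : σ g ≠ 0 := by rcases h.nz _ g rfl hr with s | s | s | s <;> rw [s] <;> first | positivity | simp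
  rcases h.val f with s | s | ⟨s | s, w, hw⟩
  · exact absurd s b
  · exact absurd (s ▸ a) hp'.not_dvd_one
  · exact absurd (dvd_neg.mp (s ▸ a)) hp'.not_dvd_one
  refine ⟨s, w, mem_of_isCyclic_of_pow inferInstance (zpowers_le.mpr (pow_mem (mem_zpowers y) _)) hw ?_⟩
  rw [Nat.card_zpowers, orderOf_pow_of_dvd q.succ_ne_zero ⟨e, h.oy⟩, h.oy,
    Nat.mul_div_cancel_left _ q.succ_pos, conj_pow, mul_inv_eq_one, mul_eq_left]
  haveI := Fact.mk h.sp.par.pr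
  obtain ⟨z, hz⟩ := exists_prime_orderOf_dvd_card' r hc
  have c : Commute g z := (mem_C1.mp z.2).symm
  have cop := ((Nat.Prime.coprime_iff_not_dvd h.sp.par.pr).mpr hr).symm
  rw [← orderOf_coe] at hz
  have o := c.orderOf_mul_eq_mul_orderOf_of_coprime (hz ▸ cop)
  have := orderOf_dvd_of_pow_eq_one (h.sp.mix (g * z) (by rw [o, hz]; simp))
  rw [o] at this
  exact orderOf_dvd_iff_pow_eq_one.mp ((cop.pow_right 2).dvd_of_dvd_mul_left ((dvd_mul_right _ _).trans this))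

theorem KY : zpowers (y ^ (q + 1)) ≤ zpowers y := zpowers_le.mpr (pow_mem (mem_zpowers y) _)

theorem cK : Nat.card (zpowers (y ^ (q + 1))) = e := by
  rw [Nat.card_zpowers, orderOf_pow_of_dvd q.succ_ne_zero ⟨e, h.oy⟩, h.oy,
    Nat.mul_div_cancel_left _ q.succ_pos]

theorem e2 : 2 ≤ e := by
  have := h.sp.par.he
  have := h.q5
  rcases h.sp.par.d_cases with ⟨rfl, -⟩ | ⟨rfl, -⟩ <;> omega

theorem Kq (hx : x ∈ zpowers (y ^ (q + 1))) (x1 : x ≠ 1) : σ x = q := by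
  obtain ⟨g, hg⟩ := h.sp.exr
  have r0 := h.sp.par.pr.pos
  have e2 := h.e2
  have o1 : orderOf (g ^ r) = e := by
    rw [orderOf_pow_of_dvd r0.ne' ⟨e, hg⟩, hg, Nat.mul_div_cancel_left _ r0]
  have o2 : orderOf (g ^ e) = r := by
    rw [orderOf_pow_of_dvd (by omega) ⟨r, hg.trans (mul_comm _ _)⟩, hg, Nat.mul_div_cancel _ (by omega)]
  have c : r ∣ Nat.card (C1 (g ^ r)) :=
    o2.symm.dvd.trans (orderOf_dvd_card' (mem_C1.mpr (Commute.pow_pow_self g e r)))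
  obtain ⟨-, w, hw⟩ := h.hom (g := g ^ r) (fun f => by simp [f] at o1; omega)
    (o1 ▸ h.sp.par.not_dvd_e) c
  have a := eq_of_le_of_card_ge (zpowers_le.mpr hw) (by rw [h.cK, Nat.card_zpowers, orderOf_conj', o1])
  refine (h.hom x1 (h.nr (h.KY hx)) (c.trans ?_)).1
  rw [← card_cj w, cj_C1]
  exact card_dvd_of_le (C1_le_C1_of_mem_zpowers (a ▸ hx))

theorem cNK (hx : x ∈ zpowers (y ^ (q + 1))) (x1 : x ≠ 1) :
    Nat.card (N (zpowers x)) = (q + 1) * e * (q * (q - 1)) := by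
  have a := h.cNq (h.KY hx) x1
  rw [h.Kq hx x1, ← h.sp.par.cast1] at a
  exact_mod_cast a

theorem CN (hx : x ∈ zpowers (y ^ (q + 1))) (x1 : x ≠ 1) : C1 x = N (zpowers x) := by
  have hy := h.KY hx
  have p := h.pos
  have a := h.cNK hx x1
  have a1 := h.cNx_le hy
  have a2 := h.nuq hy x1 (h.Kq hx x1)
  have a3 := card_inf_mul_relIndex (N (zpowers (y ^ (c * e)))) (C1 x)
  have l : zpowers y ≤ N (zpowers (y ^ (c * e))) ⊓ C1 x := le_inf h.YN (YC hy)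
  obtain ⟨j, hj⟩ := h.cY ▸ card_dvd_of_le l
  have a4 := card_dvd_of_le (inf_le_left (a := N (zpowers (y ^ (c * e)))) (b := C1 x))
  rw [hj, h.cN.2, Nat.mul_dvd_mul_iff_left p] at a4
  generalize (N (zpowers (y ^ (c * e)))).relIndex (C1 x) = ν at a1 a2 a3
  have a5 : ν * 2 = q * (q - 1) := le_antisymm a2 (Nat.le_of_mul_le_mul_left (by
    rw [← a, mul_left_comm]; exact a1) p)
  rcases (Nat.dvd_prime Nat.prime_two).mp a4 with rfl | rfl
  swap
  · exact eq_of_le_of_card_ge (C_zpowers x ▸ C_le_N _) (by rw [a, ← a3, hj, ← a5]; exact le_of_eq (by ring))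
  exfalso
  have b := h.syl.of_le (h.SY.trans (YC hy)) le_top
  have b1 := b.pNil_of_le_C h.pt (by
    rw [h.cN.1, inf_comm, ← eq_of_le_of_card_ge l (by rw [hj, h.cY, mul_one])])
  haveI := Fact.mk h.pt
  obtain ⟨R, r1, r2⟩ := exists_sylIn_nrm_of_coprime (b1.nrm_compl ((Nrm.self _).mono b.le))
    (by rw [h.cS]; exact (b1.coprime_card_compl h.pt).pow_right i)
    (.inr (solvable_of_isPGroup h.pt b.isPGroup)) h.sp.par.pr
  have rt : ¬ t ∣ q := fun f => h.nq (((f.trans (dvd_pow_self q three_ne_zero)).mul_right _).mul_right _)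
  haveI := Fact.mk h.sp.par.pr
  have r3 : SylIn r R (C1 x) := ⟨r1.le.trans b1.compl_le, r1.isPGroup, fun T t1 t2 =>
    r1.eq_of_le (fun g hg => ⟨t1 hg, by
      obtain ⟨n, hn⟩ := IsPGroup.iff_orderOf.mp t2 ⟨g, hg⟩
      rw [← orderOf_coe] at hn
      exact hn ▸ ((Nat.coprime_primes h.sp.par.pr h.pt).mpr fun f => rt (f ▸ h.sp.par.r_dvd)).pow_left n⟩) t2⟩
  have s : SemiReg R (zpowers (y ^ (c * e))) := fun g hg g1 => by
    obtain ⟨j, hj⟩ := h.exj (h.SY hg)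
    obtain ⟨l, hl⟩ := h.jm (h.SY hg) g1 (h.σS hg g1) hj
    obtain ⟨n, hn⟩ := r1.isPGroup.exists_card_eq
    refine inf_eq_bot_of_coprime' (hn ▸ ((Nat.Prime.coprime_iff_not_dvd h.sp.par.pr).mpr fun f => ?_).pow_left n)
    refine ((Nat.Prime.dvd_mul h.sp.par.pr).mp (f.trans ⟨l, ?_⟩)).elim h.sp.par.not_dvd_succ
      h.sp.par.not_dvd_pred
    rw [hj, ← h.sp.par.de, hl]
    ring
  have s1 := h.cS ▸ s.card_dvd r2
  have s2 := card_mul_relIndex r3.le
  have s3 := (Nat.Prime.coprime_iff_not_dvd h.sp.par.pr).mpr r3.not_dvd_relIndex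
  obtain ⟨n, hn⟩ := r1.isPGroup.exists_card_eq
  obtain ⟨k, hk⟩ := h.sp.par.pw
  have s4 : Nat.card R * 2 * R.relIndex (C1 x) = q * ((q + 1) * e * (q - 1)) := by
    rw [mul_right_comm, s2, ← a3, hj, mul_assoc, a5]; ring
  obtain ⟨w, hw⟩ : Nat.card R ∣ q := Nat.Coprime.dvd_of_dvd_mul_right (hn ▸ ((Nat.Prime.coprime_iff_not_dvd
    h.sp.par.pr).mpr fun f => ((Nat.Prime.dvd_mul h.sp.par.pr).mp f).elim (fun f =>
      ((Nat.Prime.dvd_mul h.sp.par.pr).mp f).elim h.sp.par.not_dvd_succ h.sp.par.not_dvd_e)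
      h.sp.par.not_dvd_pred).pow_left n) ⟨_, s4.symm.trans (mul_assoc ..)⟩
  have s5 : q ∣ Nat.card R * 2 := Nat.Coprime.dvd_of_dvd_mul_right (hk ▸ s3.pow_left k) ⟨_, s4⟩
  have s6 : 0 < Nat.card R := Nat.card_pos
  rw [hw, Nat.mul_dvd_mul_iff_left s6] at s5
  have s7 : t ^ i ∣ w + 1 := (Nat.dvd_add_right (s1.mul_right w)).mp (by
    rw [← add_assoc, ← Nat.succ_mul, Nat.succ_eq_add_one, Nat.sub_add_cancel s6, ← hw, h.qc]; simp)
  have := Nat.le_of_dvd w.succ_pos s7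
  have := Nat.le_of_dvd two_pos s5
  have := h.big
  have := h.sp.par.d_pos
  omega

end HY

theorem Sp.hl (h : Sp G q r d m e) (V : VS G q r d m e σ) (h1 : q ≠ r) (h4 : q ≠ 4) :
    ∃ K, HL G q r e K := by
  obtain ⟨q5, t, i, c, a1, a2, a3, a4, a5⟩ := h.par.good h1 h4
  obtain ⟨y, hy⟩ := h.exy
  have H : HY q r d m e σ y t i c := ⟨h, V, hy, a1, a2, a3, a4, a5, q5⟩
  have k1 : y ^ (q + 1) ≠ 1 := fun f => by
    have := H.cK
    have := H.e2
    simp [f] at *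
    omega
  have k2 := (C_zpowers _).trans (H.CN (mem_zpowers _) k1)
  refine ⟨_, H.e2, H.cK, fun k hk k0 x hx => ?_, ?_, fun g g1 f1 f2 => (H.hom g1 f1 f2).2⟩
  · rw [k2, eq_of_le_of_card_ge (nrm_of_isCyclic inferInstance (zpowers_le.mpr hk) (nrm_N _)).le_N
      (by rw [H.cNK hk k0, H.cNK (mem_zpowers _) k1])]
    exact mem_zp hk hx
  · rw [k2, H.cNK (mem_zpowers _) k1, show q ^ 2 - 1 = (q + 1) * (q - 1) from Nat.sq_sub_sq q 1]
    ring

end CfsgW3
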