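import Cfsg.Agent.H7.W3Par

/-! S3422 (HOM): arithmetic. -/

set_option autoImplicit false

namespace CfsgW3

variable {q r d m e : ℕ}

theorem hom_odd {r k o a : ℕ} (hr : Odd r) (hk : Odd k) (e : r ^ k + 1 = 2 ^ a * o) :
    r ^ k + 1 ≤ (r + 1) * o := by
  have e1 := geom_sum_mul (-(r : ℤ)) k
  rw [hk.neg_pow] at e1
  have e2 : Odd (∑ i ∈ Finset.range k, (-(r : ℤ)) ^ i) := by
    have := Finset.dvd_sum (s := Finset.range k) fun i _ =>
      (((Int.odd_coe_nat r).mpr hr).neg.pow (n := i)).sub_odd odd_one |>.two_dvd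
    rw [Finset.sum_sub_distrib, Finset.sum_const, Finset.card_range, nsmul_eq_mul, mul_one] at this
    obtain ⟨j, rfl⟩ := hk
    rw [Int.odd_iff]
    omega
  generalize ∑ i ∈ Finset.range k, (-(r : ℤ)) ^ i = F at e1 e2
  have e3 : r ^ k + 1 = F.natAbs * (r + 1) := by
    have := congrArg Int.natAbs (show ((r ^ k + 1 : ℕ) : ℤ) = F * ((r + 1 : ℕ) : ℤ) by
      push_cast; linear_combination e1)
    rwa [Int.natAbs_natCast, Int.natAbs_mul, Int.natAbs_natCast] at this
  have e4 : F.natAbs ∣ o := ((Nat.coprime_two_right.mpr (Int.natAbs_odd.mpr e2)).pow_right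
    a).dvd_of_dvd_mul_left ⟨_, e.symm.trans e3⟩
  rw [e3, mul_comm]
  exact Nat.mul_le_mul_left _ (Nat.le_of_dvd (Nat.pos_of_ne_zero fun f => by simp [f] at e) e4)

theorem Par.good (h : Par q r d m e) (h1 : q ≠ r) (h4 : q ≠ 4) : 5 ≤ q ∧
    ∃ t i c, t.Prime ∧ t ≠ 2 ∧ q + 1 = t ^ i * c ∧ ¬ t ∣ c ∧ 2 * d + 1 < t ^ i := by
  obtain ⟨k, hk⟩ := h.pw
  have q2 := h.q2
  have r2 := h.pr.two_le
  have k2 : 2 ≤ k := by
    rcases k with _ | _ | k
    · simp [hk] at q2
    · simp [hk] at h1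
    · omega
  have q5 : 5 ≤ q := by
    have : 2 ^ 2 ≤ r ^ k := (Nat.pow_le_pow_left r2 2).trans (Nat.pow_le_pow_right (by omega) k2)
    omega
  refine ⟨q5, ?_⟩
  by_contra! H
  obtain ⟨a, o, ho, e1⟩ := Nat.exists_eq_two_pow_mul_odd (n := q + 1) (by omega)
  have key : ∀ p j, p.Prime → p ^ j ∣ o → p ^ j ≤ 2 * d + 1 ∧ Odd (p ^ j) := fun p j hp f => by
    refine ⟨?_, ho.of_dvd_nat f⟩
    rcases j with _ | j
    · simp
    obtain ⟨i, c, hc, e2⟩ := Nat.exists_eq_pow_mul_and_not_dvd (n := q + 1) (by omega) p hp.ne_one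
    refine le_trans (Nat.le_of_dvd (pow_pos hp.pos i) ?_) (H p i c hp (fun f' => ?_) e2 hc)
    · exact (((Nat.Prime.coprime_iff_not_dvd hp).mpr hc).pow_left _).dvd_of_dvd_mul_right
        (e2 ▸ e1 ▸ f.mul_left _)
    · exact (Nat.not_even_iff_odd.mpr (ho.of_dvd_nat ((dvd_pow_self p j.succ_ne_zero).trans f)))
        (f' ▸ even_two)
  have o1 : o ∣ 105 := (Nat.dvd_iff_prime_pow_dvd_dvd 105 o).mpr fun p j hp f => by
    obtain ⟨f1, f2⟩ := key p j hp f
    have := h.d_le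
    generalize p ^ j = x at f1 f2
    have : x ≤ 7 := by omega
    interval_cases x <;> simp_all (config := {decide := true})
  have o2 : q % 3 ≠ 1 → o ∣ 3 := fun f0 => (Nat.dvd_iff_prime_pow_dvd_dvd 3 o).mpr fun p j hp f => by
    obtain ⟨f1, f2⟩ := key p j hp f
    have := h.d_cases
    generalize p ^ j = x at f1 f2
    have : x ≤ 3 := by omega
    interval_cases x <;> simp_all (config := {decide := true})
  have o3 := Nat.le_of_dvd (by norm_num) o1
  have fin : ∀ b, q + 1 = 2 ^ b * (2 * (q / 2 ^ (b + 1)) + 1) → o = 2 * (q / 2 ^ (b + 1)) + 1 := by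
    intro b f
    have c1 : ∀ x y : ℕ, Odd x → x.Coprime (2 ^ y) := fun x y hx => (Nat.coprime_two_right.mpr hx).pow_right y
    exact Nat.dvd_antisymm ((c1 _ b ho).dvd_of_dvd_mul_left (f ▸ e1 ▸ dvd_mul_left _ _))
      ((c1 _ a (odd_two_mul_add_one _)).dvd_of_dvd_mul_left (e1 ▸ f ▸ dvd_mul_left _ _))
  rcases h.pr.eq_two_or_odd' with rfl | hr
  · have f0 := fin 0 (by have := h.r_dvd; omega)
    have : k ≤ 6 := by
      by_contra f
      have : 2 ^ 7 ≤ 2 ^ k := Nat.pow_le_pow_right two_pos (by omega)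
      omega
    subst hk f0
    interval_cases k <;> simp_all (config := {decide := true})
  rcases Nat.even_or_odd k with ⟨j, rfl⟩ | hk'
  · obtain ⟨s, hs⟩ := hr.pow (n := j)
    rw [pow_add, hs] at hk
    have f0 := fin 1 (by
      rw [show q = 4 * (s * s + s) + 1 by rw [hk]; ring]
      omega)
    have : s ≤ 6 := by
      by_contra f
      have : 15 * 15 ≤ q := hk ▸ Nat.mul_le_mul (by omega) (by omega)
      omega
    subst hk f0
    interval_cases s <;> simp_all (config := {decide := true})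
  have k3 : 3 ≤ k := by obtain ⟨j, rfl⟩ := hk'; omega
  have f1 := (hom_odd hr hk' (hk ▸ e1)).trans (Nat.mul_le_mul_left _ o3)
  have f2 : r ^ 3 ≤ r ^ k := Nat.pow_le_pow_right (by omega) k3
  have f3 : r ≤ 10 := by
    by_contra f
    nlinarith [Nat.mul_le_mul_right (r * r) (show 11 ≤ r by omega), Nat.mul_le_mul_right r (show 11 ≤ r by omega)]
  have f4 : k ≤ 6 := by
    by_contra f
    have : 3 ^ 7 ≤ r ^ k := (Nat.pow_le_pow_left (by obtain ⟨j, rfl⟩ := hr; omega) 7).trans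
      (Nat.pow_le_pow_right (by omega) (by omega))
    omega
  have hp := h.pr
  have g1 := fin 1
  have g2 := fin 2
  have g3 := fin 3
  subst hk
  interval_cases r <;> interval_cases k <;> simp_all (config := {decide := true})

theorem hom_eps {d t i ε j n : ℕ} (ht : t.Prime) (hd : d = 1 ∨ d = 3) (big : 2 * d + 1 < t ^ i)
    (hj : j ∣ d) (hε : ε ∣ t - 1) (e : n * (ε * j) ≡ 2 [MOD t ^ i]) (hn : t ^ i ∣ n - 1) (n0 : 0 < n) :
    j = 1 ∧ ε = 2 := by
  have t2 := ht.two_le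
  have e1 : ε * j ≡ 2 [MOD t ^ i] := by
    have := ((Nat.modEq_iff_dvd' n0).mpr hn).mul_right (ε * j)
    exact (show ε * j ≡ n * (ε * j) [MOD t ^ i] by simpa using this).trans e
  have e2 := Nat.le_of_dvd (by omega) hε
  have e3 : t ≤ t ^ i := Nat.le_self_pow (by rintro rfl; simp at big) t
  have e0 : 0 < ε := Nat.pos_of_dvd_of_pos hε (by omega)
  by_cases f : j = 1
  · subst f
    exact ⟨rfl, Nat.ModEq.eq_of_lt_of_lt (mul_one ε ▸ e1) (by omega) (by omega)⟩
  obtain ⟨rfl, rfl⟩ : d = 3 ∧ j = 3 := by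
    rcases hd with rfl | rfl
    · exact absurd (Nat.dvd_one.mp hj) f
    · exact ⟨rfl, ((Nat.dvd_prime Nat.prime_three).mp hj).resolve_left f⟩
  exfalso
  obtain ⟨l, hl⟩ := (Nat.modEq_iff_dvd' (by omega)).mp e1.symm
  obtain ⟨w, hw⟩ := hε
  rcases i with _ | _ | i
  · simp at big
  · simp only [zero_add, pow_one] at hl big
    have h3 : 3 ≤ l → t * 3 ≤ t * l := Nat.mul_le_mul_left t
    have h4 : 3 ≤ w → ε * 3 ≤ ε * w := Nat.mul_le_mul_left ε
    rcases l with _ | _ | _ | l <;> rcases w with _ | _ | _ | w <;> omega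
  · have : t * t ≤ t ^ (i + 1 + 1) := by
      rw [pow_succ, pow_succ, mul_assoc]; exact Nat.le_mul_of_pos_left _ (pow_pos ht.pos i)
    have h3 : 3 ≤ t → 3 * t ≤ t * t := Nat.mul_le_mul_right t
    rcases Nat.eq_zero_or_pos l with rfl | f'
    · omega
    have h4 := Nat.le_mul_of_pos_right (t ^ (i + 1 + 1)) f'
    omega

end CfsgW3
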