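import Cfsg.Agent.H7.W3H1
import Cfsg.Agent.H4.C3
import Cfsg.Agent.H8.MatLocA

/-! S3422 (HOM): the cyclic subgroup `Y` of order `(q² - 1) / d`. -/

set_option autoImplicit false
set_option linter.unusedSectionVars false

namespace CfsgW3

open Cfsg CfsgL CfsgH5 CfsgH6 CfsgFT CfsgSZ CfsgH8 CfsgB0 Subgroup
open CfsgV3 (TT)
open CfsgU3 (RE)

universe u

variable {G : Type u} [Group G] [Finite G] {q r d m e t i c : ℕ} {σ : G → ℤ} {y x : G}

theorem rel_ti {S A : Subgroup G} (ht : t.Prime) (hS : SylIn t S ⊤) (l : S ≤ A)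
    (h : ∀ k ∈ S, k ≠ 1 → ∀ g : G, g * k * g⁻¹ ∈ S → g ∈ N S) :
    Nat.card S ∣ (N S).relIndex A - 1 := by
  haveI := Fact.mk ht
  have := index_modEq_of_ti (sylIn_top_of_sylow (hS.of_le l le_top).toSylow) fun k hk k1 g hg => by
    rw [SylIn.coe_toSylow, N, ← subgroupOf_normalizer_eq l]
    exact h k hk (fun f => k1 (Subtype.ext f)) g hg
  rwa [SylIn.coe_toSylow, N, ← subgroupOf_normalizer_eq l,
    Nat.card_congr (subgroupOfEquivOfLe l).toEquiv] at this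

/-- `y` generates `Y`, `t ^ i` is a large prime power dividing `q + 1` exactly -/
structure HY (q r d m e : ℕ) (σ : G → ℤ) (y : G) (t i c : ℕ) : Prop where
  sp : Sp G q r d m e
  vs : VS G q r d m e σ
  oy : orderOf y = (q + 1) * e
  pt : t.Prime
  t2 : t ≠ 2
  qc : q + 1 = t ^ i * c
  tc : ¬ t ∣ c
  big : 2 * d + 1 < t ^ i
  q5 : 5 ≤ q

namespace HY

variable (h : HY q r d m e σ y t i c)
include h

theorem cY : Nat.card (zpowers y) = (q + 1) * e := by rw [Nat.card_zpowers, h.oy]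

theorem pos : 0 < (q + 1) * e := h.oy ▸ orderOf_pos y

theorem od (hx : x ∈ zpowers y) : orderOf x ∣ (q + 1) * e := h.oy ▸ orderOf_dvd_of_mem_zpowers hx

theorem nr (hx : x ∈ zpowers y) : ¬ r ∣ orderOf x := fun f =>
  ((Nat.Prime.dvd_mul h.sp.par.pr).mp (f.trans (h.od hx))).elim h.sp.par.not_dvd_succ h.sp.par.not_dvd_e

theorem nre {g : G} (f : ¬ r ∣ orderOf g) : ¬ RE r g := fun ⟨g1, k, hk⟩ => by
  obtain ⟨j, -, hj⟩ := (Nat.dvd_prime_pow h.sp.par.pr).mp (orderOf_dvd_of_pow_eq_one hk)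
  rcases j with _ | j
  · exact g1 (orderOf_eq_one_iff.mp hj)
  · exact f (hj ▸ dvd_pow_self r j.succ_ne_zero)

theorem nn (hx : x ∈ zpowers y) (x1 : x ≠ 1) : NN r m x := by
  refine ⟨x1, fun f => x1 (orderOf_eq_one_iff.mp (Nat.eq_one_of_dvd_coprimes h.sp.par.cop
    (orderOf_dvd_of_pow_eq_one f.2) ((h.od hx).trans ?_))), h.nre (h.nr hx)⟩
  rw [sq, ← h.sp.par.de]
  exact ⟨q ^ 3 * d * d * e, by ring⟩

omit h in
theorem YC (hx : x ∈ zpowers y) : zpowers y ≤ C1 x :=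
  (zpowers_le.mpr (self_mem_C1 y)).trans (C1_le_C1_of_mem_zpowers hx)

theorem exj (hx : x ∈ zpowers y) : ∃ j, Nat.card (C1 x) = (q + 1) * e * j :=
  h.cY ▸ card_dvd_of_le (YC hx)

theorem cA' (hx : x ∈ zpowers y) (x1 : x ≠ 1) {j : ℕ} (hj : Nat.card (C1 x) = (q + 1) * e * j) :
    ((q : ℤ) + 1) * j ∣ d * d * (q - σ x) := by
  have a := h.vs.cA x (h.nn hx x1)
  rw [hj, ← h.sp.par.hez] at a
  refine Int.dvd_of_mul_dvd_mul_left (Int.natCast_pos.mpr h.sp.par.e_pos).ne' ?_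
  convert a using 1 <;> push_cast <;> ring

theorem tri (hx : x ∈ zpowers y) (x1 : x ≠ 1) : σ x = q ∨ σ x = -1 ∨ σ x = -q - 2 := by
  obtain ⟨j, hj⟩ := h.exj hx
  obtain ⟨k, hk⟩ := h.vs.cB x (h.nn hx x1)
  have a := (dvd_mul_right _ _).trans (h.cA' hx x1 hj)
  have q5 : (5 : ℤ) ≤ q := by exact_mod_cast h.q5
  have b : IsCoprime ((q : ℤ) + 1) d := by
    have := h.sp.par.hez
    rcases h.sp.par.d_cases with ⟨rfl, -⟩ | ⟨rfl, -⟩
    · exact isCoprime_one_right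
    · exact ⟨-1, e + 1, by push_cast at this ⊢; linarith⟩
  obtain ⟨w, hw⟩ := (b.mul_right b).dvd_of_dvd_mul_left a
  have f : 0 ≤ (q - σ x) * ((q ^ 2 - q - 1) * σ x + q * (q ^ 2 + q - 1)) :=
    (mul_nonneg_iff_of_pos_left (pow_pos (by linarith : (0 : ℤ) < q - 1) 2)).mp (by rw [← hk]; positivity)
  rw [show σ x = q - (q + 1) * w by linarith] at f ⊢
  have g1 : (0 : ℤ) < q ^ 2 - q - 1 := by nlinarith
  have : 0 ≤ w := by
    by_contra! g
    nlinarith [mul_pos (by nlinarith : 0 < -((q + 1) * w)) (by nlinarith [mul_pos g1 (by nlinarith : 0 < q - (q + 1) * w)] :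
      0 < (q ^ 2 - q - 1) * (q - (q + 1) * w) + q * (q ^ 2 + q - 1))]
  have : w ≤ 2 := by
    by_contra! g
    have g2 : (q ^ 2 - q - 1) * (q - (q + 1) * w) ≤ (q ^ 2 - q - 1) * (-2 * q - 3) :=
      mul_le_mul_of_nonneg_left (by nlinarith) g1.le
    nlinarith [mul_pos (by nlinarith : 0 < (q + 1) * w) (by nlinarith :
      0 < -((q ^ 2 - q - 1) * (q - (q + 1) * w) + q * (q ^ 2 + q - 1)))]
  interval_cases w <;> simp <;> omega

theorem jm (hx : x ∈ zpowers y) (x1 : x ≠ 1) (s : σ x = -1) {j : ℕ}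
    (hj : Nat.card (C1 x) = (q + 1) * e * j) : j ∣ d := by
  have a := h.cA' hx x1 hj
  rw [s, sub_neg_eq_add, mul_comm _ (j : ℤ), mul_dvd_mul_iff_right (by positivity)] at a
  replace a : j ∣ d * d := by exact_mod_cast a
  have he := h.sp.par.hez
  rcases h.sp.par.d_cases with ⟨rfl, -⟩ | ⟨rfl, -⟩
  · exact a
  obtain ⟨l, l2, rfl⟩ := (Nat.dvd_prime_pow Nat.prime_three (m := 2)).mp a
  interval_cases l
  · simp
  · simp
  obtain ⟨k, hk⟩ := h.vs.cB x (h.nn hx x1)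
  rw [hj, s, show (q : ℤ) = 3 * e + 1 by push_cast at he; linarith] at hk
  have e0 := h.sp.par.e_pos
  have : (9 * k : ℤ) = 9 * e ^ 2 + 3 * e + 1 := mul_left_cancel₀ (a := (9 * (3 * e + 2) ^ 2 * e ^ 2 : ℤ))
    (by positivity) (by
      rw [show q = 3 * e + 1 by have := h.sp.par.he; omega] at hk
      push_cast at hk
      linear_combination hk)
  omega

theorem i0 : i ≠ 0 := fun f => by have := h.big; simp [f] at this

theorem tq : t ∣ q + 1 := h.qc ▸ (dvd_pow_self t h.i0).mul_right c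

theorem nq : ¬ t ∣ q ^ 3 * (q ^ 2 + q + 1) * (q - 1) := fun f => by
  have a := Int.natCast_dvd_natCast.mpr f
  have b := (Int.natCast_dvd_natCast.mpr h.tq).mul_right ((q : ℤ) ^ 5 - q ^ 4 + q ^ 3 - 2 * q ^ 2 + 2 * q - 2)
  push_cast [h.sp.par.cast1] at a b
  have : (t : ℤ) ∣ 2 := (dvd_sub a b).trans (dvd_of_eq (by ring))
  exact h.t2 ((Nat.prime_dvd_prime_iff_eq h.pt Nat.prime_two).mp (by exact_mod_cast this))

theorem SY : zpowers (y ^ (c * e)) ≤ zpowers y := zpowers_le.mpr (pow_mem (mem_zpowers y) _)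

theorem cS : Nat.card (zpowers (y ^ (c * e))) = t ^ i := by
  have := h.pos
  rw [h.qc, mul_assoc] at this
  rw [Nat.card_zpowers, orderOf_pow_of_dvd (Nat.pos_of_mul_pos_left this).ne' (by
    rw [h.oy, h.qc, mul_assoc]; exact dvd_mul_left _ _), h.oy, h.qc, mul_assoc,
    Nat.mul_div_cancel _ (Nat.pos_of_mul_pos_left this)]

theorem syl : SylIn t (zpowers (y ^ (c * e))) ⊤ := by
  refine CfsgH8.Mat.sylIn_of_card (m := c * e * (q ^ 3 * (q ^ 2 + q + 1) * (q - 1))) h.pt le_top h.cS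
    (dvd_of_eq ?_) fun f => ?_
  · rw [card_top, h.sp.card, h.sp.par.ord_eq]
    nth_rewrite 1 [h.qc]
    ring
  rcases (Nat.Prime.dvd_mul h.pt).mp f with f | f
  · rcases (Nat.Prime.dvd_mul h.pt).mp f with f | f
    · exact h.tc f
    · exact h.nq ((h.sp.par.de ▸ f.mul_left d).mul_left _)
  · exact h.nq f

theorem σS (hx : x ∈ zpowers (y ^ (c * e))) (x1 : x ≠ 1) : σ x = -1 := by
  obtain ⟨j, -, hj⟩ := (Nat.dvd_prime_pow h.pt).mp (h.cS ▸ orderOf_dvd_card' hx)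
  exact h.vs.a0 x (h.nn (h.SY hx) x1) t h.pt h.t2 h.tq (hj ▸ dvd_pow_self t fun f =>
    x1 (orderOf_eq_one_iff.mp (by rw [hj, f, pow_zero])))

theorem YN : zpowers y ≤ N (zpowers (y ^ (c * e))) :=
  (nrm_of_isCyclic inferInstance h.SY (Nrm.self _)).le_N

/-- the number of Sylow `t`-subgroups of `C(x)` divides `|C(x) : Y|` -/
theorem nu_dvd (hx : x ∈ zpowers y) {j : ℕ} (hj : Nat.card (C1 x) = (q + 1) * e * j) :
    (N (zpowers (y ^ (c * e)))).relIndex (C1 x) ∣ j := by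
  have a := card_mul_relIndex (YC hx)
  rw [hj, h.cY] at a
  rw [← Nat.eq_of_mul_eq_mul_left h.pos a]
  exact relIndex_dvd_of_le_left _ h.YN

theorem nu1 (hx : x ∈ zpowers y) (x1 : x ≠ 1) (s : σ x = -1) : C1 x ≤ N (zpowers (y ^ (c * e))) := by
  obtain ⟨j, hj⟩ := h.exj hx
  have a := (h.nu_dvd hx hj).trans (h.jm hx x1 s hj)
  have b := CfsgH8.Mat.sylIn_modEq h.pt (h.syl.of_le (h.SY.trans (YC hx)) le_top)
  refine relIndex_eq_one.mp ?_
  rcases h.sp.par.d_cases with ⟨rfl, -⟩ | ⟨rfl, -⟩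
  · exact Nat.dvd_one.mp a
  refine ((Nat.dvd_prime Nat.prime_three).mp a).resolve_right fun f => h.t2 ?_
  rw [f] at b
  exact (Nat.prime_dvd_prime_iff_eq h.pt Nat.prime_two).mp ((Nat.modEq_iff_dvd' (by omega)).mp b.symm)

theorem ti : ∀ k ∈ zpowers (y ^ (c * e)), k ≠ 1 → ∀ g : G, g * k * g⁻¹ ∈ zpowers (y ^ (c * e)) →
    g ∈ N (zpowers (y ^ (c * e))) := fun k hk k1 g hg => by
  have g1 : g * k * g⁻¹ ≠ 1 := by simpa using k1
  refine mem_N_of_cj_le (h.syl.le_of_nrm' h.pt le_top (isPGroup_cj h.syl.isPGroup g) (nrm_of_le_N ?_))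
  refine le_trans ?_ (h.nu1 (h.SY hg) g1 (h.σS hg g1))
  rw [← cj_C1]
  exact cj_mono (h.SY.trans (YC (h.SY hk)))

theorem two {n : ℕ} : n * (q ^ 3 * (q ^ 2 + q + 1) * (q - 1)) ≡ n * 2 [MOD t ^ i] := by
  refine Nat.ModEq.mul_left n (Nat.ModEq.of_dvd (Dvd.intro _ h.qc.symm) ((Nat.modEq_iff_dvd).mpr ?_))
  push_cast [h.sp.par.cast1]
  exact ⟨-((q : ℤ) ^ 5 - q ^ 4 + q ^ 3 - 2 * q ^ 2 + 2 * q - 2), by ring⟩

theorem cN : C (zpowers (y ^ (c * e))) = zpowers y ∧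
    Nat.card (N (zpowers (y ^ (c * e)))) = (q + 1) * e * 2 := by
  have s1 : y ^ (c * e) ≠ 1 := fun f => by
    have := h.cS
    have := h.big
    simp [f] at *
    omega
  have m1 := mem_zpowers (y ^ (c * e))
  obtain ⟨j, hj⟩ := h.exj (h.SY m1)
  have a := h.jm (h.SY m1) s1 (h.σS m1 s1) hj
  have b := relIndex_C_dvd_totient (A := N (zpowers (y ^ (c * e)))) inferInstance (nrm_N _)
  obtain ⟨l, hl⟩ := Nat.exists_eq_succ_of_ne_zero h.i0
  rw [h.cS, hl, Nat.totient_prime_pow_succ h.pt] at b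
  haveI := Fact.mk h.pt
  have b1 : ¬ t ∣ (C (zpowers (y ^ (c * e)))).relIndex (N (zpowers (y ^ (c * e)))) := fun f =>
    (h.syl.of_le (le_N _) le_top).not_dvd_relIndex (f.trans (relIndex_dvd_of_le_left _
      (by rw [C_zpowers]; exact h.SY.trans (YC (h.SY m1)))))
  have b2 := (((Nat.Prime.coprime_iff_not_dvd h.pt).mpr b1).symm.pow_right l).dvd_of_dvd_mul_left b
  have c1 := card_mul_relIndex (C_le_N (zpowers (y ^ (c * e))))
  have c2 := (N (zpowers (y ^ (c * e)))).card_mul_index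
  have c3 := index_modEq_of_ti h.syl h.ti
  have c0 := Nat.pos_of_ne_zero (N (zpowers (y ^ (c * e)))).index_ne_zero_of_finite
  generalize (C (zpowers (y ^ (c * e)))).relIndex (N (zpowers (y ^ (c * e)))) = ε at b2 c1
  rw [C_zpowers, hj] at c1
  rw [← c1, h.sp.card, h.sp.par.ord_eq, mul_assoc, mul_assoc] at c2
  have c4 := h.two (n := 1)
  rw [one_mul, one_mul, ← Nat.eq_of_mul_eq_mul_left h.pos c2] at c4
  obtain ⟨rfl, rfl⟩ := hom_eps h.pt (h.sp.par.d_cases.imp And.left And.left) h.big a b2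
    (by convert c4 using 1; ring) (h.cS ▸ c3) c0
  rw [C_zpowers, ← c1, mul_one]
  exact ⟨(eq_of_le_of_card_ge (YC (h.SY m1)) (by rw [hj, h.cY, mul_one])).symm, rfl⟩

/-- Frattini -/
theorem cNx (hx : x ∈ zpowers y) : Nat.card (N (zpowers x)) = (N (zpowers (y ^ (c * e)))).relIndex (C1 x) *
    Nat.card (N (zpowers x) ⊓ N (zpowers (y ^ (c * e))) : Subgroup G) := by
  have n : NormalIn (C1 x) (N (zpowers x)) := C_zpowers x ▸ ⟨C_le_N _, (nrm_N _).C⟩
  have a := card_sup_mul (Or.inr (n.2.mono (inf_le_left (b := N (zpowers (y ^ (c * e)))))))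
  rw [frattini_arg h.pt (h.syl.of_le (h.SY.trans (YC hx)) le_top) n, ← inf_assoc,
    inf_eq_left.mpr n.1, ← card_inf_mul_relIndex (N (zpowers (y ^ (c * e)))) (C1 x), inf_comm] at a
  exact Nat.eq_of_mul_eq_mul_right Nat.card_pos (a.trans (by ring))

theorem cNx_le (hx : x ∈ zpowers y) : Nat.card (N (zpowers x)) ≤
    (N (zpowers (y ^ (c * e)))).relIndex (C1 x) * ((q + 1) * e * 2) := by
  rw [h.cNx hx, ← h.cN.2]
  exact Nat.mul_le_mul_left _ (card_le_of_le inf_le_right)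

theorem nuq (hx : x ∈ zpowers y) (x1 : x ≠ 1) (s : σ x = q) :
    (N (zpowers (y ^ (c * e)))).relIndex (C1 x) * 2 ≤ q * (q - 1) := by
  obtain ⟨j, hj⟩ := h.exj hx
  have a := h.vs.cS x (h.nn hx x1)
  rw [s, ← h.sp.par.cast_c0, ← Nat.cast_mul, Int.natCast_dvd_natCast, hj, show (q - 1) ^ 2 * (q + 1) * q =
    (q + 1) * e * (d * (q * (q - 1))) by rw [sq]; nth_rewrite 1 [← h.sp.par.de]; ring,
    Nat.mul_dvd_mul_iff_left h.pos] at a
  obtain ⟨l, hl⟩ := (h.nu_dvd hx hj).trans a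
  have b := rel_ti h.pt h.syl (h.SY.trans (YC hx)) h.ti
  have b0 := Nat.pos_of_ne_zero (relIndex_ne_zero' (N (zpowers (y ^ (c * e)))) (C1 x))
  generalize (N (zpowers (y ^ (c * e)))).relIndex (C1 x) = ν at hl b b0
  have b1 : l ≡ d * 2 [MOD t ^ i] := by
    have f1 : l ≡ ν * l [MOD t ^ i] := by simpa using ((Nat.modEq_iff_dvd' b0).mpr (h.cS ▸ b)).mul_right l
    refine f1.trans (hl ▸ Nat.ModEq.mul_left d (Nat.ModEq.of_dvd (Dvd.intro _ h.qc.symm)
      ((Nat.modEq_iff_dvd).mpr ?_)))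
    push_cast [h.sp.par.cast1]
    exact ⟨2 - q, by ring⟩
  have b2 : d * 2 ≤ l := by
    by_contra! f
    have := h.big
    have := Nat.ModEq.eq_of_lt_of_lt b1 (by omega) (by omega)
    omega
  exact Nat.le_of_mul_le_mul_left (by rw [hl, mul_left_comm]; exact Nat.mul_le_mul_left _ b2) h.sp.par.d_pos

theorem bound (hx : x ∈ zpowers y) (x1 : x ≠ 1) :
    (Nat.card (N (zpowers x)) : ℤ) ≤ ((q + 1) * e : ℕ) * (σ x * (σ x - 1)) ∧
      (σ x = -q - 2 → (Nat.card (N (zpowers x)) : ℤ) < ((q + 1) * e : ℕ) * (σ x * (σ x - 1))) := by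
  have a := h.cNx_le hx
  have p := h.pos
  have q5 := h.q5
  rcases h.tri hx x1 with s | s | s
  · refine ⟨?_, fun f => by omega⟩
    rw [s, ← h.sp.par.cast1]
    exact_mod_cast a.trans (by rw [mul_left_comm]; exact Nat.mul_le_mul_left _ (h.nuq hx x1 s))
  · refine ⟨?_, fun f => by omega⟩
    rw [relIndex_eq_one.mpr (h.nu1 hx x1 s), one_mul] at a
    rw [s, show (-1 : ℤ) * (-1 - 1) = (2 : ℕ) by norm_num]
    exact_mod_cast a
  obtain ⟨j, hj⟩ := h.exj hx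
  have b := h.cA' hx x1 hj
  rw [s, show (d : ℤ) * d * (q - (-q - 2)) = (q + 1) * (d * d * 2 : ℕ) by push_cast; ring,
    mul_dvd_mul_iff_left (by positivity), Int.natCast_dvd_natCast] at b
  have d0 := h.sp.par.d_pos
  have b1 := (Nat.le_of_dvd (by positivity) ((h.nu_dvd hx hj).trans b)).trans
    (show d * d * 2 ≤ 18 by have := h.sp.par.d_le; nlinarith)
  have : (Nat.card (N (zpowers x)) : ℤ) < ((q + 1) * e : ℕ) * (σ x * (σ x - 1)) := by
    rw [s, show (-(q : ℤ) - 2) * (-q - 2 - 1) = ((q + 2) * (q + 3) : ℕ) by push_cast; ring]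
    exact_mod_cast (a.trans (Nat.mul_le_mul_right _ b1)).trans_lt (by
      rw [mul_left_comm]; exact Nat.mul_lt_mul_of_pos_left (by nlinarith) p)
  exact ⟨this.le, fun _ => this⟩

end HY

end CfsgW3
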